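import Mathlib

/-!
# Two involutions generate a dihedral group

Basic calculus for a pair of elements `x`, `y` with `x * x = 1`, `y * y = 1`.
-/

set_option autoImplicit false

namespace H6

variable {G : Type*} [Group G]

theorem mul_self_of_orderOf_two {x : G} (hx : orderOf x = 2) : x * x = 1 := by
  have := pow_orderOf_eq_one x
  rwa [hx, pow_two] at this

theorem ne_one_of_orderOf_two {x : G} (hx : orderOf x = 2) : x ≠ 1 := by
  rintro rfl
  simp at hx

theorem orderOf_eq_two_of {x : G} (h1 : x * x = 1) (h2 : x ≠ 1) : orderOf x = 2 :=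
  orderOf_eq_prime (by rw [pow_two, h1]) h2

theorem orderOf_eq_two_iff {x : G} : orderOf x = 2 ↔ x * x = 1 ∧ x ≠ 1 :=
  ⟨fun h => ⟨mul_self_of_orderOf_two h, ne_one_of_orderOf_two h⟩,
    fun h => orderOf_eq_two_of h.1 h.2⟩

theorem inv_eq_of_mul_self {x : G} (hx : x * x = 1) : x⁻¹ = x :=
  inv_eq_of_mul_eq_one_right hx

theorem inv_eq_of_orderOf_two {x : G} (hx : orderOf x = 2) : x⁻¹ = x :=
  inv_eq_of_mul_self (mul_self_of_orderOf_two hx)

theorem orderOf_conj (g x : G) : orderOf (g * x * g⁻¹) = orderOf x := by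
  have := orderOf_injective (MulAut.conj g).toMonoidHom (MulAut.conj g).injective x
  simpa using this

theorem orderOf_of_isConj {x y : G} (h : IsConj x y) : orderOf x = orderOf y := by
  obtain ⟨g, rfl⟩ := isConj_iff.1 h
  rw [orderOf_conj]

section Pair

variable {x y : G} (hx : x * x = 1) (hy : y * y = 1)
include hx hy

theorem conj_mul_left : x * (x * y) * x⁻¹ = (x * y)⁻¹ := by
  rw [mul_inv_rev, inv_eq_of_mul_self hx, inv_eq_of_mul_self hy, ← mul_assoc, hx, one_mul]

theorem conj_zpow_left (k : ℤ) : x * (x * y) ^ k * x⁻¹ = (x * y) ^ (-k) := by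
  rw [← conj_zpow, conj_mul_left hx hy, inv_zpow']

theorem zpow_mul_left (k : ℤ) : (x * y) ^ k * x = x * (x * y) ^ (-k) := by
  have := conj_zpow_left hx hy (-k)
  rw [neg_neg] at this
  rw [← this]
  group

theorem left_mul_zpow (k : ℤ) : x * (x * y) ^ k = (x * y) ^ (-k) * x := by
  rw [zpow_mul_left hx hy, neg_neg]

omit hy in
theorem right_eq : y = x * (x * y) := by
  rw [← mul_assoc, hx, one_mul]

theorem conj_mul_right : y * (x * y) * y⁻¹ = (x * y)⁻¹ := by
  rw [mul_inv_rev, inv_eq_of_mul_self hx, inv_eq_of_mul_self hy, mul_assoc, mul_assoc, hy, mul_one]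

theorem conj_zpow_right (k : ℤ) : y * (x * y) ^ k * y⁻¹ = (x * y) ^ (-k) := by
  rw [← conj_zpow, conj_mul_right hx hy, inv_zpow']

theorem refl_mul_self (k : ℤ) : (x * (x * y) ^ k) * (x * (x * y) ^ k) = 1 := by
  rw [left_mul_zpow hx hy k]
  nth_rewrite 2 [← left_mul_zpow hx hy k]
  rw [mul_assoc, ← mul_assoc x x, hx, one_mul, ← zpow_add, neg_add_cancel, zpow_zero]

/-- The elements of `⟨x, y⟩` are the rotations `(x y)^k` and the reflections `x (x y)^k`. -/
theorem mem_closure_pair_iff {d : G} : d ∈ Subgroup.closure ({x, y} : Set G) ↔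
    ∃ k : ℤ, d = (x * y) ^ k ∨ d = x * (x * y) ^ k := by
  constructor
  · intro hd
    induction hd using Subgroup.closure_induction with
    | mem z hz =>
      rcases hz with rfl | rfl
      · exact ⟨0, Or.inr (by simp)⟩
      · exact ⟨1, Or.inr (by rw [zpow_one]; exact right_eq hx)⟩
    | one => exact ⟨0, Or.inl (by simp)⟩
    | mul a b _ _ ha hb =>
      obtain ⟨i, rfl | rfl⟩ := ha <;> obtain ⟨j, rfl | rfl⟩ := hb
      · exact ⟨i + j, Or.inl (by rw [zpow_add])⟩
      · exact ⟨-i + j, Or.inr (by rw [← mul_assoc, zpow_mul_left hx hy, zpow_add, mul_assoc])⟩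
      · exact ⟨i + j, Or.inr (by rw [zpow_add, mul_assoc])⟩
      · refine ⟨-i + j, Or.inl ?_⟩
        rw [left_mul_zpow hx hy i, mul_assoc, ← mul_assoc x x, hx, one_mul, zpow_add]
    | inv a _ ha =>
      obtain ⟨i, rfl | rfl⟩ := ha
      · exact ⟨-i, Or.inl (by rw [zpow_neg])⟩
      · exact ⟨i, Or.inr (inv_eq_of_mul_self (refl_mul_self hx hy i))⟩
  · have h1 : x ∈ Subgroup.closure ({x, y} : Set G) := Subgroup.subset_closure (by simp)
    have h2 : y ∈ Subgroup.closure ({x, y} : Set G) := Subgroup.subset_closure (by simp)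
    rintro ⟨k, rfl | rfl⟩
    · exact Subgroup.zpow_mem _ (Subgroup.mul_mem _ h1 h2) k
    · exact Subgroup.mul_mem _ h1 (Subgroup.zpow_mem _ (Subgroup.mul_mem _ h1 h2) k)

theorem rot_conj_left (k : ℤ) : (x * y) ^ k * x * ((x * y) ^ k)⁻¹ = x * (x * y) ^ (-(2 * k)) := by
  rw [zpow_mul_left hx hy, mul_assoc, ← zpow_neg, ← zpow_add]
  congr 2; ring

theorem refl_conj_left (k : ℤ) :
    (x * (x * y) ^ k) * x * (x * (x * y) ^ k)⁻¹ = x * (x * y) ^ (2 * k) := by
  rw [inv_eq_of_mul_self (refl_mul_self hx hy k), mul_assoc, ← mul_assoc x x, hx, one_mul,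
    mul_assoc, ← zpow_add, two_mul]

/-- The conjugates of `x` in `⟨x, y⟩` are the reflections `x (x y)^(2k)`. -/
theorem exists_conj_left_iff {z : G} :
    (∃ d ∈ Subgroup.closure ({x, y} : Set G), d * x * d⁻¹ = z) ↔
      ∃ k : ℤ, z = x * (x * y) ^ (2 * k) := by
  constructor
  · rintro ⟨d, hd, rfl⟩
    obtain ⟨k, rfl | rfl⟩ := (mem_closure_pair_iff hx hy).1 hd
    · exact ⟨-k, by rw [rot_conj_left hx hy]; congr 2; ring⟩
    · exact ⟨k, refl_conj_left hx hy k⟩
  · rintro ⟨k, rfl⟩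
    exact ⟨_, (mem_closure_pair_iff hx hy).2 ⟨k, Or.inr rfl⟩, refl_conj_left hx hy k⟩

theorem left_not_mem_zpowers (hx1 : x ≠ 1) (hy1 : y ≠ 1) :
    x ∉ Subgroup.zpowers (x * y) := by
  rintro ⟨k, hk⟩
  simp only at hk
  have h1 : x * (x * y) * x⁻¹ = x * y := by
    have : Commute x (x * y) := by
      have h := (Commute.refl (x * y)).zpow_left k
      rwa [hk] at h
    rw [this.eq, mul_inv_cancel_right]
  rw [conj_mul_left hx hy] at h1
  have h2 : (x * y) ^ (2 : ℤ) = 1 := by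
    rw [zpow_two]
    nth_rewrite 1 [← h1]
    rw [inv_mul_cancel]
  rcases Int.even_or_odd' k with ⟨m, rfl | rfl⟩
  · rw [zpow_mul, h2, one_zpow] at hk
    exact hx1 hk.symm
  · rw [zpow_add, zpow_mul, h2, one_zpow, one_mul, zpow_one] at hk
    exact hy1 (by simpa using hk)

end Pair

/-- Two distinct involutions generate a dihedral group. -/
theorem closure_pair_dihedral [Finite G] (x y : G) (hx : orderOf x = 2) (hy : orderOf y = 2)
    (_hxy : x ≠ y) :
    Nonempty (↥(Subgroup.closure ({x, y} : Set G)) ≃* DihedralGroup (orderOf (x * y))) := by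
  have hx2 := mul_self_of_orderOf_two hx
  have hy2 := mul_self_of_orderOf_two hy
  set n := orderOf (x * y) with hn
  have : NeZero n := ⟨(orderOf_pos _).ne'⟩
  let f : ZMod n → G := fun i => (x * y) ^ i.val
  have hf : ∀ k : ℤ, f (k : ZMod n) = (x * y) ^ k := by
    intro k
    simp only [f]
    rw [← zpow_natCast, ZMod.val_intCast, hn, zpow_mod_orderOf]
  have hsurj : ∀ i : ZMod n, ∃ k : ℤ, i = k := fun i => ⟨i.val, by simp⟩
  let φ : DihedralGroup n →* G := MonoidHom.mk' (fun d => match d with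
      | DihedralGroup.r i => f i
      | DihedralGroup.sr i => x * f i) (by
    rintro (i | i) (j | j) <;> obtain ⟨i, rfl⟩ := hsurj i <;> obtain ⟨j, rfl⟩ := hsurj j
    · simp only [DihedralGroup.r_mul_r]
      rw [← Int.cast_add, hf, hf, hf, zpow_add]
    · simp only [DihedralGroup.r_mul_sr]
      rw [← Int.cast_sub, hf, hf, hf, ← mul_assoc, zpow_mul_left hx2 hy2, mul_assoc, ← zpow_add]
      congr 2; ring
    · simp only [DihedralGroup.sr_mul_r]
      rw [← Int.cast_add, hf, hf, hf, zpow_add, mul_assoc]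
    · simp only [DihedralGroup.sr_mul_sr]
      rw [← Int.cast_sub, hf, hf, hf, left_mul_zpow hx2 hy2 i, mul_assoc, ← mul_assoc x x, hx2,
        one_mul, ← zpow_add]
      congr 1; ring)
  have hφr : ∀ i, φ (DihedralGroup.r i) = f i := fun _ => rfl
  have hφs : ∀ i, φ (DihedralGroup.sr i) = x * f i := fun _ => rfl
  have hinj : Function.Injective φ := by
    rw [injective_iff_map_eq_one]
    rintro (i | i) h
    · obtain ⟨i, rfl⟩ := hsurj i
      rw [hφr, hf, ← orderOf_dvd_iff_zpow_eq_one, ← hn] at h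
      rw [DihedralGroup.one_def, (ZMod.intCast_zmod_eq_zero_iff_dvd i n).2 h]
    · exfalso
      obtain ⟨i, rfl⟩ := hsurj i
      rw [hφs, hf] at h
      apply left_not_mem_zpowers hx2 hy2 (ne_one_of_orderOf_two hx) (ne_one_of_orderOf_two hy)
      refine ⟨-i, ?_⟩
      simp only
      rw [zpow_neg]
      exact (eq_inv_of_mul_eq_one_left h).symm
  have hrange : φ.range = Subgroup.closure ({x, y} : Set G) := by
    ext d
    rw [mem_closure_pair_iff hx2 hy2]
    constructor
    · rintro ⟨i | i, rfl⟩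
      · obtain ⟨i, rfl⟩ := hsurj i
        exact ⟨i, Or.inl (by rw [hφr, hf])⟩
      · obtain ⟨i, rfl⟩ := hsurj i
        exact ⟨i, Or.inr (by rw [hφs, hf])⟩
    · rintro ⟨k, rfl | rfl⟩
      · exact ⟨DihedralGroup.r k, by rw [hφr, hf]⟩
      · exact ⟨DihedralGroup.sr k, by rw [hφs, hf]⟩
  exact ⟨(MulEquiv.subgroupCongr hrange.symm).trans (MonoidHom.ofInjective hinj).symm⟩

theorem orderOf_of_mem_closure_pair (x y : G) (hx : orderOf x = 2) (hy : orderOf y = 2)
    (d : G) (hd : d ∈ Subgroup.closure ({x, y} : Set G))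
    (hd' : d ∉ Subgroup.zpowers (x * y)) : orderOf d = 2 := by
  have hx2 := mul_self_of_orderOf_two hx
  have hy2 := mul_self_of_orderOf_two hy
  obtain ⟨k, rfl | rfl⟩ := (mem_closure_pair_iff hx2 hy2).1 hd
  · exact absurd ⟨k, rfl⟩ hd'
  · refine orderOf_eq_two_of (refl_mul_self hx2 hy2 k) ?_
    intro h
    rw [h] at hd'
    exact hd' (Subgroup.one_mem _)

/-- If `x y` has odd order then `x` and `y` are conjugate in `⟨x, y⟩`. -/
theorem exists_conj_of_odd {x y : G} (hx2 : x * x = 1) (hy2 : y * y = 1)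
    (hodd : Odd (orderOf (x * y))) :
    ∃ d ∈ Subgroup.closure ({x, y} : Set G), d * x * d⁻¹ = y := by
  rw [exists_conj_left_iff hx2 hy2]
  obtain ⟨m, hm⟩ := hodd
  refine ⟨m + 1, ?_⟩
  have h1 : (x * y) ^ (2 * ((m : ℤ) + 1)) = x * y := by
    have : (2 * ((m : ℤ) + 1)) = ((2 * m + 1 : ℕ) : ℤ) + 1 := by push_cast; ring
    rw [this, ← hm, zpow_add, zpow_natCast, pow_orderOf_eq_one, one_mul, zpow_one]
  rw [h1]
  exact right_eq hx2

/-- If `x y` has odd order then `y` is conjugate to `x` by a power of `x y`. -/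
theorem exists_zpow_conj_of_odd {x y : G} (hx2 : x * x = 1) (hy2 : y * y = 1)
    (hodd : Odd (orderOf (x * y))) :
    ∃ k : ℤ, (x * y) ^ k * x * ((x * y) ^ k)⁻¹ = y := by
  obtain ⟨m, hm⟩ := hodd
  refine ⟨m, ?_⟩
  rw [rot_conj_left hx2 hy2]
  have h1 : (x * y) ^ (-(2 * (m : ℤ))) = x * y := by
    have : (-(2 * (m : ℤ))) = -((2 * m + 1 : ℕ) : ℤ) + 1 := by push_cast; ring
    rw [this, ← hm, zpow_add, zpow_neg, zpow_natCast, pow_orderOf_eq_one, inv_one, one_mul,
      zpow_one]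
  rw [h1]
  exact (right_eq hx2).symm

theorem isConj_of_odd {x y : G} (hx2 : x * x = 1) (hy2 : y * y = 1)
    (hodd : Odd (orderOf (x * y))) : IsConj x y := by
  obtain ⟨d, -, hd⟩ := exists_conj_of_odd hx2 hy2 hodd
  exact isConj_iff.2 ⟨d, hd⟩

theorem orderOf_pow_half [Finite G] {r : G} (heven : Even (orderOf r)) :
    orderOf (r ^ (orderOf r / 2)) = 2 := by
  obtain ⟨m, hm⟩ := heven
  have hpos := orderOf_pos r
  have h1 : orderOf r / 2 = m := by omega
  rw [h1, orderOf_pow' _ (by omega), hm, ← two_mul, Nat.gcd_mul_left_left,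
    Nat.mul_div_cancel _ (by omega)]

theorem central_involution [Finite G] {x y : G} (hx2 : x * x = 1) (hy2 : y * y = 1)
    (heven : Even (orderOf (x * y))) :
    orderOf ((x * y) ^ (orderOf (x * y) / 2)) = 2 ∧
      Commute ((x * y) ^ (orderOf (x * y) / 2)) x ∧
      Commute ((x * y) ^ (orderOf (x * y) / 2)) y := by
  have h := orderOf_pow_half heven
  have hinv := inv_eq_of_orderOf_two h
  refine ⟨h, ?_, ?_⟩
  · have := conj_zpow_left hx2 hy2 ((orderOf (x * y) / 2 : ℕ) : ℤ)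
    rw [zpow_neg, zpow_natCast, hinv] at this
    exact (mul_inv_eq_iff_eq_mul.1 this).symm
  · have := conj_zpow_right hx2 hy2 ((orderOf (x * y) / 2 : ℕ) : ℤ)
    rw [zpow_neg, zpow_natCast, hinv] at this
    exact (mul_inv_eq_iff_eq_mul.1 this).symm

theorem not_conj_of_even {x y : G} (hx2 : x * x = 1) (hy2 : y * y = 1)
    (heven : Even (orderOf (x * y))) (d : G) (hd : d ∈ Subgroup.closure ({x, y} : Set G)) :
    d * x * d⁻¹ ≠ y := by
  intro h
  obtain ⟨k, hk⟩ := (exists_conj_left_iff hx2 hy2).1 ⟨d, hd, h⟩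
  have h1 : (x * y) ^ (1 : ℤ) = (x * y) ^ (2 * k) := by
    apply mul_left_cancel (a := x)
    rw [← hk, zpow_one]
    exact (right_eq hx2).symm
  rw [zpow_eq_zpow_iff_modEq] at h1
  obtain ⟨m, hm⟩ := heven
  have h2 := h1.dvd
  rw [hm] at h2
  obtain ⟨c, hc⟩ := h2
  push_cast at hc
  have : (2 : ℤ) ∣ 1 := ⟨k - m * c, by linarith⟩
  omega

theorem conj_mul_central_iff [Finite G] {x y : G} (hx2 : x * x = 1) (hy2 : y * y = 1)
    (heven : Even (orderOf (x * y))) :
    (∃ d ∈ Subgroup.closure ({x, y} : Set G),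
      d * x * d⁻¹ = x * (x * y) ^ (orderOf (x * y) / 2)) ↔ 4 ∣ orderOf (x * y) := by
  rw [exists_conj_left_iff hx2 hy2]
  obtain ⟨m, hm⟩ := heven
  have h1 : orderOf (x * y) / 2 = m := by omega
  rw [h1]
  constructor
  · rintro ⟨k, hk⟩
    have h2 := mul_left_cancel hk
    rw [← zpow_natCast, zpow_eq_zpow_iff_modEq] at h2
    obtain ⟨c, hc⟩ := h2.dvd
    rw [hm] at hc ⊢
    push_cast at hc
    have : (2 : ℤ) ∣ m := ⟨k - m * c, by linarith⟩
    omega
  · intro h4
    rw [hm] at h4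
    obtain ⟨c, hc⟩ := h4
    refine ⟨c, ?_⟩
    rw [← zpow_natCast]
    congr 2
    omega

end H6
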