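import Mathlib
import Cfsg.Agent.H6.Dihedral

/-!
# Counting involutions and pairs of involutions
-/

set_option autoImplicit false

namespace H6

variable {G : Type*} [Group G]

theorem mem_centralizer_singleton {x g : G} :
    g ∈ Subgroup.centralizer ({x} : Set G) ↔ g * x = x * g :=
  Subgroup.mem_centralizer_singleton_iff

theorem card_pairs_eq_inverting (x : G) (hx : x ^ 2 ≠ 1) :
    Nat.card {p : G × G // orderOf p.1 = 2 ∧ orderOf p.2 = 2 ∧ p.1 * p.2 = x} =
      Nat.card {t : G // orderOf t = 2 ∧ t * x * t⁻¹ = x⁻¹} := by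
  refine Nat.card_congr
    { toFun := fun p => ⟨p.1.1, p.2.1, ?_⟩
      invFun := fun t => ⟨(t.1, t.1 * x), t.2.1, ?_, ?_⟩
      left_inv := ?_
      right_inv := ?_ }
  · obtain ⟨⟨u, v⟩, hu, hv, rfl⟩ := p
    exact conj_mul_left (mul_self_of_orderOf_two hu) (mul_self_of_orderOf_two hv)
  · obtain ⟨t, ht, h⟩ := t
    have ht2 := inv_eq_of_orderOf_two ht
    refine orderOf_eq_two_of ?_ ?_
    · rw [ht2] at h
      show t * x * (t * x) = 1
      rw [← mul_assoc, h, inv_mul_cancel]
    · intro h1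
      apply hx
      have : x = t := by
        have h2 : x = t⁻¹ := eq_inv_of_mul_eq_one_right h1
        rw [h2, ht2]
      rw [this, pow_two, mul_self_of_orderOf_two ht]
  · show t.1 * (t.1 * x) = x
    rw [← mul_assoc, mul_self_of_orderOf_two t.2.1, one_mul]
  · rintro ⟨⟨u, v⟩, hu, hv, rfl⟩
    simp only [Subtype.mk.injEq, Prod.mk.injEq, true_and]
    rw [← mul_assoc, mul_self_of_orderOf_two hu, one_mul]
  · rintro ⟨t, ht⟩
    rfl

theorem card_pairs_involution [Finite G] (x : G) (hx : orderOf x = 2) :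
    Nat.card {p : G × G // orderOf p.1 = 2 ∧ orderOf p.2 = 2 ∧ p.1 * p.2 = x} + 1 =
      Nat.card {t : G // orderOf t = 2 ∧ Commute t x} := by
  classical
  have hx2 := mul_self_of_orderOf_two hx
  rw [← Finite.card_option]
  refine Nat.card_congr
    { toFun := fun p => match p with
        | none => ⟨x, hx, Commute.refl x⟩
        | some p => ⟨p.1.1, p.2.1, ?_⟩
      invFun := fun t => if h : t.1 = x then none else some ⟨(t.1, t.1 * x), t.2.1, ?_, ?_⟩
      left_inv := ?_
      right_inv := ?_ }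
  · obtain ⟨⟨u, v⟩, hu, hv, rfl⟩ := p
    have := conj_mul_left (mul_self_of_orderOf_two hu) (mul_self_of_orderOf_two hv)
    rw [inv_eq_of_orderOf_two hx] at this
    exact mul_inv_eq_iff_eq_mul.1 this
  · obtain ⟨t, ht, h'⟩ := t
    refine orderOf_eq_two_of ?_ ?_
    · show t * x * (t * x) = 1
      rw [mul_assoc, ← mul_assoc x t, ← h'.eq, mul_assoc, hx2, mul_one, mul_self_of_orderOf_two ht]
    · intro h1
      apply h
      have h2 : t = x⁻¹ := eq_inv_of_mul_eq_one_left h1
      show t = x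
      rw [h2, inv_eq_of_orderOf_two hx]
  · show t.1 * (t.1 * x) = x
    rw [← mul_assoc, mul_self_of_orderOf_two t.2.1, one_mul]
  · rintro (_ | ⟨⟨u, v⟩, hu, hv, rfl⟩)
    · simp
    · have : u ≠ u * v := by
        intro h
        exact ne_one_of_orderOf_two hv (by simpa using h)
      simp only [this, ↓reduceDIte, Option.some.injEq, Subtype.mk.injEq, Prod.mk.injEq, true_and]
      rw [← mul_assoc, mul_self_of_orderOf_two hu, one_mul]
  · rintro ⟨t, ht⟩
    by_cases h : t = x
    · subst h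
      simp
    · simp [h]

theorem card_inverting (x : G) (hreal : IsConj x x⁻¹) :
    Nat.card {g : G // g * x * g⁻¹ = x⁻¹} = Nat.card (Subgroup.centralizer ({x} : Set G)) := by
  obtain ⟨c, hc⟩ := isConj_iff.1 hreal
  refine Nat.card_congr
    { toFun := fun g => ⟨c⁻¹ * g.1, ?_⟩
      invFun := fun h => ⟨c * h.1, ?_⟩
      left_inv := ?_
      right_inv := ?_ }
  · rw [mem_centralizer_singleton]
    have h1 : g.1 * x * g.1⁻¹ = c * x * c⁻¹ := g.2.trans hc.symm
    calc c⁻¹ * g.1 * x = c⁻¹ * (g.1 * x * g.1⁻¹) * g.1 := by group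
      _ = x * (c⁻¹ * g.1) := by rw [h1]; group
  · have h1 := mem_centralizer_singleton.1 h.2
    rw [← hc]
    calc c * h.1 * x * (c * h.1)⁻¹ = c * (h.1 * x) * h.1⁻¹ * c⁻¹ := by group
      _ = c * x * c⁻¹ := by rw [h1]; group
  · intro g; simp
  · intro g; simp

theorem card_pairs_le_inverting [Finite G] (x : G) :
    Nat.card {p : G × G // orderOf p.1 = 2 ∧ orderOf p.2 = 2 ∧ p.1 * p.2 = x} ≤
      Nat.card {t : G // orderOf t = 2 ∧ t * x * t⁻¹ = x⁻¹} := by
  refine Nat.card_le_card_of_injective (fun p => ⟨p.1.1, p.2.1, ?_⟩) ?_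
  · obtain ⟨⟨u, v⟩, hu, hv, rfl⟩ := p
    exact conj_mul_left (mul_self_of_orderOf_two hu) (mul_self_of_orderOf_two hv)
  · rintro ⟨⟨u, v⟩, hu, hv, h⟩ ⟨⟨u', v'⟩, hu', hv', h'⟩ he
    simp only [Subtype.mk.injEq] at he
    subst he
    simp only [Subtype.mk.injEq, Prod.mk.injEq, true_and]
    exact mul_left_cancel (h.trans h'.symm)

theorem card_pairs_eq_zero (x : G) (h : ¬ IsConj x x⁻¹) :
    Nat.card {p : G × G // orderOf p.1 = 2 ∧ orderOf p.2 = 2 ∧ p.1 * p.2 = x} = 0 := by
  have : IsEmpty {p : G × G // orderOf p.1 = 2 ∧ orderOf p.2 = 2 ∧ p.1 * p.2 = x} := by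
    refine ⟨?_⟩
    rintro ⟨⟨u, v⟩, hu, hv, rfl⟩
    exact h (isConj_iff.2
      ⟨u, conj_mul_left (mul_self_of_orderOf_two hu) (mul_self_of_orderOf_two hv)⟩)
  exact Nat.card_of_isEmpty

theorem card_pairs_le_centralizer [Finite G] (x : G) :
    Nat.card {p : G × G // orderOf p.1 = 2 ∧ orderOf p.2 = 2 ∧ p.1 * p.2 = x} ≤
      Nat.card (Subgroup.centralizer ({x} : Set G)) := by
  by_cases h : IsConj x x⁻¹
  · rw [← card_inverting x h]
    refine (card_pairs_le_inverting x).trans ?_
    exact Nat.card_le_card_of_injective (fun t => ⟨t.1, t.2.2⟩)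
      (fun a b hab => Subtype.ext (by simpa using hab))
  · rw [card_pairs_eq_zero x h]
    exact Nat.zero_le _

theorem card_pairs_add_two_le [Finite G] (x : G) (hx : orderOf x = 2) :
    Nat.card {p : G × G // orderOf p.1 = 2 ∧ orderOf p.2 = 2 ∧ p.1 * p.2 = x} + 2 ≤
      Nat.card (Subgroup.centralizer ({x} : Set G)) := by
  have h1 := card_pairs_involution x hx
  have h2 : Nat.card {t : G // orderOf t = 2 ∧ Commute t x} + 1 ≤
      Nat.card (Subgroup.centralizer ({x} : Set G)) := by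
    rw [← Finite.card_option]
    refine Nat.card_le_card_of_injective (fun t => match t with
      | none => 1
      | some t => ⟨t.1, mem_centralizer_singleton.2 t.2.2⟩) ?_
    rintro (_ | ⟨a, ha, ha'⟩) (_ | ⟨b, hb, hb'⟩) hab
    · rfl
    · exact absurd (congrArg Subtype.val hab).symm (ne_one_of_orderOf_two hb)
    · exact absurd (congrArg Subtype.val hab) (ne_one_of_orderOf_two ha)
    · have : a = b := congrArg Subtype.val hab
      subst this
      rfl
  omega

theorem eq_inv_of_conj_odd {x g : G} (h : g * x * g⁻¹ = x⁻¹) (hg : Odd (orderOf g)) : x = x⁻¹ := by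
  have h2 : ∀ k : ℕ, g ^ (2 * k + 1) * x * (g ^ (2 * k + 1))⁻¹ = x⁻¹ := by
    intro k
    induction k with
    | zero => simpa using h
    | succ k ih =>
      have h3 : g * x⁻¹ * g⁻¹ = x := by
        rw [← conj_inv, h, inv_inv]
      calc g ^ (2 * (k + 1) + 1) * x * (g ^ (2 * (k + 1) + 1))⁻¹
          = g * (g * (g ^ (2 * k + 1) * x * (g ^ (2 * k + 1))⁻¹) * g⁻¹) * g⁻¹ := by group
        _ = x⁻¹ := by rw [ih, h3, h]
  obtain ⟨k, hk⟩ := hg
  have := h2 k
  rwa [← hk, pow_orderOf_eq_one, one_mul, inv_one, mul_one] at this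

theorem even_card_of_orderOf_two {x : G} (hx : orderOf x = 2) : Even (Nat.card G) := by
  have := orderOf_dvd_natCard x
  rw [hx] at this
  exact even_iff_two_dvd.2 this

theorem even_card_of_real (x : G) (hx : x ≠ 1) (hreal : IsConj x x⁻¹) : Even (Nat.card G) := by
  obtain ⟨g, hg⟩ := isConj_iff.1 hreal
  by_contra hodd
  rw [Nat.not_even_iff_odd] at hodd
  have h1 := eq_inv_of_conj_odd hg (hodd.of_dvd_nat (orderOf_dvd_natCard g))
  have h2 : orderOf x = 2 := orderOf_eq_two_of (by nth_rewrite 1 [h1]; rw [inv_mul_cancel]) hx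
  exact (Nat.not_even_iff_odd.2 hodd) (even_card_of_orderOf_two h2)

theorem exists_involution_of_even [Finite G] (h : Even (Nat.card G)) : ∃ t : G, orderOf t = 2 :=
  exists_prime_orderOf_dvd_card' 2 (even_iff_two_dvd.1 h)

theorem exists_involution_mem_of_even [Finite G] {H : Subgroup G} (h : Even (Nat.card H)) :
    ∃ t ∈ H, orderOf t = 2 := by
  obtain ⟨t, ht⟩ := exists_involution_of_even h
  exact ⟨t, t.2, by rw [Subgroup.orderOf_coe, ht]⟩

theorem even_card_of_involution_mem {H : Subgroup G} {t : G} (htH : t ∈ H) (ht : orderOf t = 2) :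
    Even (Nat.card H) :=
  even_card_of_orderOf_two (x := (⟨t, htH⟩ : H)) (by rw [Subgroup.orderOf_mk, ht])

theorem odd_card_iff [Finite G] {H : Subgroup G} :
    Odd (Nat.card H) ↔ ∀ t ∈ H, orderOf t ≠ 2 := by
  rw [← Nat.not_even_iff_odd]
  constructor
  · intro h t htH ht
    exact h (even_card_of_involution_mem htH ht)
  · intro h he
    obtain ⟨t, htH, ht⟩ := exists_involution_mem_of_even he
    exact h t htH ht

theorem strongly_real_of_odd_centralizer [Finite G] (x : G) (hx : x ≠ 1) (hreal : IsConj x x⁻¹)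
    (hodd : Odd (Nat.card (Subgroup.centralizer ({x} : Set G)))) :
    ∃ t : G, orderOf t = 2 ∧ t * x * t⁻¹ = x⁻¹ := by
  obtain ⟨g, hg⟩ := isConj_iff.1 hreal
  have hne : x ≠ x⁻¹ := by
    intro h1
    have h2 : orderOf x = 2 := orderOf_eq_two_of (by nth_rewrite 1 [h1]; rw [inv_mul_cancel]) hx
    exact odd_card_iff.1 hodd x (mem_centralizer_singleton.2 rfl) h2
  have h3 : g * x⁻¹ * g⁻¹ = x := by
    rw [← conj_inv, hg, inv_inv]
  have hg2 : g ^ 2 ∈ Subgroup.centralizer ({x} : Set G) := by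
    rw [mem_centralizer_singleton]
    calc g ^ 2 * x = g * (g * x * g⁻¹) * g⁻¹ * g ^ 2 := by simp [pow_two, mul_assoc]
      _ = x * g ^ 2 := by rw [hg, h3]
  have hm : Odd (orderOf (g ^ 2)) := by
    have := orderOf_dvd_natCard (⟨g ^ 2, hg2⟩ : Subgroup.centralizer ({x} : Set G))
    rw [Subgroup.orderOf_mk] at this
    exact hodd.of_dvd_nat this
  obtain ⟨k, hk⟩ := hm
  have hc : (g ^ 2) ^ k * x = x * (g ^ 2) ^ k :=
    mem_centralizer_singleton.1 (Subgroup.pow_mem _ hg2 k)
  have hinv : g ^ (2 * k + 1) * x * (g ^ (2 * k + 1))⁻¹ = x⁻¹ := by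
    calc g ^ (2 * k + 1) * x * (g ^ (2 * k + 1))⁻¹
        = g * ((g ^ 2) ^ k * x) * ((g ^ 2) ^ k)⁻¹ * g⁻¹ := by group
      _ = x⁻¹ := by rw [hc, ← hg]; group
  refine ⟨g ^ (2 * k + 1), orderOf_eq_two_of ?_ ?_, hinv⟩
  · have := pow_orderOf_eq_one (g ^ 2)
    rw [hk] at this
    rw [← this]
    group
  · intro h1
    rw [h1] at hinv
    exact hne (by simpa using hinv)

theorem exists_strongly_real_mem [Finite G] (H : Subgroup G)
    (hH : Nat.card G < Nat.card H * (Nat.card {t : G // orderOf t = 2} + 1)) :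
    ∃ h : G, h ∈ H ∧ h ≠ 1 ∧ ∃ t : G, orderOf t = 2 ∧ t * h * t⁻¹ = h⁻¹ := by
  rw [← Finite.card_option, ← Subgroup.card_mul_index H] at hH
  have h1 : H.index < Nat.card (Option {t : G // orderOf t = 2}) := lt_of_mul_lt_mul_left hH
    (Nat.zero_le _)
  let f : Option {t : G // orderOf t = 2} → G ⧸ H := fun o => match o with
    | none => ((1 : G) : G ⧸ H)
    | some t => (t.1 : G ⧸ H)
  have hf : ¬ Function.Injective f := fun hf =>
    absurd (Nat.card_le_card_of_injective f hf) (not_le.2 h1)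
  obtain ⟨a, b, hab, hne⟩ := Function.not_injective_iff.1 hf
  have key : ∀ t : G, orderOf t = 2 → t ∈ H →
      ∃ h : G, h ∈ H ∧ h ≠ 1 ∧ ∃ t : G, orderOf t = 2 ∧ t * h * t⁻¹ = h⁻¹ := by
    intro t ht htH
    exact ⟨t, htH, ne_one_of_orderOf_two ht, t, ht, by rw [inv_eq_of_orderOf_two ht,
      mul_self_of_orderOf_two ht, one_mul]⟩
  rcases a with _ | ⟨a, ha⟩ <;> rcases b with _ | ⟨b, hb⟩
  · exact absurd rfl hne
  · exact key b hb (by simpa using QuotientGroup.eq.1 hab)
  · exact key a ha (by simpa using QuotientGroup.eq.1 hab.symm)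
  · have h2 := QuotientGroup.eq.1 hab
    simp only [inv_eq_of_orderOf_two ha] at h2
    refine ⟨a * b, h2, ?_, a, ha,
      conj_mul_left (mul_self_of_orderOf_two ha) (mul_self_of_orderOf_two hb)⟩
    intro h3
    apply hne
    have : a = b := by
      rw [eq_inv_of_mul_eq_one_left h3, inv_eq_of_orderOf_two hb]
    subst this
    rfl

theorem odd_card_involutions [Finite G] (heven : Even (Nat.card G)) :
    Odd (Nat.card {t : G // orderOf t = 2}) := by
  classical
  have := Fintype.ofFinite G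
  have h1 : ∀ g : G, g⁻¹ = g ↔ (g = 1 ∨ orderOf g = 2) := by
    intro g
    constructor
    · intro h
      by_cases hg : g = 1
      · exact Or.inl hg
      · exact Or.inr (orderOf_eq_two_of (by nth_rewrite 1 [← h]; rw [inv_mul_cancel]) hg)
    · rintro (rfl | h)
      · simp
      · exact inv_eq_of_orderOf_two h
  let f : Function.End G := fun g : G => g⁻¹
  have h2 := Equiv.Perm.card_fixedPoints_modEq (f := f) (p := 2) (n := 1)
    (by rw [pow_one, pow_two]; funext g; exact inv_inv g)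
  have h3 : Fintype.card (Function.fixedPoints f) =
      Nat.card {t : G // orderOf t = 2} + 1 := by
    rw [← Finite.card_option, ← Nat.card_eq_fintype_card]
    symm
    refine Nat.card_congr (Equiv.ofBijective (fun o => match o with
      | none => ⟨1, inv_one⟩
      | some t => ⟨t.1, inv_eq_of_orderOf_two t.2⟩) ⟨?_, ?_⟩)
    · rintro (_ | ⟨a, ha⟩) (_ | ⟨b, hb⟩) hab
      · rfl
      · exact absurd (congrArg Subtype.val hab).symm (ne_one_of_orderOf_two hb)
      · exact absurd (congrArg Subtype.val hab) (ne_one_of_orderOf_two ha)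
      · have : a = b := congrArg Subtype.val hab
        subst this
        rfl
    · rintro ⟨g, hg⟩
      rcases (h1 g).1 hg with rfl | h
      · exact ⟨none, rfl⟩
      · exact ⟨some ⟨g, h⟩, rfl⟩
  rw [h3, ← Nat.card_eq_fintype_card] at h2
  obtain ⟨k, hk⟩ := heven
  rw [Nat.odd_iff]
  unfold Nat.ModEq at h2
  omega

end H6
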