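import Mathlib
import Cfsg.Agent.H6.InvCount

/-!
# The Baer–Suzuki theorem (Alperin–Lyons proof)
-/

set_option autoImplicit false

namespace H6

open scoped Pointwise

variable {G : Type*} [Group G]

/-- Normalizers grow in a finite `p`-subgroup. -/
theorem exists_mem_normalizer_of_lt [Finite G] {p : ℕ} [Fact p.Prime] {E P : Subgroup G}
    (hP : IsPGroup p P) (h : E < P) :
    ∃ x ∈ P, x ∉ E ∧ x ∈ Subgroup.normalizer (E : Set G) := by
  have : Group.IsNilpotent P := hP.isNilpotent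
  have hnc : NormalizerCondition P := Group.normalizerCondition_of_isNilpotent
  have h1 : E.subgroupOf P < ⊤ := by
    rw [lt_top_iff_ne_top, Ne, Subgroup.subgroupOf_eq_top]
    exact not_le_of_gt h
  obtain ⟨x, hx, hxE⟩ := SetLike.exists_of_lt (hnc _ h1)
  rw [← Subgroup.subgroupOf_normalizer_eq h.le] at hx
  exact ⟨x, x.2, hxE, hx⟩

theorem mem_smul_sylow_iff {p : ℕ} (P : Sylow p G) (g x : G) :
    x ∈ g • P ↔ g⁻¹ * x * g ∈ P := by
  change x ∈ ((g • P : Sylow p G) : Subgroup G) ↔ _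
  rw [Sylow.coe_subgroup_smul, Subgroup.mem_pointwise_smul_iff_inv_smul_mem]
  simp only [MulAut.smul_def, MulAut.conj_inv_apply]
  rfl

theorem mem_conj_smul_iff (H : Subgroup G) (g x : G) :
    x ∈ MulAut.conj g • H ↔ g⁻¹ * x * g ∈ H := by
  rw [Subgroup.mem_pointwise_smul_iff_inv_smul_mem]
  simp

theorem mem_map_conj_iff (H : Subgroup G) (g x : G) :
    x ∈ H.map (MulAut.conj g).toMonoidHom ↔ g⁻¹ * x * g ∈ H := by
  constructor
  · rintro ⟨y, hy, rfl⟩
    simpa [mul_assoc] using hy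
  · intro h
    exact ⟨_, h, by simp [mul_assoc]⟩

/-- Every element of `p`-power order of a finite group is conjugate into a given Sylow
subgroup. -/
theorem exists_conj_le_sylow [Finite G] {p : ℕ} [Fact p.Prime] (P : Sylow p G) {Q : Subgroup G}
    (hQ : IsPGroup p Q) : ∃ g : G, ∀ x ∈ Q, g * x * g⁻¹ ∈ P := by
  obtain ⟨R, hR⟩ := hQ.exists_le_sylow
  obtain ⟨g, hg⟩ := MulAction.exists_smul_eq G R P
  refine ⟨g, fun x hx => ?_⟩
  rw [← hg, mem_smul_sylow_iff]
  have : x ∈ R := hR hx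
  simpa [mul_assoc] using this

theorem exists_normalizing_of_invariant [Finite G] {p : ℕ} [Fact p.Prime] {K : Set G}
    (hK : ∀ g : G, ∀ x ∈ K, g * x * g⁻¹ ∈ K) {D P : Subgroup G} (hP : IsPGroup p P) (hDP : D ≤ P)
    (h : ∃ x ∈ K, x ∈ P ∧ x ∉ D) :
    ∃ x ∈ K, x ∈ P ∧ x ∉ D ∧ x ∈ Subgroup.normalizer (K ∩ D) := by
  let S : Set (Subgroup G) := {E | D ≤ E ∧ E ≤ P ∧ ∀ x ∈ K, x ∈ E → x ∈ D}
  have hD : D ∈ S := ⟨le_rfl, hDP, fun _ _ h => h⟩
  obtain ⟨E, hE⟩ := (Set.toFinite S).exists_maximal ⟨D, hD⟩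
  obtain ⟨hDE, hEP, hEK⟩ := hE.prop
  have hlt : E < P := by
    refine lt_of_le_of_ne hEP ?_
    rintro rfl
    obtain ⟨x, hxK, hxP, hxD⟩ := h
    exact hxD (hEK x hxK hxP)
  obtain ⟨y, hyP, hyE, hyN⟩ := exists_mem_normalizer_of_lt hP hlt
  have hnot : P ⊓ Subgroup.normalizer (E : Set G) ∉ S := by
    intro hS
    have := hE.le_of_ge hS (le_inf hEP Subgroup.le_normalizer)
    exact hyE (this ⟨hyP, hyN⟩)
  have : ¬ ∀ x ∈ K, x ∈ P ⊓ Subgroup.normalizer (E : Set G) → x ∈ D := fun h' =>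
    hnot ⟨hDE.trans (le_inf hEP Subgroup.le_normalizer), inf_le_left, h'⟩
  push Not at this
  obtain ⟨x, hxK, ⟨hxP, hxN⟩, hxD⟩ := this
  refine ⟨x, hxK, hxP, hxD, Subgroup.mem_normalizer_fintype ?_⟩
  rintro n ⟨hnK, hnD⟩
  exact ⟨hK x n hnK, hEK _ (hK x n hnK) ((Subgroup.mem_normalizer_iff.1 hxN n).1 (hDE hnD))⟩

/-- Baer–Suzuki, set form: a normal subset any two elements of which generate a `p`-group lies in
every Sylow `p`-subgroup. -/
theorem baer_suzuki_set [Finite G] {p : ℕ} [Fact p.Prime] {K : Set G}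
    (hK : ∀ g : G, ∀ x ∈ K, g * x * g⁻¹ ∈ K)
    (h2 : ∀ x ∈ K, ∀ y ∈ K, IsPGroup p (Subgroup.closure ({x, y} : Set G)))
    (P : Sylow p G) : K ⊆ P := by
  have hcard : ∀ P Q : Sylow p G, (K ∩ P).ncard = (K ∩ Q).ncard := by
    intro P Q
    obtain ⟨g, rfl⟩ := MulAction.exists_smul_eq G P Q
    refine Set.ncard_congr (fun x _ => g * x * g⁻¹) ?_ ?_ ?_
    · rintro x ⟨hxK, hxP⟩
      refine ⟨hK g x hxK, ?_⟩
      show _ ∈ g • P
      rw [mem_smul_sylow_iff]
      simpa [mul_assoc] using hxP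
    · intro a b _ _ hab
      simpa using hab
    · rintro y ⟨hyK, hyP⟩
      refine ⟨g⁻¹ * y * g, ⟨by simpa using hK g⁻¹ y hyK, (mem_smul_sylow_iff P g y).1 hyP⟩, ?_⟩
      group
  have hsub : ∀ P Q : Sylow p G, K ∩ P ⊆ K ∩ Q → K ∩ P = K ∩ Q := fun P Q h =>
    Set.eq_of_subset_of_ncard_le h (hcard Q P).le
  have key : ∀ P Q : Sylow p G, K ∩ P = K ∩ Q := by
    by_contra hne
    push Not at hne
    let S : Set (Sylow p G × Sylow p G) := {PQ | K ∩ PQ.1 ≠ K ∩ PQ.2}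
    have hS : S.Nonempty := by
      obtain ⟨P, Q, h⟩ := hne
      exact ⟨(P, Q), h⟩
    obtain ⟨⟨P, Q⟩, hPQ, hmax⟩ := Set.exists_max_image S
      (fun PQ => (K ∩ PQ.1 ∩ PQ.2).ncard) (Set.toFinite S) hS
    let D : Subgroup G := Subgroup.closure (K ∩ P ∩ Q)
    have hDP : D ≤ P := (Subgroup.closure_le _).2 fun x hx => hx.1.2
    have hDQ : D ≤ Q := (Subgroup.closure_le _).2 fun x hx => hx.2
    have hKD : K ∩ D = K ∩ P ∩ Q := by
      apply Set.Subset.antisymm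
      · rintro x ⟨hxK, hxD⟩
        exact ⟨⟨hxK, hDP hxD⟩, hDQ hxD⟩
      · intro x hx
        exact ⟨hx.1.1, Subgroup.subset_closure hx⟩
    have hx : ∃ x ∈ K, x ∈ (P : Subgroup G) ∧ x ∉ D := by
      by_contra hcon
      push Not at hcon
      exact hPQ (hsub P Q fun x hx => ⟨hx.1, hDQ (hcon x hx.1 hx.2)⟩)
    have hy : ∃ x ∈ K, x ∈ (Q : Subgroup G) ∧ x ∉ D := by
      by_contra hcon
      push Not at hcon
      exact hPQ (hsub Q P fun x hx => ⟨hx.1, hDP (hcon x hx.1 hx.2)⟩).symm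
    obtain ⟨x, hxK, hxP, hxD, hxN⟩ := exists_normalizing_of_invariant hK P.2 hDP hx
    obtain ⟨y, hyK, hyQ, hyD, hyN⟩ := exists_normalizing_of_invariant hK Q.2 hDQ hy
    rw [hKD] at hxN hyN
    have hle : Subgroup.closure ({x, y} : Set G) ≤ Subgroup.normalizer (D : Set G) := by
      rw [Subgroup.closure_le]
      rintro z (rfl | rfl)
      · exact Subgroup.normalizer_le_normalizer_closure _ hxN
      · exact Subgroup.normalizer_le_normalizer_closure _ hyN
    have hR : IsPGroup p (Subgroup.closure ({x, y} : Set G) ⊔ D : Subgroup G) :=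
      IsPGroup.to_sup_of_normal_right' (h2 x hxK y hyK) (P.2.to_le hDP) hle
    obtain ⟨R, hR⟩ := hR.exists_le_sylow
    have hxR : x ∈ R := hR (Subgroup.mem_sup_left (Subgroup.subset_closure (by simp)))
    have hyR : y ∈ R := hR (Subgroup.mem_sup_left (Subgroup.subset_closure (by simp)))
    have hDR : D ≤ R := le_sup_right.trans hR
    have aux : ∀ (T : Sylow p G) (z : G), D ≤ T → z ∈ K → z ∈ T → z ∈ R → z ∉ D →
        K ∩ R = K ∩ T := by
      intro T z hDT hzK hzT hzR hzD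
      by_contra hne
      have h3 := hmax (R, T) hne
      simp only at h3
      rw [← hKD] at h3
      have h4 : K ∩ D ⊂ K ∩ R ∩ T := by
        refine ⟨fun w hw => ⟨⟨hw.1, hDR hw.2⟩, hDT hw.2⟩, fun h5 => hzD ?_⟩
        exact (h5 ⟨⟨hzK, hzR⟩, hzT⟩).2
      exact absurd (Set.ncard_lt_ncard h4) (not_lt.2 h3)
    exact hPQ ((aux P x hDP hxK hxP hxR hxD).symm.trans (aux Q y hDQ hyK hyQ hyR hyD))
  intro x hx
  obtain ⟨Q, hQ⟩ := (h2 x hx x hx).exists_le_sylow
  have : x ∈ K ∩ Q := ⟨hx, hQ (Subgroup.subset_closure (by simp))⟩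
  rw [key Q P] at this
  exact this.2

theorem normal_closure_of_invariant {K : Set G}
    (hK : ∀ g : G, ∀ x ∈ K, g * x * g⁻¹ ∈ K) : (Subgroup.closure K).Normal := by
  rw [← Subgroup.normalizer_eq_top_iff, eq_top_iff, Subgroup.le_normalizer_closure_iff]
  intro g _ x hx
  exact Subgroup.subset_closure (hK g x hx)

/-- Baer–Suzuki: a normal subset any two elements of which generate a `p`-group generates a
`p`-group. -/
theorem isPGroup_closure_of_pairs [Finite G] {p : ℕ} [Fact p.Prime] {K : Set G}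
    (hK : ∀ g : G, ∀ x ∈ K, g * x * g⁻¹ ∈ K)
    (h2 : ∀ x ∈ K, ∀ y ∈ K, IsPGroup p (Subgroup.closure ({x, y} : Set G))) :
    IsPGroup p (Subgroup.closure K) := by
  obtain ⟨P⟩ : Nonempty (Sylow p G) := inferInstance
  exact P.2.to_le ((Subgroup.closure_le _).2 (baer_suzuki_set hK h2 P))

theorem isPGroup_closure_conj {p : ℕ} {x y : G} (g : G)
    (h : IsPGroup p (Subgroup.closure ({x, y} : Set G))) :
    IsPGroup p (Subgroup.closure ({g * x * g⁻¹, g * y * g⁻¹} : Set G)) := by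
  have := h.map (MulAut.conj g).toMonoidHom
  rw [MonoidHom.map_closure, Set.image_pair] at this
  exact this

/-- Baer–Suzuki for an element. -/
theorem baer_suzuki_elem [Finite G] {p : ℕ} [Fact p.Prime] (x : G)
    (h : ∀ g : G, IsPGroup p (Subgroup.closure ({x, g * x * g⁻¹} : Set G))) :
    ∃ N : Subgroup G, N.Normal ∧ IsPGroup p N ∧ x ∈ N := by
  let K : Set G := {y | ∃ g : G, y = g * x * g⁻¹}
  have hK : ∀ g : G, ∀ y ∈ K, g * y * g⁻¹ ∈ K := by
    rintro g y ⟨a, rfl⟩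
    exact ⟨g * a, by group⟩
  refine ⟨Subgroup.closure K, normal_closure_of_invariant hK, isPGroup_closure_of_pairs hK ?_,
    Subgroup.subset_closure ⟨1, by simp⟩⟩
  rintro y ⟨a, rfl⟩ z ⟨b, rfl⟩
  have := isPGroup_closure_conj a (h (a⁻¹ * b))
  convert this using 5
  all_goals group

theorem baer_suzuki [Finite G] {p : ℕ} [Fact p.Prime] (X : Subgroup G)
    (h : ∀ g : G, IsPGroup p ↥(X ⊔ X.map (MulAut.conj g).toMonoidHom)) :
    ∃ N : Subgroup G, N.Normal ∧ IsPGroup p N ∧ X ≤ N := by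
  let K : Set G := {y | ∃ g : G, ∃ x ∈ X, y = g * x * g⁻¹}
  have hK : ∀ g : G, ∀ y ∈ K, g * y * g⁻¹ ∈ K := by
    rintro g y ⟨a, x, hx, rfl⟩
    exact ⟨g * a, x, hx, by group⟩
  refine ⟨Subgroup.closure K, normal_closure_of_invariant hK, isPGroup_closure_of_pairs hK ?_,
    fun x hx => Subgroup.subset_closure ⟨1, x, hx, by simp⟩⟩
  rintro y ⟨a, x, hx, rfl⟩ z ⟨b, w, hw, rfl⟩
  have h1 : IsPGroup p (Subgroup.closure ({x, (a⁻¹ * b) * w * (a⁻¹ * b)⁻¹} : Set G)) := by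
    refine (h (a⁻¹ * b)).to_le ?_
    rw [Subgroup.closure_le]
    rintro u (rfl | rfl)
    · exact Subgroup.mem_sup_left hx
    · exact Subgroup.mem_sup_right ⟨w, hw, rfl⟩
  have := isPGroup_closure_conj a h1
  convert this using 5
  all_goals group

/-- If `x y` has `2`-power order for `x² = y² = 1` then `⟨x, y⟩` is a `2`-group. -/
theorem isPGroup_closure_pair {x y : G} (hx : x * x = 1) (hy : y * y = 1) {k : ℕ}
    (h : (x * y) ^ 2 ^ k = 1) : IsPGroup 2 (Subgroup.closure ({x, y} : Set G)) := by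
  rintro ⟨d, hd⟩
  obtain ⟨i, rfl | rfl⟩ := (mem_closure_pair_iff hx hy).1 hd
  · refine ⟨k, Subtype.ext ?_⟩
    simp only [SubmonoidClass.mk_pow, OneMemClass.coe_one]
    rw [← zpow_natCast, ← zpow_mul, mul_comm i, zpow_mul, zpow_natCast, h, one_zpow]
  · refine ⟨1, Subtype.ext ?_⟩
    simp only [SubmonoidClass.mk_pow, OneMemClass.coe_one]
    rw [pow_one, pow_two]
    exact refl_mul_self hx hy i

theorem odd_orderOf_pow_two_pow [Finite G] (r : G) : ∃ k : ℕ, Odd (orderOf (r ^ 2 ^ k)) := by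
  obtain ⟨k, m, hm, h⟩ := Nat.exists_eq_two_pow_mul_odd (orderOf_pos r).ne'
  refine ⟨k, ?_⟩
  rw [orderOf_pow' _ (by positivity), h, Nat.gcd_mul_right_left,
    Nat.mul_div_cancel_left _ (by positivity)]
  exact hm

/-- An involution outside every normal `2`-subgroup inverts a nontrivial element of odd order. -/
theorem exists_odd_inverted [Finite G] (t : G) (ht : orderOf t = 2)
    (hO : ∀ N : Subgroup G, N.Normal → IsPGroup 2 N → t ∉ N) :
    ∃ h : G, h ≠ 1 ∧ Odd (orderOf h) ∧ t * h * t⁻¹ = h⁻¹ := by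
  by_contra hcon
  push Not at hcon
  have ht2 := mul_self_of_orderOf_two ht
  obtain ⟨N, hN, hNp, htN⟩ := baer_suzuki_elem (p := 2) t (fun g => by
    have hs2 : (g * t * g⁻¹) * (g * t * g⁻¹) = 1 :=
      mul_self_of_orderOf_two (by rw [orderOf_conj, ht])
    obtain ⟨k, hk⟩ := odd_orderOf_pow_two_pow (t * (g * t * g⁻¹))
    refine isPGroup_closure_pair ht2 hs2 (k := k) ?_
    by_contra hne
    refine hcon _ hne hk ?_
    have := conj_zpow_left ht2 hs2 ((2 ^ k : ℕ) : ℤ)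
    rwa [zpow_neg, zpow_natCast] at this)
  exact hO N hN hNp htN

end H6
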