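import Mathlib
import Cfsg.Prelude.Def_Involutions
import Cfsg.Agent.H6.BaerSuzuki

/-!
# Strongly embedded subgroups; isolated involutions; TI Sylow 2-subgroups
-/

set_option autoImplicit false

namespace H6

open scoped Pointwise

variable {G : Type*} [Group G]

/-- Working form of strong embedding. -/
theorem isStronglyEmbedded_iff [Finite G] {H : Subgroup G} :
    Cfsg.IsStronglyEmbedded H ↔ H ≠ ⊤ ∧ Even (Nat.card H) ∧
      ∀ g t : G, t ∈ H → orderOf t = 2 → g * t * g⁻¹ ∈ H → g ∈ H := by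
  unfold Cfsg.IsStronglyEmbedded
  refine and_congr_right fun _ => and_congr_right fun _ => ?_
  constructor
  · intro h g t htH ht hgt
    by_contra hg
    refine odd_card_iff.1 (h g hg) (g * t * g⁻¹) ⟨hgt, ⟨t, htH, rfl⟩⟩ ?_
    rw [orderOf_conj, ht]
  · intro h g hg
    rw [odd_card_iff]
    rintro s ⟨hsH, t, htH, rfl⟩ hs
    apply hg
    refine h g t htH ?_ hsH
    rw [← hs]
    exact (orderOf_conj g t).symm

theorem isStronglyEmbedded_iff_fusion [Finite G] (H : Subgroup G) (hH : H ≠ ⊤)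
    (heven : Even (Nat.card H)) : Cfsg.IsStronglyEmbedded H ↔
      ((∀ t ∈ H, orderOf t = 2 → Subgroup.centralizer ({t} : Set G) ≤ H) ∧
        (∀ t ∈ H, ∀ s ∈ H, orderOf t = 2 → orderOf s = 2 → IsConj t s →
          ∃ h ∈ H, h * t * h⁻¹ = s)) := by
  rw [isStronglyEmbedded_iff]
  constructor
  · rintro ⟨-, -, h⟩
    refine ⟨fun t htH ht g hg => h g t htH ht ?_, fun t htH s hsH ht _ hts => ?_⟩
    · rw [mem_centralizer_singleton.1 hg, mul_inv_cancel_right]
      exact htH
    · obtain ⟨g, rfl⟩ := isConj_iff.1 hts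
      exact ⟨g, h g t htH ht hsH, rfl⟩
  · rintro ⟨h1, h2⟩
    refine ⟨hH, heven, fun g t htH ht hgt => ?_⟩
    obtain ⟨h, hh, he⟩ := h2 t htH _ hgt ht (by rw [orderOf_conj, ht]) (isConj_iff.2 ⟨g, rfl⟩)
    have : h⁻¹ * g ∈ H := by
      apply h1 t htH ht
      rw [mem_centralizer_singleton]
      calc h⁻¹ * g * t = h⁻¹ * (g * t * g⁻¹) * g := by group
        _ = t * (h⁻¹ * g) := by rw [← he]; group
    simpa using H.mul_mem hh this

theorem smul_coe_eq_iff (H : Subgroup G) (t g : G) :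
    t • (g : G ⧸ H) = (g : G ⧸ H) ↔ g⁻¹ * t * g ∈ H := by
  rw [MulAction.Quotient.smul_coe, eq_comm, QuotientGroup.eq, smul_eq_mul, mul_assoc]

theorem isStronglyEmbedded_iff_fixed [Finite G] (H : Subgroup G) (hH : H ≠ ⊤)
    (heven : Even (Nat.card H)) : Cfsg.IsStronglyEmbedded H ↔
      ∀ t ∈ H, orderOf t = 2 → Nat.card {c : G ⧸ H // t • c = c} = 1 := by
  rw [isStronglyEmbedded_iff]
  constructor
  · rintro ⟨-, -, h⟩ t htH ht
    rw [Nat.card_eq_one_iff_exists]
    refine ⟨⟨((1 : G) : G ⧸ H), (smul_coe_eq_iff H t 1).2 (by simpa using htH)⟩, ?_⟩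
    rintro ⟨c, hc⟩
    obtain ⟨g, rfl⟩ := QuotientGroup.mk_surjective c
    apply Subtype.ext
    rw [smul_coe_eq_iff] at hc
    have := h g⁻¹ t htH ht (by simpa using hc)
    simp only
    rw [QuotientGroup.eq]
    simpa using this
  · intro h
    refine ⟨hH, heven, fun g t htH ht hgt => ?_⟩
    have h1 := (Nat.card_eq_one_iff_unique.1 (h t htH ht)).1
    have h2 : (⟨((1 : G) : G ⧸ H), (smul_coe_eq_iff H t 1).2 (by simpa using htH)⟩ :
        {c : G ⧸ H // t • c = c}) = ⟨((g⁻¹ : G) : G ⧸ H), (smul_coe_eq_iff H t g⁻¹).2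
          (by simpa using hgt)⟩ := Subsingleton.elim _ _
    have h3 := QuotientGroup.eq.1 (congrArg Subtype.val h2)
    simpa using h3

theorem exists_involution_mem_of_isPGroup [Finite G] {X : Subgroup G} (hX : IsPGroup 2 X)
    (hne : X ≠ ⊥) : ∃ t ∈ X, orderOf t = 2 := by
  apply exists_involution_mem_of_even
  rcases hX.card_eq_or_dvd with h | h
  · exact absurd (Subgroup.card_eq_one.1 h) hne
  · exact even_iff_two_dvd.2 h

/-- Two Sylow subgroups of `G` inside `H` are conjugate in `H`. -/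
theorem exists_mem_smul_eq [Finite G] {p : ℕ} [Fact p.Prime] {H : Subgroup G} (P Q : Sylow p G)
    (hP : (P : Subgroup G) ≤ H) (hQ : (Q : Subgroup G) ≤ H) : ∃ h ∈ H, h • P = Q := by
  obtain ⟨h, hh⟩ := MulAction.exists_smul_eq H (P.subtype hP) (Q.subtype hQ)
  rw [Sylow.smul_subtype] at hh
  exact ⟨h, h.2, Sylow.subtype_injective hh⟩

theorem isStronglyEmbedded_of_normalizer_le [Finite G] (H : Subgroup G) (hH : H ≠ ⊤)
    (heven : Even (Nat.card H))
    (hN : ∀ X : Subgroup G, X ≤ H → IsPGroup 2 X → X ≠ ⊥ →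
      Subgroup.normalizer (X : Set G) ≤ H) : Cfsg.IsStronglyEmbedded H := by
  rw [isStronglyEmbedded_iff]
  refine ⟨hH, heven, fun g t htH ht hgt => ?_⟩
  let S : Set (Subgroup G) := {X | IsPGroup 2 X ∧ t ∈ X ∧ X ≤ H ∧ ∀ x ∈ X, g * x * g⁻¹ ∈ H}
  have h0 : Subgroup.zpowers t ∈ S := by
    refine ⟨IsPGroup.of_card (n := 1) (by rw [Nat.card_zpowers, ht]; rfl),
      Subgroup.mem_zpowers t, (Subgroup.zpowers_le).2 htH, ?_⟩
    rintro x ⟨k, rfl⟩
    simp only
    rw [← conj_zpow]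
    exact H.zpow_mem hgt k
  obtain ⟨X, hX⟩ := (Set.toFinite S).exists_maximal ⟨_, h0⟩
  obtain ⟨hXp, htX, hXH, hXg⟩ := hX.prop
  have hXne : X ≠ ⊥ := by
    rintro rfl
    exact ne_one_of_orderOf_two ht (Subgroup.mem_bot.1 htX)
  have hN1 := hN X hXH hXp hXne
  have hN2 : ∀ y ∈ Subgroup.normalizer (X : Set G), g * y * g⁻¹ ∈ H := by
    intro y hy
    apply hN (X.map (MulAut.conj g).toMonoidHom) ?_ (hXp.map _) ?_
    · exact Subgroup.le_normalizer_map _ ⟨y, hy, rfl⟩
    · rintro _ ⟨x, hx, rfl⟩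
      exact hXg x hx
    · rw [Ne, Subgroup.map_eq_bot_iff_of_injective _ (MulAut.conj g).injective]
      exact hXne
  obtain ⟨R, hR⟩ := hXp.exists_le_sylow
  have hXR : X = R := by
    by_contra hne
    obtain ⟨y, hyR, hyX, hyN⟩ := exists_mem_normalizer_of_lt R.2 (lt_of_le_of_ne hR hne)
    have hmem : (R : Subgroup G) ⊓ Subgroup.normalizer (X : Set G) ∈ S :=
      ⟨R.2.to_inf_left, ⟨hR htX, Subgroup.le_normalizer htX⟩, inf_le_right.trans hN1,
        fun x hx => hN2 x hx.2⟩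
    exact hyX (hX.le_of_ge hmem (le_inf hR Subgroup.le_normalizer) ⟨hyR, hyN⟩)
  have hRH : (R : Subgroup G) ≤ H := hXR ▸ hXH
  have hgR : ((g • R : Sylow 2 G) : Subgroup G) ≤ H := by
    intro x hx
    have h1 : g⁻¹ * x * g ∈ X := by
      rw [hXR]
      exact (mem_smul_sylow_iff R g x).1 hx
    have := hXg _ h1
    simpa [mul_assoc] using this
  obtain ⟨h, hh, he⟩ := exists_mem_smul_eq R (g • R) hRH hgR
  have h2 : (h⁻¹ * g) • R = R := by rw [mul_smul, ← he, inv_smul_smul]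
  rw [Sylow.smul_eq_iff_mem_normalizer] at h2
  have h3 : h⁻¹ * g ∈ H := hN1 (by rw [hXR]; exact h2)
  simpa using H.mul_mem hh h3

theorem normalizer_le_of_isStronglyEmbedded [Finite G] {H : Subgroup G}
    (hH : Cfsg.IsStronglyEmbedded H) {X : Subgroup G} (hXH : X ≤ H) (hX : Even (Nat.card X)) :
    Subgroup.normalizer (X : Set G) ≤ H := by
  intro g hg
  obtain ⟨t, htX, ht⟩ := exists_involution_mem_of_even hX
  exact (isStronglyEmbedded_iff.1 hH).2.2 g t (hXH htX) ht
    (hXH ((Subgroup.mem_normalizer_iff.1 hg t).1 htX))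

theorem isStronglyEmbedded_iff_normalizer [Finite G] (H : Subgroup G) (hH : H ≠ ⊤)
    (P : Sylow 2 ↥H) (hP : (P : Subgroup ↥H) ≠ ⊥) : Cfsg.IsStronglyEmbedded H ↔
      (∀ X : Subgroup ↥H, X ≤ (P : Subgroup ↥H) → X ≠ ⊥ →
        Subgroup.normalizer ((X.map H.subtype : Subgroup G) : Set G) ≤ H) := by
  constructor
  · intro h X hXP hX
    apply normalizer_le_of_isStronglyEmbedded h (Subgroup.map_subtype_le X)
    obtain ⟨t, htX, ht⟩ := exists_involution_mem_of_isPGroup (P.2.to_le hXP) hX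
    exact even_card_of_involution_mem (t := (t : G)) ⟨t, htX, rfl⟩
      (by rw [Subgroup.orderOf_coe, ht])
  · intro h
    apply isStronglyEmbedded_of_normalizer_le H hH
    · obtain ⟨t, -, ht⟩ := exists_involution_mem_of_isPGroup P.2 hP
      exact even_card_of_orderOf_two ht
    · intro X hXH hXp hX
      obtain ⟨a, ha⟩ := exists_conj_le_sylow P (hXp.comap_subtype (K := H))
      let Y : Subgroup H := (X.subgroupOf H).map (MulAut.conj a).toMonoidHom
      have hY : Y ≤ P := by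
        rintro _ ⟨x, hx, rfl⟩
        exact ha x hx
      have hYne : Y ≠ ⊥ := by
        rw [Ne, Subgroup.map_eq_bot_iff_of_injective _ (MulAut.conj a).injective,
          Subgroup.subgroupOf_eq_bot, disjoint_iff, inf_eq_left.2 hXH]
        exact hX
      have hYX : Y.map H.subtype = X.map (MulAut.conj (a : G)).toMonoidHom := by
        ext z
        constructor
        · rintro ⟨_, ⟨x, hx, rfl⟩, rfl⟩
          exact ⟨x, hx, rfl⟩
        · rintro ⟨x, hx, rfl⟩
          exact ⟨_, ⟨⟨x, hXH hx⟩, hx, rfl⟩, rfl⟩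
      intro g hg
      have h1 : (a : G) * g * (a : G)⁻¹ ∈ H := by
        apply h Y hY hYne
        rw [hYX]
        exact Subgroup.le_normalizer_map _ ⟨g, hg, rfl⟩
      have h2 := H.mul_mem (H.mul_mem (H.inv_mem a.2) h1) a.2
      simpa [mul_assoc] using h2

theorem isPGroup_closure_of_commute {x y : G} (hx : x * x = 1) (hy : y * y = 1)
    (h : Commute x y) : IsPGroup 2 (Subgroup.closure ({x, y} : Set G)) :=
  isPGroup_closure_pair hx hy (k := 1) (by
    rw [pow_one, h.mul_pow, pow_two, pow_two, hx, hy, one_mul])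

theorem exists_sylow_of_commute {x y : G} (hx : x * x = 1) (hy : y * y = 1)
    (h : Commute x y) : ∃ R : Sylow 2 G, x ∈ R ∧ y ∈ R := by
  obtain ⟨R, hR⟩ := (isPGroup_closure_of_commute hx hy h).exists_le_sylow
  exact ⟨R, hR (Subgroup.subset_closure (by simp)), hR (Subgroup.subset_closure (by simp))⟩

theorem isConj_of_ti_sylow [Finite G] (T : Sylow 2 G) (hnn : ¬ (T : Subgroup G).Normal)
    (hTI : ∀ g : G, MulAut.conj g • (T : Subgroup G) ≠ T →
      MulAut.conj g • (T : Subgroup G) ⊓ T = ⊥)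
    (s t : G) (hs : orderOf s = 2) (ht : orderOf t = 2) : IsConj s t := by
  have hTI' : ∀ (P Q : Sylow 2 G) (x : G), x ≠ 1 → x ∈ P → x ∈ Q → P = Q := by
    intro P Q x hx hxP hxQ
    obtain ⟨a, rfl⟩ := MulAction.exists_smul_eq G T Q
    obtain ⟨b, hb⟩ := MulAction.exists_smul_eq G T (a⁻¹ • P)
    have hP : P = a • b • T := by rw [hb, smul_inv_smul]
    subst hP
    congr 1
    by_contra hne
    have h1 := hTI b (fun h => hne (Sylow.ext h))
    have h2 : a⁻¹ * x * a ∈ MulAut.conj b • (T : Subgroup G) ⊓ T :=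
      ⟨(mem_smul_sylow_iff (b • T) a x).1 hxP, (mem_smul_sylow_iff T a x).1 hxQ⟩
    rw [h1, Subgroup.mem_bot] at h2
    apply hx
    calc x = a * (a⁻¹ * x * a) * a⁻¹ := by group
      _ = 1 := by rw [h2]; group
  have hT' : ∃ T' : Sylow 2 G, T' ≠ T := by
    by_contra hcon
    push Not at hcon
    have : Subsingleton (Sylow 2 G) := ⟨fun a b => (hcon a).trans (hcon b).symm⟩
    exact hnn (Sylow.normal_of_subsingleton T)
  obtain ⟨T', hT'⟩ := hT'
  have hz : ∀ x : G, orderOf x = 2 → IsPGroup 2 (Subgroup.zpowers x) := fun x hx =>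
    IsPGroup.of_card (n := 1) (by rw [Nat.card_zpowers, hx]; rfl)
  obtain ⟨a, ha⟩ := exists_conj_le_sylow T (hz s hs)
  obtain ⟨b, hb⟩ := exists_conj_le_sylow T' (hz t ht)
  have ha' := ha s (Subgroup.mem_zpowers s)
  have hb' := hb t (Subgroup.mem_zpowers t)
  have hs' : orderOf (a * s * a⁻¹) = 2 := by rw [orderOf_conj, hs]
  have ht' : orderOf (b * t * b⁻¹) = 2 := by rw [orderOf_conj, ht]
  have hc1 : IsConj s (a * s * a⁻¹) := isConj_iff.2 ⟨a, rfl⟩
  have hc2 : IsConj t (b * t * b⁻¹) := isConj_iff.2 ⟨b, rfl⟩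
  generalize a * s * a⁻¹ = u at *
  generalize b * t * b⁻¹ = v at *
  have hu := mul_self_of_orderOf_two hs'
  have hv := mul_self_of_orderOf_two ht'
  rcases Nat.even_or_odd (orderOf (u * v)) with he | ho
  · exfalso
    obtain ⟨hz2, hzu, hzv⟩ := central_involution hu hv he
    generalize (u * v) ^ (orderOf (u * v) / 2) = z at *
    obtain ⟨R, hzR, huR⟩ := exists_sylow_of_commute (mul_self_of_orderOf_two hz2) hu hzu
    obtain ⟨R', hzR', hvR'⟩ := exists_sylow_of_commute (mul_self_of_orderOf_two hz2) hv hzv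
    have e1 := hTI' R T u (ne_one_of_orderOf_two hs') huR ha'
    have e2 := hTI' R' T' v (ne_one_of_orderOf_two ht') hvR' hb'
    have e3 := hTI' R R' z (ne_one_of_orderOf_two hz2) hzR hzR'
    exact hT' (e2.symm.trans (e3.symm.trans e1))
  · exact hc1.trans ((isConj_of_odd hu hv ho).trans hc2.symm)

/-- An involution isolated in a Sylow `2`-subgroup commutes with no other conjugate. -/
theorem eq_of_isolated_of_commute [Finite G] (P : Sylow 2 G) {u : G} (hu : orderOf u = 2)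
    (hiso : ∀ g : G, g * u * g⁻¹ ∈ P → g * u * g⁻¹ = u) {v : G} (huv : IsConj u v)
    (hc : Commute u v) : v = u := by
  have hv : orderOf v = 2 := by rw [← orderOf_of_isConj huv, hu]
  obtain ⟨R, huR, hvR⟩ := exists_sylow_of_commute (mul_self_of_orderOf_two hu)
    (mul_self_of_orderOf_two hv) hc
  obtain ⟨a, rfl⟩ := MulAction.exists_smul_eq G P R
  obtain ⟨c, rfl⟩ := isConj_iff.1 huv
  rw [mem_smul_sylow_iff] at huR hvR
  have h1 := hiso a⁻¹ (by simpa using huR)
  have h2 := hiso (a⁻¹ * c) (by simpa [mul_assoc] using hvR)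
  calc c * u * c⁻¹ = a * (a⁻¹ * c * u * (a⁻¹ * c)⁻¹) * a⁻¹ := by group
    _ = a * (a⁻¹ * u * a⁻¹⁻¹) * a⁻¹ := by rw [h1, h2]
    _ = u := by group

theorem isConj_refl {x y : G} (hx : x * x = 1) (hy : y * y = 1) (k : ℤ) :
    IsConj x (x * (x * y) ^ k) ∨ IsConj y (x * (x * y) ^ k) := by
  rcases Int.even_or_odd' k with ⟨m, rfl | rfl⟩
  · exact Or.inl (isConj_iff.2 ⟨_, refl_conj_left hx hy m⟩)
  · refine Or.inr (isConj_iff.2 ⟨(x * y) ^ (-m), ?_⟩)
    nth_rewrite 2 [right_eq hx (y := y)]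
    rw [← mul_assoc, zpow_mul_left hx hy, neg_neg, ← zpow_neg, neg_neg, mul_assoc, mul_assoc,
      ← zpow_one_add, ← zpow_add]
    congr 2; ring

/-- The product of an involution commuting with no other conjugate with any conjugate has odd
order. -/
theorem odd_orderOf_mul_of_isolated [Finite G] {u : G} (hu : orderOf u = 2)
    (hiso : ∀ v : G, IsConj u v → Commute u v → v = u) {v : G} (huv : IsConj u v) :
    Odd (orderOf (u * v)) := by
  have hv : orderOf v = 2 := by rw [← orderOf_of_isConj huv, hu]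
  have hu2 := mul_self_of_orderOf_two hu
  have hv2 := mul_self_of_orderOf_two hv
  rw [← Nat.not_even_iff_odd]
  intro he
  obtain ⟨hz2, hzu, -⟩ := central_involution hu2 hv2 he
  have h1 : IsConj u (u * (u * v) ^ (orderOf (u * v) / 2)) := by
    have := isConj_refl hu2 hv2 ((orderOf (u * v) / 2 : ℕ) : ℤ)
    rw [zpow_natCast] at this
    rcases this with h | h
    · exact h
    · exact huv.trans h
  have h2 := hiso _ h1 ((Commute.refl u).mul_right hzu.symm)
  exact ne_one_of_orderOf_two hz2 (by simpa using h2)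

theorem isolated_iff_odd [Finite G] (P : Sylow 2 G) (u : G) (hu : orderOf u = 2) (huP : u ∈ P) :
    (∀ g : G, g * u * g⁻¹ ∈ P → g * u * g⁻¹ = u) ↔
      (∀ g : G, Odd (orderOf (u * g * u⁻¹ * g⁻¹))) := by
  have hinv := inv_eq_of_orderOf_two hu
  constructor
  · intro h g
    have := odd_orderOf_mul_of_isolated hu (fun v h1 h2 => eq_of_isolated_of_commute P hu h h1 h2)
      (v := g * u * g⁻¹) (isConj_iff.2 ⟨g, rfl⟩)
    rw [hinv]
    simpa [mul_assoc] using this
  · intro h g hg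
    have h1 := h g
    have h2 : u * g * u⁻¹ * g⁻¹ ∈ P := by
      rw [hinv]
      simpa [mul_assoc] using mul_mem huP hg
    obtain ⟨k, hk⟩ := IsPGroup.iff_orderOf.1 P.2 ⟨_, h2⟩
    rw [Subgroup.orderOf_mk] at hk
    rw [hk] at h1
    have hk0 : k = 0 := by
      by_contra hk0
      exact (Nat.not_even_iff_odd.2 h1) (Nat.even_pow.2 ⟨even_two, hk0⟩)
    rw [hk0, pow_zero, orderOf_eq_one_iff, hinv] at hk
    calc g * u * g⁻¹ = u⁻¹ * (u * g * u * g⁻¹) := by group
      _ = u := by rw [hk, hinv, mul_one]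

theorem orderOf_mul_comm (a b : G) : orderOf (a * b) = orderOf (b * a) := by
  rw [← orderOf_conj b (a * b)]
  congr 1
  group

theorem orderOf_mul_mod_four_of_isolated [Finite G] {t : G} (ht : orderOf t = 2)
    (hiso : ∀ v : G, IsConj t v → Commute t v → v = t) (s : G) (hs : orderOf s = 2)
    (hns : ¬ IsConj s t) : orderOf (s * t) % 4 = 2 := by
  have hs2 := mul_self_of_orderOf_two hs
  have ht2 := mul_self_of_orderOf_two ht
  rw [orderOf_mul_comm]
  have he : Even (orderOf (t * s)) := by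
    rw [← Nat.not_odd_iff_even]
    intro ho
    exact hns (isConj_of_odd ht2 hs2 ho).symm
  have h4 : ¬ 4 ∣ orderOf (t * s) := by
    intro h4
    obtain ⟨d, -, hd⟩ := (conj_mul_central_iff ht2 hs2 he).2 h4
    obtain ⟨hz2, hzt, -⟩ := central_involution ht2 hs2 he
    have h2 := hiso _ (isConj_iff.2 ⟨d, hd⟩) ((Commute.refl t).mul_right hzt.symm)
    exact ne_one_of_orderOf_two hz2 (by simpa using h2)
  obtain ⟨k, hk⟩ := he
  omega

end H6
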