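import Mathlib
import Cfsg.Agent.H6.StrongEmb

/-!
# Brauer–Fowler type bounds and the Thompson order formula
-/

set_option autoImplicit false

namespace H6

open scoped Pointwise

variable {G : Type*} [Group G]

theorem card_isConj_eq_index (x : G) :
    Nat.card {y : G // IsConj x y} = (Subgroup.centralizer ({x} : Set G)).index := by
  symm
  refine Nat.card_congr (Equiv.ofBijective
    (fun q => Quotient.liftOn' q (fun g => ⟨g * x * g⁻¹, isConj_iff.2 ⟨g, rfl⟩⟩) ?_) ⟨?_, ?_⟩)
  · intro a b hab
    rw [QuotientGroup.leftRel_apply, mem_centralizer_singleton] at hab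
    apply Subtype.ext
    calc a * x * a⁻¹ = a * (x * (a⁻¹ * b)) * b⁻¹ := by group
      _ = b * x * b⁻¹ := by rw [← hab]; group
  · intro a b
    induction a using QuotientGroup.induction_on with | H a => ?_
    induction b using QuotientGroup.induction_on with | H b => ?_
    intro hab
    have h : a * x * a⁻¹ = b * x * b⁻¹ := congrArg Subtype.val hab
    rw [QuotientGroup.eq, mem_centralizer_singleton]
    calc a⁻¹ * b * x = a⁻¹ * (b * x * b⁻¹) * b := by group
      _ = x * (a⁻¹ * b) := by rw [← h]; group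
  · rintro ⟨y, hy⟩
    obtain ⟨g, rfl⟩ := isConj_iff.1 hy
    exact ⟨(g : G ⧸ _), rfl⟩

theorem card_centralizer_mul_card_isConj (x : G) :
    Nat.card (Subgroup.centralizer ({x} : Set G)) * Nat.card {y : G // IsConj x y} =
      Nat.card G := by
  rw [card_isConj_eq_index, Subgroup.card_mul_index]

theorem card_centralizer_conj (g x : G) :
    Nat.card (Subgroup.centralizer ({g * x * g⁻¹} : Set G)) =
      Nat.card (Subgroup.centralizer ({x} : Set G)) := by
  refine Nat.card_congr
    { toFun := fun c => ⟨g⁻¹ * c.1 * g, ?_⟩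
      invFun := fun c => ⟨g * c.1 * g⁻¹, ?_⟩
      left_inv := fun c => Subtype.ext (by simp only; group)
      right_inv := fun c => Subtype.ext (by simp only; group) }
  · have := mem_centralizer_singleton.1 c.2
    rw [mem_centralizer_singleton]
    calc g⁻¹ * c.1 * g * x = g⁻¹ * (c.1 * (g * x * g⁻¹)) * g := by group
      _ = x * (g⁻¹ * c.1 * g) := by rw [this]; group
  · have := mem_centralizer_singleton.1 c.2
    rw [mem_centralizer_singleton]
    calc g * c.1 * g⁻¹ * (g * x * g⁻¹) = g * (c.1 * x) * g⁻¹ := by group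
      _ = g * x * g⁻¹ * (g * c.1 * g⁻¹) := by rw [this]; group

theorem card_centralizer_of_isConj {x y : G} (h : IsConj x y) :
    Nat.card (Subgroup.centralizer ({x} : Set G)) =
      Nat.card (Subgroup.centralizer ({y} : Set G)) := by
  obtain ⟨g, rfl⟩ := isConj_iff.1 h
  rw [card_centralizer_conj]

theorem brauer_cube_bound [Finite G] (s t : G) (hs : orderOf s = 2) (ht : orderOf t = 2)
    (hnc : ¬ IsConj s t)
    (hmax : ∀ u : G, orderOf u = 2 → Nat.card (Subgroup.centralizer ({u} : Set G)) ≤
      Nat.card (Subgroup.centralizer ({t} : Set G))) :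
    Nat.card G < Nat.card (Subgroup.centralizer ({t} : Set G)) ^ 3 := by
  classical
  have := Fintype.ofFinite G
  set c := Nat.card (Subgroup.centralizer ({t} : Set G)) with hc
  have hcpos : 0 < c := Nat.card_pos
  let Z : Finset G := Finset.univ.filter fun z => orderOf z = 2 ∧ z * s = s * z
  have hZ : Z.card < c := by
    refine lt_of_lt_of_le ?_ (hmax s hs)
    have h1 : Nat.card (Subgroup.centralizer ({s} : Set G)) =
        (Finset.univ.filter fun z : G => z * s = s * z).card := by
      rw [← Fintype.card_subtype, ← Nat.card_eq_fintype_card]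
      exact Nat.card_congr (Equiv.subtypeEquivRight fun z => by simp [mem_centralizer_singleton])
    rw [h1]
    apply Finset.card_lt_card
    refine ⟨fun z hz => ?_, fun h => ?_⟩
    · simp only [Z, Finset.mem_filter, Finset.mem_univ, true_and] at hz ⊢
      exact hz.2
    · have := h (show (1 : G) ∈ _ by simp)
      simp [Z] at this
  have hK : (Finset.univ.filter fun y : G => IsConj t y) ⊆
      Z.biUnion fun z => Finset.univ.filter fun y : G => y * z = z * y := by
    intro y hy
    simp only [Finset.mem_filter, Finset.mem_univ, true_and] at hy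
    have hy2 : orderOf y = 2 := by rw [← orderOf_of_isConj hy, ht]
    have he : Even (orderOf (s * y)) := by
      rw [← Nat.not_odd_iff_even]
      intro ho
      exact hnc ((isConj_of_odd (mul_self_of_orderOf_two hs) (mul_self_of_orderOf_two hy2)
        ho).trans hy.symm)
    obtain ⟨h1, h2, h3⟩ := central_involution (mul_self_of_orderOf_two hs)
      (mul_self_of_orderOf_two hy2) he
    simp only [Finset.mem_biUnion, Z, Finset.mem_filter, Finset.mem_univ, true_and]
    exact ⟨_, ⟨h1, h2.eq⟩, h3.eq.symm⟩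
  have hK2 : Nat.card {y : G // IsConj t y} ≤ Z.card * c := by
    rw [Nat.card_eq_fintype_card, Fintype.card_subtype]
    refine (Finset.card_le_card hK).trans (Finset.card_biUnion_le_card_mul _ _ _ ?_)
    intro z hz
    simp only [Z, Finset.mem_filter, Finset.mem_univ, true_and] at hz
    refine le_trans (le_of_eq ?_) (hmax z hz.1)
    rw [← Fintype.card_subtype, ← Nat.card_eq_fintype_card]
    exact Nat.card_congr (Equiv.subtypeEquivRight fun y => by simp [mem_centralizer_singleton])
  rw [← card_centralizer_mul_card_isConj t, ← hc]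
  calc c * Nat.card {y : G // IsConj t y} ≤ c * (Z.card * c) := Nat.mul_le_mul_left _ hK2
    _ < c * (c * c) := by gcongr
    _ = c ^ 3 := by ring

theorem eq_of_mem_zpowers_of_orderOf_two [Finite G] {r a b : G} (ha : a ∈ Subgroup.zpowers r)
    (hb : b ∈ Subgroup.zpowers r) (ha2 : orderOf a = 2) (hb2 : orderOf b = 2) : a = b := by
  have key : ∀ a ∈ Subgroup.zpowers r, orderOf a = 2 → a = r ^ (orderOf r / 2) := by
    intro a ha ha2
    rw [← mem_powers_iff_mem_zpowers] at ha
    obtain ⟨k, rfl⟩ := ha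
    simp only at ha2 ⊢
    have hpos := orderOf_pos r
    rw [← pow_mod_orderOf] at ha2 ⊢
    have hlt := Nat.mod_lt k hpos
    generalize k % orderOf r = j at *
    have h1 := mul_self_of_orderOf_two ha2
    rw [← pow_add, ← orderOf_dvd_iff_pow_eq_one] at h1
    have hj : j ≠ 0 := by
      rintro rfl
      simp at ha2
    obtain ⟨m, hm⟩ := h1
    have hm1 : m = 1 := by
      rcases m with _ | _ | m
      · omega
      · rfl
      · nlinarith
    congr 1
    rw [hm1] at hm
    omega
  rw [key a ha ha2, key b hb hb2]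

theorem thompson_order_formula [Finite G] (x₁ x₂ : G) (h₁ : orderOf x₁ = 2) (h₂ : orderOf x₂ = 2)
    (hnc : ¬ IsConj x₁ x₂) (hall : ∀ t : G, orderOf t = 2 → IsConj x₁ t ∨ IsConj x₂ t) :
    Nat.card G = Nat.card (Subgroup.centralizer ({x₂} : Set G)) *
      Nat.card {p : G × G // IsConj x₁ p.1 ∧ IsConj x₂ p.2 ∧ x₁ ∈ Subgroup.zpowers (p.1 * p.2)} +
      Nat.card (Subgroup.centralizer ({x₁} : Set G)) *
      Nat.card {p : G × G // IsConj x₁ p.1 ∧ IsConj x₂ p.2 ∧
        x₂ ∈ Subgroup.zpowers (p.1 * p.2)} := by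
  classical
  have := Fintype.ofFinite G
  let n : G → ℕ := fun z =>
    Nat.card {p : G × G // IsConj x₁ p.1 ∧ IsConj x₂ p.2 ∧ z ∈ Subgroup.zpowers (p.1 * p.2)}
  have hn : ∀ x z : G, IsConj x z → n z = n x := by
    intro x z hxz
    obtain ⟨g, rfl⟩ := isConj_iff.1 hxz
    symm
    refine Nat.card_congr (Equiv.subtypeEquiv
      (Equiv.prodCongr (MulAut.conj g).toEquiv (MulAut.conj g).toEquiv) ?_)
    rintro ⟨u, v⟩
    have e1 : ∀ a b : G, IsConj a b ↔ IsConj a (g * b * g⁻¹) := fun a b =>
      ⟨fun h => h.trans (isConj_iff.2 ⟨g, rfl⟩), fun h => h.trans (isConj_iff.2 ⟨g, rfl⟩).symm⟩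
    refine and_congr (e1 _ _) (and_congr (e1 _ _) ?_)
    show _ ↔ g * x * g⁻¹ ∈ Subgroup.zpowers (g * u * g⁻¹ * (g * v * g⁻¹))
    rw [conj_mul]
    constructor
    · rintro ⟨k, hk⟩
      exact ⟨k, by simp only at hk ⊢; rw [conj_zpow, hk]⟩
    · rintro ⟨k, hk⟩
      simp only [conj_zpow] at hk
      exact ⟨k, by simpa using hk⟩
  let Ω : Finset (G × G) := Finset.univ.filter fun p => IsConj x₁ p.1 ∧ IsConj x₂ p.2
  let K₁ : Finset G := Finset.univ.filter fun y => IsConj x₁ y
  let K₂ : Finset G := Finset.univ.filter fun y => IsConj x₂ y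
  have hΩ : Ω = K₁ ×ˢ K₂ := by
    ext p
    simp [Ω, K₁, K₂]
  have hK₁ : Nat.card {y : G // IsConj x₁ y} = K₁.card := by
    rw [Nat.card_eq_fintype_card, Fintype.card_subtype]
  have hK₂ : Nat.card {y : G // IsConj x₂ y} = K₂.card := by
    rw [Nat.card_eq_fintype_card, Fintype.card_subtype]
  have hdisj : Disjoint K₁ K₂ := by
    rw [Finset.disjoint_left]
    intro y hy1 hy2
    simp only [K₁, K₂, Finset.mem_filter, Finset.mem_univ, true_and] at hy1 hy2
    exact hnc (hy1.trans hy2.symm)
  have hf : ∀ p ∈ Ω, orderOf ((p.1 * p.2) ^ (orderOf (p.1 * p.2) / 2)) = 2 := by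
    intro p hp
    simp only [Ω, Finset.mem_filter, Finset.mem_univ, true_and] at hp
    apply orderOf_pow_half
    rw [← Nat.not_odd_iff_even]
    intro ho
    have hu : orderOf p.1 = 2 := by rw [← orderOf_of_isConj hp.1, h₁]
    have hv : orderOf p.2 = 2 := by rw [← orderOf_of_isConj hp.2, h₂]
    exact hnc (hp.1.trans ((isConj_of_odd (mul_self_of_orderOf_two hu)
      (mul_self_of_orderOf_two hv) ho).trans hp.2.symm))
  have hmaps : ∀ p ∈ Ω, (p.1 * p.2) ^ (orderOf (p.1 * p.2) / 2) ∈ K₁.disjUnion K₂ hdisj := by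
    intro p hp
    simp only [Finset.mem_disjUnion, K₁, K₂, Finset.mem_filter, Finset.mem_univ, true_and]
    exact hall _ (hf p hp)
  have hfib : ∀ z : G, orderOf z = 2 →
      (Ω.filter fun p => (p.1 * p.2) ^ (orderOf (p.1 * p.2) / 2) = z).card = n z := by
    intro z hz
    simp only [n]
    rw [Nat.card_eq_fintype_card, Fintype.card_subtype]
    congr 1
    ext p
    simp only [Finset.mem_filter, Finset.mem_univ, true_and]
    constructor
    · rintro ⟨hp, rfl⟩
      simp only [Ω, Finset.mem_filter, Finset.mem_univ, true_and] at hp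
      exact ⟨hp.1, hp.2, Subgroup.pow_mem _ (Subgroup.mem_zpowers _) _⟩
    · rintro ⟨h1, h2, h3⟩
      have hp : p ∈ Ω := by
        simp only [Ω, Finset.mem_filter, Finset.mem_univ, true_and]
        exact ⟨h1, h2⟩
      exact ⟨hp, eq_of_mem_zpowers_of_orderOf_two (Subgroup.pow_mem _ (Subgroup.mem_zpowers _) _)
        h3 (hf p hp) hz⟩
  have hsum := Finset.card_eq_sum_card_fiberwise hmaps
  rw [Finset.sum_disjUnion, hΩ, Finset.card_product, ← hΩ] at hsum
  have e1 : ∑ z ∈ K₁, (Ω.filter fun p => (p.1 * p.2) ^ (orderOf (p.1 * p.2) / 2) = z).card =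
      K₁.card * n x₁ := by
    rw [← smul_eq_mul, ← Finset.sum_const]
    refine Finset.sum_congr rfl fun z hz => ?_
    simp only [K₁, Finset.mem_filter, Finset.mem_univ, true_and] at hz
    rw [hfib z (by rw [← orderOf_of_isConj hz, h₁]), hn _ _ hz]
  have e2 : ∑ z ∈ K₂, (Ω.filter fun p => (p.1 * p.2) ^ (orderOf (p.1 * p.2) / 2) = z).card =
      K₂.card * n x₂ := by
    rw [← smul_eq_mul, ← Finset.sum_const]
    refine Finset.sum_congr rfl fun z hz => ?_
    simp only [K₂, Finset.mem_filter, Finset.mem_univ, true_and] at hz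
    rw [hfib z (by rw [← orderOf_of_isConj hz, h₂]), hn _ _ hz]
  rw [e1, e2] at hsum
  have c1 := card_centralizer_mul_card_isConj x₁
  have c2 := card_centralizer_mul_card_isConj x₂
  rw [hK₁] at c1
  rw [hK₂] at c2
  have hpos : 0 < Nat.card G := Nat.card_pos
  change Nat.card G = _ * n x₁ + _ * n x₂
  generalize Nat.card (Subgroup.centralizer ({x₁} : Set G)) = a at *
  generalize Nat.card (Subgroup.centralizer ({x₂} : Set G)) = b at *
  apply Nat.eq_of_mul_eq_mul_left hpos
  calc Nat.card G * Nat.card G = (a * K₁.card) * (b * K₂.card) := by rw [c1, c2]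
    _ = a * b * (K₁.card * K₂.card) := by ring
    _ = (a * K₁.card) * (b * n x₁) + (b * K₂.card) * (a * n x₂) := by rw [hsum]; ring
    _ = Nat.card G * (b * n x₁ + a * n x₂) := by rw [c1, c2]; ring

/-- The extended centralizer `{g | g x g⁻¹ ∈ {x, x⁻¹}}`. -/
def extCent (x : G) : Subgroup G where
  carrier := {g | g * x * g⁻¹ = x ∨ g * x * g⁻¹ = x⁻¹}
  one_mem' := Or.inl (by simp)
  mul_mem' := by
    rintro a b ha hb
    have e : a * b * x * (a * b)⁻¹ = a * (b * x * b⁻¹) * a⁻¹ := by group
    simp only [Set.mem_ofPred_eq] at ha hb ⊢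
    rw [e]
    rcases hb with hb | hb <;> rw [hb]
    · exact ha
    · rw [← conj_inv]
      rcases ha with ha | ha <;> rw [ha] <;> simp
  inv_mem' := by
    rintro a (ha | ha)
    · left
      nth_rewrite 1 [← ha]
      group
    · right
      have : a * x⁻¹ * a⁻¹ = x := by rw [← conj_inv, ha, inv_inv]
      nth_rewrite 1 [← this]
      group

theorem card_extCent [Finite G] {x : G} (hreal : IsConj x x⁻¹) (hx : x ≠ x⁻¹) :
    Nat.card (extCent x) = 2 * Nat.card (Subgroup.centralizer ({x} : Set G)) := by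
  rw [two_mul]
  nth_rewrite 2 [← card_inverting x hreal]
  rw [← Nat.card_sum]
  symm
  refine Nat.card_congr (Equiv.ofBijective (fun o => match o with
    | Sum.inl c => ⟨c.1, Or.inl (by rw [mem_centralizer_singleton.1 c.2]; group)⟩
    | Sum.inr c => ⟨c.1, Or.inr c.2⟩) ⟨?_, ?_⟩)
  · rintro (⟨a, ha⟩ | ⟨a, ha⟩) (⟨b, hb⟩ | ⟨b, hb⟩) hab <;>
      obtain rfl : a = b := congrArg Subtype.val hab
    · rfl
    · exfalso
      rw [mem_centralizer_singleton.1 ha, mul_inv_cancel_right] at hb
      exact hx hb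
    · exfalso
      rw [mem_centralizer_singleton.1 hb, mul_inv_cancel_right] at ha
      exact hx ha
    · rfl
  · rintro ⟨g, hg | hg⟩
    · exact ⟨Sum.inl ⟨g, mem_centralizer_singleton.2 (mul_inv_eq_iff_eq_mul.1 hg)⟩, rfl⟩
    · exact ⟨Sum.inr ⟨g, hg⟩, rfl⟩

theorem brauer_fowler_ineq [Finite G] (hZ : ∀ t : G, orderOf t = 2 → t ∉ Subgroup.center G)
    (j : ℕ) (hj : ∀ H : Subgroup G, H ≠ ⊤ → j ≤ H.index) (h2 : ∀ H : Subgroup G, H.index ≠ 2) :
    2 * j * (Nat.card {t : G // orderOf t = 2}) ^ 2 <
      Nat.card G * (Nat.card G + Nat.card {t : G // orderOf t = 2}) := by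
  classical
  have := Fintype.ofFinite G
  set n := Nat.card {t : G // orderOf t = 2} with hn
  set N := Nat.card G with hN
  have hNpos : 0 < N := Nat.card_pos
  let I : Finset G := Finset.univ.filter fun t => orderOf t = 2
  have hI : I.card = n := by rw [hn, Nat.card_eq_fintype_card, Fintype.card_subtype]
  let c : G → ℕ := fun x =>
    Nat.card {p : G × G // orderOf p.1 = 2 ∧ orderOf p.2 = 2 ∧ p.1 * p.2 = x}
  have hsum : ∑ x : G, c x = n ^ 2 := by
    rw [← hI, pow_two, ← Finset.card_product,
      Finset.card_eq_sum_card_fiberwise (f := fun p : G × G => p.1 * p.2) (t := Finset.univ)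
        (fun _ _ => Finset.mem_univ _)]
    refine Finset.sum_congr rfl fun x _ => ?_
    simp only [c]
    rw [Nat.card_eq_fintype_card, Fintype.card_subtype]
    congr 1
    ext p
    simp [I, and_assoc]
  have hc1 : c 1 ≤ n := by
    refine (card_pairs_le_inverting 1).trans ?_
    exact Nat.card_le_card_of_injective (fun t => ⟨t.1, t.2.1⟩)
      (fun a b hab => Subtype.ext (by simpa using hab))
  have hjH : ∀ H : Subgroup G, H ≠ ⊤ → j * Nat.card H ≤ N := by
    intro H hH
    rw [hN, ← H.index_mul_card]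
    exact Nat.mul_le_mul_right _ (hj H hH)
  have hinv : ∀ x : G, orderOf x = 2 → 2 * j * c x + 4 * j ≤ 2 * N := by
    intro x hx
    have h1 := card_pairs_add_two_le x hx
    have h3 := hjH (Subgroup.centralizer ({x} : Set G)) (by
      intro h
      apply hZ x hx
      rw [Subgroup.mem_center_iff]
      intro g
      exact mem_centralizer_singleton.1 (h ▸ Subgroup.mem_top g))
    calc 2 * j * c x + 4 * j = 2 * (j * (c x + 2)) := by ring
      _ ≤ 2 * (j * Nat.card (Subgroup.centralizer ({x} : Set G))) := by gcongr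
      _ ≤ 2 * N := by gcongr
  have hoth : ∀ x : G, x ≠ 1 → orderOf x ≠ 2 → 2 * j * c x ≤ N := by
    intro x hx1 hx2
    by_cases hreal : IsConj x x⁻¹
    · have hne : x ≠ x⁻¹ := fun h =>
        hx2 (orderOf_eq_two_of (by nth_rewrite 1 [h]; rw [inv_mul_cancel]) hx1)
      have h1 := card_extCent hreal hne
      have h3 := hjH (extCent x) (by
        intro h
        rw [h, Subgroup.card_top] at h1
        apply h2 (Subgroup.centralizer ({x} : Set G))
        have h4 := (Subgroup.centralizer ({x} : Set G)).index_mul_card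
        rw [h1] at h4
        exact Nat.eq_of_mul_eq_mul_right Nat.card_pos h4)
      have h5 := card_pairs_le_centralizer x
      calc 2 * j * c x = j * (2 * c x) := by ring
        _ ≤ j * (2 * Nat.card (Subgroup.centralizer ({x} : Set G))) := by gcongr
        _ ≤ N := by rw [← h1]; exact h3
    · simp only [c]
      rw [card_pairs_eq_zero x hreal]
      simp
  have hpt : ∀ x : G, 2 * j * c x + (if orderOf x = 2 then 4 * j else 0) +
      (if x = 1 then N else 0) ≤
      (if x = 1 then 2 * j * n else 0) + (if orderOf x = 2 then N else 0) + N := by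
    intro x
    by_cases hx1 : x = 1
    · subst hx1
      have := Nat.mul_le_mul_left (2 * j) hc1
      simp
      omega
    · by_cases hx2 : orderOf x = 2
      · have := hinv x hx2
        simp [hx1, hx2]
        omega
      · have := hoth x hx1 hx2
        simp [hx1, hx2]
        omega
  have htot := Finset.sum_le_sum (s := Finset.univ) fun x _ => hpt x
  simp only [Finset.sum_add_distrib, ← Finset.mul_sum, hsum, Finset.sum_ite_eq',
    Finset.mem_univ, if_true, Finset.sum_const, smul_eq_mul, Finset.card_univ] at htot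
  rw [← Finset.sum_filter, ← Finset.sum_filter, Finset.sum_const, Finset.sum_const, hI,
    ← Nat.card_eq_fintype_card, ← hN] at htot
  simp only [smul_eq_mul] at htot
  nlinarith

theorem not_mem_center_of_odd [Finite G] (hZ : Odd (Nat.card (Subgroup.center G))) (t : G)
    (ht : orderOf t = 2) : t ∉ Subgroup.center G := fun h => odd_card_iff.1 hZ t h ht

theorem exists_min_index [Finite G] [Nontrivial G] :
    ∃ H : Subgroup G, H ≠ ⊤ ∧ ∀ K : Subgroup G, K ≠ ⊤ → H.index ≤ K.index := by
  obtain ⟨H, hH, hmin⟩ := Set.exists_min_image {H : Subgroup G | H ≠ ⊤} Subgroup.index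
    (Set.toFinite _) ⟨⊥, bot_ne_top⟩
  exact ⟨H, hH, hmin⟩

theorem brauer_fowler_index [Finite G] (heven : Even (Nat.card G))
    (hZ : Odd (Nat.card (Subgroup.center G))) :
    ∃ H : Subgroup G, H ≠ ⊤ ∧ (H.index = 2 ∨
      2 * H.index * (Nat.card {t : G // orderOf t = 2}) ^ 2 <
        Nat.card G * (Nat.card G + Nat.card {t : G // orderOf t = 2})) := by
  by_cases h2 : ∃ H : Subgroup G, H.index = 2
  · obtain ⟨H, hH⟩ := h2
    refine ⟨H, ?_, Or.inl hH⟩
    rintro rfl
    simp at hH
  · push Not at h2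
    obtain ⟨t, ht⟩ := exists_involution_of_even heven
    have : Nontrivial G := ⟨⟨t, 1, ne_one_of_orderOf_two ht⟩⟩
    obtain ⟨H, hH, hmin⟩ := exists_min_index (G := G)
    exact ⟨H, hH, Or.inr (brauer_fowler_ineq (not_mem_center_of_odd hZ) _ hmin h2)⟩

theorem card_dvd_factorial_index [Finite G] [IsSimpleGroup G] {H : Subgroup G} (hH : H ≠ ⊤) :
    Nat.card G ∣ (H.index).factorial := by
  have hker : (MulAction.toPermHom G (G ⧸ H)).ker = ⊥ := by
    rw [← Subgroup.normalCore_eq_ker]
    refine (H.normalCore_normal.eq_bot_or_eq_top).resolve_right fun h => hH ?_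
    exact eq_top_iff.2 (h ▸ H.normalCore_le)
  have := Subgroup.card_dvd_of_injective _ ((MonoidHom.ker_eq_bot_iff _).1 hker)
  rwa [Nat.card_perm] at this

theorem card_eq_two_of_simple_of_index_two [Finite G] [IsSimpleGroup G] {H : Subgroup G}
    (hH : H.index = 2) : Nat.card G = 2 := by
  rcases (Subgroup.normal_of_index_eq_two hH).eq_bot_or_eq_top with h | h
  · rw [h, Subgroup.index_bot] at hH
    exact hH
  · rw [h] at hH
    simp at hH

theorem not_mem_center_of_simple [Finite G] [IsSimpleGroup G] (hgt : Nat.card G ≠ 2) (t : G)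
    (ht : orderOf t = 2) : t ∉ Subgroup.center G := by
  intro h
  have hn : (Subgroup.zpowers t).Normal := by
    constructor
    rintro _ ⟨k, rfl⟩ g
    have := Subgroup.mem_center_iff.1 ((Subgroup.center G).zpow_mem h k) g
    simp only
    rw [this, mul_inv_cancel_right]
    exact ⟨k, rfl⟩
  rcases hn.eq_bot_or_eq_top with h1 | h1
  · rw [Subgroup.zpowers_eq_bot] at h1
    exact ne_one_of_orderOf_two ht h1
  · apply hgt
    rw [← ht, ← Nat.card_zpowers, h1, Subgroup.card_top]

theorem card_le_mul_card_involutions [Finite G] (t : G) (ht : orderOf t = 2) :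
    Nat.card G ≤ Nat.card (Subgroup.centralizer ({t} : Set G)) *
      Nat.card {t : G // orderOf t = 2} := by
  rw [← card_centralizer_mul_card_isConj t]
  refine Nat.mul_le_mul_left _ ?_
  exact Nat.card_le_card_of_injective (fun y => ⟨y.1, by rw [← orderOf_of_isConj y.2, ht]⟩)
    (fun a b hab => Subtype.ext (by simpa using hab))

theorem two_mul_lt_of_ineq {j n N c : ℕ} (h : 2 * j * n ^ 2 < N * (N + n)) (hN : N ≤ c * n) :
    2 * j < c * (c + 1) := by
  have h1 : N * (N + n) ≤ (c * (c + 1)) * n ^ 2 := by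
    calc N * (N + n) ≤ (c * n) * (c * n + n) := by gcongr
      _ = (c * (c + 1)) * n ^ 2 := by ring
  exact lt_of_mul_lt_mul_right (h.trans_le h1) (Nat.zero_le _)

theorem brauer_fowler_bound [Finite G] [IsSimpleGroup G] (t : G) (ht : orderOf t = 2) :
    Nat.card G ≤ Nat.factorial (2 * (Nat.card (Subgroup.centralizer ({t} : Set G))) ^ 2) := by
  set c := Nat.card (Subgroup.centralizer ({t} : Set G)) with hc
  have hcpos : 0 < c := Nat.card_pos
  by_cases h2 : Nat.card G = 2
  · rw [h2]
    refine le_trans ?_ (Nat.self_le_factorial _)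
    nlinarith
  obtain ⟨H, hH, hmin⟩ := exists_min_index (G := G)
  have h3 := brauer_fowler_ineq (not_mem_center_of_simple h2) _ hmin
    (fun K hK => h2 (card_eq_two_of_simple_of_index_two hK))
  have h4 := two_mul_lt_of_ineq h3 (card_le_mul_card_involutions t ht)
  refine (Nat.le_of_dvd (Nat.factorial_pos _) (card_dvd_factorial_index hH)).trans
    (Nat.factorial_le ?_)
  rw [← hc] at h4
  nlinarith

theorem exists_large_of_index_two [Finite G] (hgt : 2 < Nat.card G) {H : Subgroup G}
    (hH : H.index = 2) : H ≠ ⊤ ∧ Nat.card G < (Nat.card H) ^ 3 := by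
  refine ⟨?_, ?_⟩
  · rintro rfl
    simp at hH
  · have h1 := H.index_mul_card
    rw [hH] at h1
    rw [← h1] at hgt ⊢
    have : 2 ≤ Nat.card H := by omega
    calc 2 * Nat.card H < (2 * 2) * Nat.card H := by omega
      _ ≤ (Nat.card H * Nat.card H) * Nat.card H := by gcongr
      _ = Nat.card H ^ 3 := by ring

end H6
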