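import Mathlib
import Cfsg.Agent.H6.BrauerFowler

/-!
# Cyclic and Klein four Sylow 2-subgroups, Thompson transfer, small consequences
-/

set_option autoImplicit false

namespace H6

open scoped Pointwise

universe u

variable {G : Type*} [Group G]

theorem exists_index_prime_of_isPGroup [Finite G] [Nontrivial G] {p : ℕ} [hp : Fact p.Prime]
    (hG : IsPGroup p G) : ∃ H : Subgroup G, H.index = p := by
  obtain ⟨n, hn, hcard⟩ := hG.nontrivial_iff_card.1 inferInstance
  obtain ⟨m, rfl⟩ := Nat.exists_eq_succ_of_ne_zero hn.ne'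
  obtain ⟨H, hH⟩ := Sylow.exists_subgroup_card_pow_prime (G := G) p (n := m)
    (by rw [hcard]; exact pow_dvd_pow _ (Nat.le_succ m))
  refine ⟨H, ?_⟩
  have := H.index_mul_card
  rw [hH, hcard, pow_succ'] at this
  exact Nat.eq_of_mul_eq_mul_right (pow_pos hp.out.pos m) this

theorem exists_index_prime_of_normal [Finite G] {p : ℕ} [hp : Fact p.Prime] (N : Subgroup G)
    [N.Normal] (hN : N ≠ ⊤) (hG : IsPGroup p (G ⧸ N)) : ∃ H : Subgroup G, H.index = p := by
  have : Nontrivial (G ⧸ N) := QuotientGroup.nontrivial_iff.2 hN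
  obtain ⟨H, hH⟩ := exists_index_prime_of_isPGroup hG
  exact ⟨H.comap (QuotientGroup.mk' N), by
    rw [Subgroup.index_comap_of_surjective _ (QuotientGroup.mk'_surjective N), hH]⟩

theorem exists_index_prime_of_isComplement' [Finite G] {p : ℕ} [hp : Fact p.Prime]
    {N P : Subgroup G} [N.Normal] (hP : IsPGroup p P) (hne : P ≠ ⊥) (h : N.IsComplement' P) :
    ∃ H : Subgroup G, H.index = p := by
  apply exists_index_prime_of_normal N
  · rintro rfl
    exact hne (Subgroup.isComplement'_top_left.1 h)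
  · obtain ⟨n, hn⟩ := IsPGroup.iff_card.1 hP
    exact IsPGroup.of_card (n := n) (by rw [← hn, ← h.symm.index_eq_card]; rfl)

theorem exists_normal_complement_of_cyclic [Finite G] (T : Sylow 2 G)
    (hT : IsCyclic (T : Subgroup G)) :
    ∃ N : Subgroup G, N.Normal ∧ N.IsComplement' (T : Subgroup G) := by
  rcases Nat.even_or_odd (Nat.card G) with heven | hodd
  · have hp : (Nat.card G).minFac = 2 := (Nat.minFac_eq_two_iff _).2 (even_iff_two_dvd.1 heven)
    exact ⟨_, inferInstance, IsCyclic.isComplement' hp hT⟩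
  · have : (T : Subgroup G) = ⊥ := by
      by_contra hne
      obtain ⟨t, -, ht⟩ := exists_involution_mem_of_isPGroup T.2 hne
      exact (Nat.not_even_iff_odd.2 hodd) (even_card_of_orderOf_two ht)
    rw [this]
    exact ⟨⊤, inferInstance, Subgroup.isComplement'_top_bot⟩

theorem exists_index_two_of_cyclic_sylow [Finite G] (heven : Even (Nat.card G)) (T : Sylow 2 G)
    (hT : IsCyclic (T : Subgroup G)) : ∃ H : Subgroup G, H.index = 2 := by
  obtain ⟨N, hN, h⟩ := exists_normal_complement_of_cyclic T hT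
  exact exists_index_prime_of_isComplement' T.2
    (T.ne_bot_of_dvd_card (even_iff_two_dvd.1 heven)) h

theorem eq_of_isCyclic_of_orderOf_two [Finite G] {S : Subgroup G} (hS : IsCyclic S) {a b : G}
    (ha : a ∈ S) (hb : b ∈ S) (ha2 : orderOf a = 2) (hb2 : orderOf b = 2) : a = b := by
  obtain ⟨r, hr⟩ := (Subgroup.isCyclic_iff_exists_zpowers_eq_top S).1 hS
  rw [← hr] at ha hb
  exact eq_of_mem_zpowers_of_orderOf_two ha hb ha2 hb2

/-- A Sylow subgroup of a subgroup `H` is maximal among `p`-subgroups of `G` inside `H`. -/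
theorem eq_of_sylow_map_le {p : ℕ} {H : Subgroup G} (S : Sylow p H) {Q : Subgroup G}
    (hQ : IsPGroup p Q) (hQH : Q ≤ H) (h : (S : Subgroup H).map H.subtype ≤ Q) :
    Q = (S : Subgroup H).map H.subtype := by
  have h1 : Q.subgroupOf H = S := S.3 hQ.comap_subtype (Subgroup.map_le_iff_le_comap.1 h)
  rw [← h1, Subgroup.subgroupOf_map_subtype, inf_eq_left.2 hQH]

theorem exists_central_involution [Finite G] {T : Subgroup G} (hT : IsPGroup 2 T) (hne : T ≠ ⊥) :
    ∃ z ∈ T, orderOf z = 2 ∧ ∀ t ∈ T, t * z = z * t := by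
  have : Nontrivial T := (Subgroup.nontrivial_iff_ne_bot T).2 hne
  obtain ⟨z, hz, hz2⟩ := exists_involution_mem_of_isPGroup (hT.to_subgroup (Subgroup.center T))
    hT.bot_lt_center.ne'
  exact ⟨z, z.2, by rw [Subgroup.orderOf_coe, hz2],
    fun t ht => congrArg Subtype.val (Subgroup.mem_center_iff.1 hz ⟨t, ht⟩)⟩

theorem isPGroup_zpowers_of_orderOf_two {x : G} (hx : orderOf x = 2) :
    IsPGroup 2 (Subgroup.zpowers x) :=
  IsPGroup.of_card (n := 1) (by rw [Nat.card_zpowers, hx]; rfl)

theorem exists_index_two_of_cyclic_centralizer [Finite G] (x : G) (hx : orderOf x = 2)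
    (S : Sylow 2 ↥(Subgroup.centralizer ({x} : Set G)))
    (hS : IsCyclic (S : Subgroup ↥(Subgroup.centralizer ({x} : Set G)))) :
    ∃ H : Subgroup G, H.index = 2 := by
  let C := Subgroup.centralizer ({x} : Set G)
  let S' : Subgroup G := (S : Subgroup C).map C.subtype
  have hS' : IsCyclic S' :=
    ((S : Subgroup C).equivMapOfInjective C.subtype C.subtype_injective).isCyclic.1 hS
  have hxC : x ∈ C := mem_centralizer_singleton.2 rfl
  obtain ⟨T, hT⟩ := (S.2.map C.subtype).exists_le_sylow
  have h1 : (T : Subgroup G) ⊓ C = S' :=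
    eq_of_sylow_map_le S T.2.to_inf_left inf_le_right (le_inf hT (Subgroup.map_subtype_le _))
  have hxS : x ∈ S' := by
    have hn : (Subgroup.zpowers (⟨x, hxC⟩ : C)).Normal := by
      constructor
      rintro _ ⟨k, rfl⟩ g
      have : g * (⟨x, hxC⟩ : C) * g⁻¹ = ⟨x, hxC⟩ := by
        apply Subtype.ext
        have := mem_centralizer_singleton.1 g.2
        simp only [Subgroup.coe_mul, InvMemClass.coe_inv]
        rw [this, mul_inv_cancel_right]
      simp only
      rw [← conj_zpow, this]
      exact ⟨k, rfl⟩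
    have := IsPGroup.le_sylow_of_normal (isPGroup_zpowers_of_orderOf_two
      (x := (⟨x, hxC⟩ : C)) (by rw [Subgroup.orderOf_mk, hx])) S
    exact ⟨_, this (Subgroup.mem_zpowers _), rfl⟩
  have hxT : x ∈ (T : Subgroup G) := hT hxS
  obtain ⟨z, hzT, hz2, hz⟩ := exists_central_involution T.2 (by
    intro h
    rw [h, Subgroup.mem_bot] at hxT
    exact ne_one_of_orderOf_two hx hxT)
  have hzS : z ∈ S' := h1 ▸ ⟨hzT, mem_centralizer_singleton.2 (hz x hxT).symm⟩
  have hzx := eq_of_isCyclic_of_orderOf_two hS' hzS hxS hz2 hx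
  subst hzx
  have h2 : (T : Subgroup G) = S' := by
    rw [← h1, eq_comm, inf_eq_left]
    intro t ht
    exact mem_centralizer_singleton.2 (hz t ht)
  exact exists_index_two_of_cyclic_sylow (even_card_of_orderOf_two hx) T (h2 ▸ hS')

theorem card_involutions_quaternion (n : ℕ) :
    Nat.card {x : QuaternionGroup (2 ^ (n + 1)) // orderOf x = 2} = 1 := by
  set N := 2 ^ (n + 1) with hN
  have : NeZero N := ⟨by positivity⟩
  have hNpos : 0 < N := by positivity
  have h1 : orderOf (QuaternionGroup.a (N : ZMod (2 * N)) : QuaternionGroup N) = 2 := by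
    have := orderOf_pow_half (r := (QuaternionGroup.a 1 : QuaternionGroup N))
      (by rw [QuaternionGroup.orderOf_a_one]; exact even_two_mul N)
    rwa [QuaternionGroup.orderOf_a_one, Nat.mul_div_cancel_left _ two_pos,
      QuaternionGroup.a_one_pow] at this
  rw [Nat.card_eq_one_iff_exists]
  refine ⟨⟨_, h1⟩, ?_⟩
  rintro ⟨i | i, hi⟩
  · apply Subtype.ext
    refine eq_of_mem_zpowers_of_orderOf_two (r := QuaternionGroup.a 1) ?_ ?_ hi h1
    · have : NeZero (2 * N) := ⟨by omega⟩
      show QuaternionGroup.a i ∈ _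
      rw [← ZMod.natCast_zmod_val i, ← QuaternionGroup.a_one_pow]
      exact Subgroup.npow_mem_zpowers _ _
    · show QuaternionGroup.a (N : ZMod (2 * N)) ∈ _
      rw [← QuaternionGroup.a_one_pow]
      exact Subgroup.npow_mem_zpowers _ _
  · rw [QuaternionGroup.orderOf_xa] at hi
    omega

/-- A `p`-element of the normalizer of a Sylow `p`-subgroup lies in it; hence every element of
the normalizer is the product of an element of `P` and a power of it of order prime to `p`. -/
theorem pow_mem_sylow_of_mem_normalizer [Finite G] {p : ℕ} [Fact p.Prime] (P : Sylow p G) {n : G}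
    (hn : n ∈ Subgroup.normalizer ((P : Subgroup G) : Set G)) :
    ∃ m : ℕ, ¬ p ∣ m ∧ n ^ m ∈ (P : Subgroup G) := by
  obtain ⟨k, m, hm, h⟩ := Nat.exists_eq_pow_mul_and_not_dvd (orderOf_pos n).ne' p
    (Fact.out : p.Prime).ne_one
  refine ⟨m, hm, ?_⟩
  have h1 : IsPGroup p (Subgroup.zpowers (n ^ m)) := by
    apply IsPGroup.of_card_dvd_pow (n := k)
    rw [Nat.card_zpowers, orderOf_dvd_iff_pow_eq_one, ← pow_mul, mul_comm, ← h,
      pow_orderOf_eq_one]
  have h2 := h1.inf_normalizer_sylow P
  have h3 : n ^ m ∈ Subgroup.zpowers (n ^ m) ⊓ Subgroup.normalizer (P : Set G) :=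
    ⟨Subgroup.mem_zpowers _, Subgroup.pow_mem _ hn m⟩
  rw [h2] at h3
  exact h3.2

section Klein

variable [Finite G] (P : Sylow 2 G) (hP : IsKleinFour (P : Subgroup G))
include hP

omit [Finite G] in
theorem klein_comm {a b : G} (ha : a ∈ (P : Subgroup G)) (hb : b ∈ (P : Subgroup G)) :
    a * b = b * a :=
  congrArg Subtype.val ((IsKleinFour.isMulCommutative (G := (P : Subgroup G))).is_comm.comm
    ⟨a, ha⟩ ⟨b, hb⟩)

omit [Finite G] in
theorem klein_orderOf {a : G} (ha : a ∈ (P : Subgroup G)) (h1 : a ≠ 1) : orderOf a = 2 :=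
  orderOf_eq_two_of (congrArg Subtype.val (IsKleinFour.mul_self (⟨a, ha⟩ : (P : Subgroup G)))) h1

theorem klein_all_conj (h : ¬ Subgroup.normalizer ((P : Subgroup G) : Set G) ≤
    Subgroup.centralizer ((P : Subgroup G) : Set G)) (s t : G) (hs : orderOf s = 2)
    (ht : orderOf t = 2) : IsConj s t := by
  obtain ⟨n, hn, hnC⟩ := SetLike.not_le_iff_exists.1 h
  rw [Subgroup.mem_centralizer_iff] at hnC
  push Not at hnC
  obtain ⟨a, ha, hna⟩ := hnC
  obtain ⟨m, hm, hnm⟩ := pow_mem_sylow_of_mem_normalizer P hn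
  have hb : n * a * n⁻¹ ∈ (P : Subgroup G) := (Subgroup.mem_normalizer_iff.1 hn a).1 ha
  have hc : n * (n * a * n⁻¹) * n⁻¹ ∈ (P : Subgroup G) := (Subgroup.mem_normalizer_iff.1 hn _).1 hb
  have hab : n * a * n⁻¹ ≠ a := fun h => hna (mul_inv_eq_iff_eq_mul.1 h).symm
  have ha1 : a ≠ 1 := by
    rintro rfl
    simp at hab
  have hb1 : n * a * n⁻¹ ≠ 1 := by simpa using ha1
  have hc1 : n * (n * a * n⁻¹) * n⁻¹ ≠ 1 := by simpa using ha1
  have hcb : n * (n * a * n⁻¹) * n⁻¹ ≠ n * a * n⁻¹ := by simpa using hab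
  have hca : n * (n * a * n⁻¹) * n⁻¹ ≠ a := by
    intro h
    have h2 : Commute (n ^ 2) a := by
      show n ^ 2 * a = a * n ^ 2
      nth_rewrite 2 [← h]
      simp [pow_two, mul_assoc]
    have h3 : Commute (n ^ m) a := klein_comm P hP hnm ha
    obtain ⟨k, rfl⟩ : Odd m := by
      rwa [← Nat.not_even_iff_odd, even_iff_two_dvd]
    have h4 : Commute n a := by
      have := (h2.pow_left k).inv_left.mul_left h3
      rwa [← pow_mul, pow_succ, inv_mul_cancel_left] at this
    exact hna h4.eq.symm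
  have key : ∀ x ∈ (P : Subgroup G), x ≠ 1 → IsConj a x := by
    intro x hx hx1
    by_cases h1 : x = a
    · rw [h1]
    by_cases h2 : x = n * a * n⁻¹
    · exact isConj_iff.2 ⟨n, h2.symm⟩
    have e1 := IsKleinFour.eq_mul_of_ne_all (G := (P : Subgroup G)) (x := ⟨a, ha⟩)
      (y := ⟨_, hb⟩) (z := ⟨x, hx⟩) (by simpa using ha1) (by simpa using ha1)
      (by simpa using hab.symm) (by simpa using hx1) (by simpa using h1) (by simpa using h2)
    have e2 := IsKleinFour.eq_mul_of_ne_all (G := (P : Subgroup G)) (x := ⟨a, ha⟩)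
      (y := ⟨_, hb⟩) (z := ⟨_, hc⟩) (by simpa using ha1) (by simpa using ha1)
      (by simpa using hab.symm) (by simpa using ha1) (by simpa using hca) (by simpa using hab)
    have e3 : x = n * (n * a * n⁻¹) * n⁻¹ := congrArg Subtype.val (e1.trans e2.symm)
    exact isConj_iff.2 ⟨n * n, by rw [e3]; group⟩
  have key2 : ∀ x : G, orderOf x = 2 → IsConj a x := by
    intro x hx
    obtain ⟨g, hg⟩ := exists_conj_le_sylow P (isPGroup_zpowers_of_orderOf_two hx)
    exact (key _ (hg x (Subgroup.mem_zpowers x))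
      (by simpa using ne_one_of_orderOf_two hx)).trans (isConj_iff.2 ⟨g, rfl⟩).symm
  exact (key2 s hs).symm.trans (key2 t ht)

theorem klein_card_classes_eq_three (h : Subgroup.normalizer ((P : Subgroup G) : Set G) ≤
    Subgroup.centralizer ((P : Subgroup G) : Set G)) :
    Nat.card {C : ConjClasses G // ∃ t : G, orderOf t = 2 ∧ ConjClasses.mk t = C} = 3 := by
  have h3 : Nat.card {a : (P : Subgroup G) // a ≠ 1} = 3 := by
    classical
    have := Fintype.ofFinite (P : Subgroup G)
    rw [Nat.card_eq_fintype_card, Fintype.card_subtype_compl, ← Nat.card_eq_fintype_card,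
      hP.card_four, Fintype.card_subtype_eq]
  rw [← h3]
  symm
  refine Nat.card_congr (Equiv.ofBijective (fun a => ⟨ConjClasses.mk (a.1 : G), a.1,
    klein_orderOf P hP a.1.2 (by simpa using a.2), rfl⟩) ⟨?_, ?_⟩)
  · rintro ⟨⟨a, ha⟩, ha1⟩ ⟨⟨b, hb⟩, hb1⟩ hab
    have hconj : IsConj a b := ConjClasses.mk_eq_mk_iff_isConj.1 (congrArg Subtype.val hab)
    obtain ⟨g, rfl⟩ := isConj_iff.1 hconj
    have := IsKleinFour.isMulCommutative (G := (P : Subgroup G))
    obtain ⟨n, hn, he⟩ := Sylow.conj_eq_normalizer_conj_of_mem P a g⁻¹ ha (by rw [inv_inv]; exact hb)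
    have h4 := (Subgroup.mem_centralizer_iff.1 (h hn)) a ha
    rw [inv_inv, mul_assoc n⁻¹, h4, inv_mul_cancel_left] at he
    simp only [Subtype.mk.injEq]
    exact he.symm
  · rintro ⟨C, t, ht, rfl⟩
    obtain ⟨g, hg⟩ := exists_conj_le_sylow P (isPGroup_zpowers_of_orderOf_two ht)
    refine ⟨⟨⟨_, hg t (Subgroup.mem_zpowers t)⟩, by simpa using ne_one_of_orderOf_two ht⟩, ?_⟩
    apply Subtype.ext
    exact ConjClasses.mk_eq_mk_iff_isConj.2 (isConj_iff.2 ⟨g, rfl⟩).symm

theorem klein_card_classes_eq_one (h : ¬ Subgroup.normalizer ((P : Subgroup G) : Set G) ≤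
    Subgroup.centralizer ((P : Subgroup G) : Set G)) :
    Nat.card {C : ConjClasses G // ∃ t : G, orderOf t = 2 ∧ ConjClasses.mk t = C} = 1 := by
  obtain ⟨t, -, ht⟩ := exists_involution_mem_of_even (H := (P : Subgroup G))
    (by rw [hP.card_four]; decide)
  rw [Nat.card_eq_one_iff_exists]
  refine ⟨⟨_, t, ht, rfl⟩, ?_⟩
  rintro ⟨C, s, hs, rfl⟩
  exact Subtype.ext (ConjClasses.mk_eq_mk_iff_isConj.2 (klein_all_conj P hP h s t hs ht))

theorem klein_card_classes :
    Nat.card {C : ConjClasses G // ∃ t : G, orderOf t = 2 ∧ ConjClasses.mk t = C} = 1 ∨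
    Nat.card {C : ConjClasses G // ∃ t : G, orderOf t = 2 ∧ ConjClasses.mk t = C} = 3 := by
  by_cases h : Subgroup.normalizer ((P : Subgroup G) : Set G) ≤
    Subgroup.centralizer ((P : Subgroup G) : Set G)
  · exact Or.inr (klein_card_classes_eq_three P hP h)
  · exact Or.inl (klein_card_classes_eq_one P hP h)

end Klein

/-- If an abelian subgroup `P` has a normal complement, then `N(P) ≤ C(P)`. -/
theorem normalizer_le_centralizer_of_isComplement' {N P : Subgroup G} [N.Normal]
    (hcomm : ∀ a ∈ P, ∀ b ∈ P, a * b = b * a) (h : N.IsComplement' P) :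
    Subgroup.normalizer (P : Set G) ≤ Subgroup.centralizer (P : Set G) := by
  intro n hn
  rw [Subgroup.mem_centralizer_iff]
  intro a ha
  obtain ⟨⟨k, q⟩, rfl⟩ := h.2 n
  simp only at hn ⊢
  have h1 : a⁻¹ * ((k : G) * q * a * ((k : G) * q)⁻¹) ∈ P :=
    P.mul_mem (P.inv_mem ha) ((Subgroup.mem_normalizer_iff.1 hn a).1 ha)
  have h2 : a⁻¹ * ((k : G) * q * a * ((k : G) * q)⁻¹) ∈ N := by
    have e : a⁻¹ * ((k : G) * q * a * ((k : G) * q)⁻¹) = (a⁻¹ * k * a⁻¹⁻¹) * (k : G)⁻¹ := by
      rw [mul_assoc (k : G) q a, hcomm q q.2 a ha]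
      group
    rw [e]
    exact N.mul_mem (Subgroup.Normal.conj_mem inferInstance _ k.2 _) (N.inv_mem k.2)
  have h3 := Subgroup.disjoint_def.1 h.disjoint h2 h1
  calc a * ((k : G) * q) = a * (a⁻¹ * ((k : G) * q * a * ((k : G) * q)⁻¹)) * (k * q) := by
        rw [h3, mul_one]
    _ = (k : G) * q * a := by group

theorem klein_three_iff [Finite G] (P : Sylow 2 G) (hP : IsKleinFour (P : Subgroup G)) :
    Nat.card {C : ConjClasses G // ∃ t : G, orderOf t = 2 ∧ ConjClasses.mk t = C} = 3 ↔
      ∃ N : Subgroup G, N.Normal ∧ Subgroup.IsComplement' N (P : Subgroup G) := by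
  constructor
  · intro h3
    by_cases h : Subgroup.normalizer ((P : Subgroup G) : Set G) ≤
      Subgroup.centralizer ((P : Subgroup G) : Set G)
    · exact ⟨_, inferInstance, MonoidHom.ker_transferSylow_isComplement' P h⟩
    · rw [klein_card_classes_eq_one P hP h] at h3
      omega
  · rintro ⟨N, hN, h⟩
    exact klein_card_classes_eq_three P hP
      (normalizer_le_centralizer_of_isComplement' (fun a ha b hb => klein_comm P hP ha hb) h)

theorem equiv_alternating_four [Finite G] (hG : Nat.card G = 12)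
    (hz : ∀ z : G, orderOf z = 2 → z ∉ Subgroup.center G) :
    Nonempty (G ≃* alternatingGroup (Fin 4)) := by
  classical
  have : Fact (Nat.Prime 3) := ⟨Nat.prime_three⟩
  obtain ⟨q, hq⟩ := exists_prime_orderOf_dvd_card' (G := G) 3 (by rw [hG]; decide)
  set Q := Subgroup.zpowers q with hQ
  have hQ3 : Nat.card Q = 3 := by rw [hQ, Nat.card_zpowers, hq]
  have hQi : Q.index = 4 := by
    have := Q.index_mul_card
    rw [hQ3, hG] at this
    omega
  have hq1 : q ≠ 1 := by
    rintro rfl
    simp at hq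
  have hcore : Q.normalCore = ⊥ := by
    by_contra hne
    have h1 : Q.normalCore = Q := by
      apply Subgroup.eq_of_le_of_card_ge Q.normalCore_le
      have h2 := Subgroup.card_dvd_of_le Q.normalCore_le
      rw [hQ3] at h2 ⊢
      rcases (Nat.dvd_prime Nat.prime_three).1 h2 with h | h
      · exact absurd (Subgroup.card_eq_one.1 h) hne
      · rw [h]
    have hn : Q.Normal := h1 ▸ Q.normalCore_normal
    have h3 : Nat.card {y : G // IsConj q y} + 1 ≤ 3 := by
      rw [← hQ3, ← Finite.card_option]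
      refine Nat.card_le_card_of_injective (fun o => match o with
        | none => 1
        | some y => ⟨y.1, by
            obtain ⟨g, hg⟩ := isConj_iff.1 y.2
            rw [← hg]
            exact hn.conj_mem _ (Subgroup.mem_zpowers q) g⟩) ?_
      rintro (_ | ⟨a, ha⟩) (_ | ⟨b, hb⟩) hab
      · rfl
      · have : 1 = b := congrArg Subtype.val hab
        subst this
        exact absurd (isConj_one_left.1 hb) hq1
      · have : a = 1 := congrArg Subtype.val hab
        subst this
        exact absurd (isConj_one_left.1 ha) hq1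
      · have : a = b := congrArg Subtype.val hab
        subst this
        rfl
    have h4 := card_centralizer_mul_card_isConj q
    rw [hG] at h4
    have h5 : Even (Nat.card (Subgroup.centralizer ({q} : Set G))) := by
      generalize Nat.card (Subgroup.centralizer ({q} : Set G)) = c at *
      generalize Nat.card {y : G // IsConj q y} = k at *
      have : k = 0 ∨ k = 1 ∨ k = 2 := by omega
      rw [Nat.even_iff]
      rcases this with rfl | rfl | rfl <;> omega
    obtain ⟨z, hzC, hz2⟩ := exists_involution_mem_of_even h5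
    obtain ⟨S, hS⟩ := (isPGroup_zpowers_of_orderOf_two hz2).exists_le_sylow
    have hS4 : Nat.card S = 2 ^ 2 := by
      rw [Sylow.card_eq_multiplicity, hG]
      have : (12 : ℕ) = 2 ^ 2 * 3 := by norm_num
      rw [this, Nat.factorization_mul (by norm_num) (by norm_num), Nat.factorization_pow]
      simp [Nat.prime_two.factorization, Nat.prime_three.factorization]
    have hcomm := IsPGroup.isMulCommutative_of_card_eq_prime_sq (p := 2) hS4
    have hSC : (S : Subgroup G) ≤ Subgroup.centralizer ({z} : Set G) := by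
      intro s hs
      rw [mem_centralizer_singleton]
      exact congrArg Subtype.val (hcomm.is_comm.comm (⟨s, hs⟩ : S)
        ⟨z, hS (Subgroup.mem_zpowers z)⟩)
    have hQC : Q ≤ Subgroup.centralizer ({z} : Set G) := by
      rw [hQ, Subgroup.zpowers_le, mem_centralizer_singleton]
      exact (mem_centralizer_singleton.1 hzC).symm
    have d1 := Subgroup.card_dvd_of_le hSC
    have d2 := Subgroup.card_dvd_of_le hQC
    rw [hQ3] at d2
    have hS4' : Nat.card (S : Subgroup G) = 4 := hS4
    rw [hS4'] at d1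
    have d3 : 12 ∣ Nat.card (Subgroup.centralizer ({z} : Set G)) :=
      Nat.Coprime.mul_dvd_of_dvd_of_dvd (m := 4) (n := 3) (by norm_num) d1 d2
    have h6 : Subgroup.centralizer ({z} : Set G) = ⊤ := by
      rw [← Subgroup.card_eq_iff_eq_top]
      apply Nat.dvd_antisymm (Subgroup.card_subgroup_dvd_card _)
      rwa [hG]
    apply hz z hz2
    rw [Subgroup.mem_center_iff]
    intro g
    exact mem_centralizer_singleton.1 (h6 ▸ Subgroup.mem_top g)
  have := Fintype.ofFinite (G ⧸ Q)
  have e : (G ⧸ Q) ≃ Fin 4 := Fintype.equivFinOfCardEq (by rw [← Nat.card_eq_fintype_card]; exact hQi)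
  let φ : G →* Equiv.Perm (Fin 4) :=
    (e.permCongrHom : Equiv.Perm (G ⧸ Q) →* Equiv.Perm (Fin 4)).comp (MulAction.toPermHom G (G ⧸ Q))
  have hφ : Function.Injective φ := by
    refine e.permCongrHom.injective.comp ?_
    rw [← MonoidHom.ker_eq_bot_iff, ← Subgroup.normalCore_eq_ker, hcore]
  have hr : φ.range = alternatingGroup (Fin 4) := by
    apply Equiv.Perm.eq_alternatingGroup_of_index_eq_two
    have h1 := φ.range.index_mul_card
    rw [← Nat.card_congr (MonoidHom.ofInjective hφ).toEquiv, hG, Nat.card_perm, Nat.card_fin] at h1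
    simp only [Nat.factorial] at h1
    omega
  exact ⟨(MonoidHom.ofInjective hφ).trans (MulEquiv.subgroupCongr hr)⟩

theorem normal_zpowers_of_mem_center {z : G} (h : z ∈ Subgroup.center G) :
    (Subgroup.zpowers z).Normal := by
  constructor
  rintro _ ⟨k, rfl⟩ g
  have := Subgroup.mem_center_iff.1 ((Subgroup.center G).zpow_mem h k) g
  simp only
  rw [this, mul_inv_cancel_right]
  exact ⟨k, rfl⟩

theorem exists_index_two_of_not_four_dvd [Finite G] (heven : Even (Nat.card G))
    (h4 : ¬ 4 ∣ Nat.card G) : ∃ H : Subgroup G, H.index = 2 := by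
  obtain ⟨T⟩ : Nonempty (Sylow 2 G) := inferInstance
  apply exists_index_two_of_cyclic_sylow heven T
  obtain ⟨n, hn⟩ := IsPGroup.iff_card.1 T.2
  have h1 : n ≤ 1 := by
    by_contra h
    apply h4
    refine dvd_trans ?_ (Subgroup.card_subgroup_dvd_card (T : Subgroup G))
    rw [hn]
    exact pow_dvd_pow 2 (show 2 ≤ n by omega)
  apply isCyclic_of_card_dvd_prime (p := 2)
  rw [hn]
  exact pow_dvd_pow 2 h1

theorem exists_large_proper_subgroup_aux (n : ℕ) : ∀ (G : Type u) [Group G] [Finite G],
    Nat.card G = n → Even (Nat.card G) → 2 < Nat.card G →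
      ∃ H : Subgroup G, H ≠ ⊤ ∧ Nat.card G < (Nat.card H) ^ 3 := by
  induction n using Nat.strong_induction_on with
  | _ n ih =>
  intro G _ _ hn heven hgt
  by_cases h2 : ∃ H : Subgroup G, H.index = 2
  · obtain ⟨H, hH⟩ := h2
    exact ⟨H, exists_large_of_index_two hgt hH⟩
  push Not at h2
  have h4 : 4 ∣ Nat.card G := by
    by_contra h4
    obtain ⟨H, hH⟩ := exists_index_two_of_not_four_dvd heven h4
    exact h2 H hH
  rcases Nat.even_or_odd (Nat.card (Subgroup.center G)) with hZ | hZ
  · obtain ⟨z, hzZ, hz⟩ := exists_involution_mem_of_even hZ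
    have := normal_zpowers_of_mem_center hzZ
    have hc : Nat.card G = Nat.card (G ⧸ Subgroup.zpowers z) * 2 := by
      rw [Subgroup.card_eq_card_quotient_mul_card_subgroup (Subgroup.zpowers z),
        Nat.card_zpowers, hz]
    have hne : Nat.card (G ⧸ Subgroup.zpowers z) ≠ 2 := h2 (Subgroup.zpowers z)
    obtain ⟨H, hH, hlt⟩ := ih (Nat.card (G ⧸ Subgroup.zpowers z)) (by omega) _ rfl
      (by rw [Nat.even_iff]; omega) (by omega)
    refine ⟨H.comap (QuotientGroup.mk' _), ?_, ?_⟩
    · intro h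
      apply hH
      rw [← Subgroup.index_eq_one] at h ⊢
      rwa [Subgroup.index_comap_of_surjective _ (QuotientGroup.mk'_surjective _)] at h
    · have e1 := (H.comap (QuotientGroup.mk' (Subgroup.zpowers z))).index_mul_card
      rw [Subgroup.index_comap_of_surjective _ (QuotientGroup.mk'_surjective _), hc,
        ← H.index_mul_card, mul_assoc] at e1
      have e2 := Nat.eq_of_mul_eq_mul_left (Nat.pos_of_ne_zero H.index_ne_zero_of_finite) e1
      rw [e2, hc, mul_pow]
      omega
  · obtain ⟨t₀, ht₀⟩ := exists_involution_of_even heven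
    obtain ⟨t, ht, hmax⟩ := Set.exists_max_image {t : G | orderOf t = 2}
      (fun t => Nat.card (Subgroup.centralizer ({t} : Set G))) (Set.toFinite _) ⟨t₀, ht₀⟩
    have hCt : Subgroup.centralizer ({t} : Set G) ≠ ⊤ := by
      intro h
      apply not_mem_center_of_odd hZ t ht
      rw [Subgroup.mem_center_iff]
      intro g
      exact mem_centralizer_singleton.1 (h ▸ Subgroup.mem_top g)
    have : Nontrivial G := ⟨⟨t, 1, ne_one_of_orderOf_two ht⟩⟩
    obtain ⟨H, hH, hmin⟩ := exists_min_index (G := G)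
    have h3 := brauer_fowler_ineq (not_mem_center_of_odd hZ) _ hmin h2
    have h5 := two_mul_lt_of_ineq h3 (card_le_mul_card_involutions t ht)
    refine ⟨H, hH, ?_⟩
    have h6 : Nat.card (Subgroup.centralizer ({t} : Set G)) ≤ Nat.card H := by
      have e1 := H.index_mul_card
      have e2 := (Subgroup.centralizer ({t} : Set G)).index_mul_card
      have e3 := hmin _ hCt
      by_contra hcon
      push Not at hcon
      have := Nat.mul_lt_mul_of_le_of_lt e3 hcon
        (Nat.pos_of_ne_zero Subgroup.index_ne_zero_of_finite)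
      omega
    have hpos : 0 < Nat.card H := Nat.card_pos
    rw [← H.index_mul_card]
    generalize Nat.card (Subgroup.centralizer ({t} : Set G)) = c at *
    generalize Nat.card H = h at *
    have h7 : H.index < h * h := by nlinarith
    calc H.index * h < (h * h) * h := by gcongr
      _ = h ^ 3 := by ring

theorem exists_large_proper_subgroup [Finite G] (heven : Even (Nat.card G))
    (hgt : 2 < Nat.card G) : ∃ H : Subgroup G, H ≠ ⊤ ∧ Nat.card G < (Nat.card H) ^ 3 :=
  exists_large_proper_subgroup_aux _ G rfl heven hgt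

end H6
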