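import Mathlib
import Cfsg.Agent.H6.SmallSylow
import Cfsg.Agent.H2.Quaternion
import Cfsg.Agent.H2.Frattini
import Cfsg.Agent.H2.MinNormal

/-!
# Thompson transfer via the sign, normal four-subgroups, 2-rank three
-/

set_option autoImplicit false

namespace H6

open scoped Pointwise

variable {G : Type*} [Group G]

theorem index_ker_eq_two_of_neg_one (f : G →* ℤˣ) {g : G} (hg : f g = -1) : f.ker.index = 2 := by
  have : f.range = ⊤ := by
    rw [eq_top_iff]
    intro u _
    rcases Int.units_eq_one_or u with rfl | rfl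
    · exact one_mem _
    · exact ⟨g, hg⟩
  rw [Subgroup.index_ker, this, Subgroup.card_top, Nat.card_eq_fintype_card, Fintype.card_units_int]

/-- Thompson's transfer lemma: if `R` has index twice an odd number and no conjugate of the
involution `x` lies in `R`, then `x` lies outside some subgroup of index two. -/
theorem thompson_transfer [Finite G] {R : Subgroup G} {m : ℕ} (hm : Odd m) (hR : R.index = 2 * m)
    {x : G} (hx : x * x = 1) (h : ∀ g : G, g * x * g⁻¹ ∉ R) :
    ∃ H : Subgroup G, H.index = 2 ∧ x ∉ H := by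
  classical
  have := Fintype.ofFinite (G ⧸ R)
  let f : G →* ℤˣ := Equiv.Perm.sign.comp (MulAction.toPermHom G (G ⧸ R))
  have hf : f x = -1 := by
    have h1 : (MulAction.toPermHom G (G ⧸ R) x) ^ 2 = 1 := by
      rw [← map_pow, pow_two, hx, map_one]
    have h2 : IsEmpty (Function.fixedPoints (MulAction.toPermHom G (G ⧸ R) x)) := by
      refine ⟨?_⟩
      rintro ⟨c, hc⟩
      obtain ⟨g, rfl⟩ := QuotientGroup.mk_surjective c
      exact h g⁻¹ (by simpa using (smul_coe_eq_iff R x g).1 hc)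
    show Equiv.Perm.sign _ = _
    rw [Equiv.Perm.sign_of_pow_two_eq_one h1,
      Fintype.card_eq_zero (α := Function.fixedPoints _), ← Nat.card_eq_fintype_card,
      ← Subgroup.index_eq_card, hR, Nat.sub_zero, Nat.mul_div_cancel_left _ two_pos]
    exact hm.neg_one_pow
  refine ⟨f.ker, index_ker_eq_two_of_neg_one f hf, ?_⟩
  rw [MonoidHom.mem_ker, hf]
  decide

theorem odd_index_sylow [Finite G] (T : Sylow 2 G) : Odd (T : Subgroup G).index := by
  rw [← Nat.not_even_iff_odd, even_iff_two_dvd]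
  exact T.not_dvd_index

/-- If `G` has no subgroup of index two, every involution is conjugate into any subgroup of
index at most two of a Sylow `2`-subgroup. -/
theorem exists_conj_mem_of_index_le_two [Finite G] (hno : ∀ H : Subgroup G, H.index ≠ 2)
    (T : Sylow 2 G) (R : Subgroup (T : Subgroup G)) (hR : R.index ≤ 2) {x : G}
    (hx : orderOf x = 2) : ∃ g : G, g * x * g⁻¹ ∈ R.map (T : Subgroup G).subtype := by
  have hpos : R.index ≠ 0 := Subgroup.index_ne_zero_of_finite
  by_cases h1 : R.index = 1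
  · obtain ⟨g, hg⟩ := exists_conj_le_sylow T (isPGroup_zpowers_of_orderOf_two hx)
    rw [Subgroup.index_eq_one] at h1
    exact ⟨g, ⟨_, hg x (Subgroup.mem_zpowers x)⟩, h1 ▸ Subgroup.mem_top _, rfl⟩
  · by_contra hcon
    push Not at hcon
    obtain ⟨H, hH, -⟩ := thompson_transfer (odd_index_sylow T)
      (by rw [Subgroup.index_map_subtype, show R.index = 2 by omega]) (mul_self_of_orderOf_two hx)
      hcon
    exact hno H hH

theorem mem_zpowers_of_orderOf_two {z x : G} (hz : orderOf z = 2) :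
    x ∈ Subgroup.zpowers z ↔ x = 1 ∨ x = z := by
  constructor
  · rintro ⟨k, rfl⟩
    have h2 : z ^ (2 : ℤ) = 1 := by rw [zpow_two, mul_self_of_orderOf_two hz]
    rcases Int.even_or_odd' k with ⟨m, rfl | rfl⟩
    · left
      simp only
      rw [zpow_mul, h2, one_zpow]
    · right
      simp only
      rw [zpow_add, zpow_mul, h2, one_zpow, one_mul, zpow_one]
  · rintro (rfl | rfl)
    · exact one_mem _
    · exact Subgroup.mem_zpowers _

theorem two_pow_dvd_cases {n : ℕ} {k : ℤ} (h : (2 : ℤ) ^ n ∣ k * k - 1) :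
    (2 : ℤ) ^ n ∣ 2 * (k - 1) ∨ (2 : ℤ) ^ n ∣ 2 * (k + 1) := by
  have hcop : ∀ m : ℤ, Odd m → IsCoprime ((2 : ℤ) ^ n) m := by
    rintro m ⟨j, rfl⟩
    exact IsCoprime.pow_left ⟨-j, 1, by ring⟩
  rcases Int.even_or_odd' k with ⟨m, rfl | rfl⟩
  · left
    have h1 : IsCoprime ((2 : ℤ) ^ n) (2 * m * (2 * m) - 1) := hcop _ ⟨2 * m * m - 1, by ring⟩
    exact (h1.isUnit_of_dvd' dvd_rfl h).dvd
  · rcases Int.even_or_odd m with hm | hm
    · left
      refine (hcop (m + 1) hm.add_one).dvd_of_dvd_mul_right ?_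
      rwa [show 2 * (2 * m + 1 - 1) * (m + 1) = (2 * m + 1) * (2 * m + 1) - 1 by ring]
    · right
      refine (hcop m hm).dvd_of_dvd_mul_right ?_
      rwa [show 2 * (2 * m + 1 + 1) * m = (2 * m + 1) * (2 * m + 1) - 1 by ring]

/-- An involutory automorphism of a cyclic `2`-group centralizes or inverts the squares. -/
theorem centralizes_or_inverts_sq {a e : G} {n : ℕ} (ha : orderOf a = 2 ^ n) (he : e * e = 1)
    (hn : e * a * e⁻¹ ∈ Subgroup.zpowers a) :
    e * a ^ 2 * e⁻¹ = a ^ 2 ∨ e * a ^ 2 * e⁻¹ = (a ^ 2)⁻¹ := by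
  obtain ⟨k, hk⟩ := hn
  simp only at hk
  have h1 : a ^ (k * k - 1) = 1 := by
    have : a ^ (k * k) = a := by
      rw [zpow_mul, hk, conj_zpow, hk]
      calc e * (e * a * e⁻¹) * e⁻¹ = (e * e) * a * (e * e)⁻¹ := by group
        _ = a := by rw [he]; group
    rw [zpow_sub, this, zpow_one, mul_inv_cancel]
  rw [← orderOf_dvd_iff_zpow_eq_one, ha] at h1
  push_cast at h1
  have h2 : e * a ^ 2 * e⁻¹ = a ^ (2 * k) := by
    rw [← conj_pow, ← hk, ← zpow_natCast, ← zpow_mul, mul_comm]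
    rfl
  rw [h2]
  rcases two_pow_dvd_cases h1 with h | h
  · left
    have h3 : a ^ (2 * (k - 1)) = 1 := by
      rw [← orderOf_dvd_iff_zpow_eq_one, ha]
      exact_mod_cast h
    calc a ^ (2 * k) = a ^ (2 * (k - 1)) * a ^ 2 := by group
      _ = a ^ 2 := by rw [h3, one_mul]
  · right
    have h3 : a ^ (2 * (k + 1)) = 1 := by
      rw [← orderOf_dvd_iff_zpow_eq_one, ha]
      exact_mod_cast h
    calc a ^ (2 * k) = a ^ (2 * (k + 1)) * (a ^ 2)⁻¹ := by group
      _ = (a ^ 2)⁻¹ := by rw [h3, one_mul]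

theorem comm_of_forall_sq {E : Subgroup G} (hE : ∀ e ∈ E, e ^ 2 = 1) {a b : G} (ha : a ∈ E)
    (hb : b ∈ E) : a * b = b * a := by
  have h1 := hE _ (E.mul_mem ha hb)
  have h2 := hE a ha
  have h3 := hE b hb
  rw [pow_two] at h1 h2 h3
  rw [← inv_eq_of_mul_self h1, mul_inv_rev, inv_eq_of_mul_self h2, inv_eq_of_mul_self h3]

/-- A `2`-group with an elementary abelian subgroup of order at least eight has a normal
four-subgroup `{1, z, u, u z}`. -/
theorem exists_normal_four [Finite G] (hG : IsPGroup 2 G) (E : Subgroup G) (hE8 : 8 ≤ Nat.card E)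
    (hE : ∀ e ∈ E, e ^ 2 = 1) :
    ∃ z u : G, orderOf z = 2 ∧ orderOf u = 2 ∧ z ∈ Subgroup.center G ∧ u ≠ z ∧
      ∀ t : G, t * u * t⁻¹ = u ∨ t * u * t⁻¹ = u * z := by
  have := hG.isNilpotent
  obtain ⟨A, -, hAn, hAc, hC⟩ := H2.exists_selfCentralizing_normal_ge (⊥ : Subgroup G)
  have hA1 : A ≠ ⊥ := by
    rintro rfl
    have h1 : E ≤ ⊥ := by
      rw [← hC]
      intro e _
      rw [Subgroup.mem_centralizer_iff]
      intro h hh
      rw [SetLike.mem_coe, Subgroup.mem_bot] at hh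
      simp [hh]
    have := Subgroup.card_le_of_le h1
    simp at this
    omega
  obtain ⟨z, ⟨hzA, hzZ⟩, hz⟩ := exists_involution_mem_of_isPGroup
    (hG.to_subgroup (A ⊓ Subgroup.center G)) (H2.inf_center_ne_bot hA1)
  have hzc : ∀ g : G, g * z = z * g := Subgroup.mem_center_iff.1 hzZ
  by_cases hU : ∀ y ∈ A, y ^ 2 = 1 → y ∈ Subgroup.zpowers z
  swap
  · have hn := normal_zpowers_of_mem_center hzZ
    have hn2 := H2.powKer_normal A 2
    obtain ⟨u, hu, huz, hcomm⟩ := H2.exists_mem_central_mod (N := Subgroup.zpowers z)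
      (C := H2.powKer A 2) (fun h => hU fun y hy hy2 => h ⟨hy, hy2⟩)
    rw [mem_zpowers_of_orderOf_two hz] at huz
    push Not at huz
    have hu2 : u * u = 1 := by rw [← pow_two]; exact hu.2
    refine ⟨z, u, hz, orderOf_eq_two_of hu2 huz.1, hzZ, huz.2, fun t => ?_⟩
    have h1 := hcomm (Subgroup.commutator_mem_commutator (Subgroup.mem_zpowers u)
      (Subgroup.mem_top t))
    rw [mem_zpowers_of_orderOf_two hz, commutatorElement_def, inv_eq_of_mul_self hu2] at h1
    have e : t * u * t⁻¹ = u * (u * t * u * t⁻¹) := by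
      rw [mul_assoc u t, mul_assoc u (t * u), ← mul_assoc u u, hu2, one_mul]
    rcases h1 with h1 | h1
    · left; rw [e, h1, mul_one]
    · right; rw [e, h1]
  have hcyc : IsCyclic A := by
    apply H2.UniqueOrderP.isCyclic_of_comm (hG.to_subgroup A)
    intro x y hx hx2 hy2
    have hx' := hU x x.2 (congrArg Subtype.val hx2)
    have hy' := hU y y.2 (congrArg Subtype.val hy2)
    rw [mem_zpowers_of_orderOf_two hz] at hx' hy'
    rcases hy' with hy' | hy'
    · rw [show y = 1 from Subtype.ext hy']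
      exact one_mem _
    · rcases hx' with hx' | hx'
      · exact absurd (Subtype.ext hx') hx
      · rw [show y = x from Subtype.ext (hy'.trans hx'.symm)]
        exact Subgroup.mem_zpowers _
  obtain ⟨a, rfl⟩ := (Subgroup.isCyclic_iff_exists_zpowers_eq_top A).1 hcyc
  obtain ⟨n, hn⟩ := IsPGroup.iff_orderOf.1 hG a
  have hconj : ∀ g : G, g * a * g⁻¹ ∈ Subgroup.zpowers a := fun g =>
    hAn.conj_mem _ (Subgroup.mem_zpowers a) g
  have hCa : ∀ g : G, g * a * g⁻¹ = a → g ∈ Subgroup.zpowers a := by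
    intro g hg
    rw [← hC, Subgroup.mem_centralizer_iff]
    rintro _ ⟨k, rfl⟩
    have : Commute g a := mul_inv_eq_iff_eq_mul.1 hg
    exact (this.zpow_right k).eq.symm
  -- an element centralizing `a ^ 2` but not `a` sends `a` to `a z`
  have hkey : ∀ g : G, g ∉ Subgroup.zpowers a → g * a ^ 2 * g⁻¹ = a ^ 2 →
      g * a * g⁻¹ = a * z := by
    intro g hg h2
    have hmem : a⁻¹ * (g * a * g⁻¹) ∈ Subgroup.zpowers a :=
      mul_mem (inv_mem (Subgroup.mem_zpowers a)) (hconj g)
    have hc : Commute a⁻¹ (g * a * g⁻¹) := by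
      obtain ⟨k, hk⟩ := hconj g
      simp only at hk
      rw [← hk]
      exact ((Commute.refl a).zpow_right k).inv_left
    have h3 := hU _ hmem (by rw [hc.mul_pow, conj_pow, h2, inv_pow, inv_mul_cancel])
    rw [mem_zpowers_of_orderOf_two hz] at h3
    rcases h3 with h3 | h3
    · exact absurd (hCa g (inv_mul_eq_one.1 h3).symm) hg
    · rw [← h3, mul_inv_cancel_left]
  -- two elements of `E` independent modulo `⟨a⟩`
  have hEA : ∀ e ∈ E, e ∈ Subgroup.zpowers a → e = 1 ∨ e = z := fun e he hea =>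
    (mem_zpowers_of_orderOf_two hz).1 (hU e hea (hE e he))
  have hex : ∀ s : Finset G, s.card < 8 → ∃ e ∈ E, e ∉ s := by
    intro s hs
    by_contra hcon
    push Not at hcon
    have h1 : Nat.card E ≤ Nat.card s :=
      Nat.card_le_card_of_injective (fun e => ⟨e.1, hcon e.1 e.2⟩)
        (fun a b hab => Subtype.ext (by simpa using hab))
    rw [Nat.card_eq_finsetCard] at h1
    omega
  classical
  obtain ⟨e₁, he₁, hne₁⟩ := hex {1, z} (lt_of_le_of_lt Finset.card_le_two (by norm_num))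
  obtain ⟨e₂, he₂, hne₂⟩ := hex {1, z, e₁, e₁ * z}
    (lt_of_le_of_lt Finset.card_le_four (by norm_num))
  simp only [Finset.mem_insert, Finset.mem_singleton, not_or] at hne₁ hne₂
  have hsq : ∀ e ∈ E, e * e = 1 := fun e he => by rw [← pow_two]; exact hE e he
  have hn₁ : e₁ ∉ Subgroup.zpowers a := fun h => by
    rcases hEA e₁ he₁ h with h | h
    exacts [hne₁.1 h, hne₁.2 h]
  have hn₂ : e₂ ∉ Subgroup.zpowers a := fun h => by
    rcases hEA e₂ he₂ h with h | h
    exacts [hne₂.1 h, hne₂.2.1 h]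
  have hn₃ : e₁ * e₂ ∉ Subgroup.zpowers a := fun h => by
    rcases hEA _ (E.mul_mem he₁ he₂) h with h | h
    · apply hne₂.2.2.1
      rw [eq_inv_of_mul_eq_one_right h, inv_eq_of_mul_self (hsq e₁ he₁)]
    · apply hne₂.2.2.2
      rw [← h, ← mul_assoc, hsq e₁ he₁, one_mul]
  have ha4 : a ^ 4 ≠ 1 := by
    intro ha4
    have hall : ∀ g : G, g * a ^ 2 * g⁻¹ = a ^ 2 := by
      intro g
      have := hU (a ^ 2) (Subgroup.npow_mem_zpowers a 2) (by rw [← pow_mul]; exact ha4)
      rw [mem_zpowers_of_orderOf_two hz] at this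
      rcases this with h | h <;> rw [h]
      · simp
      · rw [hzc g, mul_inv_cancel_right]
    apply hn₃
    apply hCa
    calc e₁ * e₂ * a * (e₁ * e₂)⁻¹ = e₁ * (e₂ * a * e₂⁻¹) * e₁⁻¹ := by group
      _ = (e₁ * a * e₁⁻¹) * (e₁ * z * e₁⁻¹) := by rw [hkey e₂ hn₂ (hall _)]; group
      _ = a := by
        rw [hkey e₁ hn₁ (hall _), hzc e₁, mul_inv_cancel_right, mul_assoc,
          mul_self_of_orderOf_two hz, mul_one]
  have hex2 : ∃ e ∈ E, e ∉ Subgroup.zpowers a ∧ e * a ^ 2 * e⁻¹ = a ^ 2 := by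
    rcases centralizes_or_inverts_sq hn (hsq e₁ he₁) (hconj e₁) with h1 | h1
    · exact ⟨e₁, he₁, hn₁, h1⟩
    rcases centralizes_or_inverts_sq hn (hsq e₂ he₂) (hconj e₂) with h2 | h2
    · exact ⟨e₂, he₂, hn₂, h2⟩
    refine ⟨e₁ * e₂, E.mul_mem he₁ he₂, hn₃, ?_⟩
    calc e₁ * e₂ * a ^ 2 * (e₁ * e₂)⁻¹ = e₁ * (e₂ * a ^ 2 * e₂⁻¹) * e₁⁻¹ := by group
      _ = a ^ 2 := by rw [h2, ← conj_inv, h1, inv_inv]
  obtain ⟨e, heE, hea, he2⟩ := hex2
  have hee := hsq e heE
  have he1 : e ≠ 1 := fun h => hea (h ▸ one_mem _)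
  refine ⟨z, e, hz, orderOf_eq_two_of hee he1, hzZ, fun h => hea (h ▸ hzA), fun t => ?_⟩
  have h1 : t * e * t⁻¹ ∉ Subgroup.zpowers a := fun h => hea (by
    simpa [mul_assoc] using hAn.conj_mem _ h t⁻¹)
  have h2 : (t * e * t⁻¹) * a ^ 2 * (t * e * t⁻¹)⁻¹ = a ^ 2 := by
    obtain ⟨k, hk⟩ := hconj t⁻¹
    simp only at hk
    have h3 : t⁻¹ * a ^ 2 * t⁻¹⁻¹ = (a ^ 2) ^ k := by
      rw [← conj_pow, ← hk, ← zpow_natCast, ← zpow_natCast, ← zpow_mul, ← zpow_mul, mul_comm]
    calc (t * e * t⁻¹) * a ^ 2 * (t * e * t⁻¹)⁻¹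
        = t * (e * (t⁻¹ * a ^ 2 * t⁻¹⁻¹) * e⁻¹) * t⁻¹ := by group
      _ = t * (t⁻¹ * a ^ 2 * t⁻¹⁻¹) * t⁻¹ := by rw [h3, ← conj_zpow, he2]
      _ = a ^ 2 := by group
  have h3 := hkey _ h1 h2
  have h4 := hkey e hea he2
  have hee' : (t * e * t⁻¹) * (t * e * t⁻¹) = 1 := by rw [conj_mul, hee]; group
  generalize t * e * t⁻¹ = e' at *
  obtain ⟨i, hi⟩ : e⁻¹ * e' ∈ Subgroup.zpowers a := by
    apply hCa
    calc e⁻¹ * e' * a * (e⁻¹ * e')⁻¹ = e⁻¹ * (e' * a * e'⁻¹) * e := by group
      _ = a := by rw [h3, ← h4]; group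
  simp only at hi
  have hi' : e' = e * a ^ i := by rw [hi]; group
  have hcz : Commute a z := hzc a
  have h5 : a ^ i * z ^ i * a ^ i = 1 := by
    rw [← hcz.mul_zpow, ← h4, conj_zpow, inv_eq_of_mul_self hee, ← hee', hi']
    group
  have hz2 : z ^ (2 : ℤ) = 1 := by rw [zpow_two, mul_self_of_orderOf_two hz]
  rcases Int.even_or_odd' i with ⟨m, rfl | rfl⟩
  · rw [zpow_mul z, hz2, one_zpow, mul_one] at h5
    have := hU _ (Subgroup.zpow_mem_zpowers a (2 * m)) (by rw [pow_two, h5])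
    rw [mem_zpowers_of_orderOf_two hz] at this
    rcases this with h | h
    · left; rw [hi', h, mul_one]
    · right; rw [hi', h]
  · exfalso
    rw [zpow_add z, zpow_mul z, hz2, one_zpow, one_mul, zpow_one, (hcz.zpow_left _).eq,
      mul_assoc] at h5
    have h6 : a ^ (4 * (2 * m + 1)) = 1 := by
      have h7 : a ^ (2 * m + 1) * a ^ (2 * m + 1) = z := by
        rw [eq_inv_of_mul_eq_one_right h5, inv_eq_of_orderOf_two hz]
      rw [← mul_self_of_orderOf_two hz, ← h7]
      group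
    rw [← orderOf_dvd_iff_zpow_eq_one, hn] at h6
    push_cast at h6
    have h8 : IsCoprime ((2 : ℤ) ^ n) (2 * m + 1) := IsCoprime.pow_left ⟨-m, 1, by ring⟩
    have h9 := h8.dvd_of_dvd_mul_right h6
    apply ha4
    rw [← orderOf_dvd_iff_pow_eq_one, hn]
    exact_mod_cast h9

theorem card_zpowers_sup {H : Subgroup G} {t : G} (hc : ∀ h ∈ H, t * h = h * t) (ht : t ∉ H)
    (ht2 : t * t = 1) : Nat.card ↥(Subgroup.zpowers t ⊔ H) = 2 * Nat.card H := by
  refine H2.card_sup_zpowers_of_pow_prime_mem Nat.prime_two ?_ ht (by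
    rw [pow_two, ht2]; exact one_mem _)
  apply Subgroup.centralizer_le_normalizer
  rw [Subgroup.mem_centralizer_iff]
  intro h hh
  exact (hc h hh).symm

theorem sq_eq_one_of_mem_zpowers_sup {H : Subgroup G} {t : G} (hc : ∀ h ∈ H, t * h = h * t)
    (ht2 : t * t = 1) (hH : ∀ h ∈ H, h ^ 2 = 1) : ∀ x ∈ Subgroup.zpowers t ⊔ H, x ^ 2 = 1 := by
  intro x hx
  have hn : Subgroup.zpowers t ≤ Subgroup.normalizer (H : Set G) := by
    rw [Subgroup.zpowers_le]
    apply Subgroup.centralizer_le_normalizer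
    rw [Subgroup.mem_centralizer_iff]
    intro h hh
    exact (hc h hh).symm
  rw [← SetLike.mem_coe, Subgroup.coe_mul_of_left_le_normalizer_right _ _ hn] at hx
  obtain ⟨_, ⟨k, rfl⟩, h, hh, rfl⟩ := hx
  have h1 : Commute t h := hc h hh
  simp only
  rw [(h1.zpow_left k).mul_pow, hH h hh, mul_one, ← zpow_natCast, ← zpow_mul, mul_comm, zpow_mul,
    zpow_natCast, pow_two, ht2, one_zpow]

/-- In a `2`-group of rank at least three there is a subgroup `R` of index at most two such that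
every involution of `R` centralizes an elementary abelian subgroup of order eight. -/
theorem exists_index_le_two_rank_three [Finite G] (hG : IsPGroup 2 G) (E : Subgroup G)
    (hE8 : 8 ≤ Nat.card E) (hE : ∀ e ∈ E, e ^ 2 = 1) :
    ∃ R : Subgroup G, R.index ≤ 2 ∧ ∀ x ∈ R, x * x = 1 → ∃ F : Subgroup G,
      F ≤ Subgroup.centralizer ({x} : Set G) ∧ Nat.card F = 8 ∧ ∀ e ∈ F, e ^ 2 = 1 := by
  classical
  obtain ⟨z, u, hz, hu, hzZ, huz, hconj⟩ := exists_normal_four hG E hE8 hE
  have hzc : ∀ g : G, g * z = z * g := Subgroup.mem_center_iff.1 hzZ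
  set R := Subgroup.centralizer ({u} : Set G) with hR
  have hRi : R.index ≤ 2 := by
    rw [hR, ← card_isConj_eq_index]
    refine le_trans (Nat.card_le_card_of_injective (β := ({u, u * z} : Finset G))
      (fun y => ⟨y.1, ?_⟩) (fun a b hab => Subtype.ext (by simpa using hab))) ?_
    · obtain ⟨g, hg⟩ := isConj_iff.1 y.2
      rw [← hg]
      simpa using hconj g
    · rw [Nat.card_eq_finsetCard]
      exact Finset.card_le_two
  refine ⟨R, hRi, fun x hx hx2 => ?_⟩
  let U : Subgroup G := Subgroup.zpowers u ⊔ Subgroup.zpowers z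
  have hc1 : ∀ h ∈ Subgroup.zpowers z, u * h = h * u := by
    rintro _ ⟨k, rfl⟩
    exact (Commute.zpow_right (hzc u) k).eq
  have hU4 : Nat.card U = 4 := by
    rw [card_zpowers_sup hc1 ?_ (mul_self_of_orderOf_two hu), Nat.card_zpowers, hz]
    rw [mem_zpowers_of_orderOf_two hz]
    exact not_or.2 ⟨ne_one_of_orderOf_two hu, huz⟩
  have hU2 : ∀ y ∈ U, y ^ 2 = 1 := by
    apply sq_eq_one_of_mem_zpowers_sup hc1 (mul_self_of_orderOf_two hu)
    intro h hh
    rcases (mem_zpowers_of_orderOf_two hz).1 hh with rfl | rfl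
    · simp
    · rw [pow_two, mul_self_of_orderOf_two hz]
  have hRU : ∀ y ∈ R, ∀ h ∈ U, y * h = h * y := by
    intro y hy
    have : U ≤ Subgroup.centralizer ({y} : Set G) := by
      apply sup_le <;> rw [Subgroup.zpowers_le, mem_centralizer_singleton]
      · exact (mem_centralizer_singleton.1 hy).symm
      · exact (hzc y).symm
    intro h hh
    exact (mem_centralizer_singleton.1 (this hh)).symm
  have key : ∀ y ∈ R, y * y = 1 → y ∉ U → y * x = x * y → ∃ F : Subgroup G,
      F ≤ Subgroup.centralizer ({x} : Set G) ∧ Nat.card F = 8 ∧ ∀ e ∈ F, e ^ 2 = 1 := by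
    intro y hy hy2 hyU hyx
    refine ⟨Subgroup.zpowers y ⊔ U, sup_le ?_ ?_, ?_,
      sq_eq_one_of_mem_zpowers_sup (hRU y hy) hy2 hU2⟩
    · rw [Subgroup.zpowers_le, mem_centralizer_singleton]
      exact hyx
    · intro h hh
      exact mem_centralizer_singleton.2 (hRU x hx h hh).symm
    · rw [card_zpowers_sup (hRU y hy) hyU hy2, hU4]
  by_cases hxU : x ∈ U
  swap
  · exact key x hx hx2 hxU rfl
  have : ∃ e ∈ E, e ∈ R ∧ e ∉ U := by
    by_contra hcon
    push Not at hcon
    have h1 : E ⊓ R ≤ U := fun e he => hcon e he.1 he.2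
    have h2 : R.relIndex E ≤ 2 := by
      refine le_trans (Subgroup.relIndex_le_of_le_right le_top ?_) ?_
      · rw [Subgroup.relIndex_top_right]
        exact Subgroup.index_ne_zero_of_finite
      · rwa [Subgroup.relIndex_top_right]
    have h3 := H2.card_inf_mul_relIndex R E
    rw [inf_comm] at h3
    have h4 : Nat.card U ≤ Nat.card ↥(E ⊓ R) := by
      rw [hU4]
      by_contra h5
      push Not at h5
      have := Nat.mul_le_mul (Nat.le_of_lt_succ h5) h2
      omega
    have h5 := Subgroup.eq_of_le_of_card_ge h1 h4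
    have huE : u ∈ E := by
      have : u ∈ E ⊓ R := h5 ▸ Subgroup.mem_sup_left (Subgroup.mem_zpowers u)
      exact this.1
    have h6 : E ≤ U := by
      rw [← h5, le_inf_iff]
      exact ⟨le_rfl, fun e he => mem_centralizer_singleton.2 (comm_of_forall_sq hE he huE)⟩
    have := Subgroup.card_le_of_le h6
    omega
  obtain ⟨e, heE, heR, heU⟩ := this
  exact key e heR (by rw [← pow_two]; exact hE e heE) heU (hRU e heR x hxU)

theorem rank_three_centralizer [Finite G] (hno : ∀ H : Subgroup G, H.index ≠ 2)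
    (hrank : ∃ E : Subgroup G, Nat.card E = 8 ∧ ∀ e ∈ E, e ^ 2 = 1) (x : G) (hx : orderOf x = 2) :
    ∃ E : Subgroup G, E ≤ Subgroup.centralizer ({x} : Set G) ∧ Nat.card E = 8 ∧
      ∀ e ∈ E, e ^ 2 = 1 := by
  obtain ⟨E, hE8, hE⟩ := hrank
  have hEp : IsPGroup 2 E := IsPGroup.of_card (n := 3) hE8
  obtain ⟨T, hT⟩ := hEp.exists_le_sylow
  obtain ⟨R, hR, h⟩ := exists_index_le_two_rank_three T.2 (E.subgroupOf T)
    (by rw [Nat.card_congr (Subgroup.subgroupOfEquivOfLe hT).toEquiv, hE8])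
    (fun e he => Subtype.ext (hE e he))
  obtain ⟨g, y, hy, hgy⟩ := exists_conj_mem_of_index_le_two hno T R hR hx
  have hgy' : (y : G) = g * x * g⁻¹ := hgy
  obtain ⟨F, hF, hF8, hF2⟩ := h y hy (Subtype.ext (by
    rw [Subgroup.coe_mul, hgy', conj_mul, mul_self_of_orderOf_two hx]; simp))
  let φ : (T : Subgroup G) →* G := (MulAut.conj g⁻¹).toMonoidHom.comp (T : Subgroup G).subtype
  have hφ : Function.Injective φ := (MulAut.conj g⁻¹).injective.comp Subtype.val_injective
  refine ⟨F.map φ, ?_, by rw [Subgroup.card_map_of_injective hφ, hF8], ?_⟩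
  · rintro _ ⟨f, hf, rfl⟩
    have h1 := congrArg φ (mem_centralizer_singleton.1 (hF hf))
    have h2 : φ y = x := by
      show g⁻¹ * y * g⁻¹⁻¹ = x
      rw [hgy']
      group
    rw [map_mul, map_mul, h2] at h1
    exact mem_centralizer_singleton.2 h1
  · rintro _ ⟨f, hf, rfl⟩
    rw [← map_pow, hF2 f hf, map_one]

theorem card_even_involutions_fin_five :
    (Finset.univ.filter fun σ : Equiv.Perm (Fin 5) =>
      σ * σ = 1 ∧ σ ≠ 1 ∧ Equiv.Perm.sign σ = 1).card = 15 := by
  decide +kernel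

theorem three_mul_card_involutions_lt [Finite G] [IsSimpleGroup G] (heven : Even (Nat.card G))
    (hgt : 2 < Nat.card G) : 3 * Nat.card {t : G // orderOf t = 2} < Nat.card G := by
  classical
  by_contra hcon
  push Not at hcon
  have h2 : ∀ K : Subgroup G, K.index ≠ 2 := fun K hK =>
    hgt.ne' (card_eq_two_of_simple_of_index_two hK)
  obtain ⟨H, hH, hmin⟩ := exists_min_index (G := G)
  have h3 := two_mul_lt_of_ineq (brauer_fowler_ineq (not_mem_center_of_simple hgt.ne') _ hmin h2)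
    hcon
  have := Fintype.ofFinite (G ⧸ H)
  obtain ⟨ι⟩ : Nonempty ((G ⧸ H) ↪ Fin 5) := by
    apply Function.Embedding.nonempty_of_card_le
    rw [← Nat.card_eq_fintype_card, ← Subgroup.index_eq_card, Fintype.card_fin]
    omega
  let φ : G →* Equiv.Perm (Fin 5) :=
    (Equiv.Perm.viaEmbeddingHom ι).comp (MulAction.toPermHom G (G ⧸ H))
  have hφ : Function.Injective φ := by
    refine (Equiv.Perm.viaEmbeddingHom_injective ι).comp ?_
    rw [← MonoidHom.ker_eq_bot_iff, ← Subgroup.normalCore_eq_ker]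
    refine (H.normalCore_normal.eq_bot_or_eq_top).resolve_right fun h => hH ?_
    exact eq_top_iff.2 (h ▸ H.normalCore_le)
  have hsign : ∀ g : G, Equiv.Perm.sign (φ g) = 1 := by
    intro g
    rcases Int.units_eq_one_or (Equiv.Perm.sign (φ g)) with h | h
    · exact h
    · exact absurd (index_ker_eq_two_of_neg_one (Equiv.Perm.sign.comp φ) h) (h2 _)
  have h15 : Nat.card {t : G // orderOf t = 2} ≤ 15 := by
    rw [← card_even_involutions_fin_five, ← Nat.card_eq_finsetCard]
    refine Nat.card_le_card_of_injective (fun t => ⟨φ t.1, ?_⟩)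
      (fun a b hab => Subtype.ext (hφ (by simpa using hab)))
    simp only [Finset.mem_filter, Finset.mem_univ, true_and]
    refine ⟨by rw [← map_mul, mul_self_of_orderOf_two t.2, map_one], ?_, hsign _⟩
    rw [Ne, map_eq_one_iff _ hφ]
    exact ne_one_of_orderOf_two t.2
  have h60 : Nat.card G ∣ 60 := by
    have h4 : φ.range ≤ alternatingGroup (Fin 5) := by
      rintro _ ⟨g, rfl⟩
      exact Equiv.Perm.mem_alternatingGroup.2 (hsign g)
    have h5 := Subgroup.card_dvd_of_le h4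
    rwa [← Nat.card_congr (MonoidHom.ofInjective hφ).toEquiv, nat_card_alternatingGroup,
      Nat.card_fin] at h5
  have h4 : 4 ∣ Nat.card G := by
    by_contra h4
    obtain ⟨K, hK⟩ := exists_index_two_of_not_four_dvd heven h4
    exact h2 K hK
  have key : ∀ p k j : ℕ, p.Prime → Nat.card G = j * p ^ k → j ≠ 1 → j * p ^ k ∣ j.factorial := by
    intro p k j hp hG hj
    have := Fact.mk hp
    obtain ⟨K, hK⟩ := Sylow.exists_subgroup_card_pow_prime (G := G) p (n := k)
      (by rw [hG]; exact Dvd.intro_left j rfl)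
    have h5 := K.index_mul_card
    rw [hK, hG] at h5
    have h6 := Nat.eq_of_mul_eq_mul_right (pow_pos hp.pos k) h5
    rw [← hG, ← h6]
    apply card_dvd_factorial_index
    rintro rfl
    rw [Subgroup.index_top] at h6
    exact hj h6.symm
  have hcases : Nat.card G = 4 ∨ Nat.card G = 12 ∨ Nat.card G = 20 := by
    have hle : Nat.card G ≤ 45 := by omega
    generalize Nat.card G = N at h60 h4 hle
    interval_cases N <;> omega
  rcases hcases with h | h | h
  · exact absurd (key 2 1 2 Nat.prime_two h (by norm_num)) (by decide)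
  · exact absurd (key 2 2 3 Nat.prime_two h (by norm_num)) (by decide)
  · exact absurd (key 5 1 4 Nat.prime_five h (by norm_num)) (by decide)

end H6
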