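import Mathlib
import Cfsg.Prelude.Def_TwoFusion
import Cfsg.Prelude.Def_Transfer
import Cfsg.Prelude.Def_SporadicB
import Cfsg.Agent.H6.SmallSylow
import Cfsg.Agent.H6.StrongEmb
import Cfsg.Agent.H22.SylIn

/-!
# Weak and strong closure, 2-central involutions, small lemmas on involutions
-/

set_option autoImplicit false

namespace H6

open Subgroup H22
open scoped commutatorElement

variable {G : Type*} [Group G]

theorem bray_trick (a g : G) (ha : orderOf a = 2) :
    (∀ m : ℕ, orderOf (a * (g⁻¹ * a * g)) = 2 * m + 1 →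
      Commute (g * (a * (g⁻¹ * a * g)) ^ m) a) ∧
    (∀ m : ℕ, orderOf (a * (g⁻¹ * a * g)) = 2 * m →
      Commute ((a * (g⁻¹ * a * g)) ^ m) a ∧ Commute ((a * (g * a * g⁻¹)) ^ m) a) := by
  have ha2 := mul_self_of_orderOf_two ha
  have key : ∀ (b : G), b * b = 1 → ∀ m : ℕ, (a * b) ^ (2 * m) = 1 → Commute ((a * b) ^ m) a := by
    intro b hb m hm
    have h1 := zpow_mul_left ha2 hb (m : ℤ)
    have h2 : (a * b) ^ (-(m : ℤ)) = (a * b) ^ m := by
      rw [zpow_neg, zpow_natCast, inv_eq_iff_mul_eq_one, ← pow_add, ← two_mul, hm]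
    rw [h2, zpow_natCast] at h1
    exact h1
  have hb : (g⁻¹ * a * g) * (g⁻¹ * a * g) = 1 := by
    calc _ = g⁻¹ * (a * a) * g := by group
      _ = 1 := by rw [ha2]; group
  have hc : (g * a * g⁻¹) * (g * a * g⁻¹) = 1 := by
    calc _ = g * (a * a) * g⁻¹ := by group
      _ = 1 := by rw [ha2]; group
  refine ⟨fun m hm => ?_, fun m hm => ⟨key _ hb m (hm ▸ pow_orderOf_eq_one _), key _ hc m ?_⟩⟩
  · set b := g⁻¹ * a * g with hbdef
    have h0 : (a * b) ^ (2 * m + 1) = 1 := hm ▸ pow_orderOf_eq_one _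
    have h1 := zpow_mul_left ha2 hb (m : ℤ)
    have h2 : a * g = g * b := by rw [hbdef]; group
    have h3 : (a * b) ^ (-(m : ℤ)) = (a * b) * (a * b) ^ m := by
      rw [zpow_neg, zpow_natCast, inv_eq_iff_mul_eq_one, ← pow_succ', ← pow_add, ← h0]
      congr 1; ring
    rw [h3, zpow_natCast] at h1
    show g * (a * b) ^ m * a = a * (g * (a * b) ^ m)
    calc g * (a * b) ^ m * a = g * ((a * a) * b * (a * b) ^ m) := by
          rw [mul_assoc, h1]; simp only [mul_assoc]
      _ = (g * b) * (a * b) ^ m := by rw [ha2, one_mul, mul_assoc g b]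
      _ = _ := by rw [← h2, mul_assoc a g]
  · have h0 : (a * (g⁻¹ * a * g)) ^ (2 * m) = 1 := hm ▸ pow_orderOf_eq_one _
    have h1 : a * (g * a * g⁻¹) = g * (a * (g⁻¹ * a * g))⁻¹ * g⁻¹ := by
      rw [mul_inv_rev, inv_eq_of_mul_self hb, inv_eq_of_mul_self ha2]; group
    rw [h1, conj_pow, inv_pow, h0]; group

theorem mem_sylow_of_centralizes {p : ℕ} (P : Sylow p G) {t : G} (ht : IsPGroup p (zpowers t))
    (h : ∀ x ∈ P, x * t = t * x) : t ∈ P := by
  have hn : zpowers t ≤ normalizer ((P : Subgroup G) : Set G) := by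
    rw [zpowers_le]
    apply centralizer_le_normalizer
    intro x hx
    exact h x hx
  have := P.is_maximal' (isPGroup_sup_of_le_normalizer ht P.isPGroup' hn) le_sup_right
  have h2 : t ∈ zpowers t ⊔ (P : Subgroup G) := mem_sup_left (mem_zpowers t)
  rw [this] at h2
  exact h2

theorem isTwoCentralInvolution_iff (t : G) (ht : orderOf t = 2) :
    Cfsg.IsTwoCentralInvolution t ↔
      ∃ P : Sylow 2 G, (P : Subgroup G) ≤ Subgroup.centralizer ({t} : Set G) := by
  constructor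
  · rintro ⟨-, P, -, h⟩
    exact ⟨P, fun x hx => mem_centralizer_singleton.2 (h x hx)⟩
  · rintro ⟨P, h⟩
    have h' : ∀ x ∈ P, x * t = t * x := fun x hx => mem_centralizer_singleton.1 (h hx)
    exact ⟨ht, P, mem_sylow_of_centralizes P (isPGroup_zpowers_of_orderOf_two ht) h', h'⟩

theorem sylow_ne_bot_of_involution [Finite G] (P : Sylow 2 G) {t : G} (ht : orderOf t = 2) :
    (P : Subgroup G) ≠ ⊥ := by
  obtain ⟨g, hg⟩ := exists_conj_le_sylow P (isPGroup_zpowers_of_orderOf_two ht)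
  intro h
  have h1 : g * t * g⁻¹ ∈ (P : Subgroup G) := hg t (mem_zpowers t)
  rw [h, mem_bot] at h1
  exact ne_one_of_orderOf_two (by rw [orderOf_conj, ht]) h1

theorem exists_isTwoCentralInvolution [Finite G] (h : Even (Nat.card G)) :
    ∃ t : G, Cfsg.IsTwoCentralInvolution t := by
  obtain ⟨t, ht⟩ := exists_involution_of_even h
  obtain ⟨P⟩ : Nonempty (Sylow 2 G) := inferInstance
  obtain ⟨z, hz, hz2, hc⟩ := exists_central_involution P.isPGroup' (sylow_ne_bot_of_involution P ht)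
  exact ⟨z, hz2, P, hz, hc⟩

/-- If `S` is Sylow in `H` and every element normalising `S` lies in `H`, then `S` is Sylow in `G`. -/
theorem exists_sylow_eq_of_normalizer_le [Finite G] {p : ℕ} [Fact p.Prime] {S H : Subgroup G}
    (hS : SylIn p S H) (hN : normalizer (S : Set G) ≤ H) :
    ∃ P : Sylow p G, (P : Subgroup G) = S := by
  obtain ⟨P, hP⟩ := hS.isPGroup.exists_le_sylow
  refine ⟨P, ?_⟩
  by_contra hne
  obtain ⟨x, hxP, hxS, hxN⟩ := exists_mem_normalizer_of_lt P.isPGroup'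
    (lt_of_le_of_ne hP (Ne.symm hne))
  have := hS.2.2 (P ⊓ H) inf_le_right (P.isPGroup'.to_inf_left) (le_inf hP hS.le)
  exact hxS (this ▸ ⟨hxP, hN hxN⟩)

theorem large_extraspecial [Finite G] (z : G) (hz : orderOf z = 2) (Q : Subgroup G)
    (hQC : Q ≤ Subgroup.centralizer ({z} : Set G)) (hQ2 : IsPGroup 2 Q)
    (hZ : Nat.card (Subgroup.center Q) = 2) (hlarge : Subgroup.centralizer (Q : Set G) ≤ Q) :
    (∃ P : Sylow 2 G, (P : Subgroup G) ≤ Subgroup.centralizer ({z} : Set G)) ∧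
      ∀ u : G, orderOf u = 2 →
        (∃ P : Sylow 2 G, (P : Subgroup G) ≤ Subgroup.centralizer ({u} : Set G)) → IsConj z u := by
  have key : ∀ w : G, orderOf w = 2 → (∀ q ∈ Q, q * w = w * q) → w = z := by
    intro w hw hc
    have hwQ : w ∈ Q := hlarge fun q hq => hc q hq
    have hzQ : z ∈ Q := hlarge fun q hq => mem_centralizer_singleton.1 (hQC hq)
    have hw' : (⟨w, hwQ⟩ : Q) ∈ Subgroup.center Q :=
      mem_center_iff.2 fun q => Subtype.ext (hc q q.2)
    have hz' : (⟨z, hzQ⟩ : Q) ∈ Subgroup.center Q :=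
      mem_center_iff.2 fun q => Subtype.ext (mem_centralizer_singleton.1 (hQC q.2))
    have hcyc : IsCyclic (Subgroup.center Q) := isCyclic_of_prime_card hZ
    have := eq_of_isCyclic_of_orderOf_two hcyc hw' hz'
      (by rw [← Subgroup.orderOf_coe]; exact hw) (by rw [← Subgroup.orderOf_coe]; exact hz)
    exact congrArg Subtype.val this
  obtain ⟨S, hS, hQS⟩ := exists_sylIn hQC hQ2
  obtain ⟨P, hP⟩ := exists_sylow_eq_of_normalizer_le hS (fun x hx => by
    have : x * z * x⁻¹ = z := by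
      apply key _ (by rw [orderOf_conj, hz])
      intro q hq
      have h1 := mem_centralizer_singleton.1 (hS.le (conj_mem_of_mem_normalizer' hx (hQS hq)))
      calc q * (x * z * x⁻¹) = x * (x⁻¹ * q * x * z) * x⁻¹ := by group
        _ = x * (z * (x⁻¹ * q * x)) * x⁻¹ := by rw [h1]
        _ = _ := by group
    rw [mem_centralizer_singleton]
    calc x * z = x * z * x⁻¹ * x := by group
      _ = z * x := by rw [this])
  refine ⟨⟨P, hP ▸ hS.le⟩, ?_⟩
  rintro u hu ⟨R, hR⟩
  obtain ⟨g, rfl⟩ := MulAction.exists_smul_eq G R P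
  have : g * u * g⁻¹ = z := by
    apply key _ (by rw [orderOf_conj, hu])
    intro q hq
    have h0 : q ∈ g • R := by
      have := hQS hq
      rw [← hP] at this
      exact this
    rw [mem_smul_sylow_iff] at h0
    have h1 := mem_centralizer_singleton.1 (hR h0)
    calc q * (g * u * g⁻¹) = g * (g⁻¹ * q * g * u) * g⁻¹ := by group
      _ = g * (u * (g⁻¹ * q * g)) * g⁻¹ := by rw [h1]
      _ = _ := by group
  exact (isConj_iff.2 ⟨g, this⟩).symm

theorem orderOf_mul_eq_four [Finite G] (x₀ : G) (hx₀ : orderOf x₀ = 2)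
    (ha : ∀ x : G, IsConj x₀ x →
      ⁅⁅Subgroup.closure {y : G | IsConj x₀ y ∧ Commute y x},
        Subgroup.closure {y : G | IsConj x₀ y ∧ Commute y x}⁆,
        Subgroup.closure {y : G | IsConj x₀ y ∧ Commute y x}⁆ = ⊥)
    (hb : ∀ x y : G, IsConj x₀ x → IsConj x₀ y → x ≠ y → Commute x y → IsConj x₀ (x * y))
    (x y : G) (hx : IsConj x₀ x) (hy : IsConj x₀ y) (heven : Even (orderOf (x * y)))
    (hgt : 2 < orderOf (x * y)) : orderOf (x * y) = 4 := by
  have hx2 := mul_self_of_orderOf_two ((orderOf_of_isConj hx).symm.trans hx₀)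
  have hy2 := mul_self_of_orderOf_two ((orderOf_of_isConj hy).symm.trans hx₀)
  obtain ⟨hz, hzx, hzy⟩ := central_involution hx2 hy2 heven
  set z := (x * y) ^ (orderOf (x * y) / 2) with hzdef
  have hxz : IsConj x₀ (x * z) := by
    have := isConj_refl hx2 hy2 ((orderOf (x * y) / 2 : ℕ) : ℤ)
    rw [zpow_natCast] at this
    rcases this with h | h
    · exact hx.trans h
    · exact hy.trans h
  have hzD : IsConj x₀ z := by
    have := hb x (x * z) hx hxz (by
      intro h
      exact ne_one_of_orderOf_two hz (by simpa using h)) ((Commute.refl x).mul_right hzx.symm)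
    rwa [← mul_assoc, hx2, one_mul] at this
  have h1 := ha z hzD
  have hxW : x ∈ Subgroup.closure {y : G | IsConj x₀ y ∧ Commute y z} :=
    subset_closure ⟨hx, hzx.symm⟩
  have hyW : y ∈ Subgroup.closure {y : G | IsConj x₀ y ∧ Commute y z} :=
    subset_closure ⟨hy, hzy.symm⟩
  have h2 := commutator_mem_commutator (commutator_mem_commutator hxW hyW) hxW
  rw [h1, mem_bot, commutatorElement_eq_one_iff_mul_comm] at h2
  have h3 : ⁅x, y⁆ = (x * y) ^ (2 : ℤ) := by
    rw [commutatorElement_def, inv_eq_of_mul_self hx2, inv_eq_of_mul_self hy2, zpow_two]; group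
  rw [h3, zpow_mul_left hx2 hy2, mul_right_inj] at h2
  have h4 : (x * y) ^ 4 = 1 := by
    have : (x * y) ^ (2 : ℤ) * (x * y) ^ (2 : ℤ) = 1 := by
      nth_rewrite 1 [← h2]
      rw [← zpow_add]; simp
    rw [← zpow_add] at this
    exact_mod_cast this
  have h5 : orderOf (x * y) ∣ 4 := orderOf_dvd_of_pow_eq_one h4
  have h6 : orderOf (x * y) ≤ 4 := Nat.le_of_dvd (by norm_num) h5
  interval_cases h : orderOf (x * y)
  · omega
  · rfl

/-- two conjugates of a weakly closed subgroup in a common `p`-subgroup are equal -/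
theorem cj_eq_of_weaklyClosed [Finite G] {p : ℕ} [Fact p.Prime] (T : Sylow p G) {W : Subgroup G}
    (hW : Cfsg.IsWeaklyClosed W (T : Subgroup G)) {R : Subgroup G} (hR : IsPGroup p R) {g : G}
    (h1 : W ≤ R) (h2 : cj g W ≤ R) : cj g W = W := by
  obtain ⟨k, hk⟩ := sylow_exists_cj_le T hR
  have e1 : cj k W = W := hW.2 k ((cj_mono h1).trans hk)
  have e2 : cj (k * g) W = W := hW.2 _ (by
    show cj (k * g) W ≤ _
    rw [cj_mul]; exact (cj_mono h2).trans hk)
  rw [cj_mul] at e2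
  exact cj_injective k (e2.trans e1.symm)

theorem cj_eq_of_weaklyClosed_of_commute [Finite G] {p : ℕ} [Fact p.Prime] (T : Sylow p G)
    {W : Subgroup G} (hW : Cfsg.IsWeaklyClosed W (T : Subgroup G)) (g : G)
    (hc : ∀ a ∈ W, ∀ b ∈ cj g W, a * b = b * a) : cj g W = W := by
  have hWp : IsPGroup p W := T.isPGroup'.to_le hW.1
  refine cj_eq_of_weaklyClosed T hW (R := W ⊔ cj g W)
    (isPGroup_sup_of_le_normalizer hWp (isPGroup_cj hWp g) ?_) le_sup_left le_sup_right
  intro a ha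
  apply centralizer_le_normalizer
  intro b hb
  exact (hc a ha b hb).symm

theorem exists_normalizer_conj_of_weaklyClosed [Finite G] {p : ℕ} [Fact p.Prime] (T : Sylow p G)
    (W : Subgroup G) (hW : Cfsg.IsWeaklyClosed W (T : Subgroup G)) (d g : G)
    (hd : d ∈ Subgroup.centralizer (W : Set G))
    (hgd : g * d * g⁻¹ ∈ Subgroup.centralizer (W : Set G)) :
    ∃ h ∈ Subgroup.normalizer (W : Set G), h * d * h⁻¹ = g * d * g⁻¹ := by
  have hWp : IsPGroup p W := T.isPGroup'.to_le hW.1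
  have h1 : W ≤ centralizer ({d} : Set G) := fun w hw => mem_centralizer_singleton.2 (hd w hw)
  have h2 : cj g⁻¹ W ≤ centralizer ({d} : Set G) := by
    rw [cj_le_iff]
    intro w hw
    rw [mem_centralizer_singleton]
    have := hgd w hw
    calc g⁻¹ * w * g⁻¹⁻¹ * d = g⁻¹ * (w * (g * d * g⁻¹)) * g := by group
      _ = g⁻¹ * ((g * d * g⁻¹) * w) * g := by rw [this]
      _ = _ := by group
  obtain ⟨Q, hQ, hWQ⟩ := exists_sylIn h1 hWp
  obtain ⟨c, hc, hcle⟩ := hQ.exists_cj_le h2 (isPGroup_cj hWp _)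
  rw [← cj_mul] at hcle
  have h3 := cj_eq_of_weaklyClosed T hW hQ.isPGroup hWQ hcle
  refine ⟨(c * g⁻¹)⁻¹, inv_mem (cj_eq_iff.1 h3), ?_⟩
  have h4 := mem_centralizer_singleton.1 hc
  calc (c * g⁻¹)⁻¹ * d * (c * g⁻¹)⁻¹⁻¹ = g * (c⁻¹ * (d * c)) * g⁻¹ := by group
    _ = _ := by rw [← h4]; group

theorem isStronglyClosed_of_le [Finite G] {p : ℕ} [Fact p.Prime] (P : Sylow p G)
    {Q A : Subgroup G} (hQ : IsPGroup p Q) (hAQ : A ≤ Q)
    (hA : Cfsg.IsStronglyClosed A (P : Subgroup G)) : Cfsg.IsStronglyClosed A Q := by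
  obtain ⟨k, hk⟩ := exists_conj_le_sylow P hQ
  have hkA : k ∈ normalizer (A : Set G) :=
    mem_normalizer_of_conj_mem fun a ha => hA.2 a ha k (hk a (hAQ ha))
  refine ⟨hAQ, fun x hx g hg => ?_⟩
  have h1 := hA.2 x hx (k * g) (by
    have : k * (g * x * g⁻¹) * k⁻¹ ∈ (P : Subgroup G) := hk _ hg
    convert this using 1
    group)
  have := conj_mem_of_mem_normalizer' hkA h1
  convert this using 1
  group

theorem isStronglyClosed_map_mk [Finite G] {p : ℕ} [Fact p.Prime] (S : Sylow p G)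
    (A : Subgroup G) (hA : Cfsg.IsStronglyClosed A (S : Subgroup G)) (N : Subgroup G) [N.Normal] :
    Cfsg.IsStronglyClosed (A.map (QuotientGroup.mk' N))
      ((S : Subgroup G).map (QuotientGroup.mk' N)) := by
  refine ⟨map_mono hA.1, ?_⟩
  rintro _ ⟨x, hx, rfl⟩ g ⟨s, hs, hsg⟩
  obtain ⟨g, rfl⟩ := QuotientGroup.mk'_surjective N g
  rw [← map_mul, ← map_inv, ← map_mul] at hsg ⊢
  have h1 : g * x * g⁻¹ ∈ (S : Subgroup G) ⊔ N := by
    rw [QuotientGroup.mk'_eq_mk'] at hsg
    obtain ⟨n, hn, h⟩ := hsg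
    rw [← h]
    exact mul_mem (mem_sup_left hs) (mem_sup_right hn)
  obtain ⟨k, hk⟩ := isPGroup_iff_forall_mem.1 S.isPGroup' x (hA.1 hx)
  have hp : IsPGroup p (zpowers (g * x * g⁻¹)) :=
    isPGroup_zpowers (k := k) (by rw [conj_pow, hk]; group)
  obtain ⟨m, hm, hle⟩ := (sylIn_of_sylow_le S (H := (S : Subgroup G) ⊔ N) le_sup_left).exists_cj_le
    (zpowers_le.2 h1) hp
  have h2 : m * (g * x * g⁻¹) * m⁻¹ ∈ (S : Subgroup G) := hle (conj_mem_cj (mem_zpowers _))
  have h3 : m * (g * x * g⁻¹) * m⁻¹ ∈ A := by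
    have := hA.2 x hx (m * g) (by convert h2 using 1; group)
    convert this using 1; group
  obtain ⟨s', hs', n, hn, rfl⟩ := (mem_sup_of_le_normalizer (A := (S : Subgroup G)) (B := N)
    (by rw [normalizer_eq_top]; exact le_top)).1 hm
  have h4 := hA.2 _ h3 s'⁻¹ (mul_mem (mul_mem (inv_mem hs') h2) (inv_mem (inv_mem hs')))
  refine ⟨_, h4, ?_⟩
  have hn1 : (QuotientGroup.mk' N) n = 1 := (QuotientGroup.eq_one_iff n).2 hn
  simp only [map_mul, map_inv, hn1]
  group

end H6
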