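import Mathlib
import Cfsg.Prelude.Def_Local
import Cfsg.Prelude.Def_ClassificationK
import Cfsg.Prelude.Def_EvenType
import Cfsg.Agent.H6.Closed
import Cfsg.Agent.H23.Components

/-!
# TI subgroups
-/

set_option autoImplicit false

namespace H6

open Subgroup H22
open scoped commutatorElement

variable {G : Type*} [Group G]

/-- `A` meets each conjugate trivially or equals it -/
def IsTI (A : Subgroup G) : Prop := ∀ g : G, cj g A = A ∨ cj g A ⊓ A = ⊥

theorem IsTI.mem_normalizer {A : Subgroup G} (h : IsTI A) {g a : G} (ha : a ∈ A) (ha1 : a ≠ 1)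
    (hg : g * a * g⁻¹ ∈ A) : g ∈ normalizer (A : Set G) := by
  rcases h g with h | h
  · exact cj_eq_iff.1 h
  · have : g * a * g⁻¹ ∈ cj g A ⊓ A := ⟨conj_mem_cj ha, hg⟩
    rw [h, mem_bot, conj_eq_one_iff] at this
    exact absurd this ha1

theorem IsTI.mem_normalizer_of_comm {A : Subgroup G} (h : IsTI A) {g a : G} (ha : a ∈ A)
    (ha1 : a ≠ 1) (hg : g * a = a * g) : g ∈ normalizer (A : Set G) :=
  h.mem_normalizer ha ha1 (by rw [hg, mul_inv_cancel_right]; exact ha)

theorem IsTI.cj {A : Subgroup G} (h : IsTI A) (g : G) : IsTI (cj g A) := by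
  intro k
  have e : H22.cj k (H22.cj g A) = H22.cj g (H22.cj (g⁻¹ * k * g) A) := by
    rw [← cj_mul, ← cj_mul]; congr 1; group
  rcases h (g⁻¹ * k * g) with h | h
  · left; rw [e, h]
  · right; rw [e, ← cj_inf, h, cj_bot]

theorem mul_comm_of_normalizes {A B : Subgroup G} (hAB : A ⊓ B = ⊥) {a b : G} (ha : a ∈ A)
    (hb : b ∈ B) (h1 : a ∈ normalizer (B : Set G)) (h2 : b ∈ normalizer (A : Set G)) :
    a * b = b * a := by
  have : a * b * a⁻¹ * b⁻¹ ∈ A ⊓ B := by
    refine mem_inf.2 ⟨?_, mul_mem (conj_mem_of_mem_normalizer h1 hb) (inv_mem hb)⟩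
    have := mul_mem ha (conj_mem_of_mem_normalizer h2 (inv_mem ha))
    simpa only [mul_assoc] using this
  rw [hAB, mem_bot] at this
  calc a * b = (a * b * a⁻¹ * b⁻¹) * (b * a) := by group
    _ = b * a := by rw [this, one_mul]

theorem commutator_eq_bot_of_ti [Finite G] {A B : Subgroup G} (hBti : IsTI B)
    (hle : Nat.card A ≤ Nat.card B) (hAB : A ⊓ B = ⊥) (hN : B ≤ normalizer (A : Set G)) :
    ⁅A, B⁆ = ⊥ := by
  rw [H23.comm_bot_iff]
  intro a ha b hb
  by_cases ha1 : a = 1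
  · simp [ha1]
  have : ∃ c ∈ B, c ≠ 1 ∧ a * c = c * a := by
    by_contra hcon
    push Not at hcon
    let f : Option B → A := fun o => match o with
      | none => 1
      | some b => ⟨b * a * (b : G)⁻¹, conj_mem_of_mem_normalizer (hN b.2) ha⟩
    have hf : Function.Injective f := by
      rintro (_ | b₁) (_ | b₂) h
      · rfl
      · have := congrArg Subtype.val h
        exact absurd (conj_eq_one_iff.1 this.symm) ha1
      · have := congrArg Subtype.val h
        exact absurd (conj_eq_one_iff.1 this) ha1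
      · have h' : (b₁ : G) * a * (b₁ : G)⁻¹ = b₂ * a * (b₂ : G)⁻¹ := congrArg Subtype.val h
        by_contra hne
        refine hcon ((b₂ : G)⁻¹ * b₁) (mul_mem (inv_mem b₂.2) b₁.2) (fun h1 => hne ?_) ?_
        · rw [inv_mul_eq_one] at h1
          rw [Subtype.ext h1]
        · calc a * ((b₂ : G)⁻¹ * b₁) = (b₂ : G)⁻¹ * (b₂ * a * (b₂ : G)⁻¹) * b₁ := by group
            _ = (b₂ : G)⁻¹ * (b₁ * a * (b₁ : G)⁻¹) * b₁ := by rw [h']
            _ = _ := by group
    have := Nat.card_le_card_of_injective f hf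
    rw [Finite.card_option] at this
    omega
  obtain ⟨c, hc, hc1, hac⟩ := this
  exact mul_comm_of_normalizes hAB ha hb (hBti.mem_normalizer_of_comm hc hc1 hac) (hN hb)

theorem cj_eq_of_le_centralizer [Finite G] {A : Subgroup G} (hTI : IsTI A)
    (hb : ∀ g : G, (∀ a ∈ A, ∀ b ∈ cj g A, a * b = b * a) → cj g A = A)
    {a : G} (ha : a ∈ A) (ha1 : a ≠ 1) (g : G) (hg : cj g A ≤ centralizer ({a} : Set G)) :
    cj g A = A := by
  rcases hTI g with h | h
  · exact h
  apply hb
  rw [← H23.comm_bot_iff]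
  refine commutator_eq_bot_of_ti (hTI.cj g) (card_cj g A).ge (by rw [inf_comm, h]) fun b hb => ?_
  exact hTI.mem_normalizer_of_comm ha ha1 (mem_centralizer_singleton.1 (hg hb))

theorem fixes_of_sq_fixes_step {A : Type*} [CommGroup A] (hA : IsPGroup 2 A) (t : MulAut A)
    (hC : ∀ a : A, t (t a) = a → t a = a) (a : A) (h4 : t (t (t (t a))) = a) : t (t a) = a := by
  obtain ⟨k, hk⟩ := hA (t (t a) / a)
  induction k generalizing a with
  | zero => simpa [div_eq_one] using hk
  | succ k ih =>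
    have h1 : t (t (a ^ 2)) = a ^ 2 := by
      apply ih
      · simp only [map_pow, h4]
      · rw [map_pow, map_pow, ← div_pow, ← pow_mul, ← pow_succ', hk]
    have h2 := hC _ h1
    rw [map_pow] at h2
    rw [map_pow, map_pow] at h1
    have hb2 : (t (t a) / a) ^ 2 = 1 := by rw [div_pow, h1, div_self']
    have hb : t (t (t (t a) / a)) = t (t a) / a := by
      rw [map_div, map_div, h4, ← inv_div, inv_eq_iff_mul_eq_one, ← sq, hb2]
    have hb' := hC _ hb
    rw [map_div] at hb'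
    have hc : t (t (t a / a)) = t a / a := by
      rw [map_div, map_div]
      rw [div_eq_div_iff_mul_eq_mul] at hb' ⊢
      rw [hb', mul_comm]
    have hc' := hC _ hc
    rw [map_div, div_eq_div_iff_mul_eq_mul, ← sq, h2, sq] at hc'
    exact mul_right_cancel hc'

theorem fixes_of_sq_fixes {A : Type*} [CommGroup A] (hA : IsPGroup 2 A) (t : MulAut A) {k : ℕ}
    (ht : t ^ 2 ^ k = 1) (hC : ∀ a : A, t (t a) = a → t a = a) (a : A) : t a = a := by
  induction k generalizing t with
  | zero =>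
    rw [pow_zero, pow_one] at ht
    simp [ht]
  | succ k ih =>
    apply hC
    have := ih (t * t) (by rw [← sq, ← pow_mul, ← pow_succ', ht])
      (fun a ha => fixes_of_sq_fixes_step hA t hC a ha)
    exact this

theorem comm_of_isMulCommutative {A : Subgroup G} (hA : IsMulCommutative A) {a b : G}
    (ha : a ∈ A) (hb : b ∈ A) : a * b = b * a :=
  congrArg Subtype.val (hA.is_comm.comm ⟨a, ha⟩ ⟨b, hb⟩)

theorem isMulCommutative_of_comm {A : Subgroup G} (h : ∀ a ∈ A, ∀ b ∈ A, a * b = b * a) :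
    IsMulCommutative A :=
  ⟨⟨fun a b => Subtype.ext (h a a.2 b b.2)⟩⟩

theorem elementary_or_commute_of_ti [Finite G] {A B : Subgroup G} (hA2 : IsPGroup 2 A)
    (hB2 : IsPGroup 2 B) (hAa : IsMulCommutative A) (hBa : IsMulCommutative B)
    (hA : IsTI A) (hB : IsTI B) (hAB : A ⊓ B = ⊥) (hle : Nat.card A ≤ Nat.card B) :
    Cfsg.IsElementaryAbelian 2 (A ⊓ normalizer (B : Set G)) ∨ ⁅A, B⁆ = ⊥ := by
  by_cases h : ∀ a ∈ A ⊓ normalizer (B : Set G), a ^ 2 = 1
  · left
    refine ⟨⟨⟨fun a b => Subtype.ext ?_⟩⟩, h⟩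
    exact comm_of_isMulCommutative hAa a.2.1 b.2.1
  right
  push Not at h
  obtain ⟨t, ⟨htA, htN⟩, ht2⟩ := h
  have ht1 : t ≠ 1 := by rintro rfl; simp at ht2
  let _ : CommGroup B := { (inferInstance : Group B) with mul_comm := hBa.is_comm.comm }
  obtain ⟨k, hk⟩ := isPGroup_iff_forall_mem.1 hA2 t htA
  let τ : MulAut B := B.normalizerMonoidHom ⟨t, htN⟩
  have hτ : ∀ b : B, (τ b : G) = t * b * t⁻¹ := fun b => rfl
  have hfix := fixes_of_sq_fixes hB2 τ (k := k) (by
    rw [← map_pow]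
    have : (⟨t, htN⟩ : normalizer (B : Set G)) ^ 2 ^ k = 1 := Subtype.ext hk
    rw [this, map_one]) (fun b hb => by
      have h1 : t * (t * b * t⁻¹) * t⁻¹ = b := congrArg Subtype.val hb
      have h2 : (b : G) * t ^ 2 = t ^ 2 * b := by
        nth_rewrite 1 [← h1]
        rw [sq]; group
      have h3 := mul_comm_of_normalizes hAB htA b.2 htN
        (hA.mem_normalizer_of_comm (pow_mem htA 2) ht2 h2)
      apply Subtype.ext
      rw [hτ, h3, mul_inv_cancel_right])
  refine commutator_eq_bot_of_ti hB hle hAB fun b hb => ?_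
  apply hA.mem_normalizer_of_comm htA ht1
  have h1 : t * b * t⁻¹ = b := congrArg Subtype.val (hfix ⟨b, hb⟩)
  nth_rewrite 1 [← h1]
  group

theorem centralizer_le_normalizer_of_tightlyEmbedded {K : Subgroup G}
    (hK : Cfsg.IsTightlyEmbedded K) {t : G} (ht : orderOf t = 2) (htK : t ∈ K) {g : G}
    (hg : g * t * g⁻¹ ∈ K) : g ∈ normalizer (K : Set G) := by
  by_contra hn
  have h1 := hK.2 g hn
  have h2 : Even (Nat.card ↥(K ⊓ cj g K)) :=
    even_card_of_involution_mem (t := g * t * g⁻¹) ⟨hg, conj_mem_cj htK⟩ (by rw [orderOf_conj, ht])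
  exact (Nat.not_even_iff_odd.2 h1) h2

theorem standard_centralizer_le (A : Subgroup G) (hA : Cfsg.IsStandardSubgroup A) (t : G)
    (ht : orderOf t = 2) (htA : t ∈ Subgroup.centralizer (A : Set G)) :
    Subgroup.centralizer ({t} : Set G) ≤ Subgroup.normalizer (A : Set G) ∧
      Cfsg.IsComponent (A.subgroupOf (Subgroup.centralizer ({t} : Set G))) := by
  have h1 : Subgroup.centralizer ({t} : Set G) ≤ Subgroup.normalizer (A : Set G) := by
    intro g hg
    rw [hA.2.2.2]
    apply centralizer_le_normalizer_of_tightlyEmbedded hA.2.1 ht htA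
    rw [mem_centralizer_singleton.1 hg, mul_inv_cancel_right]
    exact htA
  have h2 : A ≤ Subgroup.centralizer ({t} : Set G) :=
    fun a ha => mem_centralizer_singleton.2 (htA a ha)
  exact ⟨h1, (normal_subgroupOf_of_le_normalizer h1).isSubnormal, (H23.isQuasisimple_subgroupOf_iff h2).2 hA.1⟩

theorem ti_of_symplectic [Finite G] (z : G) (hz : orderOf z = 2)
    (hQ : Cfsg.IsOfSymplecticType
      ↥(Cfsg.generalizedFittingSubgroup ↥(Subgroup.centralizer ({z} : Set G))))
    (B : Subgroup ↥(Cfsg.generalizedFittingSubgroup ↥(Subgroup.centralizer ({z} : Set G))))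
    (hBc : B.Characteristic) (hBa : IsMulCommutative ↥B) :
    IsTI ((B.map (Cfsg.generalizedFittingSubgroup
      ↥(Subgroup.centralizer ({z} : Set G))).subtype).map
        (Subgroup.centralizer ({z} : Set G)).subtype) := by
  revert B hQ
  set C := Subgroup.centralizer ({z} : Set G) with hC
  set Q := Cfsg.generalizedFittingSubgroup C with hQdef
  intro hQ B hBc hBa
  have hzC : z ∈ C := mem_centralizer_singleton.2 rfl
  have hzQ : (⟨z, hzC⟩ : C) ∈ Q := by
    apply H23.centralizer_fstar_le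
    intro c _
    exact Subtype.ext (mem_centralizer_singleton.1 c.2)
  let z' : Q := ⟨⟨z, hzC⟩, hzQ⟩
  have hz'Z : z' ∈ center Q :=
    mem_center_iff.2 fun q => Subtype.ext (Subtype.ext (mem_centralizer_singleton.1 q.1.2))
  have hcomm : IsMulCommutative ↥(B ⊔ center Q) := by
    apply isMulCommutative_of_comm
    intro a ha b hb
    obtain ⟨a₁, ha₁, a₂, ha₂, rfl⟩ := (mem_sup_of_le_normalizer (A := B) (B := center Q)
      (by rw [normalizer_eq_top]; exact le_top)).1 ha
    obtain ⟨b₁, hb₁, b₂, hb₂, rfl⟩ := (mem_sup_of_le_normalizer (A := B) (B := center Q)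
      (by rw [normalizer_eq_top]; exact le_top)).1 hb
    rw [mem_center_iff] at ha₂ hb₂
    have h := comm_of_isMulCommutative hBa ha₁ hb₁
    calc a₁ * a₂ * (b₁ * b₂) = a₁ * (a₂ * b₁) * b₂ := by group
      _ = (a₁ * b₁) * (a₂ * b₂) := by rw [← ha₂ b₁]; group
      _ = b₁ * (a₁ * b₂) * a₂ := by rw [h, hb₂ a₂]; group
      _ = _ := by rw [hb₂ a₁]; group
  have hcyc := hQ.2 (B ⊔ center Q) (characteristic_iff_map_eq.2 fun φ => by
    rw [Subgroup.map_sup, characteristic_iff_map_eq.1 hBc, characteristic_iff_map_eq.1 inferInstance]) hcomm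
  have key : ∀ w ∈ (B.map Q.subtype).map C.subtype, orderOf w = 2 → w = z := by
    rintro _ ⟨_, ⟨w, hw, rfl⟩, rfl⟩ hw2
    have := eq_of_isCyclic_of_orderOf_two hcyc (mem_sup_left hw) (mem_sup_right hz'Z)
      (by rw [← Subgroup.orderOf_coe, ← Subgroup.orderOf_coe]; exact hw2)
      (by rw [← Subgroup.orderOf_coe, ← Subgroup.orderOf_coe]; exact hz)
    rw [this]; rfl
  have hp : IsPGroup 2 ↥((B.map Q.subtype).map C.subtype) :=
    ((hQ.1.to_subgroup B).map _).map _
  intro g
  rw [or_iff_not_imp_right]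
  intro hne
  obtain ⟨w, ⟨hw1, hw2⟩, hw⟩ := exists_involution_mem_of_isPGroup hp.to_inf_right hne
  have e1 := key w hw2 hw
  have e2 := key _ (mem_cj.1 hw1) (by
    rw [← hw, ← orderOf_conj g⁻¹ w, inv_inv])
  have hg : g ∈ C := by
    rw [hC, mem_centralizer_singleton]
    rw [e1] at e2
    nth_rewrite 1 [← e2]
    group
  have hn : (B.map Q.subtype).Normal := inferInstance
  rw [cj_eq_iff]
  apply mem_normalizer_of_conj_mem
  rintro _ ⟨b, hb, rfl⟩
  exact ⟨_, hn.conj_mem b hb ⟨g, hg⟩, rfl⟩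

theorem isStronglyPEmbedded_two_iff [Finite G] {M : Subgroup G} :
    Cfsg.IsStronglyPEmbedded 2 M ↔ Cfsg.IsStronglyEmbedded M := by
  have hrank : ∀ Q : Subgroup G, IsPGroup 2 Q → (¬ Cfsg.PRankLE 2 (1 - 1) Q ↔ Q ≠ ⊥) := by
    intro Q hQ
    constructor
    · rintro h rfl
      apply h
      intro A _ _
      simp [Nat.card_unique]
    · intro hne h
      obtain ⟨t, htQ, ht⟩ := exists_involution_mem_of_isPGroup hQ hne
      have := h (zpowers (⟨t, htQ⟩ : Q)) inferInstance (by
        rintro _ ⟨k, rfl⟩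
        have : (⟨t, htQ⟩ : Q) ^ 2 = 1 := Subtype.ext (by
          show t ^ 2 = 1
          rw [← ht, pow_orderOf_eq_one])
        show ((⟨t, htQ⟩ : Q) ^ k) ^ 2 = 1
        rw [← zpow_natCast, ← zpow_mul, mul_comm, zpow_mul, zpow_natCast, this, one_zpow])
      rw [Nat.card_zpowers, ← Subgroup.orderOf_coe, ht] at this
      omega
  constructor
  · rintro ⟨hev, hM, P, hP⟩
    obtain ⟨t, ht⟩ := exists_involution_of_even (even_iff_two_dvd.2 hev)
    have hP1 := sylow_ne_bot_of_involution P ht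
    have hN : ∀ Q : Subgroup G, Q ≤ P → Q ≠ ⊥ → normalizer (Q : Set G) ≤ M := fun Q hQ hne =>
      le_trans (le_iSup (fun Q : {Q : Subgroup G // Q ≤ P ∧ ¬ Cfsg.PRankLE 2 (1 - 1) Q} =>
        normalizer ((Q : Subgroup G) : Set G))
        ⟨Q, hQ, (hrank Q (P.isPGroup'.to_le hQ)).2 hne⟩) hP
    have hPM : (P : Subgroup G) ≤ M := le_normalizer.trans (hN P le_rfl hP1)
    obtain ⟨s, hsP, hs⟩ := exists_involution_mem_of_isPGroup P.isPGroup' hP1
    refine isStronglyEmbedded_of_normalizer_le M hM (even_card_of_involution_mem (hPM hsP) hs)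
      fun X hXM hX hne => ?_
    obtain ⟨m, hm, hle⟩ := (sylIn_of_sylow_le P hPM).exists_cj_le hXM hX
    have h1 := hN _ hle (fun h => hne (cj_injective m (h.trans (cj_bot m).symm)))
    rw [← cj_normalizer, cj_le_iff_le_cj_inv, cj_eq_of_mem (inv_mem hm)] at h1
    exact h1
  · intro h
    obtain ⟨t, htM, ht⟩ := exists_involution_mem_of_even h.2.1
    obtain ⟨S, hS, htS⟩ := exists_sylIn (zpowers_le.2 htM) (isPGroup_zpowers_of_orderOf_two ht)
    obtain ⟨P, rfl⟩ := exists_sylow_eq_of_normalizer_le hS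
      (normalizer_le_of_isStronglyEmbedded h hS.le
        (even_card_of_involution_mem (htS (mem_zpowers t)) ht))
    refine ⟨even_iff_two_dvd.1 (even_card_of_orderOf_two ht), h.1, P, iSup_le ?_⟩
    rintro ⟨Q, hQ, hQr⟩
    have hQp := P.isPGroup'.to_le hQ
    obtain ⟨s, hsQ, hs⟩ := exists_involution_mem_of_isPGroup hQp ((hrank Q hQp).1 hQr)
    exact normalizer_le_of_isStronglyEmbedded h (hQ.trans hS.le)
      (even_card_of_involution_mem hsQ hs)

theorem isStronglyEmbedded_subgroupOf [Finite G] {M H : Subgroup G}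
    (hM : Cfsg.IsStronglyEmbedded M) (heven : Even (Nat.card ↥(H ⊓ M))) (hHM : ¬ H ≤ M) :
    Cfsg.IsStronglyEmbedded (M.subgroupOf H) := by
  rw [isStronglyEmbedded_iff] at hM ⊢
  obtain ⟨t, ⟨htH, htM⟩, ht⟩ := exists_involution_mem_of_even heven
  refine ⟨fun h => hHM (subgroupOf_eq_top.1 h), even_card_of_involution_mem (t := ⟨t, htH⟩) htM
    (by rw [← Subgroup.orderOf_coe]; exact ht), fun g s hs hs2 hg => ?_⟩
  exact hM.2.2 g s hs (by rw [Subgroup.orderOf_coe]; exact hs2) hg

theorem isStronglyEmbedded_closure_involutions [Finite G] {M H : Subgroup G}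
    (hM : Cfsg.IsStronglyEmbedded M) (heven : Even (Nat.card ↥(H ⊓ M))) (hHM : ¬ H ≤ M) :
    ¬ Subgroup.closure {h : G | h ∈ H ∧ orderOf h = 2} ≤ M ∧
      Cfsg.IsStronglyEmbedded ((Subgroup.closure {h : G | h ∈ H ∧ orderOf h = 2} ⊓ M).subgroupOf
        (Subgroup.closure {h : G | h ∈ H ∧ orderOf h = 2})) := by
  obtain ⟨t, ⟨htH, htM⟩, ht⟩ := exists_involution_mem_of_even heven
  have h1 : ¬ Subgroup.closure {h : G | h ∈ H ∧ orderOf h = 2} ≤ M := by
    intro h
    apply hHM
    intro g hg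
    refine (isStronglyEmbedded_iff.1 hM).2.2 g t htM ht (h (subset_closure ⟨?_, ?_⟩))
    · exact mul_mem (mul_mem hg htH) (inv_mem hg)
    · rw [orderOf_conj, ht]
  refine ⟨h1, ?_⟩
  rw [inf_subgroupOf_left]
  exact isStronglyEmbedded_subgroupOf hM
    (even_card_of_involution_mem (t := t) ⟨subset_closure ⟨htH, ht⟩, htM⟩ ht) h1

end H6
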