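import Mathlib
import Cfsg.Agent.H6.TI
import Cfsg.Agent.H6.RankThree
import Cfsg.Agent.H3.Extraspecial
import Cfsg.Agent.H23.Rel

/-!
# Duality in extraspecial 2-groups, involutions acting on them
-/

set_option autoImplicit false

namespace H6

open Subgroup H22
open scoped commutatorElement

variable {G : Type*} [Group G]

/-- double counting of commuting pairs -/
theorem card_mul_card_inf_centralizer [Finite G] {R S : Subgroup G}
    (h1 : ∀ r ∈ R, r ∉ centralizer (S : Set G) →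
      Nat.card S = 2 * Nat.card ↥(S ⊓ centralizer {r}))
    (h2 : ∀ s ∈ S, s ∉ centralizer (R : Set G) →
      Nat.card R = 2 * Nat.card ↥(R ⊓ centralizer {s})) :
    Nat.card R * Nat.card ↥(S ⊓ centralizer (R : Set G)) =
      Nat.card S * Nat.card ↥(R ⊓ centralizer (S : Set G)) := by
  classical
  have := Fintype.ofFinite G
  have hc : ∀ K : Subgroup G, Nat.card K = (Finset.univ.filter (· ∈ K)).card := fun K => by
    rw [Nat.card_eq_fintype_card, Fintype.card_subtype]
  have key : ∀ R S : Subgroup G, (∀ r ∈ R, r ∉ centralizer (S : Set G) →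
      Nat.card S = 2 * Nat.card ↥(S ⊓ centralizer {r})) →
      2 * ∑ r ∈ Finset.univ.filter (· ∈ R), ∑ s ∈ Finset.univ.filter (· ∈ S),
        (if r * s = s * r then 1 else 0) =
      Nat.card R * Nat.card S + Nat.card S * Nat.card ↥(R ⊓ centralizer (S : Set G)) := by
    intro R S h
    have e1 : ∀ r ∈ Finset.univ.filter (· ∈ R), 2 * ∑ s ∈ Finset.univ.filter (· ∈ S),
        (if r * s = s * r then 1 else 0) =
        Nat.card S + Nat.card S * (if r ∈ centralizer (S : Set G) then 1 else 0) := by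
      intro r hr
      have e2 : ∑ s ∈ Finset.univ.filter (· ∈ S), (if r * s = s * r then 1 else 0) =
          Nat.card ↥(S ⊓ centralizer {r}) := by
        rw [hc, ← Finset.card_filter, Finset.filter_filter]
        congr 1
        apply Finset.filter_congr
        intro s _
        rw [mem_inf, mem_centralizer_singleton, eq_comm]
      rw [e2]
      split_ifs with hr'
      · rw [inf_of_le_left (a := S) fun s hs => mem_centralizer_singleton.2 (hr' s hs)]
        ring
      · rw [← h r (Finset.mem_filter.1 hr).2 hr']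
        ring
    rw [Finset.mul_sum, Finset.sum_congr rfl e1, Finset.sum_add_distrib, Finset.sum_const,
      ← Finset.mul_sum, ← Finset.card_filter, Finset.filter_filter, hc R,
      hc (R ⊓ centralizer (S : Set G)), smul_eq_mul]
    simp only [mem_inf]
  have e1 := key R S h1
  have e2 := key S R h2
  rw [Finset.sum_comm] at e2
  have e3 : Nat.card R * Nat.card S + Nat.card S * Nat.card ↥(R ⊓ centralizer (S : Set G)) =
      Nat.card S * Nat.card R + Nat.card R * Nat.card ↥(S ⊓ centralizer (R : Set G)) := by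
    rw [← e1, ← e2]
    congr 1
    refine Finset.sum_congr rfl fun _ _ => Finset.sum_congr rfl fun _ _ => ?_
    simp only [eq_comm]
  rw [mul_comm (Nat.card S) (Nat.card R)] at e3
  omega

theorem xs_card_mul [Finite G] {z : G} {Q R : Subgroup G} (h : H3.XS 2 z Q) (hR : R ≤ Q)
    (hz : z ∈ R) : Nat.card R * Nat.card ↥(Q ⊓ centralizer (R : Set G)) = Nat.card Q * 2 := by
  have aux : ∀ R S : Subgroup G, R ≤ Q → S ≤ Q → ∀ r ∈ R, r ∉ centralizer (S : Set G) →
      Nat.card S = 2 * Nat.card ↥(S ⊓ centralizer {r}) := by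
    intro R S hR hS r hr hn
    rw [mem_centralizer_iff] at hn
    push Not at hn
    obtain ⟨s, hs, hsr⟩ := hn
    exact h.card_eq_aux hS (hR hr) hs hsr
  rw [card_mul_card_inf_centralizer (aux R Q hR le_rfl) (aux Q R le_rfl hR)]
  congr 1
  rw [← h.ord, ← Nat.card_zpowers]
  congr 2
  apply le_antisymm
  · exact fun x hx => h.center_le x (hR hx.1) fun y hy => (hx.2 y hy).symm
  · exact zpowers_le.2 ⟨hz, fun y hy => (h.central y hy).symm⟩

theorem xs_centralizer_centralizer [Finite G] {z : G} {Q R : Subgroup G} (h : H3.XS 2 z Q)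
    (hR : R ≤ Q) (hz : z ∈ R) :
    Q ⊓ centralizer ((Q ⊓ centralizer (R : Set G) : Subgroup G) : Set G) = R := by
  symm
  refine eq_of_le_of_card_ge (le_inf hR fun r hr c hc => (hc.2 r hr).symm) ?_
  have h1 := xs_card_mul h hR hz
  have h2 := xs_card_mul h (R := Q ⊓ centralizer (R : Set G)) inf_le_left
    ⟨h.mem, fun r hr => (h.central r (hR hr)).symm⟩
  rw [← h1, mul_comm] at h2
  exact (Nat.eq_of_mul_eq_mul_right Nat.card_pos h2).le

/-- if `C_Q(t)` has index at most 2 in `Q`, then `[t, Q]` is central in `Q` -/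
theorem commutator_central_of_relIndex_le_two [Finite G] {Q : Subgroup G} {t : G}
    (ht : t * t = 1) (htN : t ∈ normalizer (Q : Set G))
    (hi : (centralizer ({t} : Set G) ⊓ Q).relIndex Q ≤ 2) {q : G} (hq : q ∈ Q) :
    ∀ y ∈ Q, Commute ⁅t, q⁆ y := by
  by_cases hqC : q ∈ centralizer ({t} : Set G)
  · intro y _
    rw [commutatorElement_eq_one_iff_mul_comm.2 (mem_centralizer_singleton.1 hqC).symm]
    exact Commute.one_left y
  rw [inf_relIndex_right] at hi
  have hi2 : (centralizer ({t} : Set G)).relIndex Q = 2 := by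
    have h0 : (centralizer ({t} : Set G)).relIndex Q ≠ 0 := index_ne_zero_of_finite
    have h1 : (centralizer ({t} : Set G)).relIndex Q ≠ 1 := fun e =>
      hqC (relIndex_eq_one.1 e hq)
    omega
  have hmul : ∀ a ∈ Q, ∀ b ∈ Q, a * b ∈ centralizer ({t} : Set G) ↔
      (a ∈ centralizer ({t} : Set G) ↔ b ∈ centralizer ({t} : Set G)) := fun a ha b hb =>
    mul_mem_iff_of_index_two (H := (centralizer ({t} : Set G)).subgroupOf Q) hi2
      (a := ⟨a, ha⟩) (b := ⟨b, hb⟩)
  have htq : t * q * t⁻¹ ∈ Q := conj_mem_of_mem_normalizer htN hq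
  have hd : ⁅t, q⁆ ∈ centralizer ({t} : Set G) := by
    rw [commutatorElement_def, hmul _ htq _ (inv_mem hq), inv_mem_iff, iff_false_right hqC]
    intro h
    apply hqC
    rw [mem_centralizer_singleton] at h ⊢
    calc q * t = t⁻¹ * (t * q * t⁻¹ * t) * t := by group
      _ = _ := by rw [h]; group
  have e : t * q * t⁻¹ = ⁅t, q⁆ * q := by rw [commutatorElement_def]; group
  set d := ⁅t, q⁆
  have hcj : ∀ c ∈ centralizer ({t} : Set G), t * c * t⁻¹ = c := fun c hc => by
    rw [← mem_centralizer_singleton.1 hc, mul_inv_cancel_right]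
  have hd2 : d * d = 1 := by
    have : t * (t * q * t⁻¹) * t⁻¹ = q := by
      calc _ = (t * t) * q * (t * t)⁻¹ := by group
        _ = q := by rw [ht]; group
    rw [e, show t * (d * q) * t⁻¹ = (t * d * t⁻¹) * (t * q * t⁻¹) by group, hcj d hd, e,
      ← mul_assoc] at this
    exact mul_eq_right.1 this
  have hdq : Commute d q := by
    have := hcj _ ((hmul q hq q hq).2 Iff.rfl)
    rw [show t * (q * q) * t⁻¹ = (t * q * t⁻¹) * (t * q * t⁻¹) by group, e, ← mul_assoc,
      mul_left_inj] at this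
    show d * q = q * d
    calc d * q = d * q * (d * d) := by rw [hd2, mul_one]
      _ = _ := by rw [← mul_assoc, this]
  have hdC : ∀ c ∈ Q, c ∈ centralizer ({t} : Set G) → Commute d c := by
    intro c hcQ hc
    have h1 : q⁻¹ * c * q ∈ centralizer ({t} : Set G) := by
      rw [hmul _ (mul_mem (inv_mem hq) hcQ) _ hq, hmul _ (inv_mem hq) _ hcQ, inv_mem_iff]
      tauto
    have h2 := hcj c hc
    rw [show t * c * t⁻¹ = (t * q * t⁻¹) * (t * (q⁻¹ * c * q) * t⁻¹) * (t * q * t⁻¹)⁻¹ by group,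
      hcj _ h1, e] at h2
    show d * c = c * d
    nth_rewrite 2 [← h2]
    group
  intro y hy
  by_cases hyC : y ∈ centralizer ({t} : Set G)
  · exact hdC y hy hyC
  · have := hdC _ (mul_mem hq hy) ((hmul q hq y hy).2 (by tauto))
    have h3 := hdq.inv_right.mul_right this
    rwa [inv_mul_cancel_left] at h3

theorem xs_commute_of_mem_normalizer {z t : G} {Q : Subgroup G} (h : H3.XS 2 z Q)
    (htN : t ∈ normalizer (Q : Set G)) : Commute z t := by
  have h1 : t * z * t⁻¹ ∈ zpowers z := by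
    refine h.center_le _ (conj_mem_of_mem_normalizer htN h.mem) fun y hy => ?_
    have := (h.central _ (conj_mem_of_mem_normalizer' htN hy)).eq
    show t * z * t⁻¹ * y = y * (t * z * t⁻¹)
    calc t * z * t⁻¹ * y = t * (z * (t⁻¹ * y * t)) * t⁻¹ := by group
      _ = _ := by rw [this]; group
  rcases (mem_zpowers_of_orderOf_two h.ord).1 h1 with e | e
  · exact absurd (conj_eq_one_iff.1 e) h.z_ne_one
  · show z * t = t * z
    nth_rewrite 1 [← e]
    group

theorem mem_sup_centralizer_of_relIndex_le_two [Finite G] (Q : Subgroup G)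
    (hQ : Cfsg.IsExtraspecial 2 ↥Q) (t : G) (ht : orderOf t = 2)
    (htN : t ∈ Subgroup.normalizer (Q : Set G))
    (hi : (Subgroup.centralizer ({t} : Set G) ⊓ Q).relIndex Q ≤ 2) :
    t ∈ Q ⊔ Subgroup.centralizer (Q : Set G) := by
  obtain ⟨z, h, -, -⟩ := H3.IsExtraspecial.exists_xs hQ
  obtain ⟨e, he, hc⟩ := h.exists_mul_mem_centralizer (xs_commute_of_mem_normalizer h htN)
    (fun k hk => h.center_le _ (mul_mem (conj_mem_of_mem_normalizer htN hk) (inv_mem hk))
      (commutator_central_of_relIndex_le_two (mul_self_of_orderOf_two ht) htN hi hk))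
  have : e⁻¹ * (e * t) ∈ Q ⊔ Subgroup.centralizer (Q : Set G) :=
    mul_mem (mem_sup_left (inv_mem he)) (mem_sup_right fun k hk => hc k hk)
  rwa [inv_mul_cancel_left] at this

theorem xs_commutator_eq_center [Finite G] {z α : G} {Q : Subgroup G} (h : H3.XS 2 z Q)
    (hα : α * α = 1) (hN : α ∈ normalizer (Q : Set G)) (hne : ∃ q ∈ Q, ¬ Commute α q)
    {Q₀ : Subgroup G} (hQ₀ : ∀ q : G, q ∈ Q₀ ↔ (q ∈ Q ∧ ⁅α, q⁆ ∈ zpowers z)) :
    closure ((fun q : G => ⁅α, q⁆) '' (Q : Set G)) = Q₀ ⊓ centralizer (Q₀ : Set G) := by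
  set R := closure ((fun q : G => ⁅α, q⁆) '' (Q : Set G)) with hRdef
  have hmem : ∀ q ∈ Q, ⁅α, q⁆ ∈ Q := fun q hq =>
    mul_mem (conj_mem_of_mem_normalizer hN hq) (inv_mem hq)
  have hgen : ∀ q ∈ Q, ⁅α, q⁆ ∈ R := fun q hq => subset_closure ⟨q, hq, rfl⟩
  have hRQ : R ≤ Q := (closure_le _).2 (by rintro _ ⟨q, hq, rfl⟩; exact hmem q hq)
  have hzR : z ∈ R := by
    obtain ⟨q, hq, hc⟩ := hne
    by_cases h1 : ⁅α, q⁆ ∈ zpowers z
    · rcases (mem_zpowers_of_orderOf_two h.ord).1 h1 with e | e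
      · exact absurd (commutatorElement_eq_one_iff_commute.1 e) hc
      · exact e ▸ hgen q hq
    · obtain ⟨y, hy, e⟩ := h.exists_partner (hmem q hq) h1
      have : z = ⁅α, q⁆ * (⁅α, y * q⁆⁻¹ * ⁅α, y⁆) := by
        rw [← e]; simp only [commutatorElement_def]; group
      rw [this]
      exact mul_mem (hgen q hq) (mul_mem (inv_mem (hgen _ (mul_mem hy hq))) (hgen y hy))
  have hzα := xs_commute_of_mem_normalizer h hN
  have hcen : ∀ c ∈ zpowers z, α * c * α⁻¹ = c := by
    rintro _ ⟨k, rfl⟩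
    rw [← (hzα.zpow_left k).eq, mul_inv_cancel_right]
  -- the commutator form is `α`-invariant
  have hform : ∀ x ∈ Q, ∀ q ∈ Q, Commute x ⁅α, q⁆ ↔ Commute ⁅α, x⁆ q := by
    intro x hx q hq
    have h1 := hcen _ (h.comm x hx _ (conj_mem_of_mem_normalizer hN hq))
    have h2 : α * ⁅x, α * q * α⁻¹⁆ * α⁻¹ = ⁅α * x * α⁻¹, q⁆ := by
      calc _ = ⁅α * x * α⁻¹, (α * α) * q * (α * α)⁻¹⁆ := by
            simp only [commutatorElement_def]; group
        _ = _ := by rw [hα]; simp
    rw [h2] at h1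
    have h3 := (h.commute_of_mem (h.comm x hx q hq) (hmem q hq)).eq
    have h4 := (h.commute_of_mem (h.comm x hx q hq) (hmem x hx)).eq
    have e1 : ⁅x, α * q * α⁻¹⁆ = ⁅x, ⁅α, q⁆⁆ * (⁅α, q⁆ * ⁅x, q⁆ * ⁅α, q⁆⁻¹) := by
      simp only [commutatorElement_def]; group
    have e2 : ⁅α * x * α⁻¹, q⁆ = (⁅α, x⁆ * ⁅x, q⁆ * ⁅α, x⁆⁻¹) * ⁅⁅α, x⁆, q⁆ := by
      simp only [commutatorElement_def]; group
    rw [← h3, mul_inv_cancel_right] at e1
    rw [← h4, mul_inv_cancel_right,
      (h.commute_of_mem (h.comm x hx q hq) (zpowers_le.2 h.mem (h.comm _ (hmem x hx) q hq))).eq]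
      at e2
    rw [e1, e2, mul_left_inj] at h1
    rw [← commutatorElement_eq_one_iff_commute, ← commutatorElement_eq_one_iff_commute, h1]
  have hQ₀eq : Q₀ = Q ⊓ centralizer (R : Set G) := by
    ext x
    rw [hQ₀, mem_inf, hRdef, centralizer_closure]
    refine and_congr_right fun hx => ⟨?_, fun hc => ?_⟩
    · rintro hc _ ⟨q, hq, rfl⟩
      exact ((hform x hx q hq).2 (h.commute_of_mem hc hq)).symm
    · exact h.center_le _ (hmem x hx) fun q hq => (hform x hx q hq).1 (hc _ ⟨q, hq, rfl⟩).symm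
  have hRQ₀ : R ≤ Q₀ := by
    rw [hRdef, closure_le]
    rintro _ ⟨q, hq, rfl⟩
    refine (hQ₀ _).2 ⟨hmem q hq, ?_⟩
    have : ⁅α, ⁅α, q⁆⁆ = (⁅α, q⁆ ^ 2)⁻¹ := by
      calc ⁅α, ⁅α, q⁆⁆ = (α * α) * q * (α * α)⁻¹ * α * q⁻¹ * α⁻¹ * ⁅α, q⁆⁻¹ := by
            simp only [commutatorElement_def]; group
        _ = _ := by rw [hα, sq]; simp only [commutatorElement_def]; group
    rw [this]
    exact inv_mem (h.pow _ (hmem q hq))
  have h1 := xs_centralizer_centralizer h hRQ hzR
  rw [← hQ₀eq] at h1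
  refine le_antisymm (le_inf hRQ₀ (h1 ▸ inf_le_right)) ?_
  rw [← h1]
  exact inf_le_inf_right _ fun q hq => ((hQ₀ q).1 hq).1

theorem mem_fstar_centralizer [Finite G] (z : G) :
    z ∈ (Cfsg.generalizedFittingSubgroup ↥(Subgroup.centralizer ({z} : Set G))).map
      (Subgroup.centralizer ({z} : Set G)).subtype :=
  ⟨⟨z, mem_centralizer_singleton.2 rfl⟩, H23.centralizer_fstar_le fun c _ =>
    Subtype.ext (mem_centralizer_singleton.1 c.2), rfl⟩

theorem mem_fstar_of_commute [Finite G] {C : Subgroup G} {α : G} (hα : α ∈ C)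
    (h : ∀ q ∈ (Cfsg.generalizedFittingSubgroup ↥C).map C.subtype, Commute α q) :
    α ∈ (Cfsg.generalizedFittingSubgroup ↥C).map C.subtype :=
  ⟨⟨α, hα⟩, H23.centralizer_fstar_le fun c hc => Subtype.ext (h c ⟨c, hc, rfl⟩).symm, rfl⟩

theorem xs_fstar_of_isExtraspecial [Finite G] {z : G}
    (hz : orderOf z = 2) (hE : Cfsg.IsExtraspecial 2
      ↥(Cfsg.generalizedFittingSubgroup ↥(Subgroup.centralizer ({z} : Set G)))) :
    H3.XS 2 z ((Cfsg.generalizedFittingSubgroup ↥(Subgroup.centralizer ({z} : Set G))).map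
      (Subgroup.centralizer ({z} : Set G)).subtype) := by
  obtain ⟨w, hw, -, -⟩ := H3.IsExtraspecial.exists_xs hE
  have h1 := hw.map _ (Subgroup.centralizer ({z} : Set G)).subtype_injective
  have h2 := h1.center_le z (mem_fstar_centralizer z) (by
    rintro _ ⟨y, -, rfl⟩
    exact (mem_centralizer_singleton.1 y.2).symm)
  rcases (mem_zpowers_of_orderOf_two h1.ord).1 h2 with e | e
  · exact absurd e (ne_one_of_orderOf_two hz)
  · rw [← e] at h1
    exact h1

theorem fstar_commutator_eq_center [Finite G] (z : G) (hz : orderOf z = 2)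
    (hE : Cfsg.IsExtraspecial 2
      ↥(Cfsg.generalizedFittingSubgroup ↥(Subgroup.centralizer ({z} : Set G))))
    (α : G) (hα : orderOf α = 2) (hαC : α ∈ Subgroup.centralizer ({z} : Set G))
    {Q : Subgroup G}
    (hQ : Q = (Cfsg.generalizedFittingSubgroup ↥(Subgroup.centralizer ({z} : Set G))).map
      (Subgroup.centralizer ({z} : Set G)).subtype) (hαQ : α ∉ Q)
    (Q₀ : Subgroup G) (hQ₀ : ∀ q : G, q ∈ Q₀ ↔ (q ∈ Q ∧ α * q * α⁻¹ * q⁻¹ ∈ Subgroup.zpowers z)) :
    Subgroup.closure ((fun q : G => α * q * α⁻¹ * q⁻¹) '' (Q : Set G)) =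
      (Subgroup.center ↥Q₀).map Q₀.subtype ∧
      (¬ Q₀ ≤ (Q ⊓ Subgroup.centralizer ({α} : Set G)) ⊔ Subgroup.zpowers z →
        ∃ q ∈ Q, q * α * q⁻¹ = α * z) := by
  have h := xs_fstar_of_isExtraspecial hz hE
  rw [← hQ] at h
  have hα2 := mul_self_of_orderOf_two hα
  constructor
  · rw [H23.map_subtype_center]
    refine xs_commutator_eq_center h hα2 ?_ ?_ hQ₀
    · rw [hQ]
      exact H23.le_normalizer_map_subtype_of_normal _ hαC
    · by_contra hcon
      push Not at hcon
      rw [hQ] at hcon hαQ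
      exact hαQ (mem_fstar_of_commute hαC hcon)
  · intro hn
    obtain ⟨q, hq, hq'⟩ := SetLike.not_le_iff_exists.1 hn
    obtain ⟨hqQ, hc⟩ := (hQ₀ q).1 hq
    rcases (mem_zpowers_of_orderOf_two hz).1 hc with e | e
    · exact absurd (mem_sup_left (mem_inf.2 ⟨hqQ, mem_centralizer_singleton.2
        (commutatorElement_eq_one_iff_mul_comm.1 e).symm⟩)) hq'
    · refine ⟨q, hqQ, ?_⟩
      rw [← e, inv_eq_of_mul_self hα2, ← mul_assoc, ← mul_assoc, ← mul_assoc, hα2, one_mul]

end H6
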