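import Mathlib
import Cfsg.Agent.H15.LX
import Cfsg.Agent.H15.Omega
import Cfsg.Agent.H15.Bases
import Cfsg.Agent.H25.Sympl

/-!
Large extraspecial subgroups: definitions.
-/

set_option autoImplicit false

namespace H6
namespace XS

open Subgroup H24 H15 H15.XP Module

section grp

variable {G : Type*} [Group G]

/-- exponent two -/
def EA (A : Subgroup G) : Prop := ∀ x ∈ A, x * x = 1

/-- no normal subgroup of odd order -/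
def NoOdd (G : Type*) [Group G] : Prop := ∀ N : Subgroup G, N.Normal → Odd (Nat.card N) → N = ⊥

/-- `D` is a class of involutions, `Q d = O₂(C(d))` is large extraspecial of width `w` -/
structure Sit (D : Set G) (Q : G → Subgroup G) (w : ℕ) : Prop where
  conj : ∀ d ∈ D, ∀ g : G, g * d * g⁻¹ ∈ D
  trans : ∀ d ∈ D, ∀ e ∈ D, ∃ g : G, g * d * g⁻¹ = e
  lx : ∀ d ∈ D, LX d (Q d)
  eqv : ∀ d ∈ D, ∀ g : G, Q (g * d * g⁻¹) = cj g (Q d)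
  card : ∀ d ∈ D, Nat.card (Q d) = 2 ^ (2 * w + 1)
  o2 : ∀ d ∈ D, ∀ N : Subgroup G, N ≤ C{d} → C{d} ≤ N[N] → IsPGroup 2 N → N ≤ Q d
  two_le : 2 ≤ w

/-- weak closure -/
def WC (D : Set G) (Q : G → Subgroup G) : Prop := ∀ d ∈ D, ∀ e ∈ D, e ∈ Q d → e = d

/-- `C(z)` is irreducible on `Q / z` -/
def Irr (z : G) (Q : Subgroup G) : Prop :=
  ∀ A : Subgroup G, z ∈ A → A ≤ Q → C{z} ≤ N[A] → A = zpowers z ∨ A = Q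

/-- unitary type -/
structure TU (Q : G → Subgroup G) (a b : G) : Prop where
  card : Nat.card ↥(Q a ⊓ Q b) = 4
  cent : ∀ x ∈ Q a, x ∈ C{b} ↔ x ∈ C[Q a ⊓ Q b]
  cnj : ∀ i ∈ Q a ⊓ Q b, i ≠ 1 → ∀ x ∈ Q a, x ∉ C{b} → x ∈ C{i} → x * b * x⁻¹ = a * b * i

/-- Conway type -/
structure TO (Q : G → Subgroup G) (a b : G) : Prop where
  bot : Q a ⊓ Q b = ⊥
  ea : EA (Q a ⊓ C{b})
  eb : EA (Q b ⊓ C{a})
  carda : Nat.card ↥(Q a ⊓ C{b}) = 32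
  cardb : Nat.card ↥(Q b ⊓ C{a}) = 32
  nea : ∀ x ∈ Q a, x * b * x⁻¹ ≠ a * b
  neb : ∀ y ∈ Q b, y * a * y⁻¹ ≠ a * b

/-- `L₄(3)` type -/
structure TL (Q : G → Subgroup G) (a b : G) : Prop where
  bot : Q a ⊓ Q b = ⊥
  ea : EA (Q a ⊓ C{b})
  eb : EA (Q b ⊓ C{a})
  carda : Nat.card ↥(Q a ⊓ C{b}) = 4
  cardb : Nat.card ↥(Q b ⊓ C{a}) = 4
  exa : ∃ x ∈ Q a, x * x = a ∧ x * b * x⁻¹ = a * b
  exb : ∃ y ∈ Q b, y * y = b ∧ y * a * y⁻¹ = a * b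

/-- `a b` is not conjugate to `b` under `Q a`; `W = C_{Q a}(C_{Q a}(b))` -/
structure Al (Q : G → Subgroup G) (a b : G) : Prop where
  cent : ∀ x ∈ Q a, x * b * x⁻¹ * b⁻¹ ∈ zpowers a → x ∈ C{b}
  ea : EA (Q a ⊓ C[Q a ⊓ C{b}])
  le : Q a ⊓ C[Q a ⊓ C{b}] ≤ C{b}
  comm : ∀ x ∈ Q a, x * b * x⁻¹ * b⁻¹ ∈ Q a ⊓ C[Q a ⊓ C{b}]
  surj : ∀ u ∈ Q a ⊓ C[Q a ⊓ C{b}],
    ∃ x ∈ Q a, x * b * x⁻¹ * b⁻¹ = u ∨ x * b * x⁻¹ * b⁻¹ = a * u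
  alt : ∀ x ∈ Q a, x ∈ C{x * b * x⁻¹ * b⁻¹}
  inW : Q a ⊓ Q b ≤ C[Q a ⊓ C{b}]
  cnj : ∀ i ∈ Q a ⊓ Q b, i ≠ 1 → ∃ x ∈ Q a, x * b * x⁻¹ = a * b * i
  card : Nat.card ↥(Q a ⊓ Q b) ≤ 4
  even : ∃ m, 1 ≤ m ∧ C{b}.relIndex (Q a) = 4 ^ m ∧
    Nat.card ↥(Q a ⊓ C[Q a ⊓ C{b}]) = 2 * 4 ^ m

/-- all commuting pairs are of unitary type -/
def AllU (D : Set G) (Q : G → Subgroup G) : Prop :=
  ∀ a ∈ D, ∀ b ∈ D, a ≠ b → a * b = b * a → TU Q a b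

/-- `W = ⟨a⟩ I` -/
def WW (Q : G → Subgroup G) (a b : G) : Subgroup G := zpowers a ⊔ Q a ⊓ Q b

/-- `U = ⟨a, b⟩ I`; its members in `D` form the line through `a` and `b` -/
def UU (Q : G → Subgroup G) (a b : G) : Subgroup G := zpowers a ⊔ zpowers b ⊔ Q a ⊓ Q b

/-- the unitary situation -/
structure US (D : Set G) (Q : G → Subgroup G) (w : ℕ) : Prop extends Sit D Q w where
  wc : WC D Q
  allU : AllU D Q

/-- `a, b` are distinct commuting members of `D` -/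
structure Col (D : Set G) (a b : G) : Prop where
  l : a ∈ D
  r : b ∈ D
  ne : a ≠ b
  comm : a * b = b * a

/-- `(D ∩ Q d) ∪ 1 = U d` is a self-centralising TI-subgroup -/
structure TIs (D : Set G) (Q U : G → Subgroup G) (w : ℕ) : Prop extends Sit D Q w where
  three : 3 ≤ w
  self : ∀ d ∈ D, d ∈ U d
  le : ∀ d ∈ D, U d ≤ Q d
  ea : ∀ d ∈ D, EA (U d)
  cardU : ∀ d ∈ D, Nat.card (U d) = 2 ^ (w + 1)
  centU : ∀ d ∈ D, C[U d] ≤ U d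
  eqvU : ∀ d ∈ D, ∀ g : G, U (g * d * g⁻¹) = cj g (U d)
  ti : ∀ d ∈ D, ∀ e ∈ U d, e ≠ 1 → e ∈ D ∧ U e = U d
  mem : ∀ d ∈ D, ∀ e ∈ D, e ∈ Q d → e ∈ U d

/-- the linear situation: points `A d` and hyperplanes `U d` -/
structure GN (D : Set G) (Q A U : G → Subgroup G) (w : ℕ) : Prop extends Sit D Q w where
  four : 4 ≤ w
  leA : ∀ d ∈ D, A d ≤ Q d
  leU : ∀ d ∈ D, U d ≤ Q d
  eaA : ∀ d ∈ D, EA (A d)
  eaU : ∀ d ∈ D, EA (U d)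
  cardA : ∀ d ∈ D, Nat.card (A d) = 2 ^ (w + 1)
  cardU : ∀ d ∈ D, Nat.card (U d) = 2 ^ (w + 1)
  inf : ∀ d ∈ D, A d ⊓ U d = zpowers d
  centA : ∀ d ∈ D, C[A d] ≤ A d
  centU : ∀ d ∈ D, C[U d] ≤ U d
  eqvA : ∀ d ∈ D, ∀ g : G, A (g * d * g⁻¹) = cj g (A d)
  eqvU : ∀ d ∈ D, ∀ g : G, U (g * d * g⁻¹) = cj g (U d)
  tiA : ∀ d ∈ D, ∀ e ∈ A d, e ≠ 1 → e ∈ D ∧ A e = A d
  tiU : ∀ d ∈ D, ∀ e ∈ U d, e ≠ 1 → e ∈ D ∧ U e = U d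
  mem : ∀ d ∈ D, ∀ e ∈ D, e ∈ Q d → e ∈ A d ∨ e ∈ U d

/-- the points of `d` and `e` lie in a common hyperplane -/
def Rel (D : Set G) (A U : G → Subgroup G) (d e : G) : Prop :=
  d ∈ D ∧ e ∈ D ∧ ∃ c ∈ D, A d ⊓ U c ≠ ⊥ ∧ A e ⊓ U c ≠ ⊥

/-- linear model of the component of `z`; `G0` is its stabiliser -/
structure GM (D : Set G) (A U : G → Subgroup G) (w : ℕ) (z : G) (G0 : Subgroup G)
    {V : Type*} [AddCommGroup V] [Module (ZMod 2) V] (ρ : G0 →* (V ≃ₗ[ZMod 2] V)) (pt : G → V)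
    (fn : G → Dual (ZMod 2) V) : Prop where
  dim : finrank (ZMod 2) V = w + 2
  memG : ∀ g : G, g ∈ G0 ↔ Rel D A U z (g * z * g⁻¹)
  memD : ∀ d, Rel D A U z d → d ∈ G0
  cent : ∀ d, Rel D A U z d → C{d} ≤ G0
  stab : ∀ d, Rel D A U z d → ∀ g : G, g ∈ G0 ↔ Rel D A U z (g * d * g⁻¹)
  bij : Function.Bijective ρ
  act : ∀ (d : G0), Rel D A U z d → ∀ x, ρ d x = x + fn d x • pt d
  pt_ne : ∀ d, Rel D A U z d → pt d ≠ 0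
  fn_ne : ∀ d, Rel D A U z d → fn d ≠ 0
  fn_pt : ∀ d, Rel D A U z d → fn d (pt d) = 0
  ex : ∀ (p : V) (φ : Dual (ZMod 2) V), p ≠ 0 → φ ≠ 0 → φ p = 0 →
    ∃ d, Rel D A U z d ∧ pt d = p ∧ fn d = φ
  relA : ∀ d, Rel D A U z d → ∀ e ∈ A d, e ≠ 1 → Rel D A U z e
  relU : ∀ d, Rel D A U z d → ∀ e ∈ U d, e ≠ 1 → Rel D A U z e
  ptA : ∀ d e, Rel D A U z d → Rel D A U z e → (e ∈ A d ↔ pt e = pt d)
  fnU : ∀ d e, Rel D A U z d → Rel D A U z e → (e ∈ U d ↔ fn e = fn d)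

/-- coordinates on `Q / z` -/
structure Fr (z : G) (Q : Subgroup G) (V : Type*) [AddCommGroup V] [Module (ZMod 2) V] where
  π : G → V
  q : QuadraticForm (ZMod 2) V
  ρ : C{z} →* (ofQuad q).Isom
  nondeg : (ofQuad q).Nondeg
  π_mul : ∀ x ∈ Q, ∀ y ∈ Q, π (x * y) = π x + π y
  π_eq_zero : ∀ x ∈ Q, π x = 0 ↔ x = 1 ∨ x = z
  π_surj : ∀ v, ∃ x ∈ Q, π x = v
  q_π : ∀ x ∈ Q, q (π x) = 0 ↔ x * x = 1
  pol_π : ∀ x ∈ Q, ∀ y ∈ Q, pol q (π x) (π y) = 0 ↔ x * y = y * x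
  ρ_π : ∀ (g : C{z}), ∀ x ∈ Q, (ρ g).1 (π x) = π (g * x * (g : G)⁻¹)
  ker : ∀ g : C{z}, ρ g = 1 ↔ (g : G) ∈ Q

namespace Fr

variable {z : G} {Q : Subgroup G} {V : Type*} [AddCommGroup V] [Module (ZMod 2) V] (F : Fr z Q V)

theorem π_one : F.π 1 = 0 := (F.π_eq_zero 1 (one_mem _)).2 (Or.inl rfl)

theorem π_inv {x : G} (hx : x ∈ Q) : F.π x⁻¹ = F.π x := by
  have h := F.π_mul x⁻¹ (inv_mem hx) x hx
  rw [inv_mul_cancel, F.π_one] at h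
  rw [eq_neg_of_add_eq_zero_left h.symm]
  exact neg_eq_of_add_eq_zero_left (by rw [← two_smul (ZMod 2)]; exact zero_smul _ _)

/-- preimage of a subspace -/
def sub (W : Submodule (ZMod 2) V) : Subgroup G where
  carrier := {x | x ∈ Q ∧ F.π x ∈ W}
  one_mem' := ⟨one_mem _, by rw [F.π_one]; exact zero_mem _⟩
  mul_mem' := fun {x y} hx hy =>
    ⟨mul_mem hx.1 hy.1, by rw [F.π_mul x hx.1 y hy.1]; exact add_mem hx.2 hy.2⟩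
  inv_mem' := fun {x} hx => ⟨inv_mem hx.1, by rw [F.π_inv hx.1]; exact hx.2⟩

theorem mem_sub {W : Submodule (ZMod 2) V} {x : G} : x ∈ F.sub W ↔ x ∈ Q ∧ F.π x ∈ W := Iff.rfl

/-- image of `A ⊓ Q` -/
def im (A : Subgroup G) : Submodule (ZMod 2) V where
  carrier := {v | ∃ x ∈ A, x ∈ Q ∧ F.π x = v}
  zero_mem' := ⟨1, one_mem _, one_mem _, F.π_one⟩
  add_mem' := by
    rintro _ _ ⟨x, h1, h2, rfl⟩ ⟨y, h3, h4, rfl⟩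
    exact ⟨x * y, mul_mem h1 h3, mul_mem h2 h4, F.π_mul x h2 y h4⟩
  smul_mem' := by
    rintro c _ ⟨x, h1, h2, rfl⟩
    have : c = 0 ∨ c = 1 := by revert c; decide
    rcases this with rfl | rfl
    · exact ⟨1, one_mem _, one_mem _, by rw [F.π_one, zero_smul]⟩
    · exact ⟨x, h1, h2, by rw [one_smul]⟩

theorem mem_im {A : Subgroup G} {v : V} : v ∈ F.im A ↔ ∃ x ∈ A, x ∈ Q ∧ F.π x = v := Iff.rfl

/-- image of `A ⊓ C(z)` in the orthogonal group -/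
def img (A : Subgroup G) : Subgroup (ofQuad F.q).Isom := (A.subgroupOf C{z}).map F.ρ

theorem mem_img {A : Subgroup G} {y : (ofQuad F.q).Isom} :
    y ∈ F.img A ↔ ∃ g : C{z}, (g : G) ∈ A ∧ F.ρ g = y := Iff.rfl

/-- the images of the members of `D ∩ Q` other than `z` -/
def VV (D : Set G) : Set V := {v | ∃ d ∈ D, d ∈ Q ∧ d ≠ z ∧ F.π d = v}

end Fr

end grp

section lin

variable {V : Type*} [AddCommGroup V] [Module (ZMod 2) V] {q : QuadraticForm (ZMod 2) V}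

/-- `y` is the Eichler transformation `T_{u,s}` -/
def Ei (u s : V) (y : (ofQuad q).Isom) : Prop :=
  ∀ x, y.1 x = x + pol q s x • u + pol q u x • s + (q s * pol q u x) • u

/-- invariant subspace -/
def InvS (H : Subgroup (ofQuad q).Isom) (B : Submodule (ZMod 2) V) : Prop :=
  ∀ h ∈ H, ∀ b ∈ B, h.1 b ∈ B

variable (q) in
/-- totally singular -/
def TS (B : Submodule (ZMod 2) V) : Prop := ∀ b ∈ B, q b = 0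

/-- irreducible -/
def IrrV (H : Subgroup (ofQuad q).Isom) : Prop :=
  ∀ B : Submodule (ZMod 2) V, InvS H B → B = ⊥ ∨ B = ⊤

/-- the linear shadow of the case `D ∩ Q ≠ {z}`: `H = C(z) / Q`, `E v = (Q ∩ Q_v) / z`,
`R v = C_{Q_v}(z) Q / Q` -/
structure VD (H : Subgroup (ofQuad q).Isom) (S : Set V) (E : V → Submodule (ZMod 2) V)
    (R : V → Subgroup (ofQuad q).Isom) (w : ℕ) : Prop where
  nondeg : (ofQuad q).Nondeg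
  dim : finrank (ZMod 2) V = 2 * w
  three : 3 ≤ w
  o2 : ∀ N : Subgroup (ofQuad q).Isom, N ≤ H → H ≤ N[N] → IsPGroup 2 N → N = ⊥
  nonempty : S.Nonempty
  ne0 : ∀ v ∈ S, v ≠ 0
  inv : ∀ h ∈ H, ∀ v ∈ S, h.1 v ∈ S
  memE : ∀ v ∈ S, v ∈ E v
  ts : ∀ v ∈ S, TS q (E v)
  eqE : ∀ h ∈ H, ∀ v ∈ S, ∀ e, h.1 e ∈ E (h.1 v) ↔ e ∈ E v
  eqR : ∀ h ∈ H, ∀ v ∈ S, ∀ y, h * y * h⁻¹ ∈ R (h.1 v) ↔ y ∈ R v
  le : ∀ v ∈ S, R v ≤ H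
  fix : ∀ v ∈ S, ∀ y ∈ R v, y.1 v = v
  perp : ∀ v ∈ S, ∀ y ∈ R v, ∀ u, pol q v u = 0 → y.1 u + u ∈ E v
  cE : ∀ v ∈ S, ∀ y ∈ R v, ∀ e ∈ E v, y.1 e = e ∨ y.1 e = e + v
  inj : ∀ v ∈ S, ∀ y ∈ R v, ∀ x, pol q v x = 1 → y.1 x + x ∈ E v → y = 1
  surj : ∀ v ∈ S, ∀ x s, pol q v x = 1 → pol q v s = 0 → ∃ y ∈ R v, y.1 x + x + s ∈ E v
  sq : ∀ v ∈ S, ∀ y ∈ R v, y * y = 1
  symm : ∀ u ∈ S, ∀ v ∈ S, u ∈ E v → v ∈ E u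
  sub : ∀ B, InvS H B → ∀ v ∈ S, ∀ y ∈ R v, ∀ x, ∀ b ∈ B, pol q v x = 1 → pol q v b = 0 →
    y.1 x + x + b ∈ E v → ∀ u, pol q v u = 0 → y.1 u + u ∈ B ⊓ E v ⊔ Submodule.span (ZMod 2) {v}

/-- `V = A ⊕ A'` is natural plus dual, and `A'` is fused -/
structure GoodV (H : Subgroup (ofQuad q).Isom) (S : Set V) (E : V → Submodule (ZMod 2) V)
    (R : V → Subgroup (ofQuad q).Isom) (w : ℕ) (A A' : Submodule (ZMod 2) V) : Prop where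
  invA : InvS H A
  invA' : InvS H A'
  tsA : TS q A
  tsA' : TS q A'
  compl : IsCompl A A'
  dimA : finrank (ZMod 2) A = w
  dimA' : finrank (ZMod 2) A' = w
  faith : ∀ h ∈ H, (∀ a ∈ A, h.1 a = a) → h = 1
  faith' : ∀ h ∈ H, (∀ a ∈ A', h.1 a = a) → h = 1
  irr : ∀ B, InvS H B → B ≤ A → B = ⊥ ∨ B = A
  memS : ∀ u ∈ A', u ≠ 0 → u ∈ S
  subS : ∀ v ∈ S, v ∈ A ∨ v ∈ A'
  disj : ∀ u ∈ A', u ≠ 0 → E u ⊓ A = ⊥
  memR : ∀ u ∈ A', u ≠ 0 → ∀ y, y ∈ R u ↔ ∃ a ∈ A, pol q u a = 0 ∧ Ei u a y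
  eqE : 4 ≤ w → ∀ u ∈ A', u ≠ 0 → E u = A'

/-- `H = L₃(2) : 2` -/
structure SwapV (H : Subgroup (ofQuad q).Isom) (S : Set V) (A A' : Submodule (ZMod 2) V) :
    Prop where
  tsA : TS q A
  tsA' : TS q A'
  compl : IsCompl A A'
  dimA : finrank (ZMod 2) A = 3
  dimA' : finrank (ZMod 2) A' = 3
  subS : ∀ v ∈ S, v ∈ A ∨ v ∈ A'
  pres : ∀ h ∈ H, ((∀ a ∈ A, h.1 a ∈ A) ∧ ∀ a ∈ A', h.1 a ∈ A') ∨
    ((∀ a ∈ A, h.1 a ∈ A') ∧ ∀ a ∈ A', h.1 a ∈ A)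
  swap : ∃ h ∈ H, ∀ a ∈ A, h.1 a ∈ A'
  tv : ∀ u ∈ A', ∀ a ∈ A, pol q u a = 0 → ∃ y ∈ H, Ei u a y

/-- all singular vectors are fused and `E v = ⟨v⟩` -/
structure OneV (S : Set V) (E : V → Submodule (ZMod 2) V) (R : V → Subgroup (ofQuad q).Isom) :
    Prop where
  memS : ∀ v, v ≠ 0 → q v = 0 → v ∈ S
  eqE : ∀ v ∈ S, E v = Submodule.span (ZMod 2) {v}
  memR : ∀ v ∈ S, ∀ y, y ∈ R v ↔ ∃ s, pol q v s = 0 ∧ Ei v s y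

/-- width three: `R v = T_v(P v)` -/
structure W3 (H : Subgroup (ofQuad q).Isom) (S : Set V) (E : V → Submodule (ZMod 2) V)
    (R : V → Subgroup (ofQuad q).Isom) (P : V → Submodule (ZMod 2) V) : Prop
    extends VD H S E R 3 where
  irr : IrrV H
  memP : ∀ v ∈ S, ∀ s, s ∈ P v ↔ pol q v s = 0 ∧ ∃ y ∈ R v, Ei v s y
  exP : ∀ v ∈ S, ∀ y ∈ R v, ∃ s ∈ P v, Ei v s y
  inf : ∀ v ∈ S, P v ⊓ E v = Submodule.span (ZMod 2) {v}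
  sup : ∀ v ∈ S, ∀ s, pol q v s = 0 → s ∈ P v ⊔ E v
  eqP : ∀ h ∈ H, ∀ v ∈ S, ∀ s, h.1 s ∈ P (h.1 v) ↔ s ∈ P v

/-- the exceptional case `B ∩ E v` of codimension one in `B` -/
structure HypV (H : Subgroup (ofQuad q).Isom) (S : Set V) (E : V → Submodule (ZMod 2) V)
    (R : V → Subgroup (ofQuad q).Isom) (w : ℕ) (B : Submodule (ZMod 2) V) : Prop where
  inv : InvS H B
  ts : TS q B
  dim : finrank (ZMod 2) B = w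
  mem : ∀ b, b ∈ S ↔ b ∈ B ∧ b ≠ 0
  codim : ∀ v ∈ S, finrank (ZMod 2) ↥(B ⊓ E v) + 1 = w
  faith : ∀ h ∈ H, (∀ b ∈ B, h.1 b = b) → h = 1
  tv : ∀ v ∈ S, ∀ y ∈ R v, (∀ f ∈ B ⊓ E v, y.1 f = f) → ∀ b ∈ B, y.1 b = b ∨ y.1 b = b + v

end lin

/-- the data of `VD` come from the group -/
structure Lift {G : Type*} [Group G] (D : Set G) (Q : G → Subgroup G) {z : G} {V : Type*}
    [AddCommGroup V] [Module (ZMod 2) V] (F : Fr z (Q z) V) (E : V → Submodule (ZMod 2) V)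
    (R : V → Subgroup (ofQuad F.q).Isom) : Prop where
  eqE : ∀ d ∈ D, d ∈ Q z → d ≠ z → E (F.π d) = F.im (Q d)
  eqR : ∀ d ∈ D, d ∈ Q z → d ≠ z → R (F.π d) = F.img (Q d)

end XS
end H6
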