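import Mathlib
import Cfsg.Agent.H6.XDefs
import Cfsg.Agent.H6.RankThree
import Cfsg.Agent.H15.GL

/-! Transfer and transvections -/

set_option autoImplicit false
set_option linter.unusedSectionVars false

namespace H6
namespace XS

open Subgroup H24 H15 H15.XP Module
open scoped commutatorElement

theorem transfer_fix {G : Type*} [Group G] [Finite G] (hG : ∀ K : Subgroup G, K.index ≠ 2)
    {M M0 T : Subgroup G} (hM : Odd M.index) (h0 : M0 ≤ M) (hi : M0.relIndex M = 2) {x : G}
    (hx : x ∈ M) (hx0 : x ∉ M0) (h4 : x ^ 4 = 1)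
    (hsq : ∀ g : G, g * (x * x) * g⁻¹ ∈ M → g * (x * x) * g⁻¹ ∈ M0) (hT : IsPGroup 2 T)
    (hTx : T ≤ C{x}) : ∃ g : G, g * x * g⁻¹ ∈ M0 ∧ cj g T ≤ M := by
  classical
  have := Fact.mk Nat.prime_two
  have := Fintype.ofFinite (G ⧸ M)
  have mm : ∀ a b : M, (a : G) * b ∈ M0 ↔ ((a : G) ∈ M0 ↔ (b : G) ∈ M0) := fun a b =>
    mul_mem_iff_of_index_two (H := M0.subgroupOf M) hi
  let φ : M →* ℤˣ := MonoidHom.mk' (fun m => if (m : G) ∈ M0 then 1 else -1) fun a b => by
    simp only [coe_mul, mm]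
    by_cases ha : (a : G) ∈ M0 <;> by_cases hb : (b : G) ∈ M0 <;> simp [ha, hb]
  let Good : SubMulAction T (G ⧸ M) :=
    { carrier := {c | ∃ g : G, (g : G ⧸ M) = c ∧ g⁻¹ * x * g ∈ M0}
      smul_mem' := by
        rintro t _ ⟨g, rfl, hg⟩
        refine ⟨t * g, rfl, ?_⟩
        rwa [show ((t : G) * g)⁻¹ * x * (t * g) = g⁻¹ * ((t : G)⁻¹ * x * (t : G)⁻¹⁻¹) * g by group,
          mem_C1_iff_conj.1 (inv_mem (hTx t.2))] }
  have gd : ∀ c : G ⧸ M, c ∈ Good ↔ c.out⁻¹ * x * c.out ∈ M0 := fun c => by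
    refine ⟨?_, fun h => ⟨_, c.out_eq, h⟩⟩
    rintro ⟨g, rfl, hg⟩
    obtain ⟨m, e⟩ := QuotientGroup.mk_out_eq_mul M g
    have hn : (M0.subgroupOf M).Normal := normal_of_index_eq_two hi
    have := hn.conj_mem' ⟨_, h0 hg⟩ hg m
    rw [e, show (g * m)⁻¹ * x * (g * m) = (m : G)⁻¹ * (g⁻¹ * x * g) * m by group]
    exact this
  have fx : ∀ c : G ⧸ M, x • c = c ↔ c.out⁻¹ * x * c.out ∈ M := fun c => by
    conv_lhs => rw [← c.out_eq]
    exact smul_coe_eq_iff M x c.out
  let B : Finset (G ⧸ M) := Finset.univ.filter fun c => x • c = c ∧ c ∉ Good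
  have := Fintype.ofFinite (Quotient (MulAction.orbitRel (zpowers x) (G ⧸ M)))
  have e1 := MonoidHom.transfer_eq_prod_quotient_orbitRel_zpowers_quot φ x
  have e2 : MonoidHom.transfer φ x = 1 :=
    (Int.units_eq_one_or _).resolve_right fun e => hG _ (index_ker_eq_two_of_neg_one _ e)
  have e3 : Even B.card := by
    rw [e2, Finset.prod_congr rfl (g := fun q => if q.out ∈ B then -1 else 1), Finset.prod_ite,
      Finset.prod_const_one, mul_one, Finset.prod_const, eq_comm, neg_one_pow_eq_one_iff_even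
      (by decide)] at e1
    · rw [Finset.card_bij (t := B) (fun q _ => q.out) (fun q hq => (Finset.mem_filter.1 hq).2)
        (fun _ _ _ _ e => Quotient.out_injective e) fun c hc => ?_] at e1
      · exact e1
      have : (Quotient.mk (MulAction.orbitRel (zpowers x) (G ⧸ M)) c).out = c := by
        obtain ⟨⟨_, k, rfl⟩, e⟩ := Quotient.mk_out (s := MulAction.orbitRel (zpowers x) (G ⧸ M)) c
        exact e.symm.trans (zpow_mem (show x ∈ MulAction.stabilizer G c from
          (Finset.mem_filter.1 hc).2.1) k)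
      exact ⟨_, Finset.mem_filter.2 ⟨Finset.mem_univ _, this.symm ▸ hc⟩, this⟩
    · intro q _
      have m := QuotientGroup.out_conj_pow_minimalPeriod_mem M x q.out
      have d : Function.minimalPeriod (x • ·) q.out ∣ 2 ^ 2 :=
        MulAction.pow_smul_eq_iff_minimalPeriod_dvd.1 (by rw [show 2 ^ 2 = 4 from rfl, h4, one_smul])
      have f := Function.minimalPeriod_eq_one_iff_isFixedPt (f := (x • ·)) (x := q.out)
      change (if q.out.out⁻¹ * x ^ Function.minimalPeriod (x • ·) q.out * q.out.out ∈ M0 then 1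
        else -1) = _
      simp only [B, Finset.mem_filter, Finset.mem_univ, true_and, gd]
      obtain ⟨k, hk, e⟩ := (Nat.dvd_prime_pow Nat.prime_two).1 d
      rw [e] at m f ⊢
      interval_cases k
      · have : x • q.out = q.out := f.1 rfl
        simp [this]
      · have h1 : ¬ x • q.out = q.out := fun e => absurd (f.2 e) (by decide)
        have := hsq q.out.out⁻¹ (by simpa [pow_two] using m)
        rw [if_pos (by simpa [pow_two] using this), if_neg fun k => h1 k.1]
      · have h1 : ¬ x • q.out = q.out := fun e => absurd (f.2 e) (by decide)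
        rw [if_pos (by simp [h4]), if_neg fun k => h1 k.1]
  have hP : IsPGroup 2 (zpowers x) := (piElt_of_pow_eq_one (piNat_self_pow Nat.prime_two 2)
    h4).isPi.isPGroup Nat.prime_two
  have e4 := hP.card_modEq_card_fixedPoints (G ⧸ M)
  have e5 : Nat.card (MulAction.fixedPoints (zpowers x) (G ⧸ M)) = Nat.card Good + B.card := by
    rw [Nat.card_eq_fintype_card, Nat.card_eq_fintype_card, Fintype.card_subtype,
      Fintype.card_subtype, ← Finset.card_filter_add_card_filter_not (· ∈ Good),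
      Finset.filter_filter, Finset.filter_filter]
    have : ∀ c, c ∈ MulAction.fixedPoints (zpowers x) (G ⧸ M) ↔ x • c = c := fun c =>
      ⟨fun h => h ⟨x, mem_zpowers x⟩, fun h ⟨_, k, e⟩ =>
        e ▸ zpow_mem (show x ∈ MulAction.stabilizer G c from h) k⟩
    simp only [this]
    congr 2
    ext c
    simp only [Finset.mem_filter, Finset.mem_univ, true_and, and_iff_right_iff_imp]
    exact fun h => (fx c).2 (h0 ((gd c).1 h))
  obtain ⟨⟨_, g, rfl, hg⟩, hc⟩ := hT.nonempty_fixed_point_of_prime_not_dvd_card Good fun k => by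
    rw [← index_eq_card, e5] at e4
    obtain ⟨a, ha⟩ := hM
    obtain ⟨b, hb⟩ := e3
    unfold Nat.ModEq at e4
    omega
  refine ⟨g⁻¹, by simpa using hg, fun t ht => ?_⟩
  obtain ⟨s, hs, rfl⟩ := mem_cj'.1 ht
  simpa using (smul_coe_eq_iff M s g).1 (congrArg Subtype.val (hc ⟨s, hs⟩))

variable {W : Type*} [AddCommGroup W] [Module (ZMod 2) W] [Finite W]

theorem tv_top (K : Subgroup (W ≃ₗ[ZMod 2] W))
    (h : ∀ (p : W) (φ : Dual (ZMod 2) W), p ≠ 0 → φ ≠ 0 → φ p = 0 →
      ∃ k ∈ K, ∀ x, k x = x + φ x • p) : K = ⊤ := by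
  let b := finBasis (ZMod 2) W
  let e := (Matrix.GeneralLinearGroup.toLin' b).trans (LinearMap.GeneralLinearGroup.generalLinearEquiv _ _)
  have two : ∀ c : ZMod 2, c = 0 ∨ c = 1 := by decide
  have := gl_eq_top_of (K.comap e.toMonoidHom) (fun g hg => ?_) fun g i j c hij hg => ?_
  · exact eq_top_iff.2 fun k _ => by simpa using this.ge (mem_top (e.symm k))
  · obtain rfl : g = 1 := Units.ext (Matrix.ext fun i j => by
      by_cases k : i = j
      · subst k
        have := g.det_ne_zero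
        rw [← hg.diagonal_diag, Matrix.det_diagonal, Finset.prod_ne_zero_iff] at this
        simpa using (two _).resolve_left (this i (Finset.mem_univ _))
      · simpa [Matrix.one_apply_ne k] using hg k)
    exact one_mem _
  · rcases two c with rfl | rfl
    · obtain rfl : g = 1 := Units.ext (by simpa using hg)
      exact one_mem _
    · obtain ⟨k, hk, ek⟩ := h (b i) (b.coord j) (b.ne_zero i) (fun k => by
        simpa using LinearMap.congr_fun k (b j)) (by simp [Finsupp.single_eq_of_ne hij.symm])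
      have : e g = k := LinearEquiv.ext fun x => by
        change Matrix.toLin b b (g : Matrix _ _ _) x = _
        rw [ek, hg, Matrix.toLin_apply]
        simp only [transvection_mulVec, Pi.add_apply, add_smul, Finset.sum_add_distrib, b.sum_repr]
        simp [Pi.single_apply]
      exact show e g ∈ K from this ▸ hk

theorem sl_iso_psl (n : ℕ) : Nonempty (Matrix.SpecialLinearGroup (Fin n) (ZMod 2) ≃*
    Matrix.ProjectiveSpecialLinearGroup (Fin n) (ZMod 2)) := by
  have : center (Matrix.SpecialLinearGroup (Fin n) (ZMod 2)) = ⊥ := eq_bot_iff.2 fun g hg => by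
    obtain ⟨r, h1, h2⟩ := Matrix.SpecialLinearGroup.mem_center_iff.1 hg
    have two : ∀ c : ZMod 2, c = 0 ∨ c = 1 := by decide
    rcases Nat.eq_zero_or_pos n with rfl | hn
    · exact Subsingleton.elim _ _
    rcases two r with rfl | rfl
    · simp [hn.ne'] at h1
    · exact Subtype.ext (by simpa using h2.symm)
  exact ⟨QuotientGroup.quotientBot.symm.trans (QuotientGroup.quotientMulEquivOfEq this.symm)⟩

theorem gl_iso_gl {n : ℕ} (hn : finrank (ZMod 2) W = n) :
    Nonempty ((W ≃ₗ[ZMod 2] W) ≃* GL (Fin n) (ZMod 2)) :=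
  ⟨((Matrix.GeneralLinearGroup.toLin' (finBasisOfFinrankEq (ZMod 2) W hn)).trans
    (LinearMap.GeneralLinearGroup.generalLinearEquiv _ _)).symm⟩

theorem sl_iso_gl (n : ℕ) :
    Nonempty (Matrix.SpecialLinearGroup (Fin n) (ZMod 2) ≃* GL (Fin n) (ZMod 2)) := by
  have two : ∀ c : ZMod 2, c ≠ 0 → c = 1 := by decide
  exact ⟨MulEquiv.ofBijective Matrix.SpecialLinearGroup.toGL
    ⟨Matrix.SpecialLinearGroup.toGL_injective, fun g =>
      ⟨⟨g, two _ g.det_ne_zero⟩, Units.ext rfl⟩⟩⟩

theorem gl_iso_psl {n : ℕ} (hn : finrank (ZMod 2) W = n) :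
    Nonempty ((W ≃ₗ[ZMod 2] W) ≃* Matrix.ProjectiveSpecialLinearGroup (Fin n) (ZMod 2)) := by
  obtain ⟨a⟩ := gl_iso_gl hn
  obtain ⟨b⟩ := sl_iso_gl n
  obtain ⟨c⟩ := sl_iso_psl n
  exact ⟨(a.trans b.symm).trans c⟩

theorem card_gl3 (hn : finrank (ZMod 2) W = 3) : Nat.card (W ≃ₗ[ZMod 2] W) = 168 := by
  obtain ⟨a⟩ := gl_iso_gl hn
  rw [Nat.card_congr a.toEquiv, Matrix.card_GL_field]
  simp [Fin.prod_univ_three]

/-- an elementary abelian subgroup: separate an element from a subgroup by a subgroup of index two -/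
theorem EA.exists_hyp {G : Type*} [Group G] [Finite G] {U X : Subgroup G} (h : EA U) (hX : X ≤ U)
    {u : G} (hu : u ∈ U) (huX : u ∉ X) : ∃ K : Subgroup G, X ≤ K ∧ K ≤ U ∧ u ∉ K ∧
      K.relIndex U = 2 := by
  have inv : ∀ x ∈ U, x⁻¹ = x := fun x hx => inv_eq_of_mul_eq_one_right (h x hx)
  have cm : ∀ x ∈ U, ∀ y ∈ U, x * y = y * x := fun x hx y hy => by
    rw [← inv _ (mul_mem hx hy), mul_inv_rev, inv x hx, inv y hy]
  obtain ⟨K, ⟨h1, h2, h3⟩, hm⟩ := Set.Finite.exists_maximal (s := {K | X ≤ K ∧ K ≤ U ∧ u ∉ K})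
    (Set.toFinite _) ⟨X, le_rfl, hX, huX⟩
  refine ⟨K, h1, h2, h3, relIndex_eq_two_iff.2 ⟨u, hu, fun y hy => ?_⟩⟩
  by_cases k : y ∈ K
  · exact Or.inr ⟨k, fun k' => h3 ((mul_mem_cancel_left k).1 k')⟩
  · refine Or.inl ⟨?_, k⟩
    by_contra k'
    have hn : zpowers y ≤ N[K] := (zpowers_le.2 hy).trans fun a ha => C_le_N _
      (mem_C.2 fun b hb => cm b (h2 hb) a ha)
    refine k (hm (y := K ⊔ zpowers y) ⟨h1.trans le_sup_left, sup_le h2 (zpowers_le.2 hy),
      fun m => ?_⟩ le_sup_left (mem_sup_right (mem_zpowers y)))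
    obtain ⟨a, ha, b, hb, e⟩ := H23.mem_sup_of_le_normalizer_left hn m
    rcases (H25.Sym.mem_zp (h y hy)).1 hb with rfl | rfl
    · exact h3 (by simpa [← e] using ha)
    · exact k' (by rwa [← e, cm a (h2 ha) b hy, ← mul_assoc, h b hy, one_mul])

end XS
end H6
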