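import Mathlib
import Cfsg.Agent.H6.TI
import Cfsg.Agent.H22.Isolated

/-!
# Actions in which every involution fixes exactly one point (strongly embedded subgroups)
-/

set_option autoImplicit false

namespace H6

open Subgroup H22 MulAction

variable {G : Type*} [Group G] {Ω : Type*} [MulAction G Ω]

/-- every involution of `G` fixes exactly one point of `Ω` -/
def OneFix (G Ω : Type*) [Group G] [MulAction G Ω] : Prop :=
  ∀ t : G, orderOf t = 2 → ∃! x : Ω, t • x = x

theorem conj_smul_smul (g t : G) {x : Ω} (h : t • x = x) : (g * t * g⁻¹) • g • x = g • x := by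
  rw [mul_smul, inv_smul_smul, mul_smul, h]

theorem smul_smul_of_mul_self {u : G} (hu : u * u = 1) (x : Ω) : u • u • x = x := by
  rw [← mul_smul, hu, one_smul]

theorem exists_invol_conj_of_odd {s t : G} (hs : s * s = 1) (ht : t * t = 1)
    (hodd : Odd (orderOf (s * t))) :
    ∃ v ∈ closure ({s, t} : Set G), v * v = 1 ∧ v * s * v⁻¹ = t := by
  obtain ⟨k, hk⟩ := exists_zpow_conj_of_odd hs ht hodd
  refine ⟨(s * t) ^ k * s, mul_mem (zpow_mem (mul_mem (subset_closure (by simp))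
    (subset_closure (by simp))) k) (subset_closure (by simp)), ?_, ?_⟩
  · rw [zpow_mul_left hs ht]; exact refl_mul_self hs ht _
  · refine Eq.trans ?_ hk
    group

namespace OneFix

theorem eq (h : OneFix G Ω) {t : G} (ht : orderOf t = 2) {x y : Ω} (hx : t • x = x)
    (hy : t • y = y) : x = y :=
  (h t ht).unique hx hy

theorem smul_eq_of_conj (h : OneFix G Ω) {t g : G} (ht : orderOf t = 2) {x y : Ω}
    (hx : t • x = x) (hy : (g * t * g⁻¹) • y = y) : g • x = y :=
  h.eq (by rw [orderOf_conj, ht]) (conj_smul_smul g t hx) hy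

theorem smul_eq_of_comm (h : OneFix G Ω) {t g : G} (ht : orderOf t = 2) {x : Ω}
    (hx : t • x = x) (hc : g * t = t * g) : g • x = x :=
  h.smul_eq_of_conj ht hx (by rw [hc, mul_inv_cancel_right, hx])

theorem odd_mul [Finite G] (h : OneFix G Ω) {s u : G} (hs : orderOf s = 2) (hu : u * u = 1)
    {x : Ω} (hx : s • x = x) (hux : u • x ≠ x) : Odd (orderOf (s * u)) := by
  rw [← Nat.not_even_iff_odd]
  intro he
  obtain ⟨hz, h1, h2⟩ := central_involution (mul_self_of_orderOf_two hs) hu he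
  exact hux (h.smul_eq_of_comm hz (h.smul_eq_of_comm hs hx h1) h2.symm)

theorem odd_mul' [Finite G] (h : OneFix G Ω) {s t : G} (hs : orderOf s = 2) (ht : orderOf t = 2)
    {x y : Ω} (hx : s • x = x) (hy : t • y = y) (hxy : x ≠ y) : Odd (orderOf (s * t)) :=
  h.odd_mul hs (mul_self_of_orderOf_two ht) hx fun e => hxy (h.eq ht e hy)

/-- an involution conjugating `s` to `t`, interchanging their fixed points -/
theorem exists_swap [Finite G] (h : OneFix G Ω) {s t : G} (hs : orderOf s = 2)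
    (ht : orderOf t = 2) {x y : Ω} (hx : s • x = x) (hy : t • y = y) (hxy : x ≠ y) :
    ∃ v ∈ closure ({s, t} : Set G), orderOf v = 2 ∧ v * s * v⁻¹ = t ∧ v • x = y ∧ v • y = x := by
  obtain ⟨v, hv, hv2, hvs⟩ := exists_invol_conj_of_odd (mul_self_of_orderOf_two hs)
    (mul_self_of_orderOf_two ht) (h.odd_mul' hs ht hx hy hxy)
  have h1 : v • x = y := h.smul_eq_of_conj hs hx (hvs ▸ hy)
  refine ⟨v, hv, orderOf_eq_two_of hv2 ?_, hvs, h1, ?_⟩
  · rintro rfl
    exact hxy (by simpa using h1)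
  · rw [← h1, smul_smul_of_mul_self hv2]

/-- a coset of `C(t)` outside the stabiliser contains at most one involution -/
theorem eq_of_conj_eq [Finite G] (h : OneFix G Ω) {t a b : G} (ht : orderOf t = 2)
    (ha : a * a = 1) (hb : b * b = 1) {x : Ω} (hx : t • x = x) (hax : a • x ≠ x)
    (hbx : b • x ≠ x) (e : a * t * a⁻¹ = b * t * b⁻¹) : a = b := by
  have h1 := h.odd_mul ht ha hx hax
  have h2 := h.odd_mul ht hb hx hbx
  have := eq_of_sq_eq_of_odd h1 h2 (by
    rw [inv_eq_of_mul_self ha, inv_eq_of_mul_self hb] at e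
    calc (t * a) ^ 2 = t * (a * t * a) := by rw [sq]; group
      _ = t * (b * t * b) := by rw [e]
      _ = _ := by rw [sq]; group)
  exact mul_left_cancel this

theorem odd_card_of_fix_two [Finite G] (h : OneFix G Ω) {D : Subgroup G} {x y : Ω} (hxy : x ≠ y)
    (hx : ∀ d ∈ D, d • x = x) (hy : ∀ d ∈ D, d • y = y) : Odd (Nat.card D) :=
  odd_card_iff.2 fun t htD ht => hxy (h.eq ht (hx t htD) (hy t htD))

theorem odd_orderOf_of_fix_two [Finite G] (h : OneFix G Ω) {d : G} {x y : Ω} (hxy : x ≠ y)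
    (hx : d • x = x) (hy : d • y = y) : Odd (orderOf d) := by
  rw [← Nat.card_zpowers]
  exact h.odd_card_of_fix_two hxy (fun _ hd => zpowers_le.2 (show d ∈ stabilizer G x from hx) hd)
    (fun _ hd => zpowers_le.2 (show d ∈ stabilizer G y from hy) hd)

/-- the elements of `G_{x,y}` inverted by `u` are transitive on the involutions of `G_x` -/
theorem exists_conj_of_swap [Finite G] (h : OneFix G Ω) {u s t : G} (hu : u * u = 1) {x : Ω}
    (hux : u • x ≠ x) (hs : orderOf s = 2) (ht : orderOf t = 2) (hsx : s • x = x)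
    (htx : t • x = x) :
    ∃ d : G, d • x = x ∧ d • u • x = u • x ∧ u * d * u⁻¹ = d⁻¹ ∧ d * s * d⁻¹ = t := by
  obtain ⟨v, -, hv, hvs, hv1, hv2⟩ := h.exists_swap (s := u * s * u⁻¹) (by rw [orderOf_conj, hs])
    ht (conj_smul_smul u s hsx) htx hux
  have hv' := mul_self_of_orderOf_two hv
  refine ⟨v * u, by rw [mul_smul, hv1], by rw [mul_smul, smul_smul_of_mul_self hu, hv2], ?_, ?_⟩
  · rw [mul_inv_rev, inv_eq_of_mul_self hv', inv_eq_of_mul_self hu, mul_assoc, mul_assoc, hu,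
      mul_one]
  · rw [← hvs]; group

/-- the elements of `G_{x,y}` inverted by `u` are regular on the involutions of `G_x` -/
theorem eq_of_inverted [Finite G] (h : OneFix G Ω) {u s d e : G} (hu : u * u = 1) {x : Ω}
    (hux : u • x ≠ x) (hs : orderOf s = 2) (hsx : s • x = x) (hd : d • x = x) (he : e • x = x)
    (hd' : u * d * u⁻¹ = d⁻¹) (he' : u * e * u⁻¹ = e⁻¹) (hde : d * s * d⁻¹ = e * s * e⁻¹) :
    d = e := by
  have key : ∀ d : G, u * d * u⁻¹ = d⁻¹ → (u * d) * (u * d) = 1 := fun d hd => by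
    calc (u * d) * (u * d) = (u * d * u⁻¹) * (u * u) * d := by group
      _ = 1 := by rw [hd, hu]; group
  have := h.eq_of_conj_eq hs (key d hd') (key e he') hsx (by rw [mul_smul, hd]; exact hux)
    (by rw [mul_smul, he]; exact hux) (by
      calc u * d * s * (u * d)⁻¹ = u * (d * s * d⁻¹) * u⁻¹ := by group
        _ = u * (e * s * e⁻¹) * u⁻¹ := by rw [hde]
        _ = _ := by group)
  exact mul_left_cancel this

theorem isConj [Finite G] (h : OneFix G Ω) {w : G} (hw : orderOf w = 2) {x : Ω}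
    (hwx : w • x ≠ x) {s : G} (hs : orderOf s = 2) (hsx : s • x = x) {a b : G}
    (ha : orderOf a = 2) (hb : orderOf b = 2) : IsConj a b := by
  have key : ∀ a : G, orderOf a = 2 → IsConj s a := by
    intro a ha
    by_cases hax : a • x = x
    · obtain ⟨d, -, -, -, hd⟩ := h.exists_conj_of_swap (mul_self_of_orderOf_two hw) hwx hs ha
        hsx hax
      exact isConj_iff.2 ⟨d, hd⟩
    · exact isConj_of_odd (mul_self_of_orderOf_two hs) (mul_self_of_orderOf_two ha)
        (h.odd_mul hs (mul_self_of_orderOf_two ha) hsx hax)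
  exact (key a ha).symm.trans (key b hb)

theorem card_swap [Finite G] (h : OneFix G Ω) {x y : Ω} (hxy : x ≠ y) {s : G}
    (hs : orderOf s = 2) (hsx : s • x = x) :
    Nat.card {i : G // orderOf i = 2 ∧ i • x = y} =
      Nat.card {t : G // orderOf t = 2 ∧ t • y = y} := by
  refine Nat.card_congr (Equiv.ofBijective (fun i => ⟨i.1 * s * i.1⁻¹,
    by rw [orderOf_conj, hs], by
      have := conj_smul_smul i.1 s hsx
      rwa [i.2.2] at this⟩) ⟨?_, ?_⟩)
  · rintro ⟨a, ha, hax⟩ ⟨b, hb, hbx⟩ e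
    exact Subtype.ext (h.eq_of_conj_eq hs (mul_self_of_orderOf_two ha) (mul_self_of_orderOf_two hb)
      hsx (by rw [hax]; exact hxy.symm) (by rw [hbx]; exact hxy.symm) (congrArg Subtype.val e))
  · rintro ⟨t, ht, hty⟩
    obtain ⟨v, -, hv, hvs, hv1, -⟩ := h.exists_swap hs ht hsx hty hxy
    exact ⟨⟨v, hv, hv1⟩, Subtype.ext hvs⟩

theorem subgroup (h : OneFix G Ω) (K : Subgroup G) : OneFix K Ω :=
  fun t ht => h t (by rw [Subgroup.orderOf_coe]; exact ht)

end OneFix

theorem card_involutions_fix_smul (g : G) (x : Ω) :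
    Nat.card {t : G // orderOf t = 2 ∧ t • g • x = g • x} =
      Nat.card {t : G // orderOf t = 2 ∧ t • x = x} := by
  refine Nat.card_congr (Equiv.subtypeEquiv (MulAut.conj g⁻¹).toEquiv fun t => ?_)
  show _ ↔ orderOf (g⁻¹ * t * g⁻¹⁻¹) = 2 ∧ (g⁻¹ * t * g⁻¹⁻¹) • x = x
  rw [orderOf_conj, inv_inv, mul_smul, mul_smul, inv_smul_eq_iff]

theorem smul_one_eq_iff (H : Subgroup G) (t : G) :
    t • ((1 : G) : G ⧸ H) = ((1 : G) : G ⧸ H) ↔ t ∈ H := by
  rw [smul_coe_eq_iff]; simp

theorem odd_mul_of_isStronglyEmbedded [Finite G] {H : Subgroup G}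
    (hH : Cfsg.IsStronglyEmbedded H) {s u : G} (hs : orderOf s = 2) (hsH : s ∈ H)
    (hu : u * u = 1) (huH : u ∉ H) : Odd (orderOf (s * u)) := by
  rw [isStronglyEmbedded_iff] at hH
  rw [← Nat.not_even_iff_odd]
  intro he
  obtain ⟨hz, h1, h2⟩ := central_involution (mul_self_of_orderOf_two hs) hu he
  have h3 := hH.2.2 _ s hsH hs (by rw [h1.eq, mul_inv_cancel_right]; exact hsH)
  exact huH (hH.2.2 _ _ h3 hz (by rw [← h2.eq, mul_inv_cancel_right]; exact h3))

theorem oneFix_of_isStronglyEmbedded [Finite G] {H : Subgroup G}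
    (hH : Cfsg.IsStronglyEmbedded H) : OneFix G (G ⧸ H) := by
  intro t ht
  obtain ⟨s, hsH, hs⟩ := exists_involution_mem_of_even hH.2.1
  have : ∃ g : G, g⁻¹ * t * g ∈ H := by
    by_cases htH : t ∈ H
    · exact ⟨1, by simpa using htH⟩
    · obtain ⟨g, hg⟩ := isConj_iff.1 (isConj_of_odd (mul_self_of_orderOf_two hs)
        (mul_self_of_orderOf_two ht)
        (odd_mul_of_isStronglyEmbedded hH hs hsH (mul_self_of_orderOf_two ht) htH))
      exact ⟨g, by rw [← hg]; simpa [mul_assoc] using hsH⟩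
  obtain ⟨g, hg⟩ := this
  refine ⟨(g : G ⧸ H), (smul_coe_eq_iff H t g).2 hg, fun y hy => ?_⟩
  obtain ⟨k, rfl⟩ := QuotientGroup.mk_surjective y
  rw [QuotientGroup.eq]
  refine (isStronglyEmbedded_iff.1 hH).2.2 _ _ hg
    (by rw [← ht, ← orderOf_conj g⁻¹ t, inv_inv]) ?_
  have := (smul_coe_eq_iff H t k).1 hy
  convert this using 1
  group

theorem exists_involution_not_mem [Finite G] {H : Subgroup G}
    (hH : Cfsg.IsStronglyEmbedded H) : ∃ u : G, orderOf u = 2 ∧ u ∉ H := by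
  obtain ⟨s, hsH, hs⟩ := exists_involution_mem_of_even hH.2.1
  by_contra hcon
  push Not at hcon
  exact hH.1 (eq_top_iff.2 fun g _ => (isStronglyEmbedded_iff.1 hH).2.2 g s hsH hs
    (hcon _ (by rw [orderOf_conj, hs])))

theorem isConj_of_isStronglyEmbedded [Finite G] {H : Subgroup G}
    (hH : Cfsg.IsStronglyEmbedded H) {a b : G} (ha : orderOf a = 2) (hb : orderOf b = 2) :
    IsConj a b := by
  obtain ⟨s, hsH, hs⟩ := exists_involution_mem_of_even hH.2.1
  obtain ⟨u, hu, huH⟩ := exists_involution_not_mem hH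
  exact (oneFix_of_isStronglyEmbedded hH).isConj hu (mt (smul_one_eq_iff H u).1 huH) hs
    ((smul_one_eq_iff H s).2 hsH) ha hb

theorem card_swap_of_isStronglyEmbedded [Finite G] (H : Subgroup G)
    (hH : Cfsg.IsStronglyEmbedded H) (x y : G ⧸ H) (hxy : x ≠ y) :
    Nat.card {i : G // orderOf i = 2 ∧ i • x = y} =
      Nat.card {t : G // orderOf t = 2 ∧ t ∈ H} := by
  obtain ⟨s, hsH, hs⟩ := exists_involution_mem_of_even hH.2.1
  obtain ⟨a, rfl⟩ := MulAction.exists_smul_eq G ((1 : G) : G ⧸ H) x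
  obtain ⟨b, rfl⟩ := MulAction.exists_smul_eq G ((1 : G) : G ⧸ H) y
  rw [(oneFix_of_isStronglyEmbedded hH).card_swap hxy (s := a * s * a⁻¹)
    (by rw [orderOf_conj, hs]) (conj_smul_smul a s ((smul_one_eq_iff H s).2 hsH)),
    card_involutions_fix_smul]
  simp only [smul_one_eq_iff]

theorem mem_inf_cj_iff (H : Subgroup G) (u d : G) :
    d ∈ H ⊓ cj u H ↔ d • ((1 : G) : G ⧸ H) = ((1 : G) : G ⧸ H) ∧
      d • u • ((1 : G) : G ⧸ H) = u • ((1 : G) : G ⧸ H) := by
  rw [mem_inf, smul_one_eq_iff, mem_cj, ← smul_one_eq_iff H (u⁻¹ * d * u), mul_smul, mul_smul,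
    inv_smul_eq_iff]

theorem exists_conj_inf_of_isStronglyEmbedded [Finite G] {H : Subgroup G}
    (hH : Cfsg.IsStronglyEmbedded H) {u : G} (hu : orderOf u = 2) (huH : u ∉ H) {s t : G}
    (hs : orderOf s = 2) (hsH : s ∈ H) (ht : orderOf t = 2) (htH : t ∈ H) :
    ∃ d ∈ H ⊓ cj u H, u * d * u⁻¹ = d⁻¹ ∧ d * s * d⁻¹ = t := by
  obtain ⟨d, h1, h2, h3, h4⟩ := (oneFix_of_isStronglyEmbedded hH).exists_conj_of_swap
    (mul_self_of_orderOf_two hu) (mt (smul_one_eq_iff H u).1 huH) hs ht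
    ((smul_one_eq_iff H s).2 hsH) ((smul_one_eq_iff H t).2 htH)
  exact ⟨d, (mem_inf_cj_iff H u d).2 ⟨h1, h2⟩, h3, h4⟩

end H6
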