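import Mathlib
import Cfsg.Agent.H6.OneFix
import Cfsg.Agent.H6.RankThree
import Cfsg.Agent.H3.Transfer
import Cfsg.Agent.H22.FusionTools
import Cfsg.Agent.H23.Balance

/-!
# More transfer lemmas, `k`-generated cores
-/

set_option autoImplicit false

namespace H6

open Subgroup H22
open scoped commutatorElement

variable {G : Type*} [Group G]

theorem not_mem_commutator_of_fusion [Finite G] {p : ℕ} (H K : Subgroup G)
    (hKn : (K.subgroupOf H).Normal) (hab : ∀ x ∈ H, ∀ y ∈ H, x * y * x⁻¹ * y⁻¹ ∈ K)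
    (hidx : Nat.Coprime p H.index) (g : G) (hgH : g ∈ H) (hgK : g ∉ K)
    (hgp : ∃ k : ℕ, orderOf g = p ^ k)
    (hctrl : ∀ (m : ℤ) (a : G), a * g ^ m * a⁻¹ ∈ H → (a * g ^ m * a⁻¹) * (g ^ m)⁻¹ ∈ K) :
    g ∉ commutator G := by
  intro hg
  let _ : CommGroup (H ⧸ K.subgroupOf H) :=
    { (inferInstance : Group (H ⧸ K.subgroupOf H)) with
      mul_comm := fun a b => by
        obtain ⟨x, rfl⟩ := QuotientGroup.mk_surjective a
        obtain ⟨y, rfl⟩ := QuotientGroup.mk_surjective b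
        rw [← QuotientGroup.mk_mul, ← QuotientGroup.mk_mul, QuotientGroup.eq]
        have := hab _ (inv_mem y.2) _ (inv_mem x.2)
        rw [mem_subgroupOf]
        simpa [mul_assoc] using this }
  let φ : H →* H ⧸ K.subgroupOf H := QuotientGroup.mk' _
  have h1 := H3.transfer_eq_pow_of_forall φ g (φ ⟨g, hgH⟩) (fun k a hk => by
    rw [← map_pow]
    have := hctrl k a⁻¹ (by simpa using hk)
    apply QuotientGroup.eq_iff_div_mem.2
    rw [mem_subgroupOf]
    simpa [div_eq_mul_inv] using this)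
  have h2 : MonoidHom.transfer φ g = 1 := Abelianization.commutator_subset_ker _ hg
  rw [h2, ← map_pow, eq_comm] at h1
  have h3 : g ^ H.index ∈ K := (QuotientGroup.eq_one_iff (N := K.subgroupOf H) _).1 h1
  obtain ⟨k, hk⟩ := hgp
  exact hgK (H3.mem_of_pow_mem_of_coprime h3 (hk ▸ hidx.pow_left k))

theorem pResidual_sup_commutator_inf [Finite G] {p : ℕ} [hp : Fact p.Prime] (H : Subgroup G)
    (hidx : Nat.Coprime p H.index)
    (hfus : ∀ g ∈ H, (∃ k : ℕ, orderOf g = p ^ k) → ∀ a : G, a * g * a⁻¹ ∈ H →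
      ∃ h ∈ H, h * g * h⁻¹ = a * g * a⁻¹) :
    (Cfsg.pResidual p G ⊔ commutator G) ⊓ H =
      (Cfsg.pResidual p ↥H ⊔ commutator ↥H).map H.subtype := by
  apply le_antisymm
  · rintro x ⟨hx, hxH⟩
    set L := Cfsg.pResidual p ↥H ⊔ commutator ↥H with hL
    let _ : CommGroup (H ⧸ L) :=
      { (inferInstance : Group (H ⧸ L)) with
        mul_comm := (Normal.quotient_commutative_iff_commutator_le.2 le_sup_right).is_comm.comm }
    let φ : H →* H ⧸ L := QuotientGroup.mk' _
    have hA : IsPGroup p (H ⧸ L) := H3.isPGroup_quotient_of_pResidual_le L le_sup_left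
    have hker : Cfsg.pResidual p G ⊔ commutator G ≤ (MonoidHom.transfer φ).ker :=
      sup_le (H3.pResidual_le_ker hA _) (Abelianization.commutator_subset_ker _)
    obtain ⟨a, ha, b, hb, ⟨k, hk⟩, hbo, rfl⟩ := H3.exists_decomp p x
    have haH : a ∈ H := zpowers_le.2 hxH ha
    have hbH : b ∈ H := zpowers_le.2 hxH hb
    have hb1 : b ∈ Cfsg.pResidual p G ⊔ commutator G :=
      mem_sup_left (H3.mem_pResidual_of_coprime hbo)
    have ha1 : MonoidHom.transfer φ a = 1 := hker ((mul_mem_cancel_right hb1).1 hx)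
    have h1 := H3.transfer_eq_pow_of_forall φ a (φ ⟨a, haH⟩) (fun j g hj => by
      obtain ⟨h, hh, e⟩ := hfus (a ^ j) (pow_mem haH j) (by
        have : (a ^ j) ^ p ^ k = 1 := by rw [← pow_mul, mul_comm, pow_mul, hk, one_pow]
        obtain ⟨i, -, hi⟩ := (Nat.dvd_prime_pow hp.out).1 (orderOf_dvd_of_pow_eq_one this)
        exact ⟨i, hi⟩) g⁻¹ (by simpa using hj)
      have : (⟨g⁻¹ * a ^ j * g, hj⟩ : H) = ⟨h, hh⟩ * ⟨a, haH⟩ ^ j * (⟨h, hh⟩ : H)⁻¹ :=
        Subtype.ext (by simpa using e.symm)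
      rw [this, map_mul, map_mul, map_inv, mul_inv_cancel_comm, map_pow])
    rw [ha1, ← map_pow, eq_comm] at h1
    have h3 : (⟨a, haH⟩ : H) ^ H.index ∈ L := (QuotientGroup.eq_one_iff _).1 h1
    have h4 : (⟨a, haH⟩ : H) ∈ L := H3.mem_of_pow_mem_of_coprime h3 (by
      rw [← Subgroup.orderOf_coe]
      exact (hidx.pow_left k).coprime_dvd_left (orderOf_dvd_of_pow_eq_one hk))
    refine ⟨⟨a, haH⟩ * ⟨b, hbH⟩, mul_mem h4 (mem_sup_left (H3.mem_pResidual_of_coprime ?_)), rfl⟩
    rw [← Subgroup.orderOf_coe]; exact hbo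
  · refine le_inf ?_ (map_subtype_le _)
    rw [Subgroup.map_sup]
    refine sup_le_sup (H3.map_pResidual_le p _) ?_
    rw [map_subtype_commutator]
    exact commutator_mono le_top le_top

theorem sylow_le_centralizer_of_isolated [Finite G] {z : G} (hz : Cfsg.IsIsolatedInvolution z)
    {P : Subgroup G} (hP : IsPGroup 2 P) (hzP : z ∈ P) : P ≤ centralizer ({z} : Set G) := by
  intro g hg
  have h1 := isolated_odd hz g
  obtain ⟨k, hk⟩ := isPGroup_iff_forall_mem.1 hP _
    (mul_mem hzP (mul_mem (mul_mem hg hzP) (inv_mem hg)))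
  have h2 := H3.eq_one_of_pow_eq_one_of_coprime (pow_orderOf_eq_one _) hk
    ((Nat.coprime_two_right.2 h1).pow_right k)
  rw [mul_eq_one_iff_inv_eq, inv_eq_of_orderOf_two hz.1] at h2
  rw [mem_centralizer_singleton]
  nth_rewrite 2 [h2]
  group

theorem odd_index_centralizer_of_isolated [Finite G] {z : G}
    (hz : Cfsg.IsIsolatedInvolution z) : Odd (centralizer ({z} : Set G)).index := by
  obtain ⟨P, hP⟩ := (isPGroup_zpowers_of_orderOf_two hz.1).exists_le_sylow
  exact (odd_index_sylow P).of_dvd_nat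
    (index_dvd_of_le (sylow_le_centralizer_of_isolated hz P.isPGroup' (hP (mem_zpowers z))))

theorem eq_top_of_sup_commutator [Finite G] {p : ℕ} [Fact p.Prime]
    (h : Cfsg.pResidual p G ⊔ commutator G = ⊤) : Cfsg.pResidual p G = ⊤ := by
  by_contra hne
  have := QuotientGroup.nontrivial_iff.2 hne
  have := H1.solvable_of_isPGroup (H3.isPGroup_quotient_pResidual p G)
  apply (Group.IsSolvable.commutator_lt_top_of_nontrivial (G ⧸ Cfsg.pResidual p G)).ne
  have h1 := congrArg (Subgroup.map (QuotientGroup.mk' (Cfsg.pResidual p G))) h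
  rw [Subgroup.map_sup, QuotientGroup.map_mk'_self, bot_sup_eq,
    map_top_of_surjective _ (QuotientGroup.mk'_surjective _), _root_.commutator_def,
    Subgroup.map_commutator, map_top_of_surjective _ (QuotientGroup.mk'_surjective _)] at h1
  exact h1

theorem pResidual_eq_top_iff_of_isolated [Finite G] (z : G) (hz : Cfsg.IsIsolatedInvolution z) :
    Cfsg.pResidual 2 G = ⊤ ↔ Cfsg.pResidual 2 ↥(Subgroup.centralizer ({z} : Set G)) = ⊤ := by
  constructor
  · intro h
    apply eq_top_of_sup_commutator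
    have h1 := pResidual_sup_commutator_inf (p := 2) (centralizer ({z} : Set G))
      (Nat.coprime_two_left.2 (odd_index_centralizer_of_isolated hz)) (fun g hg _ a ha => by
        obtain ⟨c, -, hc, e⟩ := isolated_controls_fusion hz ⊤ (by rw [normalizer_eq_top]; exact mem_top _) g _
          (mem_centralizer_singleton.1 hg) (mem_centralizer_singleton.1 ha) a (mem_top a) rfl
        exact ⟨c, mem_centralizer_singleton.2 hc, e⟩)
    rw [h, top_sup_eq, top_inf_eq] at h1
    apply map_injective (subtype_injective _)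
    rw [← h1, H23.map_subtype_top]
  · intro h
    rw [eq_top_iff]
    intro g _
    obtain ⟨k, ⟨⟨hk, -⟩, hgk⟩, -⟩ := isolated_existsUnique_transversal hz g
    have h1 : g⁻¹ * k ∈ Cfsg.pResidual 2 G :=
      H3.map_pResidual_le 2 (centralizer ({z} : Set G)).subtype ⟨⟨_, hgk⟩, h ▸ mem_top _, rfl⟩
    exact inv_mem_iff.1 ((mul_mem_cancel_right
      (H3.mem_pResidual_of_coprime (Nat.coprime_two_right.2 hk))).1 h1)

theorem pRankLE_iff {p k : ℕ} {X : Subgroup G} : Cfsg.PRankLE p k X ↔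
    ∀ A : Subgroup G, A ≤ X → Cfsg.IsElementaryAbelian p A → Nat.card A ≤ p ^ k := by
  constructor
  · intro h A hA hE
    have := H23.IsElementaryAbelian.subgroupOf hE X
    rw [← Nat.card_congr (subgroupOfEquivOfLe hA).toEquiv]
    exact h _ this.1 this.2
  · intro h A h1 h2
    rw [← card_map_of_injective (subtype_injective X)]
    exact h _ (map_subtype_le A) (H23.IsElementaryAbelian.map ⟨h1, h2⟩ _)

theorem not_pRankLE_iff {p k : ℕ} {X : Subgroup G} : ¬ Cfsg.PRankLE p k X ↔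
    ∃ A : Subgroup G, A ≤ X ∧ Cfsg.IsElementaryAbelian p A ∧ p ^ k < Nat.card A := by
  rw [pRankLE_iff]
  push Not
  rfl

theorem mul_inv_mem_of_rank {S R A : Subgroup G}
    (hcomm : ∀ a ∈ S, ∀ b ∈ S, a * b = b * a) {r : ℕ} (hSr : Cfsg.PRankLE 2 r S) (hRS : R ≤ S)
    (hAR : A ≤ R) (hA : Cfsg.IsElementaryAbelian 2 A) (hAc : 2 ^ r < 2 * (2 * Nat.card A))
    {s t : G} (ht : orderOf t = 2) (htS : t ∈ S) (htR : t ∉ R) (hs : s ∈ S) (hs2 : s * s = 1)
    (hsR : s ∉ R) : s * t⁻¹ ∈ R := by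
  have ht2 := mul_self_of_orderOf_two ht
  by_contra hst
  have hAS := hAR.trans hRS
  have h1 := card_zpowers_sup (H := A) (fun a ha => hcomm t htS a (hAS ha))
    (fun h => htR (hAR h)) ht2
  have hle : zpowers t ⊔ A ≤ S := sup_le (zpowers_le.2 htS) hAS
  have hn : zpowers t ≤ normalizer (A : Set G) := by
    rw [zpowers_le]
    apply centralizer_le_normalizer
    intro a ha
    exact (hcomm t htS a (hAS ha)).symm
  have hs' : s ∉ zpowers t ⊔ A := by
    intro h
    obtain ⟨x, hx, a, ha, e⟩ := (mem_sup_of_le_normalizer hn).1 h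
    rcases (mem_zpowers_of_orderOf_two ht).1 hx with e' | e'
    · exact hsR (by rw [← e, e', one_mul]; exact hAR ha)
    · exact hst (by rw [← e, e', hcomm t htS a (hAS ha), mul_inv_cancel_right]; exact hAR ha)
  have h2 := card_zpowers_sup (H := zpowers t ⊔ A) (fun a ha => hcomm s hs a (hle ha)) hs' hs2
  have hle' : zpowers s ⊔ (zpowers t ⊔ A) ≤ S := sup_le (zpowers_le.2 hs) hle
  have h3 := pRankLE_iff.1 hSr _ hle' ⟨isMulCommutative_of_comm fun a ha b hb =>
    hcomm a (hle' ha) b (hle' hb), sq_eq_one_of_mem_zpowers_sup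
      (fun a ha => hcomm s hs a (hle ha)) hs2 (sq_eq_one_of_mem_zpowers_sup
        (fun a ha => hcomm t htS a (hAS ha)) ht2 hA.2)⟩
  rw [h2, h1] at h3
  exact hAc.not_ge h3

theorem exists_normalizer_conj_mem_of_rank [Finite G] (hG : ∀ H : Subgroup G, H.index ≠ 2)
    (S : Sylow 2 G) (hS : IsMulCommutative (S : Subgroup G)) (r : ℕ)
    (hSr : Cfsg.PRankLE 2 r (S : Subgroup G)) (R : Subgroup G) (hRS : R ≤ S)
    (hRr : r = 1 ∨ ¬ Cfsg.PRankLE 2 (r - 2) R) (t : G) (ht : orderOf t = 2) (htS : t ∈ S) :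
    ∃ n ∈ Subgroup.normalizer ((S : Subgroup G) : Set G), n * t * n⁻¹ ∈ R := by
  by_contra hcon
  push Not at hcon
  have hcon' : ∀ g : G, g * t * g⁻¹ ∈ (S : Subgroup G) → g * t * g⁻¹ ∉ R := by
    intro g hg
    obtain ⟨w, hw, e⟩ := H3.abelian_sylow_controls S hS t htS g hg
    rw [← e]
    exact hcon w hw
  have hcomm : ∀ a ∈ (S : Subgroup G), ∀ b ∈ (S : Subgroup G), a * b = b * a :=
    fun a ha b hb => comm_of_isMulCommutative hS ha hb
  obtain ⟨A, hAR, hA, hAc⟩ : ∃ A : Subgroup G, A ≤ R ∧ Cfsg.IsElementaryAbelian 2 A ∧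
      2 ^ r < 2 * (2 * Nat.card A) := by
    rcases hRr with rfl | h
    · refine ⟨⊥, bot_le, ⟨inferInstance, fun a ha => by rw [mem_bot.1 ha, one_pow]⟩, ?_⟩
      rw [card_bot]; norm_num
    · obtain ⟨A, h1, h2, h3⟩ := not_pRankLE_iff.1 h
      refine ⟨A, h1, h2, ?_⟩
      have h4 : 2 ^ r ≤ 2 ^ (r - 2 + 2) := Nat.pow_le_pow_right (by norm_num) (by omega)
      rw [pow_add] at h4
      omega
  have ht2 := mul_self_of_orderOf_two ht
  have htR : t ∉ R := by
    have := hcon 1 (one_mem _)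
    rwa [one_mul, inv_one, mul_one] at this
  have hn : (R.subgroupOf S).Normal := ⟨fun a ha g => by
    rw [hS.is_comm.comm g a, mul_inv_cancel_right]; exact ha⟩
  have h2 : Nat.Coprime 2 (S : Subgroup G).index := Nat.coprime_two_left.2 (odd_index_sylow S)
  have htS' : t ∈ (S : Subgroup G) := htS
  have h3 : t ∈ commutator G := sylow_le_commutator_of_no_index_two S hG htS'
  have h4 : ∀ x ∈ (S : Subgroup G), ∀ y ∈ (S : Subgroup G), x * y * x⁻¹ * y⁻¹ ∈ R :=
    fun x hx y hy => by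
      rw [hcomm x hx y hy, mul_inv_cancel_right, mul_inv_cancel]; exact one_mem R
  refine not_mem_commutator_of_fusion (p := 2) (S : Subgroup G) R hn h4 h2 t htS'
    htR ⟨1, by rw [ht, pow_one]⟩ (fun m a ha => ?_) h3
  rcases (mem_zpowers_of_orderOf_two ht).1 (zpow_mem (mem_zpowers t) m) with e | e
  · rw [e, mul_one, mul_inv_cancel, inv_one, mul_one]; exact one_mem R
  · rw [e] at ha ⊢
    exact mul_inv_mem_of_rank hcomm hSr hRS hAR hA hAc ht htS htR ha (conj_mul_self ht2 a)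
      (hcon' a ha)

theorem isPGroup_fstar_centralizer_mono [Finite G] {p : ℕ} [Fact p.Prime] (U V : Subgroup G)
    (hVU : V ≤ U) (hU : IsPGroup p U)
    (hV : IsPGroup p ↥(Cfsg.generalizedFittingSubgroup ↥(Subgroup.centralizer (V : Set G)))) :
    IsPGroup p ↥(Cfsg.generalizedFittingSubgroup ↥(Subgroup.centralizer (U : Set G))) := by
  let S : Set (Subgroup G) := {W | W ≤ U ∧
    IsPGroup p ↥(Cfsg.generalizedFittingSubgroup ↥(Subgroup.centralizer (W : Set G)))}
  obtain ⟨W, hW⟩ := (Set.toFinite S).exists_maximal ⟨V, hVU, hV⟩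
  by_cases h : W = U
  · exact h ▸ hW.prop.2
  exfalso
  have h1 := lt_inf_normalizer hU (lt_of_le_of_ne hW.prop.1 h)
  have h2 : U ⊓ normalizer (W : Set G) ∈ S := ⟨inf_le_left,
    H23.isPGroup_fstar_centralizer_of_le hU.to_inf_left inf_le_right
      ((centralizer_le h1.le).trans (centralizer_le_normalizer _))
      (H23.isPGroup_fstar_normalizer_of_centralizer (hU.to_le hW.prop.1) hW.prop.2)⟩
  exact h1.not_ge (hW.le_of_ge h2 h1.le)

/-- if the normalizers of all `p`-subgroups of `H` containing a conjugate of `A` lie in `H`, then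
`gAg⁻¹ ≤ H` forces `g ∈ H` -/
theorem mem_of_normalizers_le [Finite G] {p : ℕ} [Fact p.Prime] {H A : Subgroup G}
    (hA : IsPGroup p A) (hAH : A ≤ H)
    (hN : ∀ X : Subgroup G, X ≤ H → IsPGroup p X → (∃ a : G, cj a A ≤ X) →
      normalizer (X : Set G) ≤ H) {g : G} (hg : cj g A ≤ H) : g ∈ H := by
  let S : Set (Subgroup G) := {X | IsPGroup p X ∧ A ≤ X ∧ X ≤ H ∧ cj g X ≤ H}
  obtain ⟨X, hX⟩ := (Set.toFinite S).exists_maximal ⟨A, hA, le_rfl, hAH, hg⟩
  obtain ⟨hXp, hAX, hXH, hXg⟩ := hX.prop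
  have hN1 := hN X hXH hXp ⟨1, by rw [cj_one]; exact hAX⟩
  have hN2 := hN _ hXg (isPGroup_cj hXp g) ⟨g, cj_mono hAX⟩
  rw [← cj_normalizer] at hN2
  obtain ⟨R, hR⟩ := hXp.exists_le_sylow
  have hXR : X = R := by
    by_contra hne
    have h1 := lt_inf_normalizer R.isPGroup' (lt_of_le_of_ne hR hne)
    exact h1.not_ge (hX.le_of_ge ⟨R.isPGroup'.to_inf_left, hAX.trans h1.le,
      inf_le_right.trans hN1, (cj_mono inf_le_right).trans hN2⟩ h1.le)
  subst hXR
  obtain ⟨h, hh, he⟩ := (sylIn_of_sylow_le R hXH).exists_cj_eq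
    (sylIn_of_sylow_le (g • R) hXg)
  rw [coe_smul_sylow, ← cj_mul, cj_eq_iff] at he
  exact (mul_mem_cancel_left hh).1 (hN1 he)

theorem normalizers_le_iff_rank [Finite G] {p : ℕ} [Fact p.Prime] (k : ℕ) (H : Subgroup G)
    (P : Sylow p ↥H) :
    (∀ X : Subgroup G, X ≤ (P : Subgroup ↥H).map H.subtype → ¬ Cfsg.PRankLE p k ↥X →
      Subgroup.normalizer (X : Set G) ≤ H) ↔
      (∀ g : G, g ∉ H → Cfsg.PRankLE p k ↥(H ⊓ cj g H)) := by
  constructor
  · intro h g hg
    by_contra hcon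
    obtain ⟨A, hA, hE, hc⟩ := not_pRankLE_iff.1 hcon
    apply hg
    rw [← inv_mem_iff]
    refine mem_of_normalizers_le (H23.IsElementaryAbelian.isPGroup hE) (hA.trans inf_le_left)
      (fun X hXH hX ⟨a, ha⟩ => ?_) (by
        rw [cj_le_iff_le_cj_inv, inv_inv]; exact hA.trans inf_le_right)
    obtain ⟨m, hm, hle⟩ := (sylIn_map_subtype P).exists_cj_le hXH hX
    have h1 := h _ hle (not_pRankLE_iff.2 ⟨cj m (cj a A), cj_mono ha,
      H23.IsElementaryAbelian.map (H23.IsElementaryAbelian.map hE _) _, by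
        rwa [card_cj, card_cj]⟩)
    rwa [← cj_normalizer, cj_le_iff_le_cj_inv, cj_eq_of_mem (inv_mem hm)] at h1
  · intro h X hX hr g hg
    by_contra hgH
    obtain ⟨A, hA, hE, hc⟩ := not_pRankLE_iff.1 hr
    have hXH := hX.trans (map_subtype_le _)
    refine not_pRankLE_iff.2 ⟨A, hA.trans (le_inf hXH ?_), hE, hc⟩ (h g hgH)
    rw [← cj_eq_iff.2 hg]
    exact cj_mono hXH

end H6
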