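import Mathlib
import Cfsg.Agent.H3.B71C

/-!
Aschbacher's criterion for strong embedding (`Z`-form of Bender's theorem): definitions.
-/

set_option autoImplicit false

namespace H6
namespace ZD

open H24 H3.B71 Subgroup MulAction

universe u

variable {G Ω : Type*} [Group G] [MulAction G Ω]

/-- `g` fixes at most one point -/
def Nar (Ω : Type*) [MulAction G Ω] (g : G) : Prop := ∀ a b : Ω, g • a = a → g • b = b → a = b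

/-- an involution with at least two fixed points -/
def Wide (Ω : Type*) [MulAction G Ω] (y : G) : Prop := Inv y ∧ ¬ Nar Ω y

/-- `Z` is a normal set of involutions with exactly one fixed point, every point is fixed by one
of them, and the product of two distinct commuting members fixes at most one point -/
structure ZE (Ω : Type*) [MulAction G Ω] (Z : Set G) : Prop where
  inv : ∀ z ∈ Z, Inv z
  conj : ∀ z ∈ Z, ∀ g : G, g * z * g⁻¹ ∈ Z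
  ex : ∀ z ∈ Z, ∃ a : Ω, z • a = a
  nar : ∀ z ∈ Z, Nar Ω z
  pt : ∀ a : Ω, ∃ z ∈ Z, z • a = a
  pd : ∀ u ∈ Z, ∀ v ∈ Z, u ≠ v → u * v = v * u → Nar Ω (u * v)

/-- the members of `Z ∩ Y` at `a` -/
def ZA (Z : Set G) (Y : Subgroup G) (a : Ω) : Set G := {u | u ∈ Z ∧ u ∈ Y ∧ u • a = a}

/-- the members of `Z ∩ Y` mapping `a` to `b` -/
def TT (Z : Set G) (Y : Subgroup G) (a b : Ω) : Set G := {t | t ∈ Z ∧ t ∈ Y ∧ t • a = b}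

/-- `m = |Z_a|` -/
noncomputable def mm (Z : Set G) (a : Ω) : ℕ := (ZA Z ⊤ a).ncard

/-- `Y` contains two distinct commuting members of `Z` at `a` -/
def Pair (Z : Set G) (Y : Subgroup G) (a : Ω) : Prop :=
  ∃ u ∈ ZA Z Y a, ∃ v ∈ ZA Z Y a, u ≠ v ∧ u * v = v * u

/-- distinct members of `Z ∩ Y` at `a` act differently on the orbit of `a` -/
def Clean (Z : Set G) (Y : Subgroup G) (a : Ω) : Prop :=
  ∀ u ∈ ZA Z Y a, ∀ v ∈ ZA Z Y a, u * v ∈ Ker Y a → u = v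

/-- `L = ⟨Z ∩ Y⟩` -/
def Lz (Z : Set G) (Y : Subgroup G) : Subgroup G := closure {u | u ∈ Z ∧ u ∈ Y}

/-- `A = ⟨Z_a ∩ Y⟩` -/
def Az (Z : Set G) (Y : Subgroup G) (a : Ω) : Subgroup G := closure (ZA Z Y a)

/-- `K = t T` -/
def Kz (Z : Set G) (Y : Subgroup G) (a : Ω) (t : G) : Subgroup G :=
  closure {k | k ∈ Y ∧ k • a = a ∧ t * k ∈ Z}

/-- `U`, the `2`-elements of `L_a` -/
def Uz (Z : Set G) (Y : Subgroup G) (a : Ω) : Subgroup G :=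
  closure {x | x ∈ Lz Z Y ∧ x • a = a ∧ ∃ n : ℕ, x ^ 2 ^ n = 1}

/-- `A N`, `N` the kernel of `Y` on the orbit of `a` -/
def AN (Z : Set G) (Y : Subgroup G) (a : Ω) : Subgroup G := Az Z Y a ⊔ Ker Y a

/-- what induction says about any proper subgroup with a pair -/
structure LZ (Z : Set G) (Y : Subgroup G) (a : Ω) (Q : Subgroup G) : Prop where
  le : Q ≤ Y
  fix : ∀ x ∈ Q, x • a = a
  ker_le : Ker Y a ≤ Q
  norm : ∀ y ∈ Y, y • a = a → y ∈ N[Q]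
  two : ∀ x ∈ Q, ∃ n : ℕ, x ^ 2 ^ n ∈ Ker Y a
  trans : ∀ c ∈ Orb Y a, ∀ c' ∈ Orb Y a, c ≠ a → c' ≠ a → ∃ x ∈ Q, x • c = c'
  free : ∀ x ∈ Q, ∀ c ∈ Orb Y a, c ≠ a → x • c = c → x ∈ Ker Y a
  mem : ∀ u ∈ ZA Z Y a, u ∈ Q
  comm : ∀ u ∈ ZA Z Y a, ∀ x ∈ Q, u * x * u⁻¹ * x⁻¹ ∈ Ker Y a

/-- the extra element of the unitary case -/
structure Om (Z : Set G) (Y : Subgroup G) (a : Ω) (t : G) (d : ℕ) (ω : G) (p : ℕ) : Prop where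
  prime : p.Prime
  dvd : p ∣ 2 ^ d + 1
  memL : ω ∈ Lz Z Y
  pel : ∃ j : ℕ, ω ^ p ^ j = 1
  powK : ω ^ p ∈ Ker Y a
  fixa : ω • a = a
  ct : ω * t = t * ω
  cA : ∀ u ∈ Az Z Y a, ω * u = u * ω
  fix : ∀ c ∈ Orb Y a, ω • c = c → c = a ∨ ∃ u ∈ Az Z Y a, c = u • t • a
  norm : ∀ g ∈ Y, g • a = a → g • t • a = t • a → ∃ j : ℕ, g * ω * g⁻¹ * (ω ^ j)⁻¹ ∈ Ker Y a

/-- a plane: `L / Z(L)` is `L₂(q)`, `Sz(q)` or `U₃(q)` (`i = 1, 2, 3`), `q = 2 ^ d` -/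
structure Pl (Z : Set G) (Y : Subgroup G) (a : Ω) (t : G) (d i : ℕ) : Prop where
  tZ : t ∈ Z
  tY : t ∈ Y
  ta : t • a ≠ a
  memA : ∀ x, x ∈ Az Z Y a ↔ x = 1 ∨ x ∈ ZA Z Y a
  memK : ∀ k, k ∈ Kz Z Y a t ↔ k ∈ Y ∧ k • a = a ∧ t * k ∈ Z
  memU : ∀ x, x ∈ Uz Z Y a ↔ x ∈ Lz Z Y ∧ x • a = a ∧ ∃ n : ℕ, x ^ 2 ^ n = 1
  two_le : 2 ≤ d
  cardA : ♯(Az Z Y a) = 2 ^ d
  cardK : ♯(Kz Z Y a t) + 1 = 2 ^ d
  cyc : IsCyclic (Kz Z Y a t)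
  centN : ∀ z ∈ Z, z ∈ Y → ∀ n ∈ Ker Y a, z * n = n * z
  trans : ∀ c ∈ Orb Y a, c ≠ a → ∃ x ∈ Uz Z Y a, x • t • a = c
  free : ∀ x ∈ Uz Z Y a, ∀ c ∈ Orb Y a, c ≠ a → x • c = c → x ∈ Ker Y a
  centA : ∀ x ∈ Uz Z Y a, ∀ u ∈ Az Z Y a, x * u = u * x
  sqU : ∀ x ∈ Uz Z Y a, x * x ∈ AN Z Y a
  invL : ∀ x ∈ Lz Z Y, x * x ∈ Ker Y a → x ∈ Ker Y a ∨ ∃ z ∈ Z, z ∈ Y ∧ x * z ∈ Ker Y a
  card : (Orb Y a).ncard = (2 ^ d) ^ i + 1
  fix3 : ∀ k ∈ Kz Z Y a t, k ≠ 1 → ∀ c ∈ Orb Y a, k • c = c → c = a ∨ c = t • a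
  cases : i = 1 ∨ i = 2 ∨ i = 3
  lk : i ≠ 3 → ∀ x ∈ Lz Z Y, x • a = a → x • t • a = t • a → ∃ k ∈ Kz Z Y a t, x * k ∈ Ker Y a
  gen : i ≠ 3 → ∀ c ∈ Orb Y a, c ∈ Orb (Az Z Y a ⊔ zpowers t) a
  three : i = 2 → ¬ 3 ∣ 2 ^ d - 1
  nonab : i = 2 → ∃ x ∈ Uz Z Y a, ∃ y ∈ Uz Z Y a, x * y * x⁻¹ * y⁻¹ ∉ Ker Y a
  ktr : i = 2 → ∀ x ∈ Uz Z Y a, ∀ y ∈ Uz Z Y a, x ∉ AN Z Y a → y ∉ AN Z Y a →
    ∃ k ∈ Kz Z Y a t, k * x * k⁻¹ * y⁻¹ ∈ AN Z Y a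
  om : i = 3 → ∃ ω p, Om Z Y a t d ω p

/-- the theorem for groups of order less than `n` -/
def IH (n : ℕ) : Prop :=
  ∀ (G Ω : Type u) [Group G] [Finite G] [MulAction G Ω] [Finite Ω] (Z : Set G), Nat.card G < n →
    IsSimpleGroup G → Nontrivial Ω → ZE Ω Z → ∀ x : G, ¬ Wide Ω x

/-- a simple group with a `Z`-structure -/
structure Sm (Ω : Type*) [MulAction G Ω] (Z : Set G) : Prop where
  ze : ZE Ω Z
  simple : IsSimpleGroup G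
  nontriv : Nontrivial Ω

/-- the inductive situation -/
structure Mn (Ω : Type*) [MulAction G Ω] (Z : Set G) : Prop extends Sm Ω Z where
  lz : ∀ (Y : Subgroup G) (a : Ω), Y ≠ ⊤ → Pair Z Y a → (∃ y ∈ Y, y • a ≠ a) → ∃ Q, LZ Z Y a Q
  pl : ∀ (Y : Subgroup G) (a : Ω) (t : G), Y ≠ ⊤ → Pair Z Y a → t ∈ Z → t ∈ Y → t • a ≠ a →
    Clean Z Y a → ∃ d i, Pl Z Y a t d i

/-- a wide involution fixing `a` and centralising a pair at `a` -/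
def BT (Z : Set G) (y : G) (a : Ω) : Prop := Wide Ω y ∧ y • a = a ∧ Pair Z C{y} a

/-- all centralisers of big involutions are clean -/
structure Cl (Ω : Type*) [MulAction G Ω] (Z : Set G) : Prop extends Mn Ω Z where
  cl : ∀ (y : G) (a : Ω), BT Z y a → Clean Z C{y} a

/-- a big involution with its plane -/
structure Bt (Z : Set G) (y : G) (a : Ω) (t : G) (d i : ℕ) : Prop where
  cl : Cl Ω Z
  bt : BT Z y a
  pl : Pl Z C{y} a t d i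

/-- `q = 2 ^ d` is maximal -/
def Mx (Ω : Type*) [MulAction G Ω] (Z : Set G) (d : ℕ) : Prop :=
  ∀ (v : G) (b : Ω), BT Z v b → ♯(Az Z C{v} b) ≤ 2 ^ d

/-- case II: `Z_a ∪ 1` is a group of order `q`, centralised by all wide involutions at `a` -/
structure C2 (Ω : Type*) [MulAction G Ω] (Z : Set G) (d i : ℕ) : Prop where
  cl : Cl Ω Z
  i12 : i = 1 ∨ i = 2
  card : ∀ a : Ω, mm Z a + 1 = 2 ^ d
  wide : ∃ y : G, Wide Ω y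
  cent : ∀ (y : G) (a : Ω), Wide Ω y → y • a = a → ∀ z ∈ Z, z • a = a → z * y = y * z
  bt : ∀ (y : G) (a : Ω) (t : G), Wide Ω y → y • a = a → t ∈ Z → t * y = y * t → t • a ≠ a →
    Bt Z y a t d i

/-- `A = Z_a ∪ 1` in case II -/
abbrev AA (Z : Set G) (a : Ω) : Subgroup G := Az Z ⊤ a

/-- `K(a, t a)` in case II -/
abbrev KK (Z : Set G) (a : Ω) (t : G) : Subgroup G := Kz Z ⊤ a t

/-- `W = C_D(A)` -/
abbrev WW (Z : Set G) (a b : Ω) : Subgroup G := C[AA Z a] ⊓ stabilizer G b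

/-- `X_y`, the kernel of `C(y)` on the fixed points of `y` -/
abbrev XX (y : G) (a : Ω) : Subgroup G := Ker C{y} a

/-- `R_y = C(A) ∩ C(y)` -/
abbrev RR (Z : Set G) (y : G) (a : Ω) : Subgroup G := C[AA Z a] ⊓ C{y}

/-- `F_y = A X_y` -/
abbrev FF (Z : Set G) (y : G) (a : Ω) : Subgroup G := AA Z a ⊔ XX y a

/-- `P_y = C(A) ∩ N(F_y)` -/
abbrev PP (Z : Set G) (y : G) (a : Ω) : Subgroup G := C[AA Z a] ⊓ N[FF Z y a]

theorem mem_ZA {Z : Set G} {Y : Subgroup G} {a : Ω} {u : G} :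
    u ∈ ZA Z Y a ↔ u ∈ Z ∧ u ∈ Y ∧ u • a = a := Iff.rfl

theorem mem_TT {Z : Set G} {Y : Subgroup G} {a b : Ω} {t : G} :
    t ∈ TT Z Y a b ↔ t ∈ Z ∧ t ∈ Y ∧ t • a = b := Iff.rfl

theorem wide_of_fix {y : G} {a b : Ω} (hy : Inv y) (hab : a ≠ b) (ha : y • a = a)
    (hb : y • b = b) : Wide Ω y := ⟨hy, fun h => hab (h a b ha hb)⟩

theorem Wide.exists_ne {y : G} (h : Wide Ω y) (a : Ω) : ∃ b : Ω, b ≠ a ∧ y • b = b := by
  by_contra! e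
  exact h.2 fun b c hb hc => by
    rw [not_not.mp (mt (e b) (not_not.mpr hb)), not_not.mp (mt (e c) (not_not.mpr hc))]

theorem Nar.conj {y : G} (h : Nar Ω y) (g : G) : Nar Ω (g * y * g⁻¹) := fun a b ha hb => by
  rw [← smul_inv_smul g a] at ha
  rw [← smul_inv_smul g b] at hb
  exact smul_left_cancel g⁻¹ (h _ _ (fix_of_conj ha) (fix_of_conj hb))

theorem Wide.conj {y : G} (h : Wide Ω y) (g : G) : Wide Ω (g * y * g⁻¹) :=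
  ⟨h.1.conj g, fun e => h.2 (by simpa [mul_assoc] using e.conj g⁻¹)⟩

theorem Lz_le (Z : Set G) (Y : Subgroup G) : Lz Z Y ≤ Y := (closure_le _).mpr fun _ h => h.2

theorem mem_Lz {Z : Set G} {Y : Subgroup G} {z : G} (hz : z ∈ Z) (hY : z ∈ Y) : z ∈ Lz Z Y :=
  subset_closure ⟨hz, hY⟩

theorem mem_Az {Z : Set G} {Y : Subgroup G} {a : Ω} {z : G} (hz : z ∈ ZA Z Y a) : z ∈ Az Z Y a :=
  subset_closure hz

theorem Az_le_Lz (Z : Set G) (Y : Subgroup G) (a : Ω) : Az Z Y a ≤ Lz Z Y :=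
  (closure_le _).mpr fun _ h => mem_Lz h.1 h.2.1

theorem Az_le (Z : Set G) (Y : Subgroup G) (a : Ω) : Az Z Y a ≤ Y :=
  (Az_le_Lz Z Y a).trans (Lz_le Z Y)

theorem Az_fix {Z : Set G} {Y : Subgroup G} {a : Ω} {x : G} (h : x ∈ Az Z Y a) : x • a = a :=
  ((closure_le (stabilizer G a)).mpr fun _ h => h.2.2 : Az Z Y a ≤ stabilizer G a) h

theorem Az_mono {Z : Set G} {Y Y' : Subgroup G} (h : Y ≤ Y') (a : Ω) : Az Z Y a ≤ Az Z Y' a :=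
  closure_mono fun _ hx => ⟨hx.1, h hx.2.1, hx.2.2⟩

theorem Uz_le_Lz (Z : Set G) (Y : Subgroup G) (a : Ω) : Uz Z Y a ≤ Lz Z Y :=
  (closure_le _).mpr fun _ h => h.1

theorem Uz_fix {Z : Set G} {Y : Subgroup G} {a : Ω} {x : G} (h : x ∈ Uz Z Y a) : x • a = a :=
  ((closure_le (stabilizer G a)).mpr fun _ h => h.2.1 : Uz Z Y a ≤ stabilizer G a) h

theorem Kz_le (Z : Set G) (Y : Subgroup G) (a : Ω) (t : G) : Kz Z Y a t ≤ Y :=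
  (closure_le _).mpr fun _ h => h.1

theorem Kz_fix {Z : Set G} {Y : Subgroup G} {a : Ω} {t x : G} (h : x ∈ Kz Z Y a t) : x • a = a :=
  ((closure_le (stabilizer G a)).mpr fun _ h => h.2.1 : Kz Z Y a t ≤ stabilizer G a) h

end ZD
end H6
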