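import Mathlib
import Cfsg.Agent.H6.ZDefs

/-! `Z`-structures: elementary facts. -/

set_option autoImplicit false
set_option linter.unusedSectionVars false
set_option linter.unusedVariables false

namespace H6
namespace ZD

open H24 H3.B71 Subgroup MulAction

variable {G Ω : Type*} [Group G] [Finite G] [MulAction G Ω] {Z : Set G}

/-- fixed point count for a `p`-group acting by conjugation on a set of elements -/
theorem conj_modEq {p : ℕ} {P : Subgroup G} {S : Set G} (hp : p.Prime) (hP : IsPi {p} P)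
    (hS : ∀ x ∈ P, ∀ s ∈ S, x * s * x⁻¹ ∈ S) :
    S.ncard ≡ {s ∈ S | P ≤ C{s}}.ncard [MOD p] := by
  have := @ncard_modEq G G _ (MulAction.compHom G (MulAut.conj : G →* MulAut G)) _ _ p P S hp hP hS
  convert this using 4 with s
  refine and_congr_right fun _ => forall₂_congr fun g _ => ?_
  exact mem_C1_iff_conj

theorem exists_cent_of_not_dvd {p : ℕ} {P : Subgroup G} {S : Set G} (hp : p.Prime)
    (hP : IsPi {p} P) (hS : ∀ x ∈ P, ∀ s ∈ S, x * s * x⁻¹ ∈ S) (h : ¬ p ∣ S.ncard) :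
    ∃ s ∈ S, P ≤ C{s} := by
  by_contra! e
  have := conj_modEq hp hP hS
  rw [show {s ∈ S | P ≤ C{s}} = ∅ from Set.eq_empty_of_forall_notMem fun c hc =>
    e c hc.1 hc.2, Set.ncard_empty] at this
  exact h (Nat.modEq_zero_iff_dvd.mp this)

theorem _root_.H3.B71.Inv.two {u : G} (hu : Inv u) : IsPi {2} (zpowers u) :=
  isPi_of_card_prime Nat.prime_two hu.card_zpowers

theorem not_two_dvd {n : ℕ} (h : Odd n) : ¬ 2 ∣ n := by
  rwa [← even_iff_two_dvd, Nat.not_even_iff_odd]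

/-- `Z*`, ambient form -/
theorem zstar_iso {Y : Subgroup G} {u : G} (hu : Inv u) (huY : u ∈ Y)
    (hiso : ∀ g ∈ Y, u * (g * u * g⁻¹) = (g * u * g⁻¹) * u → g * u * g⁻¹ = u) {y : G} (hy : y ∈ Y) :
    u * y * u⁻¹ * y⁻¹ ∈ O[{2}ᶜ, Y] := by
  rw [pcore_compl_singleton Nat.prime_two]
  refine ⟨_, H17.zstar (G := Y) (z := ⟨u, huY⟩) ⟨?_, fun g hg => Subtype.ext ?_⟩ ⟨y, hy⟩, rfl⟩
  · rw [← hu.orderOf_eq]; exact (orderOf_injective Y.subtype Y.subtype_injective _).symm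
  · exact hiso g g.2 (congrArg Subtype.val hg.eq)

theorem exists_prod_of_comm {O : Subgroup G} {u y : G} (hu : Inv u) (hO : Odd ♯O) (huO : u ∈ N[O])
    (h : u * y * u⁻¹ * y⁻¹ ∈ O) : ∃ o ∈ O, (o⁻¹ * y) * u = u * (o⁻¹ * y) := by
  obtain ⟨v, hv, e⟩ := H26.coprime_lift_cent (zp_le_N huO) (hu.coprime hO)
    (Or.inr (cyc_zpowers u).sol) (g := y) fun x hx => by
      rcases hu.mem_zp hx with rfl | rfl
      · simp
      · exact h
  rw [C_zpowers] at e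
  exact ⟨v⁻¹, inv_mem hv, by rw [inv_inv]; exact mem_C1.mp e⟩

theorem zstar_prod {Y : Subgroup G} {u : G} (hu : Inv u) (huY : u ∈ Y)
    (hiso : ∀ g ∈ Y, u * (g * u * g⁻¹) = (g * u * g⁻¹) * u → g * u * g⁻¹ = u) {y : G} (hy : y ∈ Y) :
    ∃ o ∈ O[{2}ᶜ, Y], ∃ c ∈ Y, c * u = u * c ∧ y = o * c := by
  obtain ⟨o, ho, e⟩ := exists_prod_of_comm hu (odd_O Y) ((pcore_nml _ _).norm huY)
    (zstar_iso hu huY hiso hy)
  exact ⟨o, ho, _, mul_mem (inv_mem (pcore_le _ _ ho)) hy, e, by group⟩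

/-- a prime dividing the number of inverted elements is the order of one of them -/
theorem exists_inverted_prime {O : Subgroup G} {t : G} {p : ℕ} (hp : p.Prime) (ht : Inv t)
    (hO : Odd ♯O) (htO : t ∈ N[O]) (h : p ∣ {k | k ∈ O ∧ t * k * t⁻¹ = k⁻¹}.ncard) :
    ∃ k ∈ O, orderOf k = p ∧ t * k * t⁻¹ = k⁻¹ := by
  obtain ⟨P, h1, h2, -⟩ := exists_syl_inv hp ht hO htO (isPi_bot _) bot_le (mem_N_bot t)
  obtain ⟨k, hk, hk1, hi⟩ := exists_inverted ht (H3.B71.odd_of_le hO h1.le) h2 fun e =>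
    Syl.not_mul_dvd hp h1 C{t} (by
      rw [relIndex_eq_one.mpr e, mul_one, idx_eq_card ht hO htO]; exact h)
  obtain ⟨l, hl, hlp⟩ := exists_prime_mem_zp hk1
  have hlP : l ∈ P := zpowers_le.mpr hk hl
  exact ⟨l, h1.le hlP, h1.pi.piElt hlP _ hlp dvd_rfl, inv_of_mem_zp hi hl⟩

theorem cj_closure (g : G) {S T : Set G} (h : ∀ x, g * x * g⁻¹ ∈ T ↔ x ∈ S) :
    cj g (closure S) = closure T := by
  rw [cj_def, MonoidHom.map_closure]
  congr 1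
  ext x
  exact ⟨fun ⟨y, hy, e⟩ => e ▸ (h y).mpr hy, fun hx => ⟨g⁻¹ * x * g, (h _).mp (by
    simpa [mul_assoc] using hx), by simp [mul_assoc]⟩⟩

theorem conj_fix_iff {g x : G} {a : Ω} : (g * x * g⁻¹) • g • a = g • a ↔ x • a = a :=
  ⟨fix_of_conj, conj_fix⟩

theorem mem_Orb_self' (Y : Subgroup G) (c : Ω) : c ∈ Orb Y c := ⟨1, Y.one_mem, one_smul _ _⟩

theorem Ker_smul {Y : Subgroup G} {a c : Ω} {n : G} (hn : n ∈ Ker Y a) (hc : c ∈ Orb Y a) :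
    n • c = c := by
  obtain ⟨y, hy, rfl⟩ := hc
  exact hn.2 y hy

theorem Orb_eq_of_mem_Orb {Y : Subgroup G} {a c : Ω} (hc : c ∈ Orb Y a) : Orb Y c = Orb Y a := by
  obtain ⟨y, hy, rfl⟩ := hc
  ext d
  exact ⟨fun ⟨x, hx, e⟩ => ⟨x * y, mul_mem hx hy, by rw [mul_smul, e]⟩, fun ⟨x, hx, e⟩ =>
    ⟨x * y⁻¹, mul_mem hx (inv_mem hy), by rw [mul_smul, inv_smul_smul, e]⟩⟩

theorem mem_Ker' {Y : Subgroup G} {a : Ω} {n : G} :
    n ∈ Ker Y a ↔ n ∈ Y ∧ ∀ c ∈ Orb Y a, n • c = c :=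
  ⟨fun h => ⟨h.1, fun _ hc => Ker_smul h hc⟩, fun h => ⟨h.1, fun y hy => h.2 _ ⟨y, hy, rfl⟩⟩⟩

theorem Ker_eq_of_mem_Orb {Y : Subgroup G} {a c : Ω} (hc : c ∈ Orb Y a) : Ker Y c = Ker Y a := by
  ext n
  rw [mem_Ker', mem_Ker', Orb_eq_of_mem_Orb hc]

theorem cj_Ker (g : G) (Y : Subgroup G) (a : Ω) : cj g (Ker Y a) = Ker (cj g Y) (g • a) := by
  ext n
  rw [mem_cj, mem_Ker, mem_Ker, mem_cj]
  refine and_congr_right fun _ => ⟨fun h y hy => ?_, fun h y hy => ?_⟩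
  · have := h _ (mem_cj.mp hy)
    simpa only [mul_smul, smul_inv_smul, smul_left_cancel_iff] using this
  · have := h _ (conj_mem_cj g hy)
    simp only [mul_smul, inv_smul_smul] at this ⊢
    rw [this, inv_smul_smul]

theorem mem_Orb_cj {g : G} {Y : Subgroup G} {a c : Ω} :
    g • c ∈ Orb (cj g Y) (g • a) ↔ c ∈ Orb Y a :=
  ⟨fun ⟨y, hy, e⟩ => ⟨_, mem_cj.mp hy, by rw [mul_smul, mul_smul, e, inv_smul_smul]⟩,
    fun ⟨y, hy, e⟩ => ⟨_, conj_mem_cj g hy, by rw [conj_smul, e]⟩⟩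

theorem norm_Ker {Y : Subgroup G} {g : G} {a : Ω} (hg : g ∈ N[Y]) (ha : g • a = a) :
    g ∈ N[Ker Y a] := by rw [mem_N_iff_cj, cj_Ker, cj_of_mem_N hg, ha]

theorem le_pcore_of_prod {π : Set ℕ} {H X : Subgroup G} (hX : X ≤ H)
    (h : ∀ g ∈ H, ∃ o ∈ O[π, H], o⁻¹ * g ∈ X) : O[π, X] ≤ O[π, H] := by
  have h1 : O[π, X] ≤ H := (pcore_le _ _).trans hX
  refine le_sup_right.trans (pcore_max' ((pcore_pi π H).sup (pcore_pi π X)
    (h1.trans (pcore_nml _ _).norm)) (sup_le (pcore_le _ _) h1) fun g hg => ?_)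
  obtain ⟨o, ho, hx⟩ := h g hg
  rw [← mul_inv_cancel_left o g]
  exact mul_mem (norm_self _ (mem_sup_left ho))
    (norm_sup (hX.trans (pcore_nml _ _).norm) (pcore_nml _ _).norm hx)

namespace ZE

variable (h : ZE Ω Z) {a b c : Ω} {u v z t t' g k l : G} {Y P : Subgroup G}
include h

theorem conj_iff : g * z * g⁻¹ ∈ Z ↔ z ∈ Z :=
  ⟨fun e => by simpa [mul_assoc] using h.conj _ e g⁻¹, fun e => h.conj z e g⟩

theorem fix_of_comm (hz : z ∈ Z) (ha : z • a = a) (hc : z * g = g * z) : g • a = a :=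
  h.nar z hz _ _ (comm_fix hc ha) ha

theorem smul_of_conj (hz : z ∈ Z) (ha : z • a = a) (hb : (g * z * g⁻¹) • b = b) : g • a = b :=
  h.nar _ (h.conj z hz g) _ _ (conj_fix ha) hb

theorem smul_ne (hz : z ∈ Z) (ha : z • a = a) (hb : b ≠ a) : z • b ≠ b := fun e =>
  hb (h.nar z hz _ _ e ha)

theorem smul_ne' (hz : z ∈ Z) (ha : z • a = a) (hb : b ≠ a) : z • b ≠ a := fun e =>
  hb (by rw [← (h.inv z hz).smul_eq e, ha])

theorem conj_ZA (hu : u ∈ ZA Z Y a) (hg : g ∈ N[Y]) : g * u * g⁻¹ ∈ ZA Z Y (g • a) :=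
  ⟨h.conj u hu.1 g, conj_mem hg hu.2.1, conj_fix hu.2.2⟩

theorem conj_ZA' (hu : u ∈ ZA Z Y a) (hg : g ∈ N[Y]) (ha : g • a = a) :
    g * u * g⁻¹ ∈ ZA Z Y a := by simpa only [ha] using h.conj_ZA hu hg

theorem conj_TT (ht : t ∈ TT Z Y a b) (hg : g ∈ N[Y]) :
    g * t * g⁻¹ ∈ TT Z Y (g • a) (g • b) :=
  ⟨h.conj t ht.1 g, conj_mem hg ht.2.1, by rw [conj_smul, ht.2.2]⟩

theorem TT_symm (ht : t ∈ TT Z Y a b) : t ∈ TT Z Y b a :=
  ⟨ht.1, ht.2.1, (h.inv t ht.1).smul_eq ht.2.2⟩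

theorem conj_TT' (ht : t ∈ TT Z Y a b) (hg : g ∈ N[Y])
    (e : (g • a = a ∧ g • b = b) ∨ (g • a = b ∧ g • b = a)) : g * t * g⁻¹ ∈ TT Z Y a b := by
  have := h.conj_TT ht hg
  rcases e with ⟨e1, e2⟩ | ⟨e1, e2⟩ <;> rw [e1, e2] at this
  · exact this
  · exact h.TT_symm this

theorem TT_eq (a b : Ω) : TT Z Y a b = TT Z Y b a := Set.ext fun _ => ⟨h.TT_symm, h.TT_symm⟩

theorem conj_ZA_iff : g * u * g⁻¹ ∈ ZA Z (cj g Y) (g • a) ↔ u ∈ ZA Z Y a := by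
  rw [mem_ZA, mem_ZA, h.conj_iff, conj_mem_cj_iff, conj_fix_iff]

theorem cj_Lz (g : G) (Y : Subgroup G) : cj g (Lz Z Y) = Lz Z (cj g Y) :=
  cj_closure g fun x => by simp only [Set.mem_ofPred_eq, h.conj_iff, conj_mem_cj_iff]

theorem cj_Az (g : G) (Y : Subgroup G) (a : Ω) : cj g (Az Z Y a) = Az Z (cj g Y) (g • a) :=
  cj_closure g fun _ => h.conj_ZA_iff

theorem cj_Uz (g : G) (Y : Subgroup G) (a : Ω) : cj g (Uz Z Y a) = Uz Z (cj g Y) (g • a) :=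
  cj_closure g fun x => by
    simp only [Set.mem_ofPred_eq, ← h.cj_Lz, conj_mem_cj_iff, conj_fix_iff, conj_pow,
      conj_eq_one_iff']

theorem cj_Kz (g : G) (Y : Subgroup G) (a : Ω) (t : G) :
    cj g (Kz Z Y a t) = Kz Z (cj g Y) (g • a) (g * t * g⁻¹) :=
  cj_closure g fun x => by
    simp only [Set.mem_ofPred_eq, conj_mem_cj_iff, conj_fix_iff, conj_mul, h.conj_iff]

theorem pair_cj (hP : Pair Z Y a) (g : G) : Pair Z (cj g Y) (g • a) := by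
  obtain ⟨u, hu, v, hv, hne, hc⟩ := hP
  exact ⟨_, h.conj_ZA_iff.mpr hu, _, h.conj_ZA_iff.mpr hv, by simpa using hne,
    by rw [conj_mul, conj_mul, hc]⟩

theorem mul_mem_of_odd (hz : z ∈ Z) (hk : Odd (orderOf k)) (hi : z * k * z⁻¹ = k⁻¹) :
    k * z ∈ Z ∧ z * k ∈ Z := by
  obtain ⟨n, hn⟩ := H21.exists_pow_sq_eq_of_odd hk (pow_orderOf_eq_one k)
  have e := inv_of_mem_zp hi (inv_mem (pow_mem (mem_zpowers k) n))
  have h1 : k * z ∈ Z := by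
    convert h.conj z hz (k ^ n) using 1
    calc k * z = k ^ n * (z * (k ^ n)⁻¹ * z⁻¹) * z := by rw [e, inv_inv, hn]
      _ = _ := by group
  exact ⟨h1, by simpa [mul_assoc] using h.conj _ h1 z⟩

theorem pow_mul_mem (hu : u ∈ Z) (hv : v ∈ Z) (n : ℕ) : (u * v) ^ n * u ∈ Z := by
  induction n using Nat.twoStepInduction with
  | zero => simpa using hu
  | one => simpa [(h.inv u hu).inv] using h.conj v hv u
  | more n h1 _ =>
    convert h.conj _ h1 (u * v) using 1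
    rw [mul_inv_rev, (h.inv u hu).inv, (h.inv v hv).inv, pow_succ, pow_succ']
    group

/-- B0 -/
theorem nar_of_even (hu : u ∈ Z) (hv : v ∈ Z) (he : ¬ Odd (orderOf (u * v))) :
    Nar Ω (u * v) := by
  obtain ⟨w, h1, h2, h3, -, h5⟩ := H21.exists_invol_comm_of_not_odd (h.inv u hu).2 (h.inv v hv).2
    (isOfFinOrder_of_finite _) he
  obtain ⟨n, rfl⟩ := (mem_powers_iff_mem_zpowers.mpr h5)
  have := h.pd _ (h.pow_mul_mem hu hv n) u hu (by simpa using h1)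
    (by rw [← mul_assoc, ← h3.eq])
  rw [mul_assoc, (h.inv u hu).2, mul_one] at this
  exact fun a b ha hb => this a b ((stabilizer G a).pow_mem ha n) ((stabilizer G b).pow_mem hb n)

theorem odd_of_fix (hu : u ∈ Z) (hv : v ∈ Z) (hab : a ≠ b) (ha : (u * v) • a = a)
    (hb : (u * v) • b = b) : Odd (orderOf (u * v)) := by
  by_contra e
  exact hab (h.nar_of_even hu hv e a b ha hb)

/-- B1 -/
theorem odd_mul (hu : u ∈ Z) (hv : v ∈ Z) (ha : u • a = a) (hb : v • b = b) (hab : a ≠ b) :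
    Odd (orderOf (u * v)) := by
  by_contra he
  obtain ⟨w, h1, h2, h3, h4, h5⟩ := H21.exists_invol_comm_of_not_odd (h.inv u hu).2 (h.inv v hv).2
    (isOfFinOrder_of_finite _) he
  have e1 := h.fix_of_comm hu ha h3.eq.symm
  have e2 := h.fix_of_comm hv hb h4.eq.symm
  obtain ⟨n, rfl⟩ := (mem_powers_iff_mem_zpowers.mpr h5)
  have := h.pd _ (h.pow_mul_mem hu hv n) u hu (by simpa using h1)
    (by rw [← mul_assoc, ← h3.eq])
  rw [mul_assoc, (h.inv u hu).2, mul_one] at this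
  exact hab (this a b e1 e2)

theorem exists_swap (hu : u ∈ Z) (hv : v ∈ Z) (ha : u • a = a) (hb : v • b = b) (hab : a ≠ b) :
    ∃ t ∈ Z, t * u * t⁻¹ = v ∧ t • a = b ∧ ∀ Y : Subgroup G, u ∈ Y → v ∈ Y → t ∈ Y := by
  have ho := h.odd_mul hv hu hb ha hab.symm
  obtain ⟨n, hn⟩ := H21.conj_of_odd_mul (h.inv v hv).2 (h.inv u hu).2 ho (pow_orderOf_eq_one _)
  have e : (v * u) ^ n * u * u * ((v * u) ^ n * u)⁻¹ = v := by
    calc _ = (v * u) ^ n * u * (u * u⁻¹) * ((v * u) ^ n)⁻¹ := by group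
      _ = v := by rw [mul_inv_cancel, mul_one, hn]
  refine ⟨(v * u) ^ n * u, (h.mul_mem_of_odd hu (ho.of_dvd_nat (orderOf_pow_dvd n))
    (inv_of_mem_zp ?_ (pow_mem (mem_zpowers _) n))).1, e, h.smul_of_conj hu ha (by rw [e, hb]),
    fun Y h1 h2 => Y.mul_mem (Y.pow_mem (Y.mul_mem h2 h1) n) h1⟩
  rw [mul_inv_rev, (h.inv u hu).inv, (h.inv v hv).inv, mul_assoc, mul_assoc, (h.inv u hu).2,
    mul_one]

theorem exists_TT (hab : a ≠ b) : ∃ t ∈ Z, t • a = b := by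
  obtain ⟨u, hu, ha⟩ := h.pt a
  obtain ⟨v, hv, hb⟩ := h.pt b
  obtain ⟨t, ht, -, e, -⟩ := h.exists_swap hu hv ha hb hab
  exact ⟨t, ht, e⟩

theorem exists_smul (a b : Ω) : ∃ g : G, g • a = b := by
  by_cases hab : a = b
  · exact ⟨1, by rw [one_smul, hab]⟩
  · obtain ⟨t, -, e⟩ := h.exists_TT hab
    exact ⟨t, e⟩

theorem exists_TT_of (hu : u ∈ ZA Z Y a) (hc : c ∈ Orb Y a) (hca : c ≠ a) :
    ∃ t, t ∈ TT Z Y a c := by
  obtain ⟨y, hy, rfl⟩ := hc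
  have hv := h.conj_ZA hu (norm_self Y hy)
  obtain ⟨t, ht, -, e, hY⟩ := h.exists_swap hu.1 hv.1 hu.2.2 hv.2.2 hca.symm
  exact ⟨t, ht, hY Y hu.2.1 hv.2.1, e⟩

/-- the point of a member of `Z ∩ Y` lies in the orbit -/
theorem mem_Orb (hu : u ∈ ZA Z Y a) (hv : v ∈ ZA Z Y c) : c ∈ Orb Y a := by
  by_cases e : a = c
  · exact e ▸ mem_Orb_self' Y a
  obtain ⟨t, -, -, e, hY⟩ := h.exists_swap hu.1 hv.1 hu.2.2 hv.2.2 e
  exact ⟨t, hY Y hu.2.1 hv.2.1, e⟩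

theorem orb_Lz (hu : u ∈ ZA Z Y a) : Orb (Lz Z Y) a = Orb Y a := by
  ext c
  refine ⟨fun ⟨y, hy, e⟩ => ⟨y, Lz_le Z Y hy, e⟩, fun hc => ?_⟩
  by_cases e : c = a
  · exact e ▸ mem_Orb_self' _ _
  obtain ⟨t, ht⟩ := h.exists_TT_of hu hc e
  exact ⟨t, mem_Lz ht.1 ht.2.1, ht.2.2⟩

theorem eq_one_of_odd (ht : t ∈ Z) (hu : u ∈ Z) (ho : Odd (orderOf (t * u)))
    (hk : Odd (orderOf k)) (h1 : t * k * t⁻¹ = k⁻¹) (h2 : u * k = k * u) : k = 1 := by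
  have e1 : (t * u) * k * (t * u)⁻¹ = k⁻¹ := by
    calc _ = t * (u * k) * u⁻¹ * t⁻¹ := by group
      _ = t * k * t⁻¹ := by rw [h2]; group
      _ = _ := h1
  have e2 := H21.eq_inv_of_odd_inverts ho (pow_orderOf_eq_one _) e1
  exact H21.eq_one_of_sq_of_odd hk (pow_orderOf_eq_one _) (by nth_rewrite 2 [e2]; simp)

theorem eq_one_of_inv_comm (ht : t ∈ Z) (hu : u ∈ Z) (ha : t • a = a) (hb : u • b = b)
    (hab : a ≠ b) (hk : Odd (orderOf k)) (h1 : t * k * t⁻¹ = k⁻¹) (h2 : u * k = k * u) :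
    k = 1 := h.eq_one_of_odd ht hu (h.odd_mul ht hu ha hb hab) hk h1 h2

/-- an element inverted by members of `Z` at two points centralises no member of `Z` -/
theorem no_cent (ht : t ∈ Z) (ht' : t' ∈ Z) (ha : t • a = a) (hb : t' • b = b) (hab : a ≠ b)
    (hk : Odd (orderOf k)) (h1 : t * k * t⁻¹ = k⁻¹) (h1' : t' * k * t'⁻¹ = k⁻¹) (hz : z ∈ Z)
    (h2 : z * k = k * z) : k = 1 := by
  obtain ⟨c, hc⟩ := h.ex z hz
  by_cases e : a = c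
  · exact h.eq_one_of_inv_comm ht' hz hb hc (e ▸ hab.symm) hk h1' h2
  · exact h.eq_one_of_inv_comm ht hz ha hc e hk h1 h2

theorem odd_TT_mul (ht : t ∈ Z) (ht' : t' ∈ Z) (hab : a ≠ b) (h1 : t • a = b) (h2 : t' • a = b) :
    Odd (orderOf (t * t')) :=
  h.odd_of_fix ht ht' hab (by rw [mul_smul, h2, (h.inv t ht).smul_eq h1])
    (by rw [mul_smul, (h.inv t' ht').smul_eq h2, h1])

theorem swap_unique (hu : u ∈ Z) (ha : u • a = a) (ht : t ∈ Z) (ht' : t' ∈ Z)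
    (hta : t • a ≠ a) (e : t * u * t⁻¹ = t' * u * t'⁻¹) : t = t' := by
  have e1 : t' • a = t • a := h.smul_of_conj hu ha (by rw [← e]; exact conj_fix ha)
  obtain ⟨c, hc⟩ := h.ex t ht
  have hca : c ≠ a := fun e2 => hta (e2 ▸ hc)
  have hi := h.inv t ht
  have hi' := h.inv t' ht'
  have e3 : t * t' = 1 := by
    refine h.eq_one_of_inv_comm ht hu hc ha hca (h.odd_TT_mul ht ht' hta.symm rfl e1)
      (hi.conj_mul hi') ?_
    rw [hi.inv, hi'.inv] at e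
    calc u * (t * t') = t * (t * u * t) * t' := by
          rw [← mul_assoc, ← mul_assoc, ← mul_assoc, hi.2, one_mul]
      _ = t * t' * u := by rw [e, mul_assoc, mul_assoc, hi'.2, mul_one, mul_assoc]
  rw [← hi'.inv]; exact eq_inv_of_mul_eq_one_left e3

theorem K_spec (ht : t ∈ Z) (hta : t • a ≠ a) (hk : k • a = a) (htk : t * k ∈ Z) :
    Odd (orderOf k) ∧ k • t • a = t • a ∧ t * k * t⁻¹ = k⁻¹ := by
  have hi := h.inv t ht
  have e : t * (t * k) = k := by rw [← mul_assoc, hi.2, one_mul]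
  have e1 : (t * k) • a = t • a := by rw [mul_smul, hk]
  refine ⟨e ▸ h.odd_TT_mul ht htk hta.symm rfl e1, ?_, ?_⟩
  · rw [← e, mul_smul, (h.inv _ htk).smul_eq e1]
  · have := hi.conj_mul (h.inv _ htk)
    rwa [e] at this

theorem exists_K (ht : t ∈ Z) (hta : t • a ≠ a) (hu : u ∈ Z) (hv : v ∈ Z) (hua : u • a = a)
    (hva : v • a = a) : ∃ k, k • a = a ∧ t * k ∈ Z ∧ k * u * k⁻¹ = v ∧
      ∀ Y : Subgroup G, u ∈ Y → v ∈ Y → t ∈ Y → k ∈ Y := by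
  have hi := h.inv t ht
  obtain ⟨t', ht', e1, e2, hY⟩ := h.exists_swap hu (h.conj v hv t) hua (conj_fix hva) hta.symm
  refine ⟨t * t', by rw [mul_smul, e2, hi.smul_smul], by rwa [← mul_assoc, hi.2, one_mul], ?_,
    fun Y h1 h2 h3 => Y.mul_mem h3 (hY Y h1 (Y.mul_mem (Y.mul_mem h3 h2) (Y.inv_mem h3)))⟩
  calc _ = t * (t' * u * t'⁻¹) * t⁻¹ := by group
    _ = (t * t) * v * (t * t)⁻¹ := by rw [e1]; group
    _ = v := by rw [hi.2]; group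

theorem K_inj (ht : t ∈ Z) (hta : t • a ≠ a) (hu : u ∈ Z) (hua : u • a = a)
    (hk : k • a = a) (hl : l • a = a) (hk' : t * k ∈ Z) (hl' : t * l ∈ Z)
    (e : k * u * k⁻¹ = l * u * l⁻¹) : k = l := by
  refine mul_left_cancel (h.swap_unique hu hua hk' hl' (by rwa [mul_smul, hk]) ?_)
  calc _ = t * (k * u * k⁻¹) * t⁻¹ := by group
    _ = _ := by rw [e]; group

theorem K_free (ht : t ∈ Z) (hta : t • a ≠ a) (hu : u ∈ Z) (hua : u • a = a)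
    (hk : k • a = a) (hk' : t * k ∈ Z) (e : k * u = u * k) : k = 1 :=
  h.K_inj ht hta hu hua hk (one_smul _ _) hk' (by simpa using ht) (by rw [e]; group)

/-- `Z ∩ Y` is one class under `L` -/
theorem conj_of_mem (hu : u ∈ ZA Z Y a) (hy : ∃ y ∈ Y, y • a ≠ a) (hv : v ∈ Z) (hvY : v ∈ Y) :
    ∃ g ∈ Lz Z Y, g * u * g⁻¹ = v := by
  obtain ⟨c, hc⟩ := h.ex v hv
  have huL := mem_Lz hu.1 hu.2.1
  by_cases e : a = c
  · subst e
    obtain ⟨y, hy, hya⟩ := hy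
    obtain ⟨t, ht⟩ := h.exists_TT_of hu ⟨y, hy, rfl⟩ hya
    obtain ⟨k, -, -, e, hk⟩ := h.exists_K ht.1 (ht.2.2 ▸ hya) hu.1 hv hu.2.2 hc
    exact ⟨k, hk _ huL (mem_Lz hv hvY) (mem_Lz ht.1 ht.2.1), e⟩
  · obtain ⟨t, -, e, -, hY⟩ := h.exists_swap hu.1 hv hu.2.2 hc e
    exact ⟨t, hY _ huL (mem_Lz hv hvY), e⟩

/-- a pair can be moved to any point of the orbit and chosen through any given member -/
theorem pair_through (hP : Pair Z Y a) (hy : ∃ y ∈ Y, y • a ≠ a) (hu : u ∈ ZA Z Y c) :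
    ∃ v ∈ ZA Z Y c, u ≠ v ∧ u * v = v * u := by
  obtain ⟨u0, hu0, v0, hv0, hne, hc⟩ := hP
  obtain ⟨g, hg, rfl⟩ := h.conj_of_mem hu0 hy hu.1 hu.2.1
  have e := h.smul_of_conj hu0.1 hu0.2.2 hu.2.2
  exact ⟨_, e ▸ h.conj_ZA hv0 (norm_self Y (Lz_le Z Y hg)), by simpa using hne,
    by rw [conj_mul, conj_mul, hc]⟩

theorem ncard_TT (ht : t ∈ TT Z Y a b) (hab : a ≠ b) (hu : u ∈ ZA Z Y a) :
    (TT Z Y a b).ncard = (ZA Z Y a).ncard := by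
  have hi := h.inv t ht.1
  have hta : t • a ≠ a := ht.2.2 ▸ hab.symm
  have e0 : ∀ s, t * (t * s) = s := fun s => by rw [← mul_assoc, hi.2, one_mul]
  have e1 : ∀ s ∈ TT Z Y a b, (t * s) • a = a := fun s hs => by
    rw [mul_smul, hs.2.2, hi.smul_eq ht.2.2]
  refine Set.ncard_congr (fun s _ => (t * s) * u * (t * s)⁻¹)
    (fun s hs => h.conj_ZA' hu (norm_self Y (mul_mem ht.2.1 hs.2.1)) (e1 s hs))
    (fun s s' hs hs' e => mul_left_cancel (h.K_inj ht.1 hta hu.1 hu.2.2 (e1 s hs) (e1 s' hs')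
      (by rw [e0]; exact hs.1) (by rw [e0]; exact hs'.1) e)) fun v hv => ?_
  obtain ⟨k, h1, h2, h3, h4⟩ := h.exists_K ht.1 hta hu.1 hv.1 hu.2.2 hv.2.2
  exact ⟨t * k, ⟨h2, mul_mem ht.2.1 (h4 Y hu.2.1 hv.2.1 ht.2.1), by rw [mul_smul, h1, ht.2.2]⟩,
    by rw [e0, h3]⟩

theorem eq_of_comm_TT (ht : t ∈ Z) (ht' : t' ∈ Z) (hab : a ≠ b) (h1 : t • a = b) (h2 : t' • a = b)
    (hc : t * t' = t' * t) : t = t' := by
  by_contra e
  exact hab (h.pd t ht t' ht' e hc a b (by rw [mul_smul, h2, (h.inv t ht).smul_eq h1])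
    (by rw [mul_smul, (h.inv t' ht').smul_eq h2, h1]))

theorem odd_TT (ht : t ∈ TT Z Y a b) (hab : a ≠ b) : Odd (TT Z Y a b).ncard := by
  have hi := h.inv t ht.1
  have := conj_modEq (S := TT Z Y a b) Nat.prime_two hi.two fun x hx s hs => by
    rcases hi.mem_zp hx with rfl | rfl
    · simpa using hs
    · exact h.conj_TT' hs (norm_self Y ht.2.1) (Or.inr ⟨ht.2.2, hi.smul_eq ht.2.2⟩)
  rw [show {s ∈ TT Z Y a b | zpowers t ≤ C{s}} = {t} from Set.eq_singleton_iff_unique_mem.mpr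
    ⟨⟨ht, zpowers_le_C1 t⟩, fun s hs => (h.eq_of_comm_TT ht.1 hs.1.1 hab ht.2.2 hs.1.2.2
      (mem_C1.mp (hs.2 (mem_zpowers t)))).symm⟩, Set.ncard_singleton] at this
  exact Nat.odd_iff.mpr this

theorem odd_ZA (hu : u ∈ ZA Z Y a) (hy : ∃ y ∈ Y, y • a ≠ a) : Odd (ZA Z Y a).ncard := by
  obtain ⟨y, hy, hya⟩ := hy
  obtain ⟨t, ht⟩ := h.exists_TT_of hu ⟨y, hy, rfl⟩ hya
  rw [← h.ncard_TT ht hya.symm hu]
  exact h.odd_TT ht hya.symm

theorem ncard_TT_top (hab : a ≠ b) : (TT Z ⊤ a b).ncard = mm Z a := by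
  obtain ⟨t, ht, hta⟩ := h.exists_TT hab
  obtain ⟨u, hu, hua⟩ := h.pt a
  exact h.ncard_TT ⟨ht, mem_top _, hta⟩ hab ⟨hu, mem_top _, hua⟩

theorem mm_eq (a b : Ω) : mm Z a = mm Z b := by
  by_cases e : a = b
  · rw [e]
  rw [← h.ncard_TT_top e, ← h.ncard_TT_top (Ne.symm e), h.TT_eq]

theorem exists_cent_ZA (hP : IsPi {2} P) (hPY : P ≤ N[Y]) (hPa : P ≤ stabilizer G a)
    (hu : u ∈ ZA Z Y a) (hy : ∃ y ∈ Y, y • a ≠ a) : ∃ z ∈ ZA Z Y a, P ≤ C{z} :=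
  exists_cent_of_not_dvd Nat.prime_two hP (fun _ hx _ hs => h.conj_ZA' hs (hPY hx) (hPa hx))
    (not_two_dvd (h.odd_ZA hu hy))

theorem exists_cent_TT (hP : IsPi {2} P) (hPY : P ≤ N[Y])
    (hPa : ∀ x ∈ P, (x • a = a ∧ x • b = b) ∨ (x • a = b ∧ x • b = a)) (ht : t ∈ TT Z Y a b)
    (hab : a ≠ b) : ∃ s ∈ TT Z Y a b, P ≤ C{s} :=
  exists_cent_of_not_dvd Nat.prime_two hP (fun x hx _ hs => h.conj_TT' hs (hPY hx) (hPa x hx))
    (not_two_dvd (h.odd_TT ht hab))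

/-- an involution stabilising `{a, b}` centralises a member of `T(a, b)` -/
theorem exists_comm_TT (hv : Inv v) (hab : a ≠ b)
    (hv' : (v • a = a ∧ v • b = b) ∨ v • a = b) : ∃ s ∈ Z, s * v = v * s ∧ s • a = b := by
  obtain ⟨t, ht, hta⟩ := h.exists_TT hab
  obtain ⟨s, hs, e⟩ := h.exists_cent_TT (Y := ⊤) hv.two (by rw [N_top]; exact le_top)
    (fun x hx => by
      rcases hv.mem_zp hx with rfl | rfl
      · simp
      · exact hv'.imp id fun e => ⟨e, hv.smul_eq e⟩) ⟨ht, mem_top _, hta⟩ hab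
  exact ⟨s, hs.1, (mem_C1.mp (e (mem_zpowers v))).symm, hs.2.2⟩

theorem exists_comm_ZA [Nontrivial Ω] (hv : Inv v) (ha : v • a = a) :
    ∃ z ∈ Z, z * v = v * z ∧ z • a = a := by
  obtain ⟨u, hu, hua⟩ := h.pt a
  obtain ⟨b, hb⟩ := exists_ne a
  obtain ⟨g, rfl⟩ := h.exists_smul a b
  obtain ⟨s, hs, e⟩ := h.exists_cent_ZA (Y := ⊤) hv.two (by rw [N_top]; exact le_top)
    (zpowers_le.mpr ha) ⟨hu, mem_top _, hua⟩ ⟨g, mem_top _, hb⟩
  exact ⟨s, hs.1, (mem_C1.mp (e (mem_zpowers v))).symm, hs.2.2⟩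

theorem orb_C (hv : Inv v) (ha : v • a = a) : Orb C{v} a = {c | v • c = c} := by
  ext c
  refine ⟨fun ⟨y, hy, e⟩ => e ▸ comm_fix (mem_C1.mp hy).symm ha, fun hc => ?_⟩
  by_cases e : a = c
  · exact e ▸ mem_Orb_self' _ _
  obtain ⟨s, -, h1, h2⟩ := h.exists_comm_TT hv e (Or.inl ⟨ha, hc⟩)
  exact ⟨s, mem_C1.mpr h1, h2⟩

theorem exists_move (hv : Wide Ω v) (ha : v • a = a) : ∃ y ∈ C{v}, y • a ≠ a := by
  obtain ⟨b, hb, e⟩ := hv.exists_ne a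
  obtain ⟨y, hy, rfl⟩ : b ∈ Orb C{v} a := h.orb_C hv.1 ha ▸ e
  exact ⟨y, hy, hb⟩

theorem ne_of_wide (hv : Wide Ω v) (hz : z ∈ Z) : v ≠ z := fun e => hv.2 (e ▸ h.nar z hz)

theorem wide_mul_of_fix (hv : Wide Ω v) (hz : z ∈ Z) (hc : z * v = v * z) (hvc : v • c ≠ c)
    (e : z • c = v • c) : Wide Ω (v * z) :=
  wide_of_fix (hv.1.mul (h.inv z hz) (h.ne_of_wide hv hz) hc.symm) hvc.symm
    (by rw [mul_smul, e, hv.1.smul_smul])
    (by rw [mul_smul, (h.inv z hz).smul_eq e])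

/-- F1w for a faithful action -/
theorem wide_mul' (hf : ∀ g : G, (∀ c : Ω, g • c = c) → g = 1) (hv : Wide Ω v) (hz : z ∈ Z)
    (hc : z * v = v * z) : Wide Ω (v * z) := by
  obtain ⟨c, hvc⟩ := not_forall.mp (mt (hf v) hv.1.1)
  obtain ⟨s, hs, h1, h2⟩ := h.exists_comm_TT hv.1 (Ne.symm hvc) (Or.inr rfl)
  obtain ⟨c0, hc0⟩ := h.ex s hs
  obtain ⟨g, hg, rfl⟩ := h.conj_of_mem (Y := C{v}) ⟨hs, mem_C1.mpr h1, hc0⟩
    (h.exists_move hv (h.fix_of_comm hs hc0 h1)) hz (mem_C1.mpr hc)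
  have := (h.wide_mul_of_fix hv hs h1 hvc h2).conj g
  rwa [← conj_mul, mem_C1_iff_conj.mp (Lz_le _ _ hg)] at this

/-- F3 for a faithful action -/
theorem mem_of_nar' [Finite Ω] [Nontrivial Ω] (hf : ∀ g : G, (∀ c : Ω, g • c = c) → g = 1)
    (hv : Inv v) (hn : Nar Ω v) : v ∈ Z := by
  obtain ⟨c, hvc⟩ := not_forall.mp (mt (hf v) hv.1)
  obtain ⟨s, hs, h1, h2⟩ := h.exists_comm_TT hv (Ne.symm hvc) (Or.inr rfl)
  by_contra e
  have hi := h.inv s hs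
  have hw : Wide Ω (v * s) := wide_of_fix (hv.mul hi (fun e1 => e (e1 ▸ hs)) h1.symm)
    (Ne.symm hvc) (by rw [mul_smul, h2, hv.smul_smul]) (by rw [mul_smul, hi.smul_eq h2])
  have := h.wide_mul' hf hw hs (by rw [← mul_assoc, h1])
  rw [mul_assoc, hi.2, mul_one] at this
  exact this.2 hn

/-- midpoints -/
theorem midpoint (hv : Inv v) (ha : v • a = a) (hb : v • b = b) (hab : a ≠ b) (ht : t ∈ Z)
    (hta : t • a = b) : ∃ s ∈ TT Z C{v} a b, t ∈ C{v * s} ∧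
      (∀ Y : Subgroup G, t ∈ Y → v ∈ Y → s ∈ Y) ∧ ∀ s' ∈ TT Z C{v} a b, t ∈ C{v * s'} → s' = s := by
  have hi := h.inv t ht
  have e0 : t * (v * t * v⁻¹) = (t * v) * (t * v) := by rw [hv.inv]; group
  have ho := h.odd_TT_mul ht (h.conj t ht v) hab hta (by rw [← ha, conj_smul, hta, hb])
  have hinv := hi.conj_mul (hi.conj v)
  rw [e0] at ho hinv
  obtain ⟨m, hm⟩ := ho
  set j := (t * v) ^ (2 * m + 1) with hj
  have hjj : j⁻¹ = j := H21.invol_inv (by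
    rw [hj, ← (Commute.refl _).mul_pow, ← hm, pow_orderOf_eq_one])
  have hjt : t * j * t⁻¹ = j := (inv_of_mem_zp (hi.conj_mul hv) (pow_mem (mem_zpowers _) _)).trans hjj
  have hjv : v * j * v⁻¹ = j := (inv_of_mem_zp (k := t * v) (by
    rw [mul_inv_rev, hv.inv, hi.inv, mul_assoc, mul_assoc, hv.2, mul_one])
    (pow_mem (mem_zpowers _) _)).trans hjj
  have e1 : v * (v * j) = j := by rw [← mul_assoc, hv.2, one_mul]
  have hs : v * j ∈ TT Z C{v} a b := by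
    refine ⟨?_, mul_mem (self_mem_C1 v) (mem_C1_comm.mp (mem_C1_iff_conj.mpr hjv)), ?_⟩
    · have := h.conj _ (h.mul_mem_of_odd ht (k := ((t * v) * (t * v)) ^ m)
        ((show Odd _ from ⟨m, hm⟩).of_dvd_nat (orderOf_pow_dvd m))
        (inv_of_mem_zp hinv (pow_mem (mem_zpowers _) m))).1 v
      convert this using 1
      rw [hj, pow_succ, pow_mul, pow_two, hv.inv]; group
    · rw [mul_smul, hj, odd_pow_smul (by
        simp only [mul_smul, ha, hta, hb, hi.smul_eq hta]) ⟨m, rfl⟩, mul_smul, ha, hta, hb]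
  refine ⟨v * j, hs, by rw [e1]; exact mem_C1_iff_conj.mpr hjt,
    fun Y h1 h2 => mul_mem h2 (pow_mem (mul_mem h1 h2) _), fun s' hs' hc => ?_⟩
  have e2 : (v * j) * s' = j * (v * s') := by
    rw [← mul_assoc j, ← mem_C1.mp (mem_C1_iff_conj.mpr hjv)]
  have := h.eq_one_of_odd hs.1 ht (h.odd_TT_mul hs.1 ht hab hs.2.2 hta)
    (h.odd_TT_mul hs.1 hs'.1 hab hs.2.2 hs'.2.2) ((h.inv _ hs.1).conj_mul (h.inv _ hs'.1)) (by
      rw [e2]
      exact (mem_C1_comm.mp (mul_mem (mem_C1_comm.mp (mem_C1_iff_conj.mpr hjt))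
        (mem_C1_comm.mp hc)) |> mem_C1.mp))
  rw [← (h.inv _ hs.1).inv]
  exact eq_inv_of_mul_eq_one_right this

/-- if all `|T(a,b) ∩ C(v s)|` equal `μ` then `m = |T(a,b) ∩ C(v)| μ` -/
theorem midpoint_count (hv : Inv v) (ha : v • a = a) (hb : v • b = b) (hab : a ≠ b) {μ : ℕ}
    (hμ : ∀ s ∈ TT Z C{v} a b, (TT Z C{v * s} a b).ncard = μ) :
    mm Z a = (TT Z C{v} a b).ncard * μ := by
  classical
  have := Fintype.ofFinite G
  rw [← h.ncard_TT_top hab]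
  choose! f h1 h2 h3 h4 using fun t (ht : t ∈ TT Z ⊤ a b) => h.midpoint hv ha hb hab ht.1 ht.2.2
  rw [Set.ncard_eq_toFinset_card', Set.ncard_eq_toFinset_card',
    Finset.card_eq_sum_card_fiberwise (f := f) (t := (TT Z C{v} a b).toFinset)
      (fun t ht => by simpa using h1 t (by simpa using ht)), Finset.sum_const_nat (m := μ)]
  intro s hs
  rw [Set.mem_toFinset] at hs
  rw [← hμ s hs, Set.ncard_eq_toFinset_card']
  congr 1
  ext t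
  simp only [Finset.mem_filter, Set.mem_toFinset]
  exact ⟨fun ⟨ht, e⟩ => ⟨ht.1, e ▸ h2 t ht, ht.2.2⟩, fun ht =>
    ⟨⟨ht.1, mem_top _, ht.2.2⟩, (h4 t ⟨ht.1, mem_top _, ht.2.2⟩ s hs ht.2.1).symm⟩⟩

theorem comm_mem_O (ht : t ∈ Z) (hta : t • a = b) (hab : a ≠ b) (hg : g ∈ D2 G a b) :
    t * g * t⁻¹ * g⁻¹ ∈ O[{2}ᶜ, D2 G a b] := by
  have hi := h.inv t ht
  have htb := hi.smul_eq hta
  have hY : ∀ x ∈ D2 G a b ⊔ zpowers t, (x • a = a ∧ x • b = b) ∨ (x • a = b ∧ x • b = a) :=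
    fun x hx => by
      obtain ⟨d, hd, s, hs, rfl⟩ := (mem_sup_of_norm (zp_le_N (mem_N_D2 hta htb))).mp hx
      rcases hi.mem_zp hs with rfl | rfl
      · exact Or.inl (by rw [mul_one]; exact hd)
      · exact Or.inr (by rw [mul_smul, mul_smul, hta, htb]; exact ⟨hd.2, hd.1⟩)
  refine pcore_le_pcore_of_le le_sup_left (fun x hx => ?_) (zstar_iso hi
    (mem_sup_right (mem_zpowers t)) (fun x hx e => ?_) (mem_sup_left hg))
  · rcases hY x (pcore_le _ _ hx) with e | e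
    · exact e
    · have := odd_pow_smul (g := x) (a := a) (by rw [mul_smul, e.1, e.2])
        (odd_orderOf_of_mem (odd_O _) hx)
      rw [pow_orderOf_eq_one, one_smul, e.1] at this
      exact absurd this hab
  · have := h.conj_TT' (Y := ⊤) ⟨ht, mem_top _, hta⟩ (by rw [N_top]; exact mem_top x) (hY x hx)
    exact (h.eq_of_comm_TT ht this.1 hab hta this.2.2 e).symm

theorem K_mem_O (ht : t ∈ Z) (hta : t • a ≠ a) (hk : k • a = a) (htk : t * k ∈ Z) :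
    k ∈ O[{2}ᶜ, D2 G a (t • a)] := by
  obtain ⟨h1, h2, h3⟩ := h.K_spec ht hta hk htk
  exact inverted_mem_of_comm h1 h3 (Y := D2 G a (t • a)) ⟨hk, h2⟩
    fun y hy => h.comm_mem_O ht rfl hta.symm hy

theorem exists_O_cent (hz : z ∈ Z) (ha : z • a = a) (hb : b ≠ a) (hg : g ∈ D2 G a b) :
    ∃ o ∈ O[{2}ᶜ, D2 G a b], (o⁻¹ * g) * z = z * (o⁻¹ * g) := by
  obtain ⟨t, ht, rfl⟩ := h.exists_TT hb.symm
  obtain ⟨k, h1, h2, h3, -⟩ := h.exists_K ht hb hz (h.conj z hz g) ha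
    (by simpa only [show g • a = a from hg.1] using conj_fix (g := g) ha)
  refine ⟨k, h.K_mem_O ht hb h1 h2, ?_⟩
  calc _ = k⁻¹ * (g * z * g⁻¹) * g := by group
    _ = _ := by rw [← h3]; group

theorem exists_O_cent_T (ht : t ∈ Z) (hta : t • a = b) (hab : a ≠ b) (hg : g ∈ D2 G a b) :
    ∃ o ∈ O[{2}ᶜ, D2 G a b], (o⁻¹ * g) * t = t * (o⁻¹ * g) :=
  exists_prod_of_comm (h.inv t ht) (odd_O _)
    (N_le_N_pcore _ _ (mem_N_D2 hta ((h.inv t ht).smul_eq hta))) (h.comm_mem_O ht hta hab hg)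

/-- E3 -/
theorem mem_O_iff (hz : z ∈ Z) (ha : z • a = a) (hb : b ≠ a) (h1 : g • a = a) (h2 : g • b = b)
    (h3 : g • z • b = z • b) :
    g ∈ O[{2}ᶜ, D2 G a b] ↔ g ∈ O[{2}ᶜ, D2 G b (z • b)] := by
  have l1 : D2 G a b ⊓ D2 G b (z • b) ≤ D2 G a b := inf_le_left
  have l2 : D2 G a b ⊓ D2 G b (z • b) ≤ D2 G b (z • b) := inf_le_right
  have hg : g ∈ D2 G a b ⊓ D2 G b (z • b) := ⟨⟨h1, h2⟩, h2, h3⟩
  refine ⟨fun e => le_pcore_of_prod l2 (fun x hx => ?_) (pcore_inf_le _ l1 ⟨e, hg⟩),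
    fun e => le_pcore_of_prod l1 (fun x hx => ?_) (pcore_inf_le _ l2 ⟨e, hg⟩)⟩
  · obtain ⟨o, ho, e⟩ := h.exists_O_cent_T hz rfl (h.smul_ne hz ha hb).symm hx
    have := mul_mem (inv_mem (pcore_le _ _ ho)) hx
    exact ⟨o, ho, ⟨h.fix_of_comm hz ha e.symm, this.1⟩, this⟩
  · obtain ⟨o, ho, e⟩ := h.exists_O_cent hz ha hb hx
    have := mul_mem (inv_mem (pcore_le _ _ ho)) hx
    exact ⟨o, ho, this, this.2, comm_fix e this.2⟩

/-- exK -/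
theorem exists_K_prime {p : ℕ} (hp : p.Prime) (ht : t ∈ TT Z Y a b) (hab : a ≠ b)
    (hd : p ∣ (TT Z Y a b).ncard) :
    ∃ k ∈ Y, orderOf k = p ∧ k • a = a ∧ t * k ∈ Z := by
  have hi := h.inv t ht.1
  have hO : Odd ♯(O[{2}ᶜ, D2 G a b] ⊓ Y) := H3.B71.odd_of_le (odd_O _) inf_le_left
  have e0 : ∀ s, t * (t * s) = s := fun s => by rw [← mul_assoc, hi.2, one_mul]
  obtain ⟨k, hk, h1, h2⟩ := exists_inverted_prime hp hi hO (mem_N_of_zp (norm_inf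
    (zp_le_N (N_le_N_pcore _ _ (mem_N_D2 ht.2.2 (hi.smul_eq ht.2.2))))
    (zp_le_N (norm_self Y ht.2.1)))) (by
      convert hd using 1
      refine Set.ncard_congr (fun k _ => t * k) (fun k hk => ⟨(h.mul_mem_of_odd ht.1
        (odd_orderOf_of_mem hO hk.1) hk.2).2, mul_mem ht.2.1 hk.1.2, by
          rw [mul_smul, show k • a = a from (pcore_le _ _ hk.1.1).1, ht.2.2]⟩)
        (fun _ _ _ _ e => mul_left_cancel e) fun s hs => ⟨t * s, ⟨⟨?_, mul_mem ht.2.1 hs.2.1⟩,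
          hi.conj_mul (h.inv s hs.1)⟩, e0 s⟩
      rw [← ht.2.2]
      exact h.K_mem_O ht.1 (ht.2.2 ▸ hab.symm) (by rw [mul_smul, hs.2.2, hi.smul_eq ht.2.2])
        (by rw [e0]; exact hs.1))
  exact ⟨k, hk.2, h1, (pcore_le _ _ hk.1).1,
    (h.mul_mem_of_odd ht.1 (odd_orderOf_of_mem hO hk) h2).2⟩

/-- QQ: the order of `A` is `|C_A(v)|` or its square -/
theorem card_eq_or_sq {A : Subgroup G} (hA : ∀ x, x ∈ A ↔ x = 1 ∨ x ∈ ZA Z Y a) (hv : Inv v)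
    (hvY : v ∈ N[Y]) (hva : v • a = a) (ht : t ∈ Z) (htY : t ∈ Y) (htv : t * v = v * t)
    (hta : t • a ≠ a) : A ≤ C{v} ∨ ♯A = ♯(A ⊓ C{v}) ^ 2 := by
  refine or_iff_not_imp_left.mpr fun hn => ?_
  obtain ⟨x0, hx0, hx0v⟩ := SetLike.not_le_iff_exists.mp hn
  have hN : ∀ g ∈ N[Y], g • a = a → ∀ x ∈ A, g * x * g⁻¹ ∈ A := fun g hg ha x hx => by
    rcases (hA x).mp hx with rfl | e
    · simp
    · exact (hA _).mpr (Or.inr (h.conj_ZA' e hg ha))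
  have hsq : ∀ x ∈ A, x⁻¹ = x := fun x hx => by
    rcases (hA x).mp hx with rfl | e
    · simp
    · exact (h.inv x e.1).inv
  have hφ : ∀ x ∈ A, x * v * x⁻¹ * v⁻¹ ∈ A ⊓ C{v} := fun x hx => by
    have h1 : x * v * x⁻¹ * v⁻¹ ∈ A := by
      rw [mul_assoc, mul_assoc, ← mul_assoc v]; exact mul_mem hx (hN v hvY hva _ (inv_mem hx))
    refine ⟨h1, mem_C1_comm.mp (mem_C1_iff_conj.mpr ?_)⟩
    refine Eq.trans ?_ (hsq _ h1)
    simp only [mul_inv_rev, hsq x hx, hv.inv, mul_assoc, hv.2, mul_one]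
  rw [pow_two, ← card_inf_mul_relIndex C{v} A, inf_comm, relIndex_C1]
  congr 1
  rw [← Nat.card_coe_set_eq]
  refine Nat.card_congr (Equiv.ofBijective (fun x => ⟨x.1 * v⁻¹, by
    obtain ⟨_, y, hy, rfl⟩ := x
    exact hφ y hy⟩) ⟨fun x y e => Subtype.ext (mul_right_cancel (congrArg Subtype.val e)), ?_⟩)
  rintro ⟨e, he, hev⟩
  rcases (hA e).mp he with rfl | he'
  · exact ⟨⟨v, 1, one_mem _, by simp⟩, Subtype.ext (mul_inv_cancel v)⟩
  have h0 := hφ x0 hx0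
  rcases (hA _).mp h0.1 with e1 | e1
  · exact absurd (mem_C1_iff_conj.mpr (mul_inv_eq_one.mp e1)) hx0v
  obtain ⟨k, h1, -, h3, h4⟩ := h.exists_K ht hta e1.1 he'.1 e1.2.2 he'.2.2
  have hk := h4 (Y ⊓ C{v}) ⟨e1.2.1, h0.2⟩ ⟨he'.2.1, hev⟩ ⟨htY, mem_C1.mpr htv⟩
  refine ⟨⟨_, k * x0 * k⁻¹, hN k (norm_self Y hk.1) h1 x0 hx0, rfl⟩, Subtype.ext ?_⟩
  have e2 : k * v * k⁻¹ = v := mem_C1_iff_conj.mp hk.2
  calc k * x0 * k⁻¹ * v * (k * x0 * k⁻¹)⁻¹ * v⁻¹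
      = k * x0 * k⁻¹ * (k * v * k⁻¹) * (k * x0 * k⁻¹)⁻¹ * (k * v * k⁻¹)⁻¹ := by rw [e2]
    _ = e := by rw [← h3]; group

end ZE

theorem norm_Lz {Y : Subgroup G} {g : G} (h : ZE Ω Z) (hg : g ∈ N[Y]) : g ∈ N[Lz Z Y] := by
  rw [mem_N_iff_cj, h.cj_Lz, cj_of_mem_N hg]

theorem norm_Az {Y : Subgroup G} {g : G} {a : Ω} (h : ZE Ω Z) (hg : g ∈ N[Y]) (ha : g • a = a) :
    g ∈ N[Az Z Y a] := by rw [mem_N_iff_cj, h.cj_Az, cj_of_mem_N hg, ha]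

theorem norm_Uz {Y : Subgroup G} {g : G} {a : Ω} (h : ZE Ω Z) (hg : g ∈ N[Y]) (ha : g • a = a) :
    g ∈ N[Uz Z Y a] := by rw [mem_N_iff_cj, h.cj_Uz, cj_of_mem_N hg, ha]

end ZD
end H6
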