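import Mathlib
import Cfsg.Agent.H6.ZB1
import Cfsg.Agent.H6.Transfer2

/-! `Z`-structures on simple groups. -/

set_option autoImplicit false
set_option linter.unusedSectionVars false
set_option linter.unusedVariables false

namespace H6
namespace ZD

open H24 H3.B71 Subgroup MulAction
open scoped commutatorElement

variable {G Ω : Type*} [Group G] [Finite G] [MulAction G Ω] {Z : Set G}

theorem der_le_of_relIndex_two {X M : Subgroup G} (h : X.relIndex M = 2) : ⁅M, M⁆ ≤ X :=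
  commutator_le.mpr fun a ha b hb => by
    have := fun x y : M => mul_mem_iff_of_index_two (H := X.subgroupOf M) h (a := x) (b := y)
    have e := (this (⟨a, ha⟩ * ⟨b, hb⟩) (⟨a, ha⟩⁻¹ * ⟨b, hb⟩⁻¹)).mpr (by
      rw [this, this, inv_mem_iff, inv_mem_iff])
    rw [commutatorElement_def, mul_assoc]
    exact e

theorem mem_of_odd_of_relIndex_two {X M : Subgroup G} (h : X.relIndex M = 2) {x : G} (hx : x ∈ M)
    (ho : Odd (orderOf x)) : x ∈ X := by
  obtain ⟨n, hn⟩ := H21.exists_pow_sq_eq_of_odd ho (pow_orderOf_eq_one x)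
  rw [← hn]
  exact (mul_mem_iff_of_index_two (H := X.subgroupOf M) h (a := ⟨x ^ n, pow_mem hx n⟩)
    (b := ⟨x ^ n, pow_mem hx n⟩)).mpr Iff.rfl

namespace Sm

variable (h : Sm Ω Z) {a b c : Ω} {u v z t g x y : G} {X Y P : Subgroup G}
include h

theorem exists_ne (a : Ω) : ∃ b : Ω, b ≠ a := by
  have := h.nontriv
  exact _root_.exists_ne a

theorem stab_ne_top (a : Ω) : stabilizer G a ≠ ⊤ := fun e => by
  obtain ⟨b, hb⟩ := h.exists_ne a
  obtain ⟨g, rfl⟩ := h.ze.exists_smul a b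
  exact hb (e.ge (mem_top g))

theorem exists_move (a : Ω) : ∃ y ∈ (⊤ : Subgroup G), y • a ≠ a := by
  obtain ⟨b, hb⟩ := h.exists_ne a
  obtain ⟨g, rfl⟩ := h.ze.exists_smul a b
  exact ⟨g, mem_top g, hb⟩

theorem faithful (hg : ∀ c : Ω, g • c = c) : g = 1 := by
  have := h.simple
  obtain ⟨a, -⟩ := h.nontriv
  rcases (toPermHom G Ω).normal_ker.eq_bot_or_eq_top with e | e
  · exact (e.le (show g ∈ (toPermHom G Ω).ker from Equiv.ext hg))
  · exact absurd (eq_top_iff.mpr fun x _ =>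
      congrArg (· a) (show toPermHom G Ω x = 1 from e.ge (mem_top x))) (h.stab_ne_top a)

theorem N_ne_top (hX : X ≠ ⊥) (ha : X ≤ stabilizer G a) : N[X] ≠ ⊤ := fun e => by
  have := h.simple
  rcases (normalizer_eq_top_iff.mp e).eq_bot_or_eq_top with e1 | e1
  · exact hX e1
  · exact h.stab_ne_top a (eq_top_iff.mpr (e1 ▸ ha))

theorem C_ne_top (hg : g ≠ 1) (ha : g • a = a) : C{g} ≠ ⊤ := fun e =>
  h.N_ne_top (zpowers_ne_bot.mpr hg) (zpowers_le.mpr ha)
    (eq_top_iff.mpr (e.ge.trans ((C_zpowers g).ge.trans (C_le_N _))))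

theorem odd_mm (a : Ω) : Odd (mm Z a) := by
  obtain ⟨u, hu, hua⟩ := h.ze.pt a
  exact h.ze.odd_ZA ⟨hu, mem_top _, hua⟩ (h.exists_move a)

theorem odd_card [Finite Ω] : Odd (Nat.card Ω) := by
  obtain ⟨a, -⟩ := h.nontriv
  obtain ⟨u, hu, hua⟩ := h.ze.pt a
  have := ncard_modEq_one (S := (Set.univ : Set Ω)) Nat.prime_two (h.ze.inv u hu).two
    (fun _ _ _ _ => trivial) (Set.mem_univ a) (zpowers_le.mpr hua)
    fun c _ hc => h.ze.nar u hu c a (hc (mem_zpowers u)) hua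
  rw [Set.ncard_univ] at this
  exact Nat.odd_iff.mpr this

theorem exists_fix [Finite Ω] (hP : IsPi {2} P) : ∃ a : Ω, P ≤ stabilizer G a := by
  obtain ⟨c, -, e⟩ := exists_fix_of_not_dvd (S := (Set.univ : Set Ω)) Nat.prime_two hP
    (fun _ _ _ _ => trivial) (by rw [Set.ncard_univ]; exact not_two_dvd h.odd_card)
  exact ⟨c, e⟩

/-- F1w -/
theorem wide_mul (hy : Wide Ω y) (hz : z ∈ Z) (hc : z * y = y * z) : Wide Ω (y * z) :=
  h.ze.wide_mul' (fun _ => h.faithful) hy hz hc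

/-- F3 -/
theorem mem_of_nar [Finite Ω] (hx : Inv x) (hn : Nar Ω x) : x ∈ Z :=
  have := h.nontriv
  h.ze.mem_of_nar' (fun _ => h.faithful) hx hn

theorem mul_mem [Finite Ω] (hu : u ∈ Z) (hv : v ∈ Z) (hne : u ≠ v) (hc : u * v = v * u) :
    u * v ∈ Z :=
  h.mem_of_nar ((h.ze.inv u hu).mul (h.ze.inv v hv) hne hc) (h.ze.pd u hu v hv hne hc)

theorem O_eq_bot : O[{2}ᶜ, (⊤ : Subgroup G)] = ⊥ := by
  have := h.simple
  obtain ⟨a, -⟩ := h.nontriv
  obtain ⟨u, hu, -⟩ := h.ze.pt a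
  exact (nml_top_iff.mp (pcore_nml _ _)).eq_bot_or_eq_top.resolve_right fun e =>
    (h.ze.inv u hu).not_mem_odd (odd_O ⊤) (e.ge (mem_top u))

theorem pair_top (a : Ω) : Pair Z ⊤ a := by
  by_contra hn
  obtain ⟨u, hu, hua⟩ := h.ze.pt a
  obtain ⟨y, -, hy⟩ := h.exists_move a
  have := zstar_iso (h.ze.inv u hu) (mem_top u) (fun g _ e => by
    by_contra e1
    exact hn ⟨u, ⟨hu, mem_top _, hua⟩, _, ⟨h.ze.conj u hu g, mem_top _, h.ze.fix_of_comm hu hua e⟩,
      Ne.symm e1, e⟩) (mem_top y)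
  rw [h.O_eq_bot, mem_bot, mul_inv_eq_one, mul_inv_eq_iff_eq_mul] at this
  exact hy (h.ze.fix_of_comm hu hua this)

/-- the centraliser of a `2`-subgroup is transitive on its fixed points -/
theorem exists_cent_smul (hP : IsPi {2} P) (ha : P ≤ stabilizer G a) (hb : P ≤ stabilizer G b)
    (hab : a ≠ b) : ∃ s ∈ Z, P ≤ C{s} ∧ s • a = b := by
  obtain ⟨t, ht, hta⟩ := h.ze.exists_TT hab
  obtain ⟨s, hs, e⟩ := h.ze.exists_cent_TT (Y := ⊤) hP (by rw [N_top]; exact le_top)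
    (fun x hx => Or.inl ⟨ha hx, hb hx⟩) ⟨ht, mem_top _, hta⟩ hab
  exact ⟨s, hs.1, e, hs.2.2⟩

theorem commutator_eq_top : commutator G = ⊤ := by
  have := h.simple
  obtain ⟨a, -⟩ := h.nontriv
  obtain ⟨u, hu, hua⟩ := h.ze.pt a
  obtain ⟨y, -, hy⟩ := h.exists_move a
  refine (inferInstance : (commutator G).Normal).eq_bot_or_eq_top.resolve_left fun e => hy ?_
  have : ⁅u, y⁆ ∈ commutator G := commutator_mem_commutator (mem_top u) (mem_top y)
  rw [e, mem_bot, commutatorElement_eq_one_iff_mul_comm] at this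
  exact h.ze.fix_of_comm hu hua this

theorem index_stab [Finite Ω] (a : Ω) : (stabilizer G a).index = Nat.card Ω := by
  have : IsPretransitive G Ω := ⟨h.ze.exists_smul⟩
  exact index_stabilizer_of_transitive G a

/-- the stabiliser controls fusion of `2`-elements -/
theorem fusion (hx : x • a = a) {n : ℕ} (h2 : x ^ 2 ^ n = 1) (hg : (g * x * g⁻¹) • a = a) :
    ∃ m : G, m • a = a ∧ m * x * m⁻¹ = g * x * g⁻¹ := by
  by_cases e : a = g⁻¹ • a
  · exact ⟨g, by rwa [eq_inv_smul_iff] at e, rfl⟩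
  obtain ⟨s, -, h1, h3⟩ := h.exists_cent_smul (P := zpowers x)
    (piElt_of_pow_eq_one (piNat_self_pow Nat.prime_two n) h2).isPi (zpowers_le.mpr hx)
    (zpowers_le.mpr (fix_of_conj (g := g) (by rwa [smul_inv_smul]))) e
  refine ⟨g * s, by rw [mul_smul, h3, smul_inv_smul], ?_⟩
  calc _ = g * (s * x * s⁻¹) * g⁻¹ := by group
    _ = _ := by rw [mem_C1_iff_conj.mp (mem_C1_comm.mp (h1 (mem_zpowers x)))]

theorem mem_der [Finite Ω] (hx : x • a = a) {n : ℕ} (h2 : x ^ 2 ^ n = 1) :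
    x ∈ ⁅stabilizer G a, stabilizer G a⁆ := by
  by_contra hn
  obtain ⟨k, -, hk⟩ := (Nat.dvd_prime_pow Nat.prime_two).mp (orderOf_dvd_of_pow_eq_one h2)
  refine H6.not_mem_commutator_of_fusion (p := 2) (stabilizer G a) _ (der1_nml _).normal
    (fun x hx y hy => commutator_mem_commutator hx hy)
    (by rw [h.index_stab]; exact Nat.coprime_two_left.mpr h.odd_card) x hx hn ⟨k, hk⟩
    (fun m g hg => ?_) (h.commutator_eq_top.ge (mem_top x))
  obtain ⟨s, h1, h3⟩ := h.fusion (x := x ^ m) (zpow_mem (show x ∈ stabilizer G a from hx) m) (n := n)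
    (by rw [← zpow_natCast, ← zpow_mul, mul_comm, zpow_mul, zpow_natCast, h2, one_zpow]) hg
  rw [← h3]
  exact commutator_mem_commutator h1 (zpow_mem (show x ∈ stabilizer G a from hx) m)

theorem no_two [Finite Ω] (hX : X ≤ stabilizer G a) : X.relIndex (stabilizer G a) ≠ 2 := fun e => by
  have : stabilizer G a ≤ X := fun x hx => by
    obtain ⟨y, z, hy, hz, h1, h2, rfl⟩ := exists_piElt_decomp {2} x
    obtain ⟨n, hn⟩ := hy.exists_pow Nat.prime_two
    refine X.mul_mem (der_le_of_relIndex_two e (h.mem_der (zpowers_le.mpr hx h1) (n := n)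
      (hn ▸ pow_orderOf_eq_one y))) (mem_of_odd_of_relIndex_two e (zpowers_le.mpr hx h2) ?_)
    rw [← Nat.card_zpowers]
    exact odd_iff_isPi.mpr hz.isPi
  rw [relIndex_eq_one.mpr this] at e
  exact absurd e (by decide)

theorem index_ne_two (X : Subgroup G) : X.index ≠ 2 := fun e => by
  have := der_le_of_relIndex_two (X := X) (M := ⊤) (by rwa [relIndex_top_right])
  rw [← _root_.commutator_def, h.commutator_eq_top, top_le_iff] at this
  rw [this, index_top] at e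
  exact absurd e (by decide)

end Sm

end ZD
end H6
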