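import Mathlib
import Cfsg.Agent.H6.ZB1
import Cfsg.Agent.H21.FieldCoord

/-! Singer cycles on elementary abelian `2`-groups. -/

set_option autoImplicit false
set_option linter.unusedSectionVars false
set_option linter.unusedVariables false

namespace H6
namespace ZD

open H24 H3.B71 Subgroup MulAction

variable {G : Type*} [Group G] [Finite G]

/-- `K` is a Singer cycle on the elementary abelian group `A` of order `2 ^ d` -/
structure Sing (A K : Subgroup G) (d : ℕ) : Prop where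
  two_le : 2 ≤ d
  sq : ∀ x ∈ A, x * x = 1
  card : ♯A = 2 ^ d
  cyc : IsCyclic K
  norm : K ≤ N[A]
  cardK : ♯K + 1 = 2 ^ d
  free : ∀ k ∈ K, ∀ x ∈ A, k * x = x * k → k = 1 ∨ x = 1

theorem comm_of_sq {A : Subgroup G} (h : ∀ x ∈ A, x * x = 1) {x y : G} (hx : x ∈ A) (hy : y ∈ A) :
    x * y = y * x := by
  rw [← H21.invol_inv (h _ (mul_mem hx hy)), mul_inv_rev, H21.invol_inv (h x hx),
    H21.invol_inv (h y hy)]

theorem ncard_diff_one (A : Subgroup G) : ((A : Set G) \ {1}).ncard + 1 = ♯A := by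
  rw [Set.ncard_sdiff_singleton_add_one (show (1 : G) ∈ (A : Set G) from A.one_mem)]
  rfl

theorem ringEquiv_frob {d : ℕ} (φ : GaloisField 2 d ≃+* GaloisField 2 d) :
    ∃ j : ℕ, ∀ x, φ x = x ^ 2 ^ j := by
  obtain ⟨j, hj⟩ := FiniteField.exists_forall_apply_eq_pow (ZMod 2) 2 (GaloisField 2 d)
    (AlgEquiv.ofRingEquiv (f := φ) fun x => by
      obtain ⟨n, rfl⟩ := ZMod.natCast_zmod_surjective x
      simp)
  exact ⟨j, by simpa using hj⟩

/-- the semilinear maps induced by the powers of `g` -/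
theorem semi_pow {F : Type*} [Field F] {τ : F → G} {g : G} {φ : F ≃+* F} {c : F}
    (h : ∀ x, g * τ x * g⁻¹ = τ (c * φ x)) (j : ℕ) (x : F) :
    g ^ j * τ x * (g ^ j)⁻¹ = τ ((∏ i ∈ Finset.range j, (φ ^ i) c) * (φ ^ j) x) := by
  induction j generalizing x with
  | zero => simp
  | succ j ih =>
    rw [pow_succ, mul_inv_rev, ← mul_assoc, mul_assoc _ g, mul_assoc _ _ g⁻¹, h, ih,
      Finset.prod_range_succ, map_mul, mul_assoc, pow_succ]
    rfl

namespace Sing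

variable {A K T : Subgroup G} {d : ℕ} {g x y : G} (h : Sing A K d)
include h

theorem comm (hx : x ∈ A) (hy : y ∈ A) : x * y = y * x := comm_of_sq h.sq hx hy

theorem K_comm (hx : x ∈ K) (hy : y ∈ K) : x * y = y * x := by
  have := h.cyc
  exact congrArg Subtype.val (IsCyclic.isMulCommutative.is_comm.comm (⟨x, hx⟩ : K) ⟨y, hy⟩)

theorem conj_inj (hx : x ∈ A) (hx1 : x ≠ 1) {k l : G} (hk : k ∈ K) (hl : l ∈ K)
    (e : k * x * k⁻¹ = l * x * l⁻¹) : k = l := by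
  refine (inv_mul_eq_one.mp ((h.free _ (mul_mem (inv_mem hl) hk) x hx ?_).resolve_right hx1)).symm
  calc _ = l⁻¹ * (k * x * k⁻¹) * k := by group
    _ = _ := by rw [e]; group

theorem trans (hx : x ∈ A) (hy : y ∈ A) (hx1 : x ≠ 1) (hy1 : y ≠ 1) :
    ∃ k ∈ K, k * x * k⁻¹ = y := by
  have := Set.surj_on_of_inj_on_of_ncard_le (s := (K : Set G)) (t := (A : Set G) \ {1})
    (fun k _ => k * x * k⁻¹) (fun k hk => ⟨conj_mem (h.norm hk) hx, by simpa using hx1⟩)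
    (fun k l hk hl e => h.conj_inj hx hx1 hk hl e) (by
      have h1 := ncard_diff_one A
      have h2 := h.cardK
      rw [h.card] at h1
      change _ ≤ ♯K
      omega) (Set.toFinite _) y ⟨hy, hy1⟩
  obtain ⟨k, hk, e⟩ := this
  exact ⟨k, hk, e.symm⟩

theorem irr {B : Subgroup G} (hB : B ≤ A) (hK : K ≤ N[B]) : B = ⊥ ∨ B = A := by
  refine or_iff_not_imp_left.mpr fun h0 => le_antisymm hB fun y hy => ?_
  obtain ⟨x, hx, hx1⟩ := exists_ne_one h0
  by_cases e : y = 1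
  · exact e ▸ one_mem B
  obtain ⟨k, hk, rfl⟩ := h.trans (hB hx) hy hx1 e
  exact conj_mem (hK hk) hx

theorem ne_bot : A ≠ ⊥ := fun e => by
  have := h.card
  rw [e, card_bot] at this
  exact absurd this (Nat.one_lt_two_pow (by have := h.two_le; omega)).ne

theorem cent_of_fix (hK : g ∈ C[K]) (hx : x ∈ A) (hx1 : x ≠ 1) (hg : g * x = x * g) :
    g ∈ C[A] := mem_C'.mpr fun y hy => by
  by_cases e : y = 1
  · simp [e]
  obtain ⟨k, hk, rfl⟩ := h.trans hx hy hx1 e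
  exact mem_C1.mp (mem_C1_comm.mp (mul_mem (mul_mem (mem_C1.mpr (mem_C.mp hK k hk))
    (mem_C1.mpr hg.symm)) (inv_mem (mem_C1.mpr (mem_C.mp hK k hk)))))

theorem cent (hA : g ∈ N[A]) (hK : g ∈ C[K]) : ∃ k ∈ K, g * k⁻¹ ∈ C[A] := by
  obtain ⟨x, hx, hx1⟩ := exists_ne_one h.ne_bot
  obtain ⟨k, hk, e⟩ := h.trans hx (conj_mem hA hx) hx1 (by simpa using hx1)
  refine ⟨k, hk, h.cent_of_fix (mul_mem hK (inv_mem (mem_C.mpr fun l hl => h.K_comm hl hk))) hx
    hx1 ?_⟩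
  rw [← mem_C.mp hK _ (inv_mem hk)]
  calc _ = k⁻¹ * (g * x * g⁻¹) * g := by group
    _ = _ := by rw [← e]; group

theorem coord : ∃ (τ : GaloisField 2 d → G) (μ : G → GaloisField 2 d),
    (∀ x y, τ (x + y) = τ x * τ y) ∧ Function.Injective τ ∧ (∀ x, τ x ∈ A) ∧
    (∀ u ∈ A, ∃ x, τ x = u) ∧ (∀ k ∈ K, ∀ x, k * τ x * k⁻¹ = τ (μ k * x)) ∧
    (∀ k ∈ K, ∀ l ∈ K, μ k = μ l → k = l) ∧
    ∀ g ∈ N[A], g ∈ N[K] → ∃ (φ : GaloisField 2 d ≃+* GaloisField 2 d) (c : GaloisField 2 d),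
      c ≠ 0 ∧ (∀ x, g * τ x * g⁻¹ = τ (c * φ x)) ∧
      ∀ (j : ℕ), ∀ k ∈ K, μ (g ^ j * k * (g ^ j)⁻¹) = (φ ^ j) (μ k) := by
  obtain ⟨x, hx, hx1⟩ := exists_ne_one h.ne_bot
  have : IsMulCommutative A := abl_iff.mpr (le_C_iff.mpr fun _ ha _ hb => h.comm ha hb)
  obtain ⟨τ, μ, h1, h2, h3, h4, h5, h6, -, h7⟩ := H21.exists_field_coord A K
    (fun _ ha _ hb => h.K_comm ha hb) h.norm (fun U hU h0 hK => (h.irr hU hK).resolve_left h0)
    hx hx1 (GaloisField 2 d) (by rw [GaloisField.card 2 d (by have := h.two_le; omega), h.card])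
  have h0 : τ 0 = 1 := by simpa using h1 0 0
  refine ⟨τ, μ, h1, h2, h3, h4, h6, fun k hk l hl e => h.conj_inj hx hx1 hk hl (by
    rw [← h5, h6 k hk, h6 l hl, e]), fun g hA hK => ?_⟩
  obtain ⟨φ, c, e⟩ := h7 g hA fun _ hk => conj_mem hK hk
  have hc : c ≠ 0 := fun e1 => hx1 (by
    have := e 1
    rwa [e1, zero_mul, h0, h5, conj_eq_one_iff'] at this)
  refine ⟨φ, c, hc, e, fun j k hk => ?_⟩
  have e1 := h6 _ (conj_mem (pow_mem hK j) hk) ((∏ i ∈ Finset.range j, (φ ^ i) c) * (φ ^ j) 1)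
  rw [← semi_pow e, show ∀ u v w : G, u * v * u⁻¹ * (u * w * u⁻¹) * (u * v * u⁻¹)⁻¹ =
    u * (v * w * v⁻¹) * u⁻¹ from fun _ _ _ => by group, h6 k hk, semi_pow e, map_one, mul_one,
    mul_one, mul_comm] at e1
  exact (mul_right_cancel₀ (Finset.prod_ne_zero_iff.mpr fun i _ => (map_ne_zero _).mpr hc) (h2 e1)).symm

/-- GAL -/
theorem gal (hA : g ∈ N[A]) (hK : g ∈ N[K]) : ∃ j : ℕ, ∀ k ∈ K, g * k * g⁻¹ = k ^ 2 ^ j := by
  obtain ⟨τ, μ, -, h2, -, -, h5, h6, h7⟩ := h.coord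
  obtain ⟨φ, c, -, -, e⟩ := h7 g hA hK
  obtain ⟨j, hj⟩ := ringEquiv_frob φ
  refine ⟨j, fun k hk => h6 _ (conj_mem hK hk) _ (pow_mem hk _) ?_⟩
  have e1 := e 1 k hk
  rw [pow_one, pow_one] at e1
  have e2 := semi_pow (φ := 1) (h5 k hk) (2 ^ j) 1
  rw [h5 _ (pow_mem hk _)] at e2
  rw [e1, hj]
  simpa using (h2 e2).symm

/-- HILB -/
theorem hilb (hA : g ∈ N[A]) (hK : g ∈ N[K]) (hj : ∀ j : ℕ, g ^ j ∈ C[K] → g ^ j ∈ C[A]) :
    ∃ e ∈ A, e ≠ 1 ∧ g * e = e * g := by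
  obtain ⟨τ, μ, h1, h2, h3, -, -, h6, h7⟩ := h.coord
  obtain ⟨φ, c, -, e, e'⟩ := h7 g hA hK
  have h0 : τ 0 = 1 := by simpa using h1 0 0
  have : Finite (GaloisField 2 d ≃+* GaloisField 2 d) :=
    Finite.of_injective _ DFunLike.coe_injective
  have e1 := semi_pow e (orderOf φ) 1
  rw [conj_eq_of_mem_C (hj _ (mem_C'.mpr fun k hk => mul_inv_eq_iff_eq_mul.mp
    (h6 _ (conj_mem (pow_mem hK _) hk) k hk (by rw [e' _ k hk, pow_orderOf_eq_one]; rfl)))) (h3 1),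
    map_one, mul_one] at e1
  have e2 := h2 e1
  have hli := (linearIndependent_monoidHom (GaloisField 2 d) (GaloisField 2 d)).comp
    (fun j : Fin (orderOf φ) => ((φ ^ (j : ℕ) : _ ≃+* _) : GaloisField 2 d →* GaloisField 2 d))
    fun i j e => Fin.ext (pow_injOn_Iio_orderOf i.2 j.2 (RingEquiv.ext fun x => DFunLike.congr_fun e x))
  obtain ⟨x, hx⟩ : ∃ x, ∑ j ∈ Finset.range (orderOf φ),
      (∏ i ∈ Finset.range j, (φ ^ i) c) * (φ ^ j) x ≠ 0 := by
    by_contra! e3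
    have := Fintype.linearIndependent_iff.mp hli (fun j => ∏ i ∈ Finset.range j, (φ ^ i) c) (by
      ext x
      rw [Finset.sum_apply, Pi.zero_apply, ← e3 x, Finset.sum_range]
      rfl) ⟨0, orderOf_pos φ⟩
    simp at this
  refine ⟨_, h3 _, fun e3 => hx (h2 (e3.trans h0.symm)), mul_inv_eq_iff_eq_mul.mp ?_⟩
  rw [e]
  congr 1
  have e4 : ∀ j, c * φ ((∏ i ∈ Finset.range j, (φ ^ i) c) * (φ ^ j) x) =
      (∏ i ∈ Finset.range (j + 1), (φ ^ i) c) * (φ ^ (j + 1)) x := fun j => by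
    rw [Finset.prod_range_succ', map_mul, map_prod]
    simp only [pow_succ', RingAut.mul_apply, pow_zero, RingAut.one_apply]
    ring
  rw [map_sum, Finset.mul_sum, Finset.sum_congr rfl fun j _ => e4 j]
  have := Finset.sum_range_succ' (fun j => (∏ i ∈ Finset.range j, (φ ^ i) c) * (φ ^ j) x) (orderOf φ)
  rw [Finset.sum_range_succ, ← e2, pow_orderOf_eq_one] at this
  simpa using this.symm

theorem two_odd (hd : Odd d) (hA : g ∈ N[A]) (hK : g ∈ N[K]) {n : ℕ} (h2 : g ^ 2 ^ n ∈ C[A]) :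
    g ∈ C[A] := by
  obtain ⟨τ, μ, -, hi, h3, h4, -, -, h7⟩ := h.coord
  obtain ⟨φ, c, hc, e, -⟩ := h7 g hA hK
  have hd0 : d ≠ 0 := by have := h.two_le; omega
  have e1 := fun x => hi ((conj_eq_of_mem_C h2 (h3 x)).symm.trans (semi_pow e (2 ^ n) x))
  have e2 := e1 1
  rw [map_one, mul_one] at e2
  have e3 : φ ^ 2 ^ n = 1 := RingEquiv.ext fun x => by
    have := e1 x
    rw [← e2, one_mul] at this
    exact this.symm
  have hF : ∀ x : GaloisField 2 d, x ^ 2 ^ d = x := fun x => by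
    have := Fintype.ofFinite (GaloisField 2 d)
    rw [← GaloisField.card 2 d hd0, Nat.card_eq_fintype_card, FiniteField.pow_card]
  obtain ⟨j, hj⟩ := ringEquiv_frob φ
  have e4 : φ ^ d = 1 := RingEquiv.ext fun x => by
    have h1 : ∀ m : ℕ, (φ ^ m) x = x ^ (2 ^ m) ^ j := fun m => by
      induction m with
      | zero => simp
      | succ m ih => rw [pow_succ', RingAut.mul_apply, ih, hj, ← pow_mul, ← mul_pow, pow_succ 2 m]
    have h2 : ∀ m : ℕ, x ^ (2 ^ d) ^ m = x := fun m => by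
      induction m with
      | zero => simp
      | succ m ih => rw [pow_succ, pow_mul, ih, hF]
    rw [h1, h2]; rfl
  have e5 : φ = 1 := (pow_eq_one_iff_of_coprime
    ((Nat.coprime_two_left.mpr hd).pow_left n)).mp ⟨e3, e4⟩
  subst e5
  have e6 : c = 1 := by
    simp only [one_pow, RingAut.one_apply, Finset.prod_const, Finset.card_range] at e2
    have : (c - 1) ^ 2 ^ n = 0 := by rw [sub_pow_char_pow, ← e2]; simp
    exact sub_eq_zero.mp (pow_eq_zero_iff (by positivity) |>.mp this)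
  refine mem_C'.mpr fun u hu => ?_
  obtain ⟨x, rfl⟩ := h4 u hu
  rw [← mul_inv_eq_iff_eq_mul, e, e6, one_mul]
  rfl

theorem odd_K : Odd ♯K := by
  have := h.cardK
  have h2 : Even (2 ^ d) := (Nat.even_pow' (by have := h.two_le; omega)).mpr even_two
  rw [← this, Nat.even_add_one, Nat.not_even_iff_odd] at h2
  exact h2

theorem exists_cent (hT : IsPi {2} T) (hA : T ≤ N[A]) : ∃ e ∈ A, e ≠ 1 ∧ T ≤ C{e} := by
  obtain ⟨e, he, h1⟩ := exists_cent_of_not_dvd (S := (A : Set G) \ {1}) Nat.prime_two hT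
    (fun x hx s hs => ⟨conj_mem (hA hx) hs.1, by simpa using hs.2⟩) (not_two_dvd (by
      have h1 := ncard_diff_one A
      rw [h.card, ← h.cardK] at h1
      rw [Nat.succ_injective h1]
      exact h.odd_K))
  exact ⟨e, he.1, he.2, h1⟩

theorem cyc_quot (hT : IsPi {2} T) (hA : T ≤ N[A]) (hK : T ≤ N[K]) :
    ∃ τ ∈ T, ∀ g ∈ T, ∃ j : ℕ, g * (τ ^ j)⁻¹ ∈ C[A] := by
  classical
  obtain ⟨e, he, he1, hTe⟩ := h.exists_cent hT hA
  have hex : ∃ j, 0 < j ∧ ∃ τ ∈ T, ∀ k ∈ K, τ * k * τ⁻¹ = k ^ 2 ^ j :=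
    ⟨d, by have := h.two_le; omega, 1, one_mem T, fun k hk => by
      rw [← h.cardK, pow_succ, H21.pow_card_eq_one_of_mem hk]; group⟩
  obtain ⟨h0, τ, hτ, e0⟩ := Nat.find_spec hex
  refine ⟨τ, hτ, fun g hg => ?_⟩
  obtain ⟨j, hj⟩ := h.gal (hA hg) (hK hg)
  have e1 : ∀ (m : ℕ), ∀ k ∈ K, τ ^ m * k * (τ ^ m)⁻¹ = k ^ 2 ^ (Nat.find hex * m) := fun m => by
    induction m with
    | zero => simp
    | succ m ih =>
      intro k hk
      rw [pow_succ, mul_inv_rev, ← mul_assoc, mul_assoc _ τ, mul_assoc _ _ τ⁻¹, e0 k hk,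
        ih _ (pow_mem hk _), ← pow_mul, ← pow_add, mul_add, mul_one, add_comm]
  have hm := mul_mem hg (inv_mem (pow_mem hτ (j / Nat.find hex)))
  have e2 : ∀ k ∈ K, g * (τ ^ (j / Nat.find hex))⁻¹ * k * (g * (τ ^ (j / Nat.find hex))⁻¹)⁻¹ =
      k ^ 2 ^ (j % Nat.find hex) := fun k hk => by
    have hk' := conj_mem' (pow_mem (hK hτ) (j / Nat.find hex)) hk
    have e3 := e1 (j / Nat.find hex) _ hk'
    calc _ = g * ((τ ^ (j / Nat.find hex))⁻¹ * k * τ ^ (j / Nat.find hex)) * g⁻¹ := by group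
      _ = _ := by
        rw [hj _ hk']
        conv_lhs => rw [← Nat.div_add_mod j (Nat.find hex), pow_add, pow_mul, Nat.div_add_mod, ← e3]
        congr 1
        group
  have e4 : j % Nat.find hex = 0 := by
    by_contra e5
    exact Nat.find_min hex (Nat.mod_lt j h0) ⟨Nat.pos_of_ne_zero e5, _, hm, e2⟩
  exact ⟨_, h.cent_of_fix (mem_C'.mpr fun k hk => mul_inv_eq_iff_eq_mul.mp (by
    rw [e2 k hk, e4, pow_zero, pow_one])) he he1 (mem_C1.mp (hTe hm))⟩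

end Sing

end ZD
end H6
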