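import Mathlib
import Cfsg.Agent.H6.ZB
import Cfsg.Agent.H6.ZGal

/-! The elementary properties of a plane. -/

set_option autoImplicit false
set_option linter.unusedSectionVars false
set_option linter.unusedVariables false

namespace H6
namespace ZD

open H24 H3.B71 Subgroup MulAction

variable {G Ω : Type*} [Group G] [Finite G] [MulAction G Ω] [Finite Ω] {Z : Set G}

namespace Pl

variable {Y : Subgroup G} {a c : Ω} {t t' g k x y u v z : G} {d i : ℕ}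
  (h : ZE Ω Z) (p : Pl Z Y a t d i)
include h p

theorem four_le : 4 ≤ 2 ^ d := by
  calc 4 = 2 ^ 2 := rfl
    _ ≤ 2 ^ d := Nat.pow_le_pow_right two_pos p.two_le

theorem b_mem : t • a ∈ Orb Y a := ⟨t, p.tY, rfl⟩

theorem A_sq (hu : u ∈ Az Z Y a) : u * u = 1 := by
  rcases (p.memA u).1 hu with rfl | hu
  · exact one_mul 1
  · exact (h.inv u hu.1).2

theorem A_comm (hu : u ∈ Az Z Y a) (hv : v ∈ Az Z Y a) : u * v = v * u := by
  have h1 := p.A_sq h (mul_mem hu hv)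
  calc u * v = (u * v)⁻¹ := (inv_eq_of_mul_eq_one_right h1).symm
    _ = v * u := by
      rw [mul_inv_rev, inv_eq_of_mul_eq_one_right (p.A_sq h hu),
        inv_eq_of_mul_eq_one_right (p.A_sq h hv)]

theorem A_two : IsPi {2} (Az Z Y a) := isPi_of_card Nat.prime_two p.cardA

theorem A_le_U : Az Z Y a ≤ Uz Z Y a := fun u hu =>
  (p.memU u).2 ⟨Az_le_Lz Z Y a hu, Az_fix hu, 1, by rw [pow_one, pow_two, p.A_sq h hu]⟩

theorem A_free (hu : u ∈ Az Z Y a) (hc : c ≠ a) (e : u • c = c) : u = 1 := by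
  rcases (p.memA u).1 hu with rfl | hu
  · rfl
  · exact absurd e (h.smul_ne hu.1 hu.2.2 hc)

theorem A_inf_Ker : Az Z Y a ⊓ Ker Y a = ⊥ :=
  eq_bot_iff.2 fun u hu => p.A_free h hu.1 p.ta (Ker_smul hu.2 (p.b_mem h))

theorem pair : Pair Z Y a := by
  obtain ⟨u, hu, v, hv, u1, v1, huv⟩ : ∃ u ∈ Az Z Y a, ∃ v ∈ Az Z Y a, u ≠ 1 ∧ v ≠ 1 ∧ u ≠ v := by
    have h4 := p.four_le h
    rw [← p.cardA] at h4
    obtain ⟨x, y, z, hx, hy, hz, hxy, hxz, hyz⟩ := (Set.two_lt_ncard_iff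
      (Set.toFinite (Az Z Y a : Set G))).1 (by
        rw [← Nat.card_coe_set_eq]; exact lt_of_lt_of_le (by norm_num) h4)
    by_cases e1 : x = 1
    · exact ⟨y, hy, z, hz, e1 ▸ hxy.symm, e1 ▸ hxz.symm, hyz⟩
    by_cases e2 : y = 1
    · exact ⟨x, hx, z, hz, e1, e2 ▸ hyz.symm, hxz⟩
    · exact ⟨x, hx, y, hy, e1, e2, hxy⟩
  exact ⟨u, ((p.memA u).1 hu).resolve_left u1, v, ((p.memA v).1 hv).resolve_left v1, huv,
    p.A_comm h hu hv⟩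

theorem clean : Clean Z Y a := fun u hu v hv e => by
  have h1 : u * v = 1 := (p.A_inf_Ker h).le ⟨mul_mem (mem_Az hu) (mem_Az hv), e⟩
  rw [eq_inv_of_mul_eq_one_left h1, (h.inv v hv.1).inv]

theorem ncard_ZA : (ZA Z Y a).ncard + 1 = 2 ^ d := by
  have h1 : (Az Z Y a : Set G) = insert 1 (ZA Z Y a) := Set.ext fun x => p.memA x
  rw [← p.cardA, ← Set.ncard_insert_of_notMem (a := (1 : G)) (fun e => (h.inv _ e.1).1 rfl), ← h1,
    ← Nat.card_coe_set_eq]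
  rfl

theorem ncard_TT : (TT Z Y a (t • a)).ncard + 1 = 2 ^ d := by
  obtain ⟨u, hu, -⟩ := p.pair h
  rw [h.ncard_TT ⟨p.tZ, p.tY, rfl⟩ p.ta.symm hu, p.ncard_ZA h]

theorem K_le_L : Kz Z Y a t ≤ Lz Z Y := fun k hk => by
  obtain ⟨h1, -, h3⟩ := (p.memK k).1 hk
  simpa using mul_mem (inv_mem (mem_Lz p.tZ p.tY)) (mem_Lz h3 (mul_mem p.tY h1))

theorem K_le_gen : Kz Z Y a t ≤ Az Z Y a ⊔ zpowers t := fun k hk => by
  obtain ⟨h1, h2, h3⟩ := (p.memK k).1 hk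
  obtain ⟨u, hu, -⟩ := p.pair h
  have hv := h.conj_ZA hu (norm_self Y h1)
  rw [h2] at hv
  obtain ⟨l, l1, l2, l3, l4⟩ := h.exists_K p.tZ p.ta hu.1 hv.1 hu.2.2 hv.2.2
  rw [← h.K_inj p.tZ p.ta hu.1 hu.2.2 l1 h2 l2 h3 l3]
  exact l4 _ (mem_sup_left (mem_Az hu)) (mem_sup_left (mem_Az hv)) (mem_sup_right (mem_zpowers t))

theorem K_fixb (hk : k ∈ Kz Z Y a t) : k • t • a = t • a :=
  (h.K_spec p.tZ p.ta (Kz_fix hk) ((p.memK k).1 hk).2.2).2.1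

theorem K_inv (hk : k ∈ Kz Z Y a t) : t * k * t⁻¹ = k⁻¹ :=
  (h.K_spec p.tZ p.ta (Kz_fix hk) ((p.memK k).1 hk).2.2).2.2

theorem K_odd : Odd ♯(Kz Z Y a t) := by
  have h1 := p.cardK
  obtain ⟨e, rfl⟩ := Nat.exists_eq_add_of_le p.two_le
  rw [pow_add] at h1
  exact Nat.odd_iff.2 (by omega)

theorem K_comm {l : G} (hk : k ∈ Kz Z Y a t) (hl : l ∈ Kz Z Y a t) : k * l = l * k :=
  (Cyc.abl p.cyc).comm hk hl

theorem K_eq (ht' : t' ∈ TT Z Y a (t • a)) : Kz Z Y a t' = Kz Z Y a t := by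
  have tt := (h.inv t p.tZ).2
  have h0 : t * t' ∈ Kz Z Y a t := (p.memK _).2 ⟨mul_mem p.tY ht'.2.1, by
    rw [mul_smul, ht'.2.2, (h.inv t p.tZ).smul_smul], by rw [← mul_assoc, tt, one_mul]; exact ht'.1⟩
  have key : ∀ k, t * (t * t' * k) = t' * k := fun k => by
    rw [← mul_assoc, ← mul_assoc, tt, one_mul]
  refine le_antisymm ((closure_le _).2 fun k hk => (mul_mem_cancel_left h0).1 ((p.memK _).2
    ⟨mul_mem (Kz_le _ _ _ _ h0) hk.1, by rw [mul_smul, hk.2.1, Kz_fix h0], (key k).symm ▸ hk.2.2⟩))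
    fun k hk => subset_closure ⟨Kz_le _ _ _ _ hk, Kz_fix hk, key k ▸ ((p.memK _).1 (mul_mem h0 hk)).2.2⟩

theorem norm_K (hg : g ∈ N[Y]) (ha : g • a = a) (hb : g • t • a = t • a) :
    g ∈ N[Kz Z Y a t] := by
  have h1 := h.conj_TT (⟨p.tZ, p.tY, rfl⟩ : t ∈ TT Z Y a (t • a)) hg
  rw [ha, hb] at h1
  rw [mem_N_iff_cj, h.cj_Kz, cj_of_mem_N hg, ha, p.K_eq h h1]

theorem sing : Sing (Az Z Y a) (Kz Z Y a t) d :=
  ⟨p.two_le, fun _ => p.A_sq h, p.cardA, p.cyc,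
    fun k hk => norm_Az h (norm_self Y (Kz_le _ _ _ _ hk)) (Kz_fix hk), p.cardK, fun k hk x hx e =>
      ((p.memA x).1 hx).symm.imp_left fun hx =>
        h.K_free p.tZ p.ta hx.1 hx.2.2 (Kz_fix hk) ((p.memK k).1 hk).2.2 e⟩

theorem K_no_cent (hk : k ∈ Kz Z Y a t) (hz : z ∈ Z) (e : z * k = k * z) : k = 1 := by
  obtain ⟨h1, h2, h3⟩ := (p.memK k).1 hk
  obtain ⟨u, hu, -⟩ := p.pair h
  obtain ⟨c0, h0⟩ := h.ex t p.tZ
  obtain ⟨c1, h4⟩ := h.ex _ h3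
  have h5 := p.K_inv h hk
  by_cases e1 : c0 = c1
  · subst e1
    by_contra k1
    have h6 : k • c0 = c0 := by
      rw [mul_smul] at h4
      rw [← (h.inv t p.tZ).smul_eq h4, h0]
    rcases p.fix3 k hk k1 c0 (h.mem_Orb hu ⟨p.tZ, p.tY, h0⟩) h6 with rfl | rfl
    · exact p.ta h0
    · exact p.ta (by rw [← h0, (h.inv t p.tZ).smul_smul])
  · refine h.no_cent p.tZ h3 h0 h4 e1 (odd_orderOf_of_mem (p.K_odd h) hk) h5 ?_ hz e
    rw [← h5]; group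

theorem K_inf_Ker : Kz Z Y a t ⊓ Ker Y a = ⊥ :=
  eq_bot_iff.2 fun k hk => p.K_no_cent h hk.1 p.tZ (p.centN t p.tZ p.tY k hk.2)

/-- an element fixing `a, t a` and centralising `A` centralises `K` -/
theorem cent_K (hg : g ∈ N[Y]) (ha : g • a = a) (hb : g • t • a = t • a) (hA : g ∈ C[Az Z Y a]) :
    g ∈ C[Kz Z Y a t] := mem_C.2 fun k hk => by
  obtain ⟨u, hu, -⟩ := p.pair h
  have hk' := (mem_N.1 (p.norm_K h hg ha hb) k).1 hk
  have h1 := mem_C.1 hA u (mem_Az hu)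
  have h2 := mem_C.1 hA _ ((mem_N.1 ((p.sing h).norm hk) u).1 (mem_Az hu))
  have := h.K_inj p.tZ p.ta hu.1 hu.2.2 (Kz_fix hk') (Kz_fix hk) ((p.memK _).1 hk').2.2
    ((p.memK _).1 hk).2.2 (by
      calc _ = g * k * (g⁻¹ * (u * g)) * k⁻¹ * g⁻¹ := by group
        _ = g * (k * u * k⁻¹) * g⁻¹ := by rw [h1]; group
        _ = _ := by rw [← h2]; group)
  exact (mul_inv_eq_iff_eq_mul.1 this).symm

theorem U_two : IsPi {2} (Uz Z Y a) := isPi_iff_piElt.2 fun x hx => by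
  obtain ⟨-, -, n, hn⟩ := (p.memU x).1 hx
  exact piElt_of_pow_eq_one (piNat_self_pow Nat.prime_two n) hn

theorem L_cent (hx : x ∈ Lz Z Y) {n : G} (hn : n ∈ Ker Y a) : x * n = n * x :=
  mem_C1.1 (((closure_le C{n}).2 fun z hz => mem_C1.2 (p.centN z hz.1 hz.2 n hn) :
    Lz Z Y ≤ C{n}) hx)

theorem mem_AN : x ∈ AN Z Y a ↔ ∃ u ∈ Az Z Y a, ∃ n ∈ Ker Y a, x = u * n :=
  mem_sup_of_norm' ((Az_le Z Y a).trans (Ker_nml Y a).norm)

theorem norm_AN (hg : g ∈ N[Y]) (ha : g • a = a) : g ∈ N[AN Z Y a] :=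
  mem_N_of_zp (norm_sup (zp_le_N (norm_Az h hg ha)) (zp_le_N (norm_Ker hg ha)))

theorem commU (hx : x ∈ Uz Z Y a) (hy : y ∈ Uz Z Y a) : x * y * x⁻¹ * y⁻¹ ∈ AN Z Y a := by
  have := mul_mem (mul_mem (p.sqU x hx) (p.sqU _ (mul_mem (inv_mem hx) hy))) (inv_mem (p.sqU y hy))
  rwa [show x * x * (x⁻¹ * y * (x⁻¹ * y)) * (y * y)⁻¹ = x * y * x⁻¹ * y⁻¹ by group] at this

theorem invU (hx : x ∈ Uz Z Y a) (h2 : x * x ∈ Ker Y a) : x ∈ AN Z Y a := by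
  rcases p.invL x (Uz_le_Lz Z Y a hx) h2 with e | ⟨z, hz, hzY, e⟩
  · exact mem_sup_right e
  · have h1 : z • a = a := by
      have := Ker_fix e
      rw [mul_smul] at this
      exact smul_left_cancel x (this.trans (Uz_fix hx).symm)
    exact (mul_mem_cancel_right (mem_sup_left (mem_Az ⟨hz, hzY, h1⟩))).1 (mem_sup_right e)

theorem trans' {c' : Ω} (hc : c ∈ Orb Y a) (hc' : c' ∈ Orb Y a) (h1 : c ≠ a) (h2 : c' ≠ a) :
    ∃ x ∈ Uz Z Y a, x • c = c' := by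
  obtain ⟨x, hx, rfl⟩ := p.trans c hc h1
  obtain ⟨y, hy, rfl⟩ := p.trans c' hc' h2
  exact ⟨y * x⁻¹, mul_mem hy (inv_mem hx), by rw [mul_smul, inv_smul_smul]⟩

theorem orb_U : Orb (Uz Z Y a) (t • a) = Orb Y a \ {a} := by
  refine Set.ext fun c => ⟨?_, fun hc => p.trans c hc.1 hc.2⟩
  rintro ⟨x, hx, rfl⟩
  refine ⟨smul_mem_Orb (Lz_le Z Y (Uz_le_Lz Z Y a hx)) (p.b_mem h), fun e => p.ta ?_⟩
  exact smul_left_cancel x ((Set.mem_singleton_iff.1 e).trans (Uz_fix hx).symm)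

theorem ncard_off : (Orb Y a \ {a}).ncard = (2 ^ d) ^ i := by
  rw [Set.ncard_sdiff_singleton_of_mem (mem_Orb_self Y a), p.card, Nat.add_sub_cancel]

theorem relIndex_U : (Ker Y a).relIndex (Uz Z Y a) = (2 ^ d) ^ i := by
  have h1 : Ker Y a ⊓ Uz Z Y a = stabilizer G (t • a) ⊓ Uz Z Y a :=
    le_antisymm (fun x hx => ⟨Ker_smul hx.1 (p.b_mem h), hx.2⟩)
      fun x hx => ⟨p.free x hx.2 _ (p.b_mem h) p.ta hx.1, hx.2⟩
  rw [← inf_relIndex_right, h1, inf_relIndex_right, ← ncard_Orb, p.orb_U h, p.ncard_off h]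

theorem relIndex_AN : (AN Z Y a).relIndex (Uz Z Y a) * 2 ^ d = (2 ^ d) ^ i := by
  have hN : Y ≤ N[Ker Y a] := (Ker_nml Y a).norm
  have hU := (Uz_le_Lz Z Y a).trans (Lz_le Z Y)
  have h1 : Ker Y a ⊔ AN Z Y a ⊓ Uz Z Y a = Ker Y a ⊔ Az Z Y a :=
    le_antisymm (sup_le le_sup_left (inf_le_left.trans (sup_comm _ _).le))
      (sup_le_sup_left (le_inf le_sup_left (p.A_le_U h)) _)
  have h2 : (Ker Y a).relIndex (AN Z Y a ⊓ Uz Z Y a) = 2 ^ d := by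
    rw [← relIndex_sup_of_norm ((inf_le_right.trans hU).trans hN), h1,
      relIndex_sup_of_norm ((Az_le Z Y a).trans hN), ← p.cardA,
      ← card_inf_mul_relIndex (Ker Y a), inf_comm, p.A_inf_Ker h, card_bot, one_mul]
  rw [← p.relIndex_U h, ← h2, mul_comm, ← inf_relIndex_right (AN Z Y a),
    ← inf_relIndex_right (Ker Y a) (Uz Z Y a), ← inf_relIndex_right (Ker Y a) (_ ⊓ _),
    relIndex_mul_relIndex _ _ _ inf_le_right inf_le_right, ← inf_assoc,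
    inf_eq_left.2 (show Ker Y a ≤ AN Z Y a from le_sup_right)]

theorem U_le_AN (hi : i = 1) : Uz Z Y a ≤ AN Z Y a := by
  have h1 := p.relIndex_AN h
  rw [hi, pow_one] at h1
  exact relIndex_eq_one.1 (Nat.eq_of_mul_eq_mul_right (by positivity) (h1.trans (one_mul _).symm))

theorem orb_one (hi : i = 1) (hc : c ∈ Orb Y a) (hca : c ≠ a) :
    ∃ u ∈ Az Z Y a, u • t • a = c := by
  obtain ⟨x, hx, rfl⟩ := p.trans c hc hca
  obtain ⟨u, hu, n, hn, rfl⟩ := (p.mem_AN h).1 (p.U_le_AN h hi hx)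
  exact ⟨u, hu, by rw [mul_smul, Ker_smul hn (p.b_mem h)]⟩

/-- `K` is fixed point free on `U / N` and on `U / A N` -/
theorem K_fpf (hk : k ∈ Kz Z Y a t) (h1 : k ≠ 1) (hx : x ∈ Uz Z Y a)
    (e : k * x * k⁻¹ * x⁻¹ ∈ AN Z Y a) : x ∈ AN Z Y a := by
  obtain ⟨l, hl, hr⟩ := exists_prime_mem_zp h1
  have hlK : l ∈ Kz Z Y a t := zpowers_le.2 hk hl
  have hN : ∀ m ∈ Kz Z Y a t, m ∈ N[AN Z Y a] := fun m hm =>
    p.norm_AN h (norm_self Y (Kz_le _ _ _ _ hm)) (Kz_fix hm)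
  have hxY := Lz_le Z Y (Uz_le_Lz Z Y a hx)
  have h2 : ∀ m ∈ zpowers k, m * x * m⁻¹ * x⁻¹ ∈ AN Z Y a := fun m hm => by
    obtain ⟨n, rfl⟩ := mem_powers_iff_mem_zpowers.2 hm
    induction n with
    | zero => simp
    | succ n ih =>
      have := mul_mem ((mem_N.1 (hN k hk) _).1 (ih (pow_mem (mem_zpowers k) n))) e
      simp only at this ⊢
      rwa [show k * (k ^ n * x * (k ^ n)⁻¹ * x⁻¹) * k⁻¹ * (k * x * k⁻¹ * x⁻¹) =
        k ^ (n + 1) * x * (k ^ (n + 1))⁻¹ * x⁻¹ by group] at this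
  have hb : x • t • a ∈ Orb Y a := smul_mem_Orb hxY (p.b_mem h)
  have hb' : x • t • a ≠ a := fun e => p.ta (smul_left_cancel x (e.trans (Uz_fix hx).symm))
  obtain ⟨c, ⟨u, hu, rfl⟩, hc⟩ := exists_fix_of_not_dvd (S := Orb (Az Z Y a) (x • t • a)) hr
    (piElt_of_orderOf_prime hr rfl).isPi (by
      rintro m hm _ ⟨u, hu, rfl⟩
      have hmK : m ∈ Kz Z Y a t := zpowers_le.2 hlK hm
      obtain ⟨u', hu', n, hn, e'⟩ := (p.mem_AN h).1 (h2 m (zpowers_le.2 hl hm))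
      refine ⟨m * u * m⁻¹ * u', mul_mem ((mem_N.1 ((p.sing h).norm hmK) u).1 hu) hu', ?_⟩
      calc _ = (m * u * m⁻¹ * u') • n • x • m • t • a := by rw [p.K_fixb h hmK, Ker_smul hn hb]
        _ = (m * u * m⁻¹ * (u' * n) * x * m) • t • a := by simp only [mul_smul]
        _ = _ := by
          rw [← e', ← mul_smul, ← mul_smul, ← mul_smul, ← mul_smul]
          congr 1; group) (fun hd => by
      have h3 := hd.trans (ncard_Orb_dvd _ _)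
      rw [p.cardA] at h3
      have h4 := (Nat.prime_dvd_prime_iff_eq hr Nat.prime_two).1 (hr.dvd_of_dvd_pow h3)
      have h5 := odd_orderOf_of_mem (p.K_odd h) hlK
      rw [h4] at h5
      exact absurd h5 (by decide))
  have l1 : l ≠ 1 := fun e => by rw [e, orderOf_one] at hr; exact Nat.not_prime_one hr
  rcases p.fix3 l hlK l1 _ (smul_mem_Orb (Az_le Z Y a hu) hb) (hc (mem_zpowers l)) with e' | e'
  · exact absurd (smul_left_cancel u (e'.trans (Az_fix hu).symm)) hb'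
  · exact (mul_mem_cancel_left (mem_sup_left hu)).1 (mem_sup_right (p.free _
      (mul_mem (p.A_le_U h hu) hx) _ (p.b_mem h) p.ta (by rw [mul_smul, e'])))

theorem cj (g : G) : Pl Z (cj g Y) (g • a) (g * t * g⁻¹) d i := by
  have e0 : ∀ c : Ω, ∃ c', c = g • c' := fun c => ⟨g⁻¹ • c, (smul_inv_smul g c).symm⟩
  have e1 : ∀ x : G, ∃ x', x = g * x' * g⁻¹ := fun x => ⟨g⁻¹ * x * g, by group⟩
  have hZ : ∀ x, g * x * g⁻¹ ∈ Z ↔ x ∈ Z := fun x =>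
    ⟨fun e => by simpa [mul_assoc] using h.conj _ e g⁻¹, fun e => h.conj _ e g⟩
  have hO : ∀ (X : Subgroup G) (c : Ω), g • c ∈ Orb (H24.cj g X) (g • a) ↔ c ∈ Orb X a :=
    fun X c => ⟨fun ⟨y, hy, e⟩ => ⟨_, mem_cj.1 hy, by rw [mul_smul, mul_smul, e, inv_smul_smul]⟩,
      fun ⟨y, hy, e⟩ => ⟨_, conj_mem_cj g hy, by rw [conj_smul, e]⟩⟩
  have hA := h.cj_Az g Y a
  have hK := h.cj_Kz g Y a t
  have hU := h.cj_Uz g Y a
  have hL := h.cj_Lz g Y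
  have hN := cj_Ker g Y a
  have hAN : H24.cj g (AN Z Y a) = AN Z (H24.cj g Y) (g • a) := by rw [AN, cj_sup, hA, hN]; rfl
  have hm : ∀ x y : G, g * x * g⁻¹ * (g * y * g⁻¹) = g * (x * y) * g⁻¹ := fun x y => by group
  have hi : ∀ x : G, (g * x * g⁻¹)⁻¹ = g * x⁻¹ * g⁻¹ := fun x => by group
  have hs : ∀ c c' : Ω, g • c = g • c' ↔ c = c' := fun c c' => smul_left_cancel_iff g
  have he : ∀ x y : G, g * x * g⁻¹ = g * y * g⁻¹ ↔ x = y := fun x y => by simp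
  have h1 : ∀ x : G, g * x * g⁻¹ = 1 ↔ x = 1 := fun x => by simp [mul_inv_eq_iff_eq_mul]
  refine ⟨h.conj t p.tZ g, conj_mem_cj g p.tY, ?_, fun x => ?_, fun x => ?_, fun x => ?_, p.two_le,
    ?_, ?_, ?_, fun z => ?_, fun c => ?_, fun x => ?_, fun x => ?_, fun x => ?_, fun x => ?_, ?_,
    fun x => ?_, p.cases, fun hi3 x => ?_, fun hi3 c => ?_, p.three, fun hi2 => ?_,
    fun hi2 x => ?_, fun hi3 => ?_⟩
  · rw [conj_smul, Ne, hs]; exact p.ta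
  · obtain ⟨x, rfl⟩ := e1 x
    rw [← hA, conj_mem_cj_iff, p.memA, mem_ZA, mem_ZA, hZ, conj_mem_cj_iff, conj_smul, hs, h1]
  · obtain ⟨x, rfl⟩ := e1 x
    rw [← hK, conj_mem_cj_iff, p.memK, hm, hZ, conj_mem_cj_iff, conj_smul, hs]
  · obtain ⟨x, rfl⟩ := e1 x
    simp only [← hU, ← hL, conj_mem_cj_iff, p.memU, conj_smul, hs, conj_pow, h1]
  · rw [← hA, card_cj, p.cardA]
  · rw [← hK, card_cj, p.cardK]
  · rw [← hK]; exact Cyc.cj p.cyc g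
  · obtain ⟨z, rfl⟩ := e1 z
    intro hz hzY n hn
    obtain ⟨n, rfl⟩ := e1 n
    rw [← hN, conj_mem_cj_iff] at hn
    rw [hm, hm, p.centN z ((hZ z).1 hz) (conj_mem_cj_iff.1 hzY) n hn]
  · obtain ⟨c, rfl⟩ := e0 c
    intro hc hca
    obtain ⟨x, hx, e⟩ := p.trans c ((hO _ _).1 hc) fun e => hca (e ▸ rfl)
    exact ⟨_, hU ▸ conj_mem_cj g hx, by rw [conj_smul, conj_smul, e]⟩
  · obtain ⟨x, rfl⟩ := e1 x
    intro hx c hc hca e
    obtain ⟨c, rfl⟩ := e0 c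
    rw [← hU, conj_mem_cj_iff] at hx
    rw [conj_smul, hs] at e
    exact hN ▸ conj_mem_cj g (p.free x hx c ((hO _ _).1 hc) (fun e => hca (e ▸ rfl)) e)
  · obtain ⟨x, rfl⟩ := e1 x
    intro hx u hu
    obtain ⟨u, rfl⟩ := e1 u
    rw [← hU, conj_mem_cj_iff] at hx
    rw [← hA, conj_mem_cj_iff] at hu
    rw [hm, hm, p.centA x hx u hu]
  · obtain ⟨x, rfl⟩ := e1 x
    rw [← hU, ← hAN, hm, conj_mem_cj_iff, conj_mem_cj_iff]
    exact p.sqU x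
  · obtain ⟨x, rfl⟩ := e1 x
    rw [← hL, ← hN, hm, conj_mem_cj_iff, conj_mem_cj_iff, conj_mem_cj_iff]
    intro hx h2
    refine (p.invL x hx h2).imp_right fun ⟨z, hz, hzY, e⟩ =>
      ⟨_, h.conj z hz g, conj_mem_cj g hzY, ?_⟩
    rw [hm]; exact conj_mem_cj g e
  · rw [← p.card, ← Set.ncard_image_of_injective (Orb Y a) (MulAction.injective g)]
    congr 1
    ext c
    obtain ⟨c, rfl⟩ := e0 c
    rw [hO, (MulAction.injective g).mem_set_image]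
  · obtain ⟨x, rfl⟩ := e1 x
    intro hx x1 c hc e
    obtain ⟨c, rfl⟩ := e0 c
    rw [← hK, conj_mem_cj_iff] at hx
    rw [conj_smul, hs] at e
    rw [conj_smul, hs, hs]
    exact p.fix3 x hx (mt (h1 x).2 x1) c ((hO _ _).1 hc) e
  · obtain ⟨x, rfl⟩ := e1 x
    rw [← hL, conj_mem_cj_iff, conj_smul, conj_smul, conj_smul, hs, hs]
    intro hx ha hb
    obtain ⟨k, hk, e⟩ := p.lk hi3 x hx ha hb
    exact ⟨_, hK ▸ conj_mem_cj g hk, by rw [hm, ← hN]; exact conj_mem_cj g e⟩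
  · obtain ⟨c, rfl⟩ := e0 c
    rw [← hA, ← cj_zpowers, ← cj_sup, hO, hO]
    exact p.gen hi3 c
  · obtain ⟨x, hx, y, hy, e⟩ := p.nonab hi2
    refine ⟨_, hU ▸ conj_mem_cj g hx, _, hU ▸ conj_mem_cj g hy, ?_⟩
    rwa [hi, hi, hm, hm, hm, ← hN, conj_mem_cj_iff]
  · obtain ⟨x, rfl⟩ := e1 x
    intro hx y
    obtain ⟨y, rfl⟩ := e1 y
    rw [← hU, conj_mem_cj_iff] at hx
    rw [← hU, ← hAN, conj_mem_cj_iff, conj_mem_cj_iff, conj_mem_cj_iff]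
    intro hy h2 h3
    obtain ⟨k, hk, e⟩ := p.ktr hi2 x hx y hy h2 h3
    refine ⟨_, hK ▸ conj_mem_cj g hk, ?_⟩
    rwa [hi, hi, hm, hm, hm, conj_mem_cj_iff]
  · obtain ⟨ω, r, o⟩ := p.om hi3
    refine ⟨g * ω * g⁻¹, r, o.prime, o.dvd, hL ▸ conj_mem_cj g o.memL, ?_, ?_, conj_fix o.fixa,
      by rw [hm, hm, o.ct], fun u => ?_, fun c => ?_, fun x => ?_⟩
    · simpa only [conj_pow, h1] using o.pel
    · rw [conj_pow, ← hN]; exact conj_mem_cj g o.powK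
    · obtain ⟨u, rfl⟩ := e1 u
      rw [← hA, conj_mem_cj_iff, hm, hm, he]
      exact o.cA u
    · obtain ⟨c, rfl⟩ := e0 c
      rw [hO, conj_smul, hs, hs]
      intro hc e
      exact (o.fix c hc e).imp_right fun ⟨u, hu, e⟩ =>
        ⟨_, hA ▸ conj_mem_cj g hu, by rw [conj_smul, conj_smul, e]⟩
    · obtain ⟨x, rfl⟩ := e1 x
      rw [conj_mem_cj_iff, conj_smul, conj_smul, conj_smul, hs, hs]
      intro hx ha hb
      obtain ⟨j, e⟩ := o.norm x hx ha hb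
      exact ⟨j, by rwa [conj_pow, hi, hi, hm, hm, hm, ← hN, conj_mem_cj_iff]⟩

theorem move (hc : c ∈ Orb Y a) (ht' : t' ∈ Z) (htY : t' ∈ Y) (hne : t' • c ≠ c) :
    Pl Z Y c t' d i := by
  obtain ⟨y, hy, rfl⟩ := hc
  obtain ⟨x, hx, e⟩ := p.trans (y⁻¹ • t' • y • a) (smul_mem_Orb (inv_mem hy)
    (smul_mem_Orb htY ⟨y, hy, rfl⟩)) fun e => hne (inv_smul_eq_iff.1 e)
  have p1 := p.cj h (y * x)
  rw [cj_of_mem (mul_mem hy (Lz_le Z Y (Uz_le_Lz Z Y a hx))), mul_smul, Uz_fix hx] at p1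
  have e1 : (y * x * t * (y * x)⁻¹) • y • a = t' • y • a := by
    conv_lhs => rw [← Uz_fix hx, ← mul_smul y, conj_smul, mul_smul, e, smul_inv_smul]
  generalize y * x * t * (y * x)⁻¹ = s at p1 e1
  generalize y • a = c at p1 e1
  have ss := (h.inv s p1.tZ).2
  have h0 : s * t' ∈ Kz Z Y c s := (p1.memK _).2 ⟨mul_mem p1.tY htY, by
    rw [mul_smul, ← e1, (h.inv s p1.tZ).smul_smul], by rwa [← mul_assoc, ss, one_mul]⟩
  obtain ⟨n, hn⟩ := H21.exists_pow_sq_eq_of_odd (odd_orderOf_of_mem (p1.K_odd h) h0)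
    (pow_orderOf_eq_one _)
  have h1 := inv_mem (pow_mem h0 n)
  have h2 := p1.K_inv h (pow_mem h0 n)
  generalize (s * t') ^ n = m at hn h1 h2
  have p2 := p1.cj h m⁻¹
  rw [cj_of_mem (Kz_le _ _ _ _ h1), Kz_fix h1] at p2
  rwa [show m⁻¹ * s * m⁻¹⁻¹ = t' by
    rw [inv_inv, ← h2, inv_mul_cancel_right, mul_assoc, hn, ← mul_assoc, ss, one_mul]] at p2

theorem exists_TT (hc : c ∈ Orb Y a) (hca : c ≠ a) : ∃ s, s ∈ TT Z Y a c := by
  obtain ⟨u, hu, -⟩ := p.pair h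
  exact h.exists_TT_of hu hc hca

theorem unique {d' i' : ℕ} (p' : Pl Z Y a t' d' i') : d' = d ∧ i' = i := by
  obtain rfl : d' = d := Nat.pow_right_injective le_rfl (p'.cardA.symm.trans p.cardA)
  exact ⟨rfl, Nat.pow_right_injective ((by norm_num : 2 ≤ 4).trans (p.four_le h))
    (Nat.add_right_cancel (p'.card.symm.trans p.card))⟩

theorem U_cent_AN {w : G} (hx : x ∈ Uz Z Y a) (hw : w ∈ AN Z Y a) : x * w = w * x := by
  obtain ⟨u, hu, n, hn, rfl⟩ := (p.mem_AN h).1 hw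
  rw [← mul_assoc, p.centA x hx u hu, mul_assoc, p.L_cent h (Uz_le_Lz Z Y a hx) hn, mul_assoc]

theorem sq_AN {w : G} (hx : x ∈ Uz Z Y a) (hw : w ∈ AN Z Y a) :
    w * x * (w * x) * (x * x)⁻¹ ∈ Ker Y a := by
  have h1 := p.U_cent_AN h hx hw
  obtain ⟨u, hu, n, hn, e⟩ := (p.mem_AN h).1 hw
  have h2 := p.L_cent h (Az_le_Lz Z Y a hu) hn
  have h3 : w * w = n * n := by
    calc w * w = u * (n * u) * n := by rw [e]; group
      _ = u * u * (n * n) := by rw [← h2]; group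
      _ = _ := by rw [p.A_sq h hu, one_mul]
  rw [show w * x * (w * x) * (x * x)⁻¹ = w * (x * w) * x⁻¹ by group, h1, ← mul_assoc,
    mul_inv_cancel_right, h3]
  exact mul_mem hn hn

theorem sq_of_AN {w : G} (hw : w ∈ AN Z Y a) : w * w ∈ Ker Y a := by
  simpa using p.sq_AN h (one_mem _) hw

/-- squaring is injective on `U / A N` in the Suzuki case -/
theorem sq_inj (hi : i = 2) (hx : x ∈ Uz Z Y a) (hy : y ∈ Uz Z Y a)
    (e : x * x * (y * y)⁻¹ ∈ Ker Y a) : x * y⁻¹ ∈ AN Z Y a := by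
  by_cases h1 : x ∈ AN Z Y a
  · exact mul_mem h1 (inv_mem (p.invU h hy
      (inv_mem_iff.1 ((mul_mem_cancel_left (p.sq_of_AN h h1)).1 e))))
  by_cases h2 : y ∈ AN Z Y a
  · exact absurd (p.invU h hx ((mul_mem_cancel_right (inv_mem (p.sq_of_AN h h2))).1 e)) h1
  obtain ⟨k, hk, h3⟩ := p.ktr hi x hx y hy h1 h2
  have h4 := mul_mem (p.sq_AN h hy h3) (inv_mem e)
  obtain ⟨u, hu, n, hn, h5⟩ := (p.mem_AN h).1 (p.sqU x hx)
  have h6 := p.L_cent h (p.K_le_L h hk) hn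
  have h7 : k * x * k⁻¹ * y⁻¹ * y * (k * x * k⁻¹ * y⁻¹ * y) * (y * y)⁻¹ * (x * x * (y * y)⁻¹)⁻¹ =
      k * u * k⁻¹ * u⁻¹ := by
    calc _ = k * (x * x) * k⁻¹ * (x * x)⁻¹ := by group
      _ = k * u * (k⁻¹ * (k * n) * k⁻¹) * n⁻¹ * u⁻¹ := by rw [h5]; group
      _ = _ := by rw [h6]; group
  rw [h7] at h4
  have h8 : k * u * k⁻¹ * u⁻¹ = 1 := (p.A_inf_Ker h).le
    ⟨(Az Z Y a).mul_mem ((mem_N.1 ((p.sing h).norm hk) u).1 hu) (inv_mem hu), h4⟩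
  rcases (p.sing h).free k hk u hu (mul_inv_eq_iff_eq_mul.1 (mul_inv_eq_one.1 h8)) with rfl | rfl
  · simpa using h3
  · exact absurd (p.invU h hx (by rw [h5, one_mul]; exact hn)) h1

/-- ST1 -/
theorem st1 (hi : i ≠ 3) (hg : g ∈ Y) (ha : g • a = a) (hb : g • t • a = t • a)
    (hA : g ∈ C[Az Z Y a]) : g ∈ Ker Y a := by
  have hgY := norm_self Y hg
  suffices H : ∀ c ∈ Orb Y a, c ≠ a → g • c = c from ⟨hg, fun y hy => by
    by_cases e : y • a = a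
    · rw [e, ha]
    · exact H _ ⟨y, hy, rfl⟩ e⟩
  intro c hc hca
  rcases p.cases with h1 | h2 | h3
  · obtain ⟨u, hu, rfl⟩ := p.orb_one h h1 hc hca
    rw [← mul_smul, ← mem_C.1 hA u hu, mul_smul, hb]
  swap
  · exact absurd h3 hi
  have hN : ∀ {m n : G}, m ∈ Y → n ∈ Ker Y a → m * n * m⁻¹ ∈ Ker Y a := fun hm hn =>
    (Ker_nml Y a).conj_mem hm hn
  have hgU : ∀ x ∈ Uz Z Y a, g * x * g⁻¹ ∈ Uz Z Y a := fun x hx =>
    (mem_N.1 (norm_Uz h hgY ha) x).1 hx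
  have F4 : ∀ w ∈ AN Z Y a, g * w * g⁻¹ * w⁻¹ ∈ Ker Y a := fun w hw => by
    obtain ⟨u, hu, n, hn, rfl⟩ := (p.mem_AN h).1 hw
    have := hN (Az_le Z Y a hu) (mul_mem (hN hg hn) (inv_mem hn))
    rwa [show u * (g * n * g⁻¹ * n⁻¹) * u⁻¹ = g * (u * n) * g⁻¹ * (u * n)⁻¹ by
      rw [← mul_assoc g, ← mem_C.1 hA u hu]; group] at this
  have F1 : ∀ x ∈ Uz Z Y a, g * x * g⁻¹ * x⁻¹ ∈ AN Z Y a := fun x hx =>
    p.sq_inj h h2 (hgU x hx) hx (by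
      rw [show g * x * g⁻¹ * (g * x * g⁻¹) = g * (x * x) * g⁻¹ by group]
      exact F4 _ (p.sqU x hx))
  have F2 : ∀ x ∈ Uz Z Y a, ∀ y ∈ Uz Z Y a, g * (x * y) * g⁻¹ * (x * y)⁻¹ =
      g * x * g⁻¹ * x⁻¹ * (g * y * g⁻¹ * y⁻¹) := fun x hx y hy => by
    calc _ = g * x * g⁻¹ * x⁻¹ * (x * (g * y * g⁻¹ * y⁻¹)) * x⁻¹ := by group
      _ = _ := by rw [p.U_cent_AN h hx (F1 y hy)]; group
  suffices H : ∀ x ∈ Uz Z Y a, g * x * g⁻¹ * x⁻¹ ∈ Ker Y a by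
    obtain ⟨x, hx, rfl⟩ := p.trans c hc hca
    conv_rhs => rw [← Ker_smul (H x hx) hc, ← hb]
    simp only [← mul_smul]
    congr 1; group
  intro x0 hx0
  by_contra hne
  obtain ⟨u1, hu1, n1, hn1, e1⟩ := (p.mem_AN h).1 (F1 x0 hx0)
  obtain ⟨u0, hu0, n0, hn0, e0⟩ := (p.mem_AN h).1 (p.sqU x0 hx0)
  have hx0' : x0 ∉ AN Z Y a := fun e => hne (F4 _ e)
  obtain ⟨k0, hk0, e2⟩ := (p.sing h).trans hu1 hu0
    (fun e => hne (by rw [e1, e, one_mul]; exact hn1))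
    (fun e => hx0' (p.invU h hx0 (by rw [e0, e, one_mul]; exact hn0)))
  have hk0Y := Kz_le _ _ _ _ hk0
  have H0 : x0 * x0 * (k0 * (g * x0 * g⁻¹ * x0⁻¹) * k0⁻¹)⁻¹ ∈ Ker Y a := by
    have := hN (Az_le Z Y a hu0) (mul_mem hn0 (inv_mem (hN hk0Y hn1)))
    rwa [show u0 * (n0 * (k0 * n1 * k0⁻¹)⁻¹) * u0⁻¹ =
      x0 * x0 * (k0 * (g * x0 * g⁻¹ * x0⁻¹) * k0⁻¹)⁻¹ by rw [e0, e1, ← e2]; group] at this
  have H1 : ∀ x ∈ Uz Z Y a, x * x * (k0 * (g * x * g⁻¹ * x⁻¹) * k0⁻¹)⁻¹ ∈ Ker Y a := fun x hx => by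
    by_cases hx' : x ∈ AN Z Y a
    · exact mul_mem (p.sq_of_AN h hx') (inv_mem (hN hk0Y (F4 x hx')))
    obtain ⟨k, hk, hw⟩ := p.ktr h2 x hx x0 hx0 hx' hx0'
    have hkY := Kz_le _ _ _ _ hk
    have hwU : k * x * k⁻¹ * x0⁻¹ ∈ Uz Z Y a :=
      mul_mem ((mem_N.1 (norm_Uz h (norm_self Y hkY) (Kz_fix hk)) x).1 hx) (inv_mem hx0)
    have e3 := F2 _ hwU x0 hx0
    have := hN (inv_mem hkY) (mul_mem (mul_mem (p.sq_AN h hx0 hw) H0) (inv_mem (hN hk0Y (F4 _ hw))))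
    have e4 := mem_C.1 (p.cent_K h hgY ha hb hA) k hk
    have e5 := p.K_comm h hk hk0
    generalize hw' : k * x * k⁻¹ * x0⁻¹ = w at e3 this
    have e6 : w * x0 = k * x * k⁻¹ := by rw [← hw']; group
    rw [e6] at e3 this
    convert this using 1
    calc _ = x * x * (k⁻¹ * (k * k0) * (k⁻¹ * ((k * g) * x * (k * g)⁻¹ * (k * x * k⁻¹)⁻¹) * k) *
          (k * k0)⁻¹ * k)⁻¹ := by group
      _ = k⁻¹ * (k * x * k⁻¹ * (k * x * k⁻¹) *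
          (k0 * (g * (k * x * k⁻¹) * g⁻¹ * (k * x * k⁻¹)⁻¹) * k0⁻¹)⁻¹) * k := by rw [e4, e5]; group
      _ = _ := by rw [e3]; group
  obtain ⟨x, hx, y, hy, hxy⟩ := p.nonab h2
  have hψ : ∀ x ∈ Uz Z Y a, k0 * (g * x * g⁻¹ * x⁻¹) * k0⁻¹ ∈ AN Z Y a := fun x hx =>
    (mem_N.1 (p.norm_AN h (norm_self Y hk0Y) (Kz_fix hk0)) _).1 (F1 x hx)
  have h3 := mul_mem (mul_mem (H1 _ (mul_mem hx hy)) (inv_mem (H1 y hy))) (inv_mem (H1 x hx))
  rw [F2 x hx y hy, show k0 * (g * x * g⁻¹ * x⁻¹ * (g * y * g⁻¹ * y⁻¹)) * k0⁻¹ =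
    k0 * (g * x * g⁻¹ * x⁻¹) * k0⁻¹ * (k0 * (g * y * g⁻¹ * y⁻¹) * k0⁻¹) by group] at h3
  have c1 := p.U_cent_AN h (inv_mem (mul_mem hy hy)) (hψ x hx)
  have c2 := p.U_cent_AN h ((mem_N.1 (norm_Uz h (norm_self Y hk0Y) (Kz_fix hk0)) _).1
    (mul_mem (hgU x hx) (inv_mem hx))) (hψ y hy)
  generalize k0 * (g * x * g⁻¹ * x⁻¹) * k0⁻¹ = α at h3 c1 c2
  generalize k0 * (g * y * g⁻¹ * y⁻¹) * k0⁻¹ = β at h3 c2
  have h4 := inv_mem (hN (inv_mem (Lz_le Z Y (Uz_le_Lz Z Y a hx))) h3)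
  refine hxy ?_
  convert h4 using 1
  calc _ = (x⁻¹ * (x * y * (x * y) * α⁻¹ * (α * (y * y)⁻¹) * (x * x)⁻¹) * x⁻¹⁻¹)⁻¹ := by group
    _ = _ := by rw [← c1, c2]; group

theorem st1' (hi : i ≠ 3) (hg : g ∈ Y) (ha : g • a = a) (hc : c ∈ Orb Y a) (hca : c ≠ a)
    (hb : g • c = c) (hA : g ∈ C[Az Z Y a]) : g ∈ Ker Y a := by
  obtain ⟨s, hs⟩ := p.exists_TT h hc hca
  exact (p.move h (mem_Orb_self Y a) hs.1 hs.2.1 (hs.2.2 ▸ hca)).st1 h hi hg ha (hs.2.2 ▸ hb) hA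

theorem fix_second {r : ℕ} {P : Subgroup G} (hr : r.Prime) (h2 : r ≠ 2) (hP : IsPi {r} P)
    (hPY : P ≤ N[Y]) (hPa : P ≤ stabilizer G a) :
    ∃ c ∈ Orb Y a, c ≠ a ∧ P ≤ stabilizer G c := by
  obtain ⟨c, hc, e⟩ := exists_fix_of_not_dvd (S := Orb Y a \ {a}) hr hP
    (fun x hx c hc => ⟨smul_mem_Orb' (hPY hx) (hPa hx) hc.1, fun e =>
      hc.2 (smul_left_cancel x ((Set.mem_singleton_iff.1 e).trans (hPa hx).symm))⟩) fun hd => by
    rw [p.ncard_off h, ← pow_mul] at hd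
    exact h2 ((Nat.prime_dvd_prime_iff_eq hr Nat.prime_two).1 (hr.dvd_of_dvd_pow hd))
  exact ⟨c, hc.1, hc.2, e⟩

theorem exists_move (hc : c ∈ Orb Y a) : ∃ s, Pl Z Y c s d i := by
  by_cases e : c = a
  · exact ⟨t, e ▸ p⟩
  obtain ⟨s, hs⟩ := p.exists_TT h hc e
  exact ⟨s, p.move h hc hs.1 hs.2.1 (by rw [(h.TT_symm hs).2.2]; exact Ne.symm e)⟩

/-- elements of odd order of `L` centralising a member of `Z ∩ Y` act trivially -/
theorem oddL (hi : i ≠ 3) (hx : x ∈ Lz Z Y) (ho : Odd (orderOf x)) (hz : z ∈ Z) (hzY : z ∈ Y)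
    (e : z * x = x * z) : x ∈ Ker Y a := by
  obtain ⟨c, hc⟩ := h.ex z hz
  obtain ⟨u, hu, -⟩ := p.pair h
  have hcO := h.mem_Orb hu ⟨hz, hzY, hc⟩
  obtain ⟨s, p1⟩ := p.exists_move h hcO
  rw [← Ker_eq_of_mem_Orb hcO]
  refine le_of_forall_syl_le (M := zpowers x) (fun r P hr hd hP => ?_) (mem_zpowers x)
  have hPL : P ≤ Lz Z Y := hP.le.trans (zpowers_le.2 hx)
  have hPz : P ≤ C{z} := hP.le.trans (zpowers_le.2 (mem_C1.2 e.symm))
  have hPc : P ≤ stabilizer G c := fun y hy => h.fix_of_comm hz hc (mem_C1.1 (hPz hy)).symm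
  obtain ⟨c', h1, h2, h3⟩ := p1.fix_second h hr (fun e => by
    rw [e, Nat.card_zpowers] at hd
    exact (Nat.not_even_iff_odd.2 ho) (even_iff_two_dvd.2 hd)) hP.pi
    (hPL.trans ((Lz_le Z Y).trans (norm_self Y))) hPc
  obtain ⟨s', hs'⟩ := p1.exists_TT h h1 h2
  have p2 := p1.move h (mem_Orb_self Y c) hs'.1 hs'.2.1 (hs'.2.2 ▸ h2)
  intro y hy
  obtain ⟨k, hk, h4⟩ := p2.lk hi y (hPL hy) (hPc hy) (hs'.2.2 ▸ h3 hy)
  have h5 : k ∈ C{z} := (mul_mem_cancel_left (hPz hy)).1 (mem_C1.2 (p2.centN z hz hzY _ h4).symm)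
  rwa [p2.K_no_cent h hk hz (mem_C1.1 h5).symm, mul_one] at h4

/-- an element of `L` inverted by a member of `Z ∩ Y` and fixing a point `c` of the plane lies in
`K(c, t' c)` -/
theorem orderOf_dvd (ht' : t' ∈ Z) (htY : t' ∈ Y) (hk : k ∈ Y) (htk : t' * k ∈ Z)
    (ho : Odd (orderOf k)) (hc : c ∈ Orb Y a) (e : k • c = c) : orderOf k ∣ 2 ^ d - 1 := by
  by_cases e1 : t' • c = c
  · obtain ⟨s, p1⟩ := p.exists_move h hc
    have h1 : k ∈ Az Z Y c := (mul_mem_cancel_left (mem_Az ⟨ht', htY, e1⟩)).1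
      (mem_Az ⟨htk, mul_mem htY hk, by rw [mul_smul, e, e1]⟩)
    have h2 := orderOf_dvd_of_pow_eq_one ((pow_two k).trans (p1.A_sq h h1))
    rcases (Nat.dvd_prime Nat.prime_two).1 h2 with h3 | h3
    · rw [h3]; exact one_dvd _
    · rw [h3] at ho; exact absurd ho (by decide)
  · have p1 := p.move h hc ht' htY e1
    rw [← p1.cardK, Nat.add_sub_cancel]
    exact orderOf_dvd_natCard _ ((p1.memK k).2 ⟨hk, e, htk⟩)

theorem ncard_Z : {z | z ∈ Z ∧ z ∈ Y}.ncard = ((2 ^ d) ^ i + 1) * (2 ^ d - 1) := by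
  classical
  obtain ⟨u, hu, -⟩ := p.pair h
  have h1 : {z | z ∈ Z ∧ z ∈ Y} = ⋃ c ∈ Orb Y a, ZA Z Y c := by
    ext z
    simp only [Set.mem_ofPred_eq, Set.mem_iUnion]
    refine ⟨fun hz => ?_, fun ⟨c, _, hz⟩ => ⟨hz.1, hz.2.1⟩⟩
    obtain ⟨c, hc⟩ := h.ex z hz.1
    exact ⟨c, h.mem_Orb hu ⟨hz.1, hz.2, hc⟩, hz.1, hz.2, hc⟩
  rw [h1, (Set.toFinite _).ncard_biUnion (fun _ _ => Set.toFinite _) fun c _ c' _ hne =>
    Set.disjoint_left.2 fun z hz hz' => hne (h.nar z hz.1 _ _ hz.2.2 hz'.2.2), ← p.card,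
    finsum_mem_congr rfl (g := fun _ => 2 ^ d - 1) fun c hc => by
      obtain ⟨s, p1⟩ := p.exists_move h hc
      rw [← p1.ncard_ZA h, Nat.add_sub_cancel]]
  rw [finsum_mem_eq_finite_toFinset_sum _ (Set.toFinite _), Finset.sum_const, smul_eq_mul,
    Set.ncard_eq_toFinset_card _ (Set.toFinite _)]

theorem relIndex_L (hi : i ≠ 3) :
    (Ker Y a).relIndex (Lz Z Y) = ((2 ^ d) ^ i + 1) * (2 ^ d) ^ i * (2 ^ d - 1) := by
  obtain ⟨u, hu, -⟩ := p.pair h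
  have hN : Y ≤ N[Ker Y a] := (Ker_nml Y a).norm
  have h1 : (stabilizer G a).relIndex (Lz Z Y) = (2 ^ d) ^ i + 1 := by
    rw [← ncard_Orb, h.orb_Lz hu, p.card]
  have h2 : (stabilizer G (t • a)).relIndex (stabilizer G a ⊓ Lz Z Y) = (2 ^ d) ^ i := by
    rw [← ncard_Orb, ← p.ncard_off h]
    congr 1
    refine Set.ext fun c => ⟨?_, fun hc => ?_⟩
    · rintro ⟨x, hx, rfl⟩
      exact ⟨smul_mem_Orb (Lz_le Z Y hx.2) (p.b_mem h), fun e =>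
        p.ta (smul_left_cancel x ((Set.mem_singleton_iff.1 e).trans hx.1.symm))⟩
    · obtain ⟨x, hx, e⟩ := p.trans c hc.1 hc.2
      exact ⟨x, ⟨Uz_fix hx, Uz_le_Lz Z Y a hx⟩, e⟩
  have h3 : Ker Y a ⊔ stabilizer G (t • a) ⊓ (stabilizer G a ⊓ Lz Z Y) = Ker Y a ⊔ Kz Z Y a t := by
    refine le_antisymm (sup_le le_sup_left fun x hx => ?_) (sup_le_sup_left
      (fun k hk => ⟨p.K_fixb h hk, Kz_fix hk, p.K_le_L h hk⟩) _)
    obtain ⟨k, hk, e⟩ := p.lk hi x hx.2.2 hx.2.1 hx.1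
    exact (mul_mem_cancel_right (mem_sup_right hk)).1 (mem_sup_left e)
  have h4 : (Ker Y a).relIndex (stabilizer G (t • a) ⊓ (stabilizer G a ⊓ Lz Z Y)) = 2 ^ d - 1 := by
    rw [← relIndex_sup_of_norm ((inf_le_right.trans (inf_le_right.trans (Lz_le Z Y))).trans hN), h3,
      relIndex_sup_of_norm ((Kz_le Z Y a t).trans hN), ← p.cardK, Nat.add_sub_cancel,
      ← card_inf_mul_relIndex (Ker Y a), inf_comm, p.K_inf_Ker h, card_bot, one_mul]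
  have h5 : Ker Y a ⊓ (stabilizer G (t • a) ⊓ (stabilizer G a ⊓ Lz Z Y)) = Ker Y a ⊓ Lz Z Y :=
    le_antisymm (inf_le_inf_left _ (inf_le_right.trans inf_le_right)) fun x hx =>
      ⟨hx.1, Ker_smul hx.1 (p.b_mem h), Ker_fix hx.1, hx.2⟩
  rw [← h4, ← h1, ← h2, ← inf_relIndex_right (Ker Y a) (_ ⊓ _), ← inf_relIndex_right (stabilizer G a),
    ← inf_relIndex_right (stabilizer G (t • a)), mul_comm, mul_comm (relIndex _ (Lz Z Y)),
    relIndex_mul_relIndex _ _ _ inf_le_right inf_le_right,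
    relIndex_mul_relIndex _ _ _ inf_le_right (inf_le_right.trans inf_le_right), h5, inf_relIndex_right]

end Pl

end ZD
end H6
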