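import Mathlib
import Cfsg.Agent.H6.ZP

/-! Big involutions: elementary properties and numerics. -/

set_option autoImplicit false
set_option linter.unusedSectionVars false
set_option linter.unusedVariables false

namespace H6
namespace ZD

open H24 H3.B71 Subgroup MulAction

variable {G Ω : Type*} [Group G] [Finite G] [MulAction G Ω] [Finite Ω] {Z : Set G}

theorem dvd_ncard_of_classes {α : Type*} [Finite α] {m : ℕ} (r : α → α → Prop) (S : Set α)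
    (h0 : ∀ x ∈ S, r x x) (h1 : ∀ x ∈ S, ∀ y ∈ S, r x y → r y x)
    (h2 : ∀ x ∈ S, ∀ y ∈ S, ∀ z ∈ S, r x y → r y z → r x z)
    (h : ∀ x ∈ S, m ∣ {y ∈ S | r x y}.ncard) : m ∣ S.ncard := by
  induction hn : S.ncard using Nat.strong_induction_on generalizing S with | h n ih => ?_
  subst hn
  rcases S.eq_empty_or_nonempty with rfl | ⟨x, hx⟩
  · simp
  have e := Set.ncard_sdiff_add_ncard_of_subset (Set.sep_subset S (r x)) (Set.toFinite _)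
  rw [← e]
  refine Nat.dvd_add (ih _ (Set.ncard_lt_ncard ⟨Set.sdiff_subset, fun e => (e hx).2 ⟨hx, h0 x hx⟩⟩
    (Set.toFinite _)) _ (fun y hy => h0 y hy.1) (fun y hy z hz => h1 y hy.1 z hz.1)
    (fun y hy z hz w hw => h2 y hy.1 z hz.1 w hw.1) (fun y hy => ?_) rfl) (h x hx)
  convert h y hy.1 using 2
  ext z
  exact ⟨fun hz => ⟨hz.1.1, hz.2⟩, fun hz => ⟨⟨hz.1, fun e =>
    hy.2 ⟨hy.1, h2 x hx z hz.1 y hy.1 e.2 (h1 y hy.1 z hz.1 hz.2)⟩⟩, hz.2⟩⟩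

theorem ZE.ncard_TT_cj (h : ZE Ω Z) (g : G) (Y : Subgroup G) (a b : Ω) :
    (TT Z (cj g Y) (g • a) (g • b)).ncard = (TT Z Y a b).ncard := by
  rw [← Set.ncard_image_of_injective (TT Z Y a b) (MulAut.conj g).injective]
  congr 1
  ext x
  obtain ⟨x, rfl⟩ := (MulAut.conj g).surjective x
  rw [(MulAut.conj g).injective.mem_set_image, MulAut.conj_apply, mem_TT, mem_TT, h.conj_iff,
    conj_mem_cj_iff, conj_smul, smul_left_cancel_iff]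

/-- PB, general form -/
theorem Sm.pb_gen (h : Sm Ω Z) {A E : Subgroup G} {a : Ω} {j : ℕ}
    (hA : ∀ x ∈ A, x = 1 ∨ x ∈ ZA Z ⊤ a) (hE : IsPi {2} E) (hEa : E ≤ stabilizer G a)
    (hEA : E ≤ C[A])
    (hs : ∀ z ∈ ZA Z ⊤ a, z ∉ A → ♯(E ⊓ C{z}) ≤ ♯(A ⊓ C{z}) ^ j) :
    ∃ s : ℕ, ♯E ≤ (2 ^ s) ^ (j + 1) ∧ 2 ^ s ∣ mm Z a + 1 - ♯A := by
  classical
  have hex : ∃ s : ℕ, ♯E ≤ (2 ^ s) ^ (j + 1) := by
    obtain ⟨k, hk⟩ := hE.card_eq_pow Nat.prime_two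
    exact ⟨k, hk ▸ Nat.le_self_pow (Nat.succ_ne_zero j) _⟩
  refine ⟨Nat.find hex, Nat.find_spec hex, ?_⟩
  have hmin := fun s => Nat.find_min hex (m := s)
  generalize Nat.find hex = s at hmin
  have hsq : ∀ x ∈ A, x * x = 1 := fun x hx => by
    rcases hA x hx with rfl | hx
    · exact one_mul 1
    · exact (h.ze.inv x hx.1).2
  have hA2 : IsPi {2} A := isPi_iff_piElt.2 fun x hx =>
    piElt_of_pow_eq_one (piNat_self Nat.prime_two) ((pow_two x).trans (hsq x hx))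
  have hcm : ∀ x ∈ A, ∀ y ∈ A, x * y = y * x := fun x hx y hy => by
    rw [← inv_eq_of_mul_eq_one_right (hsq _ (A.mul_mem hx hy)), mul_inv_rev,
      inv_eq_of_mul_eq_one_right (hsq x hx), inv_eq_of_mul_eq_one_right (hsq y hy)]
  have e0 : mm Z a + 1 - ♯A = (ZA Z ⊤ a \ A).ncard := by
    have e1 : (A : Set G) = insert 1 (ZA Z ⊤ a ∩ A) := Set.ext fun x =>
      ⟨fun hx => (hA x hx).imp_right fun e => ⟨e, hx⟩, fun hx => hx.elim (fun e => e ▸ A.one_mem) (·.2)⟩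
    have e2 : ♯A = (ZA Z ⊤ a ∩ A).ncard + 1 := by
      rw [← Set.ncard_insert_of_notMem (a := (1 : G)) (fun e => (h.ze.inv _ e.1.1).1 rfl), ← e1,
        ← Nat.card_coe_set_eq]
      rfl
    have := Set.ncard_inter_add_ncard_sdiff_eq_ncard (ZA Z ⊤ a) (A : Set G) (Set.toFinite _)
    unfold mm
    omega
  have hcj : ∀ z, ∀ x ∈ E, (C{x * z * x⁻¹}).relIndex E = (C{z}).relIndex E := fun z x hx => by
    rw [← cj_C1, ← relIndex_cj x C{z} E, cj_of_mem hx]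
  have hmul : ∀ z, ∀ u ∈ A, (C{z * u}).relIndex E = (C{z}).relIndex E := fun z u hu => by
    have : C{z * u} ⊓ E = C{z} ⊓ E := Subgroup.ext fun x => and_congr_left fun hx => by
      have e := mem_C.1 (hEA hx) u hu
      change x ∈ C{z * u} ↔ x ∈ C{z}
      rw [mem_C1, mem_C1, mul_assoc, e, ← mul_assoc, ← mul_assoc, mul_left_inj]
    rw [← inf_relIndex_right, this, inf_relIndex_right]
  have hS1 : ∀ z ∈ ZA Z ⊤ a \ A, ∀ x ∈ E, x * z * x⁻¹ ∈ ZA Z ⊤ a \ (A : Set G) := fun z hz x hx =>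
    ⟨h.ze.conj_ZA' hz.1 (by simp) (hEa hx), fun e => hz.2 ((mem_N.1 (C_le_N A (hEA hx)) z).2 e)⟩
  have hS2 : ∀ z ∈ ZA Z ⊤ a \ A, ∀ u ∈ A ⊓ C{z}, z * u ∈ ZA Z ⊤ a \ (A : Set G) := fun z hz u hu => by
    refine ⟨?_, fun e => hz.2 ((A.mul_mem_cancel_right hu.1).1 e)⟩
    rcases hA u hu.1 with rfl | hu'
    · simpa using hz.1
    · exact ⟨h.mul_mem hz.1.1 hu'.1 (fun e => hz.2 (e ▸ hu.1)) (mem_C1.1 hu.2).symm, trivial,
        by rw [mul_smul, hu'.2.2, hz.1.2.2]⟩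
  have hB : ∀ z, ∀ u ∈ A ⊓ C{z}, A ⊓ C{z * u} = A ⊓ C{z} := fun z u hu =>
    Subgroup.ext fun x => and_congr_right fun hx => by
      change x ∈ C{z * u} ↔ x ∈ C{z}
      rw [mem_C1, mem_C1, mul_assoc, hcm u hu.1 x hx, ← mul_assoc, ← mul_assoc, mul_left_inj]
  rw [e0]
  refine dvd_ncard_of_classes (fun z w => if 2 ^ s ∣ (C{z}).relIndex E then
    ∃ x ∈ E, x * z * x⁻¹ = w else z⁻¹ * w ∈ A ⊓ C{z}) _ (fun z _ => ?_) (fun z _ w _ e => ?_)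
    (fun z _ w _ v _ e e' => ?_) fun z hz => ?_
  · split_ifs
    · exact ⟨1, one_mem _, by simp⟩
    · rw [inv_mul_cancel]; exact one_mem _
  · split_ifs at e with c
    · obtain ⟨x, hx, rfl⟩ := e
      rw [hcj z x hx, if_pos c]
      exact ⟨x⁻¹, inv_mem hx, by group⟩
    · obtain ⟨u, rfl⟩ : ∃ u, w = z * u := ⟨z⁻¹ * w, by group⟩
      rw [inv_mul_cancel_left] at e
      rw [hmul z u e.1, if_neg c, hB z u e, mul_inv_rev, inv_mul_cancel_right]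
      exact inv_mem e
  · split_ifs at e ⊢ with c
    · obtain ⟨x, hx, rfl⟩ := e
      rw [hcj z x hx, if_pos c] at e'
      obtain ⟨y, hy, rfl⟩ := e'
      exact ⟨y * x, E.mul_mem hy hx, by group⟩
    · obtain ⟨u, rfl⟩ : ∃ u, w = z * u := ⟨z⁻¹ * w, by group⟩
      rw [inv_mul_cancel_left] at e
      rw [hmul z u e.1, if_neg c, hB z u e] at e'
      simpa [mul_assoc] using (A ⊓ C{z}).mul_mem e e'
  · by_cases c : 2 ^ s ∣ (C{z}).relIndex E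
    · simp only [if_pos c]
      convert c using 1
      rw [relIndex_C1]
      congr 1
      exact Set.ext fun w => ⟨fun e => e.2, fun ⟨x, hx, e⟩ => ⟨e ▸ hS1 z hz x hx, x, hx, e⟩⟩
    · simp only [if_neg c]
      have e1 : {w ∈ ZA Z ⊤ a \ (A : Set G) | z⁻¹ * w ∈ A ⊓ C{z}} =
          (fun u => z * u) '' (A ⊓ C{z} : Subgroup G) := Set.ext fun w =>
        ⟨fun e => ⟨_, e.2, by simp⟩, fun ⟨u, hu, e⟩ => e ▸ ⟨hS2 z hz u hu, by simpa using hu⟩⟩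
      rw [e1, Set.ncard_image_of_injective _ (mul_right_injective z), ← Nat.card_coe_set_eq]
      obtain ⟨k, hk⟩ := (hA2.of_le (inf_le_left : A ⊓ C{z} ≤ A)).card_eq_pow Nat.prime_two
      obtain ⟨l, hl⟩ := (piNat_singleton Nat.prime_two (relIndex_ne_zero' _ _)).1 (hE.relIndex C{z})
      change 2 ^ s ∣ ♯(A ⊓ C{z})
      rw [hk]
      rw [hl] at c
      by_contra c'
      rw [Nat.pow_dvd_pow_iff_le_right one_lt_two, not_le] at c c'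
      refine hmin (s - 1) (by omega) ?_
      have e2 := hs z hz.1 hz.2
      rw [← card_inf_mul_relIndex C{z} E, inf_comm, hl, pow_succ]
      rw [hk] at e2
      exact Nat.mul_le_mul (e2.trans (Nat.pow_le_pow_left (Nat.pow_le_pow_right two_pos (by omega)) _))
        (Nat.pow_le_pow_right two_pos (by omega))

theorem Cl.exists_Bt (h : Cl Ω Z) {y t : G} {a : Ω} (hy : BT Z y a) (ht : t ∈ Z)
    (hc : t * y = y * t) (hta : t • a ≠ a) : ∃ d i, Bt Z y a t d i := by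
  obtain ⟨d, i, p⟩ := h.pl C{y} a t (h.toSm.C_ne_top hy.1.1.1 hy.2.1) hy.2.2 ht (mem_C1.2 hc) hta
    (h.cl y a hy)
  exact ⟨d, i, h, hy, p⟩

theorem Cl.exists_Bt' (h : Cl Ω Z) {y : G} {a b : Ω} (hy : BT Z y a) (hb : y • b = b)
    (hba : b ≠ a) : ∃ t d i, t • a = b ∧ Bt Z y a t d i := by
  obtain ⟨s, hs, h1, h2⟩ := h.ze.exists_comm_TT hy.1.1 hba.symm (Or.inl ⟨hy.2.1, hb⟩)
  obtain ⟨d, i, p⟩ := h.exists_Bt hy hs h1 (h2 ▸ hba)
  exact ⟨s, d, i, h2, p⟩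

namespace Bt

variable {y v t t' e s g k z z' : G} {a b c c' : Ω} {d i μ : ℕ} {Y : Subgroup G}
  (h : Bt Z y a t d i)
include h

theorem ze : ZE Ω Z := h.cl.ze

theorem sm : Sm Ω Z := h.cl.toSm

theorem mem_orb : c ∈ Orb C{y} a ↔ y • c = c := by
  rw [h.ze.orb_C h.bt.1.1 h.bt.2.1]; rfl

theorem fix_b : y • t • a = t • a := h.mem_orb.1 (h.pl.b_mem h.ze)

theorem ncard_fix : {c : Ω | y • c = c}.ncard = (2 ^ d) ^ i + 1 := by
  rw [← h.ze.orb_C h.bt.1.1 h.bt.2.1, h.pl.card]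

theorem y_mem_Ker : y ∈ Ker C{y} a := mem_Ker'.2 ⟨mem_C1.2 rfl, fun _ hc => h.mem_orb.1 hc⟩

theorem mem_Ker : g ∈ Ker C{y} a ↔ g * y = y * g ∧ ∀ c : Ω, y • c = c → g • c = c := by
  simp only [mem_Ker', mem_C1, h.mem_orb]

theorem cj (g : G) : Bt Z (g * y * g⁻¹) (g • a) (g * t * g⁻¹) d i :=
  ⟨h.cl, ⟨h.bt.1.conj g, conj_fix h.bt.2.1, cj_C1 g y ▸ h.ze.pair_cj h.bt.2.2 g⟩,
    cj_C1 g y ▸ h.pl.cj h.ze g⟩

theorem move (hc : y • c = c) (ht' : t' ∈ Z) (hy : t' * y = y * t') (hne : t' • c ≠ c) :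
    Bt Z y c t' d i :=
  have p := h.pl.move h.ze (h.mem_orb.2 hc) ht' (mem_C1.2 hy) hne
  ⟨h.cl, ⟨h.bt.1, hc, p.pair h.ze⟩, p⟩

theorem move' (hc : y • c = c) (hc' : y • c' = c') (hne : c' ≠ c) :
    ∃ t', t' • c = c' ∧ Bt Z y c t' d i := by
  obtain ⟨s, hs, h1, h2⟩ := h.ze.exists_comm_TT h.bt.1.1 hne.symm (Or.inl ⟨hc, hc'⟩)
  exact ⟨s, h2, h.move hc hs h1 (h2 ▸ hne)⟩

/-- CONJ -/
theorem conj_mul (he : e ∈ Az Z C{y} a) : ∃ g : G, g • a = a ∧ g * y * g⁻¹ = y * e := by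
  by_cases e1 : e = 1
  · exact ⟨1, one_smul _ _, by simp [e1]⟩
  obtain ⟨f, hf, hfe⟩ : ∃ f ∈ ZA Z C{y} a, f ≠ e := by
    obtain ⟨u, hu, v, hv, huv, -⟩ := h.bt.2.2
    by_cases e2 : u = e
    · exact ⟨v, hv, e2 ▸ huv.symm⟩
    · exact ⟨u, hu, e2⟩
  have hfy := mem_C1.1 hf.2.1
  have hey := mem_C1.1 (Az_le _ _ _ he)
  have hef := h.pl.A_comm h.ze he (mem_Az hf)
  have ff := (h.ze.inv f hf.1).2
  have hw := h.sm.wide_mul h.bt.1 hf.1 hfy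
  have hwa : (y * f) • a = a := by rw [mul_smul, hf.2.2, h.bt.2.1]
  obtain ⟨c, hca, hc⟩ := hw.exists_ne a
  obtain ⟨x, hx, rfl⟩ : c ∈ Orb C{y * f} a := by rw [h.ze.orb_C hw.1 hwa]; exact hc
  have hfC : f ∈ C{y * f} := mem_C1.2 (by rw [← mul_assoc, hfy])
  obtain ⟨g, hg, e2⟩ := h.ze.conj_of_mem (Y := C{y * f}) ⟨hf.1, hfC, hf.2.2⟩ ⟨x, hx, hca⟩
    (((h.pl.memA _).1 (mul_mem he (mem_Az hf))).resolve_left fun e => hfe (by
      rw [eq_inv_of_mul_eq_one_left e, inv_eq_of_mul_eq_one_right ff])).1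
    (mul_mem (mem_C1.2 (by rw [← mul_assoc, hey, mul_assoc, hef, mul_assoc])) hfC)
  refine ⟨g, h.ze.smul_of_conj hf.1 hf.2.2 (by rw [e2]; exact Az_fix (mul_mem he (mem_Az hf))), ?_⟩
  calc g * y * g⁻¹ = g * (y * f) * g⁻¹ * (g * f * g⁻¹) := by
        rw [show g * (y * f) * g⁻¹ * (g * f * g⁻¹) = g * y * (f * f) * g⁻¹ by group, ff, mul_one]
    _ = y * (f * e) * f := by rw [mem_C1.1 (Lz_le _ _ hg), e2]; group
    _ = y * e := by rw [← hef, mul_assoc, mul_assoc, ff, mul_one]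

theorem Az_mul (he : e ∈ Az Z C{y} a) : Az Z C{y * e} a = Az Z C{y} a := by
  obtain ⟨g, ha, hg⟩ := h.conj_mul he
  have p := (h.cj g).pl
  rw [ha, hg] at p
  refine (eq_of_le_of_card_ge ((closure_le _).2 fun u hu => mem_Az ⟨hu.1, mem_C1.2 ?_, hu.2.2⟩)
    (p.cardA.trans h.pl.cardA.symm).le).symm
  rw [← mul_assoc, mem_C1.1 hu.2.1, mul_assoc, h.pl.A_comm h.ze (mem_Az hu) he, mul_assoc]

theorem mul (he : e ∈ Az Z C{y} a) : ∃ t', Bt Z (y * e) a t' d i := by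
  obtain ⟨g, ha, hg⟩ := h.conj_mul he
  exact ⟨_, ha ▸ hg ▸ h.cj g⟩

theorem mul' (he : e ∈ Az Z C{y} a) (hc : (y * e) • c = c) (hca : c ≠ a) :
    ∃ t', t' • a = c ∧ Bt Z (y * e) a t' d i := by
  obtain ⟨t', p⟩ := h.mul he
  exact p.move' p.bt.2.1 hc hca

/-- the fixed point sets of `y` and `y e` meet in `a` only -/
theorem fix_inter (he : e ∈ Az Z C{y} a) (h1 : e ≠ 1) (hc : y • c = c) (hc' : (y * e) • c = c) :
    c = a := by
  by_contra hca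
  refine h1 (h.pl.A_free h.ze he hca (smul_left_cancel y ?_))
  rw [← mul_smul, hc', hc]

theorem exists_s (hc : y • c ≠ c) : ∃ s ∈ Z, s * y = y * s ∧ (y * s) • c = c := by
  obtain ⟨s, hs, h1, h2⟩ := h.ze.exists_comm_TT h.bt.1.1 hc.symm (Or.inr rfl)
  exact ⟨s, hs, h1, by rw [mul_smul, h2, h.bt.1.1.smul_smul]⟩

theorem trans_off (hc : y • c ≠ c) (hc' : y • c' ≠ c') : ∃ g ∈ C{y}, g • c = c' := by
  obtain ⟨e, he, -⟩ := h.bt.2.2
  have key : ∀ c : Ω, y • c ≠ c → ∃ g ∈ C{y}, (y * e) • g • c = g • c ∧ g • c ≠ a := fun c hc => by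
    obtain ⟨s, hs, h1, h2⟩ := h.exists_s hc
    obtain ⟨g, hg, e1⟩ := h.ze.conj_of_mem he ⟨t, h.pl.tY, h.pl.ta⟩ hs (mem_C1.2 h1)
    have hgy := mem_C1.1 (Lz_le _ _ hg)
    refine ⟨g⁻¹, inv_mem (Lz_le _ _ hg), fix_of_conj (g := g) ?_, fun e => hc ?_⟩
    · rw [smul_inv_smul, ← mul_assoc, hgy, mul_assoc y, mul_assoc y, e1, h2]
    · rw [inv_smul_eq_iff.1 e, ← mul_smul, ← hgy, mul_smul, h.bt.2.1]
  obtain ⟨g, hg, h1, h2⟩ := key c hc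
  obtain ⟨g', hg', h1', h2'⟩ := key c' hc'
  obtain ⟨s, p⟩ := h.mul (mem_Az he)
  obtain ⟨x, hx, e1⟩ := p.pl.trans' h.ze (p.mem_orb.2 h1) (p.mem_orb.2 h1') h2 h2'
  have h3 := mem_C1.1 (Lz_le _ _ (Uz_le_Lz _ _ _ hx))
  have h4 := p.pl.centA x hx e ((h.Az_mul (mem_Az he)).ge (mem_Az he))
  refine ⟨g'⁻¹ * x * g, mul_mem (mul_mem (inv_mem hg') (mem_C1.2 ?_)) hg, by
    rw [mul_smul, mul_smul, e1, inv_smul_smul]⟩
  rwa [mul_assoc, ← h4, ← mul_assoc, ← mul_assoc, mul_left_inj] at h3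

theorem TT_const (hc : y • c ≠ c) (hc' : y • c' ≠ c') :
    (TT Z C{y} c' (y • c')).ncard = (TT Z C{y} c (y • c)).ncard := by
  obtain ⟨g, hg, rfl⟩ := h.trans_off hc hc'
  rw [← h.ze.ncard_TT_cj g C{y} c, cj_of_mem hg, ← mul_smul, ← mul_smul, mem_C1.1 hg]

theorem mul_Z (hs : s ∈ Z) (hy : s * y = y * s) :
    ∃ (c : Ω) (t1 t2 : G), s • c = c ∧ Bt Z y c t1 d i ∧ Bt Z (y * s) c t2 d i ∧
      ∃ g, g * y * g⁻¹ = y * s := by
  obtain ⟨c, hc⟩ := h.ze.ex s hs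
  have h1 := h.ze.fix_of_comm hs hc hy
  obtain ⟨t1, p⟩ := h.pl.exists_move h.ze (h.mem_orb.2 h1)
  have p1 := h.move h1 p.tZ (mem_C1.1 p.tY) p.ta
  have h2 : s ∈ Az Z C{y} c := mem_Az ⟨hs, mem_C1.2 hy, hc⟩
  obtain ⟨t2, p2⟩ := p1.mul h2
  obtain ⟨g, -, hg⟩ := p1.conj_mul h2
  exact ⟨c, t1, t2, hc, p1, p2, g, hg⟩

theorem TT_mul (hc : y • c ≠ c) (hs : s ∈ TT Z C{y} a (t • a)) :
    (TT Z C{y * s} a (t • a)).ncard = (TT Z C{y} c (y • c)).ncard := by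
  obtain ⟨-, -, -, -, -, -, g, hg⟩ := h.mul_Z hs.1 (mem_C1.1 hs.2.1)
  have h1 : g • y • g⁻¹ • a = t • a := by
    rw [← mul_smul, ← mul_smul, hg, mul_smul, hs.2.2, h.fix_b]
  rw [← h.TT_const hc (c' := g⁻¹ • a) fun e => h.pl.ta (by rw [← h1, e, smul_inv_smul]),
    ← h.ze.ncard_TT_cj g C{y}, cj_C1, hg, h1, smul_inv_smul]

theorem exists_off : ∃ c : Ω, y • c ≠ c := by
  by_contra! e
  exact h.bt.1.1.1 (h.sm.faithful e)

theorem q_pos : 0 < 2 ^ d - 1 := by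
  have := h.pl.four_le h.ze
  omega

theorem mu (hc : y • c ≠ c) : mm Z a = (2 ^ d - 1) * (TT Z C{y} c (y • c)).ncard := by
  rw [h.ze.midpoint_count h.bt.1.1 h.bt.2.1 h.fix_b h.pl.ta.symm fun s hs => h.TT_mul hc hs,
    ← h.pl.ncard_TT h.ze, Nat.add_sub_cancel]

theorem exists_mu : ∃ μ, Odd μ ∧ mm Z a = (2 ^ d - 1) * μ := by
  obtain ⟨c, hc⟩ := h.exists_off
  exact ⟨_, Nat.Odd.of_mul_right (h.mu hc ▸ h.sm.odd_mm a), h.mu hc⟩

theorem mu_eq (hμ : mm Z a = (2 ^ d - 1) * μ) (hc : y • c ≠ c) :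
    (TT Z C{y} c (y • c)).ncard = μ :=
  Nat.eq_of_mul_eq_mul_left h.q_pos ((h.mu hc).symm.trans hμ)

/-- `μ = |T(a, t a) ∩ C(y s)|` -/
theorem mu_eq' (hμ : mm Z a = (2 ^ d - 1) * μ) (hs : s ∈ TT Z C{y} a (t • a)) :
    (TT Z C{y * s} a (t • a)).ncard = μ := by
  obtain ⟨c, hc⟩ := h.exists_off
  rw [h.TT_mul hc hs, h.mu_eq hμ hc]

theorem card_eq (hμ : mm Z a = (2 ^ d - 1) * μ) :
    μ * Nat.card Ω = μ * ((2 ^ d) ^ i + 1) + ((2 ^ d) ^ i + 1) * (2 ^ d - 1) * (2 ^ d) ^ i := by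
  classical
  have := Fintype.ofFinite Ω
  have := Fintype.ofFinite G
  have key := Finset.card_mul_eq_card_mul (fun (c : Ω) (s : G) => (y * s) • c = c)
    (s := Finset.univ.filter fun c => y • c ≠ c) (t := Finset.univ.filter fun s => s ∈ Z ∧ s ∈ C{y})
    (m := μ) (n := (2 ^ d) ^ i) (fun c hc => by
      rw [← h.mu_eq hμ (Finset.mem_filter.1 hc).2, ← Set.ncard_coe_finset]
      congr 1
      ext s
      simp only [Finset.coe_bipartiteAbove, Finset.mem_filter, Finset.mem_univ, true_and,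
        Set.mem_ofPred_eq, mem_TT, and_assoc, mul_smul]
      exact and_congr_right fun _ => and_congr_right fun _ =>
        ⟨fun e => (h.bt.1.1.smul_eq e).symm, fun e => by rw [e, h.bt.1.1.smul_smul]⟩) fun s hs => by
      obtain ⟨hs, hy⟩ := (Finset.mem_filter.1 hs).2
      obtain ⟨c, t1, t2, hc, p1, p2, -⟩ := h.mul_Z hs (mem_C1.1 hy)
      rw [← p2.pl.ncard_off h.ze, ← Set.ncard_coe_finset]
      congr 1
      ext c'
      simp only [Finset.coe_bipartiteBelow, Finset.mem_filter, Finset.mem_univ, true_and,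
        Set.mem_ofPred_eq, Set.mem_sdiff, p2.mem_orb, Set.mem_singleton_iff]
      exact ⟨fun e => ⟨e.2, fun e' => e.1 (e' ▸ p1.bt.2.1)⟩, fun e => ⟨fun e' =>
        e.2 (p1.fix_inter (mem_Az ⟨hs, hy, hc⟩) (h.ze.inv s hs).1 e' e.1), e.1⟩⟩
  have h1 : (Finset.univ.filter fun s => s ∈ Z ∧ s ∈ C{y}).card =
      ((2 ^ d) ^ i + 1) * (2 ^ d - 1) := by
    rw [← h.pl.ncard_Z h.ze, ← Set.ncard_coe_finset, Finset.coe_filter_univ]
  have h2 : (Finset.univ.filter fun c : Ω => y • c = c).card = (2 ^ d) ^ i + 1 := by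
    rw [← h.ncard_fix, ← Set.ncard_coe_finset, Finset.coe_filter_univ]
  have h3 := Finset.card_filter_add_card_filter_not (s := Finset.univ) fun c : Ω => y • c = c
  rw [Nat.card_eq_fintype_card, ← Finset.card_univ, ← h3, h2, ← h1, ← key, mul_add, mul_comm μ (Finset.card _)]

/-- (C) for neighbours -/
theorem cnb (hb : y • b = b) (hba : b ≠ a) (hz : z ∈ ZA Z ⊤ a) (hz' : z' ∈ ZA Z ⊤ a)
    (e : z • b = z' • b) : z = z' := by
  obtain ⟨t1, rfl, p⟩ := h.move' h.bt.2.1 hb hba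
  obtain ⟨u, hu, -⟩ := h.bt.2.2
  obtain ⟨k, k1, k2, k3, -⟩ := h.ze.exists_K p.pl.tZ hba hz.1 hu.1 hz.2.2 hu.2.2
  have k4 := (h.ze.K_spec p.pl.tZ hba k1 k2).2.1
  have hw := h.ze.conj_ZA' hz' (g := k) (by simp) k1
  have e1 : (k * z' * k⁻¹) • t1 • a = u • t1 • a := by
    rw [← k3]
    conv_lhs => rw [← k4, conj_smul, ← e, ← conj_smul, k4]
  suffices H : k * z' * k⁻¹ = u from (MulAut.conj k).injective (k3.trans H.symm)
  generalize k * z' * k⁻¹ = w at hw e1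
  have hu' := h.ze.inv u hu.1
  have key : ∀ s ∈ Az Z C{y} a, s • t1 • a = u • t1 • a → s = u := fun s hs e => by
    have := h.pl.A_free h.ze (mul_mem (mem_Az hu) hs) hba (by rw [mul_smul, e, hu'.smul_smul])
    rw [eq_inv_of_mul_eq_one_right this, hu'.inv]
  obtain ⟨s, hs, h1, h2, -⟩ := h.ze.midpoint h.bt.1.1 hb (b := u • t1 • a)
    (by rw [← mul_smul, ← mem_C1.1 hu.2.1, mul_smul, hb]) (h.ze.smul_ne hu.1 hu.2.2 hba).symm hw.1 e1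
  obtain rfl := key s (mem_Az ⟨hs.1, hs.2.1, h2 (stabilizer G a) hw.2.2 h.bt.2.1⟩) hs.2.2
  exact key w ((h.Az_mul (mem_Az hu)).le (mem_Az ⟨hw.1, h1, hw.2.2⟩)) e1

theorem clean_of (hb : y • b = b) (hba : b ≠ a) (hY : b ∈ Orb Y a) : Clean Z Y a := fun u hu v hv e =>
  h.cnb hb hba ⟨hu.1, trivial, hu.2.2⟩ ⟨hv.1, trivial, hv.2.2⟩
    ((h.ze.inv u hu.1).smul_eq (by rw [← mul_smul]; exact Ker_smul e hY))

theorem pl_of (hY : Y ≠ ⊤) (hA : Az Z C{y} a ≤ Y) (ht : t ∈ Y) : ∃ d' i', Pl Z Y a t d' i' := by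
  obtain ⟨u, hu, v, hv, e⟩ := h.bt.2.2
  exact h.cl.pl Y a t hY ⟨u, ⟨hu.1, hA (mem_Az hu), hu.2.2⟩, v, ⟨hv.1, hA (mem_Az hv), hv.2.2⟩, e⟩
    h.pl.tZ ht h.pl.ta (h.clean_of h.fix_b h.pl.ta ⟨t, ht, rfl⟩)

/-- K1 -/
theorem dvd_mu (hμ : mm Z a = (2 ^ d - 1) * μ) (hk : k ∈ Kz Z C{y} a t) (hr : (orderOf k).Prime)
    (hc : k • c = c) (h1 : c ≠ a) (h2 : c ≠ t • a) : orderOf k ∣ μ := by
  have k1 : k ≠ 1 := fun e => by rw [e, orderOf_one] at hr; exact Nat.not_prime_one hr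
  have h3 : y • c ≠ c := fun e => (h.pl.fix3 k hk k1 c (h.mem_orb.2 e) hc).elim h1 h2
  rw [← h.mu_eq hμ h3]
  by_contra hd
  obtain ⟨s, hs, e⟩ := exists_cent_of_not_dvd hr (piElt_of_orderOf_prime hr rfl).isPi
    (fun x hx s hs => by
      have h4 : x ∈ C{y} := zpowers_le.2 (Kz_le _ _ _ _ hk) hx
      have h5 : x • c = c := (zpowers_le.2 hc : zpowers k ≤ stabilizer G c) hx
      exact h.ze.conj_TT' hs (norm_self _ h4) (Or.inl ⟨h5, by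
        rw [← mul_smul, mem_C1.1 h4, mul_smul, h5]⟩)) hd
  exact k1 (h.pl.K_no_cent h.ze hk hs.1 (mem_C1.1 (e (mem_zpowers k))).symm)

theorem same_i {j : ℕ} (h' : Bt Z v b t' d j) : j = i := by
  obtain ⟨μ, -, hμ⟩ := h.exists_mu
  have e := (h.card_eq hμ).symm.trans (h'.card_eq ((h.ze.mm_eq b a).trans hμ))
  have hq := h.q_pos
  have h4 := h.pl.four_le h.ze
  have key : StrictMono fun n : ℕ => μ * (n + 1) + (n + 1) * (2 ^ d - 1) * n :=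
    strictMono_nat_of_lt_succ fun n => by nlinarith
  exact Nat.pow_right_injective (by omega : 2 ≤ 2 ^ d) (key.injective e).symm

theorem dvd_mu_sub {s : ℕ} (hμ : mm Z a = (2 ^ d - 1) * μ)
    (e : 2 ^ s ∣ mm Z a + 1 - ♯(Az Z C{y} a)) : 2 ^ s ∣ μ - 1 := by
  have h1 := h.pl.cardK
  rw [hμ, h.pl.cardA, ← h1, Nat.add_sub_cancel, Nat.add_sub_add_right, ← Nat.mul_sub_one] at e
  exact (Nat.Coprime.pow_left s (Nat.coprime_two_left.2 (h.pl.K_odd h.ze))).dvd_of_dvd_mul_left e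

theorem A_sub (x : G) (hx : x ∈ Az Z C{y} a) : x = 1 ∨ x ∈ ZA Z ⊤ a :=
  ((h.pl.memA x).1 hx).imp_right fun e => ⟨e.1, trivial, e.2.2⟩

theorem mem_sup_y {X : Subgroup G} {x : G} (hX : X ≤ C{y}) (hx : x ∈ X ⊔ zpowers y) :
    x ∈ X ∨ ∃ u ∈ X, x = u * y := by
  obtain ⟨u, hu, w, hw, rfl⟩ := (mem_sup_of_norm (zp_le_N (C_le_N X
    (mem_C.2 fun x hx => mem_C1.1 (hX hx))))).1 hx
  rcases h.bt.1.1.mem_zp hw with rfl | rfl
  · exact Or.inl (by simpa using hu)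
  · exact Or.inr ⟨u, hu, rfl⟩

theorem y_cent_A : y ∈ C[Az Z C{y} a] := mem_C.2 fun _ hx => mem_C1.1 (Az_le _ _ _ hx)

theorem Az_eq_of_max (hm : Mx Ω Z d) (hv : Wide Ω v) (hva : v • a = a)
    (hA : v ∈ C[Az Z C{y} a]) : BT Z v a ∧ Az Z C{v} a = Az Z C{y} a := by
  have h1 : ∀ u ∈ ZA Z C{y} a, u ∈ ZA Z C{v} a := fun u hu =>
    ⟨hu.1, mem_C1.2 (mem_C.1 hA u (mem_Az hu)), hu.2.2⟩
  obtain ⟨u, hu, w, hw, e⟩ := h.bt.2.2
  have h2 : BT Z v a := ⟨hv, hva, u, h1 u hu, w, h1 w hw, e⟩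
  exact ⟨h2, (eq_of_le_of_card_ge (closure_mono h1) ((hm v a h2).trans h.pl.cardA.ge)).symm⟩

theorem pb (hμ : mm Z a = (2 ^ d - 1) * μ) :
    ∃ s : ℕ, 2 * 2 ^ d ≤ (2 ^ s) ^ 2 ∧ 2 ^ s ∣ μ - 1 := by
  have hy := C_le_N _ h.y_cent_A
  obtain ⟨s, h1, h2⟩ := h.sm.pb_gen (E := Az Z C{y} a ⊔ zpowers y) (j := 1) h.A_sub
    ((h.pl.A_two h.ze).sup h.bt.1.1.two (zp_le_N hy))
    (sup_le (fun _ => Az_fix) (zpowers_le.2 h.bt.2.1))
    (sup_le (fun x hx => mem_C.2 fun u hu => h.pl.A_comm h.ze hu hx) (zpowers_le.2 h.y_cent_A))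
    fun z hz hzA => by
      rw [pow_one]
      refine card_le fun x hx => ⟨?_, hx.2⟩
      refine (h.mem_sup_y (Az_le _ _ _) hx.1).resolve_right fun ⟨u, hu, e⟩ => hzA ?_
      refine (h.Az_mul hu).le (mem_Az ⟨hz.1, mem_C1.2 ?_, hz.2.2⟩)
      rw [← mem_C1.1 (Az_le _ _ _ hu), ← e, mem_C1.1 hx.2]
  refine ⟨s, ?_, h.dvd_mu_sub hμ h2⟩
  rwa [card_sup_of_inf (zp_le_N hy) (eq_bot_of_le (h.pl.A_inf_Ker h.ze)
    (inf_le_inf_left _ (zpowers_le.2 h.y_mem_Ker))), h.pl.cardA, h.bt.1.1.card_zpowers,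
    mul_comm] at h1

theorem pbb (hi : i = 2) (hm : Mx Ω Z d) (hμ : mm Z a = (2 ^ d - 1) * μ) :
    ∃ s : ℕ, 2 * (2 ^ d) ^ 2 ≤ (2 ^ s) ^ 3 ∧ 2 ^ s ∣ μ - 1 := by
  have hUY := (Uz_le_Lz Z C{y} a).trans (Lz_le _ _)
  have hy : y ∈ C[Uz Z C{y} a] := mem_C.2 fun _ hx => mem_C1.1 (hUY hx)
  have hE2 := (h.pl.U_two h.ze).sup h.bt.1.1.two (zp_le_N (C_le_N _ hy))
  have hEa : Uz Z C{y} a ⊔ zpowers y ≤ stabilizer G a :=
    sup_le (fun _ => Uz_fix) (zpowers_le.2 h.bt.2.1)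
  have hEA : Uz Z C{y} a ⊔ zpowers y ≤ C[Az Z C{y} a] :=
    sup_le (fun x hx => mem_C.2 fun u hu => (h.pl.centA x hx u hu).symm) (zpowers_le.2 h.y_cent_A)
  have hAE : Az Z C{y} a ≤ Uz Z C{y} a ⊔ zpowers y := (h.pl.A_le_U h.ze).trans le_sup_left
  obtain ⟨s, h1, h2⟩ := h.sm.pb_gen (j := 2) h.A_sub hE2 hEa hEA fun z hz hzA => by
    have k0 : ∀ x ∈ (Uz Z C{y} a ⊔ zpowers y) ⊓ C{z}, ¬ Wide Ω x := fun x hx hw =>
      hzA ((h.Az_eq_of_max hm hw (hEa hx.1) (hEA hx.1)).2.le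
        (mem_Az ⟨hz.1, mem_C1.2 (mem_C1.1 hx.2).symm, hz.2.2⟩))
    have k1 : ((Uz Z C{y} a ⊔ zpowers y) ⊓ C{z}) ⊓ Ker C{y} a = ⊥ :=
      (hE2.of_le (inf_le_left.trans inf_le_left)).eq_bot (odd_iff_isPi.1
        (odd_of_no_inv fun x hx hi => k0 x hx.1 (wide_of_fix hi h.pl.ta.symm (Ker_fix hx.2)
          (Ker_smul hx.2 (h.pl.b_mem h.ze)))))
    have k2 : ∀ x ∈ (Uz Z C{y} a ⊔ zpowers y) ⊓ C{z}, x ∈ AN Z C{y} a → x ∈ Az Z C{y} a ⊓ C{z} :=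
      fun x hx hx' => by
        refine ⟨?_, hx.2⟩
        have e1 : x * x = 1 := k1.le ⟨mul_mem hx hx, h.pl.sq_of_AN h.ze hx'⟩
        obtain ⟨u, hu, n, hn, rfl⟩ := (h.pl.mem_AN h.ze).1 hx'
        by_cases n1 : n = 1
        · simpa [n1] using hu
        have e2 := h.pl.L_cent h.ze (Az_le_Lz _ _ _ hu) hn
        have e3 : Wide Ω n := wide_of_fix ⟨n1, by
          rw [← e1, mul_assoc, ← mul_assoc n, ← e2, ← mul_assoc, ← mul_assoc, h.pl.A_sq h.ze hu,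
            one_mul]⟩ h.pl.ta.symm (Ker_fix hn) (Ker_smul hn (h.pl.b_mem h.ze))
        rcases (h.pl.memA u).1 hu with rfl | hu'
        · exact absurd ((one_mul n).symm ▸ e3) (k0 _ hx)
        · exact absurd (e2 ▸ h.sm.wide_mul e3 hu'.1 e2) (k0 _ hx)
    have k3 : ∀ x ∈ Uz Z C{y} a ⊔ zpowers y, ∃ x' ∈ Uz Z C{y} a, x * x = x' * x' ∧
        x'⁻¹ * x ∈ Ker C{y} a := fun x hx => by
      rcases h.mem_sup_y hUY hx with e | ⟨u, hu, rfl⟩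
      · exact ⟨x, e, rfl, by simp⟩
      · refine ⟨u, hu, ?_, by simpa using h.y_mem_Ker⟩
        rw [mul_assoc, ← mul_assoc y, ← mem_C1.1 (hUY hu), mul_assoc, h.bt.1.1.2, mul_one]
    generalize Az Z C{y} a ⊓ C{z} = B at k2
    generalize hC : (Uz Z C{y} a ⊔ zpowers y) ⊓ C{z} = C0 at k2
    have k4 : C0 ≤ Uz Z C{y} a ⊔ zpowers y := hC ▸ inf_le_left
    have k5 : ∀ x ∈ C0, x * x ∈ B := fun x hx => k2 _ (mul_mem hx hx) (by
      obtain ⟨x', h1, h2, -⟩ := k3 x (k4 hx)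
      exact h2 ▸ h.pl.sqU x' h1)
    have k6 : ∀ x ∈ C0, ∀ w ∈ C0, x * x = w * w → w⁻¹ * x ∈ B := fun x hx w hw e =>
      k2 _ (mul_mem (inv_mem hw) hx) (by
        obtain ⟨x', h1, h2, h3⟩ := k3 x (k4 hx)
        obtain ⟨w', h4, h5, h6⟩ := k3 w (k4 hw)
        have h7 := h.pl.sq_inj h.ze hi (inv_mem h4) (inv_mem h1) (by
          rw [← mul_inv_rev w', ← mul_inv_rev x', ← h2, ← h5, e, mul_inv_cancel]; exact one_mem _)
        have := mul_mem (mul_mem (mem_sup_right (inv_mem h6)) h7) (mem_sup_right h3)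
        rwa [show (w'⁻¹ * w)⁻¹ * (w'⁻¹ * x'⁻¹⁻¹) * (x'⁻¹ * x) = w⁻¹ * w' * w'⁻¹ * x by group,
          mul_inv_cancel_right] at this)
    classical
    let r : G → G := fun w => Classical.epsilon fun x => x ∈ C0 ∧ x * x = w
    have hr : ∀ x ∈ C0, r (x * x) ∈ C0 ∧ r (x * x) * r (x * x) = x * x := fun x hx =>
      Classical.epsilon_spec (p := fun x' => x' ∈ C0 ∧ x' * x' = x * x) ⟨x, hx, rfl⟩
    rw [pow_two, ← Nat.card_prod]
    refine Nat.card_le_card_of_injective (fun x : C0 => ((⟨_, k5 x x.2⟩,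
      ⟨_, k6 x x.2 _ (hr x x.2).1 (hr x x.2).2.symm⟩) : B × B)) fun x w e => Subtype.ext ?_
    have e1 : (x : G) * x = w * w := congrArg (fun p : B × B => (p.1 : G)) e
    have e2 : (r (x * x))⁻¹ * (x : G) = (r (w * w))⁻¹ * w := congrArg (fun p : B × B => (p.2 : G)) e
    rwa [e1, mul_right_inj] at e2
  refine ⟨s, le_trans ?_ h1, h.dvd_mu_sub hμ h2⟩
  have h3 := h.pl.relIndex_U h.ze
  have hN := (Ker_nml C{y} a).norm
  rw [hi, ← relIndex_sup_of_norm (hUY.trans hN)] at h3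
  rw [← card_inf_mul_relIndex (Ker C{y} a), ← h3, ← relIndex_sup_of_norm
    ((sup_le hUY (zpowers_le.2 (mem_C1.2 rfl))).trans hN), sup_comm (Uz Z C{y} a), ← sup_assoc,
    sup_eq_left.2 (zpowers_le.2 h.y_mem_Ker), ← h.bt.1.1.card_zpowers]
  exact Nat.mul_le_mul_right _ (card_le (le_inf (zpowers_le.2 h.y_mem_Ker) le_sup_left))

theorem ker_two (hi : i ≠ 3) : IsPi {2} (Ker C{y} a) := fun r hr hd => by
  by_contra h2
  obtain ⟨x, hx, ho⟩ := exists_orderOf_eq hr hd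
  have x1 : x = 1 := h.sm.faithful fun c => by
    by_cases hc : y • c = c
    · exact (h.mem_Ker.1 hx).2 c hc
    obtain ⟨s, hs, h1, h3⟩ := h.exists_s hc
    obtain ⟨c0, t1, t2, h4, p1, p2, -⟩ := h.mul_Z hs h1
    have h5 : x ∈ C{y * s} := mem_C1.2 (by
      rw [← mul_assoc, (h.mem_Ker.1 hx).1, mul_assoc, mul_assoc,
        h.pl.centN s hs (mem_C1.2 h1) x hx])
    have h6 := (h.mem_Ker.1 hx).2 c0 p1.bt.2.1
    obtain ⟨c1, k1, k2, k3⟩ := p2.pl.fix_second h.ze hr h2 (piElt_of_orderOf_prime hr ho).isPi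
      (zp_le_N (norm_self _ h5)) (zpowers_le.2 h6)
    refine (p2.mem_Ker.1 (p2.pl.st1' h.ze hi h5 h6 k1 k2 (k3 (mem_zpowers x)) ?_)).2 c h3
    rw [p1.Az_mul (mem_Az ⟨hs, mem_C1.2 h1, h4⟩)]
    exact mem_C.2 fun u hu => h.pl.L_cent h.ze (Az_le_Lz _ _ _ hu) hx
  rw [x1, orderOf_one] at ho
  exact Nat.not_prime_one (ho ▸ hr)

/-- for maximal `q`, every wide involution at `a` centralising `A` is of the same kind -/
theorem of_max (hm : Mx Ω Z d) (hv : Wide Ω v) (hva : v • a = a) (hA : v ∈ C[Az Z C{y} a])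
    (hb : v • b = b) (hba : b ≠ a) :
    Az Z C{v} a = Az Z C{y} a ∧ ∃ t', t' • a = b ∧ Bt Z v a t' d i := by
  obtain ⟨h1, h2⟩ := h.Az_eq_of_max hm hv hva hA
  obtain ⟨t', d', i', e, p⟩ := h.cl.exists_Bt' h1 hb hba
  obtain rfl : d' = d := Nat.pow_right_injective le_rfl (p.pl.cardA.symm.trans (h2 ▸ h.pl.cardA))
  obtain rfl := h.same_i p
  exact ⟨h2, t', e, p⟩

/-- for maximal `q`, an involution centralising `A` and fixing all points of `Fix y` fixes no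
other point -/
theorem fix_eq_of_max (hm : Mx Ω Z d) (hv : Inv v) (hA : v ∈ C[Az Z C{y} a])
    (hf : ∀ c : Ω, y • c = c → v • c = c) (hc : v • c = c) : y • c = c := by
  have h1 := hf a h.bt.2.1
  have h2 := hf _ h.fix_b
  obtain ⟨-, t', -, p⟩ := h.of_max hm (wide_of_fix hv h.pl.ta.symm h1 h2) h1 hA h2 h.pl.ta
  exact (Set.eq_of_subset_of_ncard_le (s := {c : Ω | y • c = c}) (t := {c : Ω | v • c = c}) hf
    (p.ncard_fix.trans h.ncard_fix.symm).le (Set.toFinite _)).ge hc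

end Bt

end ZD
end H6
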