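import Mathlib
import Cfsg.Agent.H6.ZN
import Cfsg.Agent.H3.B71D
import Cfsg.Agent.H16.Orbits

/-! Aschbacher's criterion: unitary planes. -/

set_option autoImplicit false
set_option linter.unusedSectionVars false
set_option linter.unusedVariables false

namespace H6
namespace ZD

open H24 H3.B71 Subgroup MulAction

variable {G Ω : Type*} [Group G] [Finite G] [MulAction G Ω] [Finite Ω] {Z : Set G}

namespace C0

/-- the elements of `U` centralised by `g` modulo `B` -/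
def CM (g : G) (U B : Subgroup G) (h : U ≤ N[B]) : Subgroup G where
  carrier := {x | x ∈ U ∧ g * x * g⁻¹ * x⁻¹ ∈ B}
  one_mem' := ⟨U.one_mem, by simp⟩
  mul_mem' := fun {x y} hx hy => ⟨U.mul_mem hx.1 hy.1, by
    rw [show g * (x * y) * g⁻¹ * (x * y)⁻¹ =
      g * x * g⁻¹ * x⁻¹ * (x * (g * y * g⁻¹ * y⁻¹) * x⁻¹) by group]
    exact B.mul_mem hx.2 (conj_mem (h hx.1) hy.2)⟩
  inv_mem' := fun {x} hx => ⟨U.inv_mem hx.1, by
    rw [show g * x⁻¹ * g⁻¹ * x⁻¹⁻¹ = x⁻¹ * (g * x * g⁻¹ * x⁻¹)⁻¹ * x by group]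
    exact conj_mem' (h hx.1) (B.inv_mem hx.2)⟩

theorem mem_N_CM {g k : G} {U B : Subgroup G} (h : U ≤ N[B]) (hU : k ∈ N[U]) (hB : k ∈ N[B])
    (hgU : g ∈ N[U]) (e : g * k * g⁻¹ * k⁻¹ ∈ C[U]) : k ∈ N[CM g U B h] :=
  mem_N_of_finite fun x hx => ⟨conj_mem hU hx.1, by
    have h1 := mem_C.mp e _ (conj_mem hU (conj_mem hgU hx.1))
    have h2 : g * (k * x * k⁻¹) * g⁻¹ = k * (g * x * g⁻¹) * k⁻¹ := by
      calc _ = (g * k * g⁻¹ * k⁻¹) * (k * (g * x * g⁻¹) * k⁻¹) * (g * k * g⁻¹ * k⁻¹)⁻¹ := by group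
        _ = _ := by rw [← h1]; group
    rw [h2, show k * (g * x * g⁻¹) * k⁻¹ * (k * x * k⁻¹)⁻¹ = k * (g * x * g⁻¹ * x⁻¹) * k⁻¹ by group]
    exact conj_mem hB hx.2⟩

theorem cs_mul {K : Subgroup G} {x y : G} (hx : x ∈ N[K]) (hy : y ∈ N[K]) :
    cs K (x * y) = cs K x * cs K y := ap_mul _ hx hy

theorem cs_inv {K : Subgroup G} {x : G} (hx : x ∈ N[K]) : cs K x⁻¹ = (cs K x)⁻¹ := ap_inv _ hx

theorem cs_pow {K : Subgroup G} {x : G} (hx : x ∈ N[K]) (n : ℕ) : cs K (x ^ n) = cs K x ^ n :=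
  ap_pow _ hx n

theorem cs_comm {K : Subgroup G} {x y z : G} (hx : x ∈ N[K]) (hy : y ∈ N[K]) (hz : z ∈ N[K]) :
    x * y * x⁻¹ * z⁻¹ ∈ K ↔ cs K x * cs K y * (cs K x)⁻¹ = cs K z := by
  rw [← cs_eq_one (mul_mem (mul_mem (mul_mem hx hy) (inv_mem hx)) (inv_mem hz)),
    cs_mul (mul_mem (mul_mem hx hy) (inv_mem hx)) (inv_mem hz),
    cs_mul (mul_mem hx hy) (inv_mem hx), cs_mul hx hy, cs_inv hx, cs_inv hz, mul_inv_eq_one]

theorem exists_comm_mod {g : G} {U B : Subgroup G} {n : ℕ} (hg : g ^ 2 ^ n = 1) (hU : IsPi {2} U)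
    (hUB : U ≤ N[B]) (hgU : g ∈ N[U]) (hgB : g ∈ N[B]) (h : ¬ U ≤ B) :
    ∃ x ∈ U, x ∉ B ∧ g * x * g⁻¹ * x⁻¹ ∈ B := by
  obtain ⟨z, hz, h1⟩ := exists_ne_one (IsPi.inf_C_ne_bot Nat.prime_two
    ((piElt_of_pow_eq_one (piNat_self_pow Nat.prime_two n) hg).isPi.quo B) (hU.quo B)
    (quo_norm B (zp_le_N hgU)) fun e => h ((quo_eq_bot hUB).mp e))
  obtain ⟨x, hx, hxN, rfl⟩ := mem_quo.mp hz.1
  refine ⟨x, hx, fun e => h1 (cs_of_mem e), (cs_comm hgB hxN hxN).mpr ?_⟩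
  rw [mem_C.mp hz.2 _ (cs_mem_quo (mem_zpowers g) hgB), mul_inv_cancel_right]

theorem mem_of_pow_mem {x : G} {T : Subgroup G} {m n : ℕ} (h1 : x ^ m ∈ T) (h2 : x ^ n ∈ T)
    (hc : m.Coprime n) : x ∈ T := by
  have e : x = (x ^ m) ^ m.gcdA n * (x ^ n) ^ m.gcdB n := by
    rw [← zpow_natCast, ← zpow_natCast, ← zpow_mul, ← zpow_mul, ← zpow_add, ← Nat.gcd_eq_gcd_ab, hc]
    simp
  rw [e]
  exact mul_mem (zpow_mem h1 _) (zpow_mem h2 _)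

theorem zp_smul {g : G} {S : Set Ω} (h : ∀ c ∈ S, g • c ∈ S) : ∀ x ∈ zpowers g, ∀ c ∈ S, x • c ∈ S := by
  intro x hx c hc
  obtain ⟨n, rfl⟩ := (mem_powers_iff_mem_zpowers.mpr hx)
  induction n with
  | zero => simpa using hc
  | succ n ih =>
    show (g ^ (n + 1)) • c ∈ S
    rw [pow_succ', mul_smul]
    exact h _ (ih (pow_mem (mem_zpowers g) n))

theorem dvd_of_sub_one_dvd {d m : ℕ} (h : 2 ^ d - 1 ∣ 2 ^ m - 1) : d ∣ m := by
  have e := Nat.pow_sub_one_gcd_pow_sub_one 2 d m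
  rw [Nat.gcd_eq_left h] at e
  have h1 : 0 < 2 ^ d := by positivity
  have h2 : 0 < 2 ^ d.gcd m := by positivity
  have := Nat.pow_right_injective (le_refl 2) (show 2 ^ d = 2 ^ d.gcd m by omega)
  rw [this]; exact Nat.gcd_dvd_right _ _

theorem relIndex_le_two_of {N X : Subgroup G} (h : ∀ x ∈ X, ∀ y ∈ X, x ∉ N → y ∉ N → x * y ∈ N) :
    N.relIndex X ≤ 2 := by
  by_cases e : X ≤ N
  · rw [relIndex_eq_one.mpr e]; norm_num
  obtain ⟨x, hx, hxN⟩ := SetLike.not_le_iff_exists.mp e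
  refine (index_eq_two_iff.mpr ⟨⟨x, hx⟩, fun b => ?_⟩).le
  by_cases hb : (b : G) ∈ N
  · exact Or.inr ⟨hb, fun e => hxN ((N.mul_mem_cancel_left hb).mp e)⟩
  · exact Or.inl ⟨h b b.2 x hx hb hxN, hb⟩

section

variable {Y X V W : Subgroup G} {a c : Ω} {t g x : G} {d i : ℕ} (h : ZE Ω Z) (pl : Pl Z Y a t d i)
include h pl

theorem U_le : Uz Z Y a ≤ Y := (Uz_le_Lz Z Y a).trans (Lz_le Z Y)

theorem U_N_AN : Uz Z Y a ≤ N[AN Z Y a] := fun x hx =>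
  pl.norm_AN h (norm_self Y (U_le h pl hx)) (Uz_fix hx)

theorem U_N_Ker : Uz Z Y a ≤ N[Ker Y a] := (U_le h pl).trans (Ker_nml Y a).norm

theorem Ker_C_U : Ker Y a ≤ C[Uz Z Y a] := fun n hn =>
  mem_C.mpr fun x hx => pl.L_cent h (Uz_le_Lz Z Y a hx) hn

theorem ncard_Orb_U (hV : V ≤ Uz Z Y a) : (Orb V (t • a)).ncard = (Ker Y a).relIndex V := by
  rw [ncard_Orb, ← inf_relIndex_right, ← inf_relIndex_right (Ker Y a)]
  congr 1
  ext x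
  exact ⟨fun hx => ⟨pl.free x (hV hx.2) _ (pl.b_mem h) pl.ta hx.1, hx.2⟩,
    fun hx => ⟨Ker_smul hx.1 (pl.b_mem h), hx.2⟩⟩

theorem ncard_Orb_A : (Orb (Az Z Y a) (t • a)).ncard = 2 ^ d := by
  rw [ncard_Orb_U h pl (pl.A_le_U h), ← pl.cardA, ← card_inf_mul_relIndex (Ker Y a), inf_comm,
    pl.A_inf_Ker h, card_bot, one_mul]

theorem ne_a (hx : x ∈ Uz Z Y a) : x • t • a ≠ a := fun e =>
  pl.ta (by rwa [← Uz_fix hx, smul_left_cancel_iff, Uz_fix hx] at e)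

theorem ncard_blk : {c | c = a ∨ ∃ u ∈ Az Z Y a, c = u • t • a}.ncard = 2 ^ d + 1 := by
  rw [← ncard_Orb_A h pl, ← Set.ncard_insert_of_notMem (a := a) (s := Orb (Az Z Y a) (t • a))
    (fun ⟨u, hu, e⟩ => ne_a h pl (pl.A_le_U h hu) e)]
  congr 1
  ext c
  exact or_congr_right ⟨fun ⟨u, hu, e⟩ => ⟨u, hu, e.symm⟩, fun ⟨u, hu, e⟩ => ⟨u, hu, e.symm⟩⟩

theorem r_AN : (Ker Y a).relIndex (Uz Z Y a ⊓ AN Z Y a) = 2 ^ d := by
  have h1 := relIndex_inf_mul_relIndex (Ker Y a) (AN Z Y a) (Uz Z Y a)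
  rw [inf_of_le_left (a := Ker Y a) (b := AN Z Y a) le_sup_right, pl.relIndex_U h, ← pl.relIndex_AN h,
    inf_comm, mul_comm] at h1
  exact Nat.eq_of_mul_eq_mul_left (relIndex_pos _ _) h1

theorem eq_of_r (h1 : Uz Z Y a ⊓ AN Z Y a ≤ V) (h2 : V ≤ W) (h3 : W ≤ Uz Z Y a)
    (e : (Ker Y a).relIndex W ≤ (Ker Y a).relIndex V) : V = W := by
  refine eq_of_card_ge h2 ?_
  rw [← card_inf_mul_relIndex (Ker Y a) V, ← card_inf_mul_relIndex (Ker Y a) W]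
  exact Nat.mul_le_mul (card_le fun x hx => ⟨hx.1, h1 ⟨h3 hx.2, mem_sup_right hx.1⟩⟩) e

theorem exists_r (hV : V ≤ Uz Z Y a) (hK : Kz Z Y a t ≤ N[V]) :
    ∃ m ≤ i, (Ker Y a).relIndex V = (2 ^ d) ^ m := by
  have h1 := relIndex_dvd_of_le_pi Nat.prime_two (pl.U_two h) hV (Ker Y a)
  rw [pl.relIndex_U h, ← pow_mul] at h1
  obtain ⟨m, hm, e⟩ := (Nat.dvd_prime_pow Nat.prime_two).mp h1
  have h2 := H16.card_dvd_ncard_of_semiregular (Kz Z Y a t) (Orb V (t • a) \ {t • a})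
    (Set.toFinite _) (fun k hk c hc => ⟨smul_mem_Orb' (hK hk) (pl.K_fixb h hk) hc.1, fun e =>
      hc.2 (by rwa [Set.mem_singleton_iff, ← pl.K_fixb h hk, smul_left_cancel_iff] at e)⟩) (fun k hk c hc e => by
      by_contra h1
      obtain ⟨⟨x, hx, rfl⟩, hc⟩ := hc
      exact (pl.fix3 k hk h1 _ (smul_mem_Orb (U_le h pl (hV hx)) (pl.b_mem h)) e).elim
        (ne_a h pl (hV hx)) hc)
  rw [Set.ncard_sdiff_singleton_of_mem (mem_Orb_self _ _), ncard_Orb_U h pl hV, e,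
    Nat.eq_sub_of_add_eq pl.cardK] at h2
  obtain ⟨j, rfl⟩ := dvd_of_sub_one_dvd h2
  exact ⟨j, Nat.le_of_mul_le_mul_left hm (by have := pl.two_le; omega), by rw [e, pow_mul]⟩

theorem not_U_le (hi : i ≠ 1) : ¬ Uz Z Y a ≤ AN Z Y a := fun e => by
  have h1 := pl.relIndex_AN h
  rw [relIndex_eq_one.mpr e, one_mul] at h1
  have := pl.four_le h
  exact hi (Nat.pow_right_injective (by omega : 2 ≤ 2 ^ d) (h1.symm.trans (pow_one _).symm))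

end

theorem chain {Y V : Subgroup G} {a : Ω} {t : G} {d : ℕ} (h : ZE Ω Z) (pl : Pl Z Y a t d 3)
    (h1 : Uz Z Y a ⊓ AN Z Y a ≤ V) (h2 : V ≤ Uz Z Y a) (hK : Kz Z Y a t ≤ N[V]) :
    V ≤ AN Z Y a ∨ (Ker Y a).relIndex V = (2 ^ d) ^ 2 ∨ V = Uz Z Y a := by
  obtain ⟨m, hm, e⟩ := exists_r h pl h2 hK
  have := pl.four_le h
  by_cases h3 : m ≤ 1
  · refine Or.inl (eq_of_r h pl le_rfl h1 h2 ?_ ▸ inf_le_right)
    rw [e, r_AN h pl]
    exact (Nat.pow_le_pow_right (by omega) h3).trans (pow_one _).le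
  by_cases h4 : m = 2
  · exact Or.inr (Or.inl (h4 ▸ e))
  · exact Or.inr (Or.inr (eq_of_r h pl h1 h2 le_rfl (by
      rw [e, pl.relIndex_U h, show m = 3 by omega])))

end C0

open C0

namespace Pl

variable {Y X V : Subgroup G} {a c : Ω} {t g x ω : G} {d p : ℕ}
  (h : ZE Ω Z) (pl : Pl Z Y a t d 3) (o : Om Z Y a t d ω p)
include h pl o

theorem om_odd : p ≠ 2 ∧ ¬ p ∣ 2 ^ d - 1 := by
  have h1 : p ≠ 2 := by
    rintro rfl
    have := (Nat.dvd_add_right (dvd_pow_self 2 (by have := pl.two_le; omega))).mp o.dvd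
    omega
  refine ⟨h1, fun e => h1 ((Nat.prime_dvd_prime_iff_eq o.prime Nat.prime_two).mp ?_)⟩
  have := pl.four_le h
  exact (Nat.dvd_add_right e).mp (by rw [show 2 ^ d - 1 + 2 = 2 ^ d + 1 by omega]; exact o.dvd)

theorem om_fixb : ω • t • a = t • a := comm_fix o.ct o.fixa

theorem om_not_mem : ω ∉ Ker Y a := fun e => by
  have h1 := Set.ncard_le_ncard (s := Orb Y a)
    (t := {c | c = a ∨ ∃ u ∈ Az Z Y a, c = u • t • a}) (fun c hc => o.fix c hc (Ker_smul e hc))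
  rw [ncard_blk h pl, pl.card] at h1
  have := pl.four_le h
  have := Nat.pow_lt_pow_right (by omega : 1 < 2 ^ d) (by norm_num : 1 < 3)
  rw [pow_one] at this
  omega

theorem om_cent_K : ω ∈ C[Kz Z Y a t] := mem_C_iff_le_C1.mpr ((pl.K_le_gen h).trans
  (sup_le (fun u hu => mem_C1.mpr (o.cA u hu).symm) (zpowers_le.mpr (mem_C1.mpr o.ct.symm))))

theorem om_pi : IsPi {p} (zpowers ω) := by
  obtain ⟨j, hj⟩ := o.pel
  exact (piElt_of_pow_eq_one (piNat_self_pow o.prime j) hj).isPi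

theorem om_N_U : ω ∈ N[Uz Z Y a] := norm_Uz h (norm_self Y (Lz_le Z Y o.memL)) o.fixa

theorem om_N_AN : ω ∈ N[AN Z Y a] := pl.norm_AN h (norm_self Y (Lz_le Z Y o.memL)) o.fixa

theorem om_not_dvd (n : ℕ) : ¬ p ∣ 2 ^ n := fun e => (pl.om_odd h o).1
  ((Nat.prime_dvd_prime_iff_eq o.prime Nat.prime_two).mp (o.prime.dvd_of_dvd_pow e))

theorem om_fpf (hx : x ∈ Uz Z Y a) (e : ω * x * ω⁻¹ * x⁻¹ ∈ AN Z Y a) : x ∈ AN Z Y a := by
  have hb := pl.b_mem h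
  obtain ⟨c, ⟨_, ⟨u, hu, rfl⟩, rfl⟩, hc⟩ := exists_fix_of_not_dvd
    (S := (fun c => x • c) '' Orb (Az Z Y a) (t • a)) o.prime (pl.om_pi h o) (zp_smul (by
      rintro _ ⟨_, ⟨u, hu, rfl⟩, rfl⟩
      obtain ⟨u', hu', n, hn, e1⟩ := (pl.mem_AN h).mp (conj_mem' (U_N_AN h pl hx) e)
      refine ⟨_, ⟨u' * u, mul_mem hu' hu, rfl⟩, ?_⟩
      have e2 : ω * x = x * (u' * n) * ω := by rw [← e1]; group
      show x • (u' * u) • t • a = ω • x • u • t • a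
      rw [← mul_smul ω, e2, mul_smul, mul_smul, mul_smul, comm_fix (o.cA u hu) (pl.om_fixb h o),
        mul_smul, Ker_smul hn (smul_mem_Orb (Az_le Z Y a hu) hb)]))
    (by rw [Set.ncard_image_of_injective _ (MulAction.injective x), ncard_Orb_A h pl]
        exact pl.om_not_dvd h o d)
  have hxu := mul_mem hx (pl.A_le_U h hu)
  rcases o.fix _ (smul_mem_Orb (U_le h pl hxu) hb) (by
    rw [mul_smul]; exact hc (mem_zpowers ω)) with e1 | ⟨u', hu', e1⟩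
  · exact absurd e1 (ne_a h pl hxu)
  · have := pl.free _ (mul_mem (inv_mem (pl.A_le_U h hu')) hxu) _ hb pl.ta
      (by rw [mul_smul, e1, inv_smul_smul])
    rw [show x = u' * (u'⁻¹ * (x * u)) * u⁻¹ by group]
    exact mul_mem (mul_mem (mem_sup_left hu') (mem_sup_right this)) (inv_mem (mem_sup_left hu))

theorem om_irr (h1 : Uz Z Y a ⊓ AN Z Y a ≤ V) (h2 : V ≤ Uz Z Y a) (hK : Kz Z Y a t ≤ N[V])
    (hω : ω ∈ N[V]) : V ≤ AN Z Y a ∨ V = Uz Z Y a := by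
  rcases chain h pl h1 h2 hK with e | e | e
  · exact Or.inl e
  · exfalso
    have h3 := ncard_modEq (S := Orb V (t • a)) o.prime (pl.om_pi h o)
      (zp_smul fun c hc => smul_mem_Orb' hω (pl.om_fixb h o) hc)
    rw [show {c ∈ Orb V (t • a) | zpowers ω ≤ stabilizer G c} = Orb (Az Z Y a) (t • a) from
      Set.ext fun c => ⟨fun ⟨⟨x, hx, e1⟩, hc⟩ => by
        subst e1
        obtain ⟨u, hu, e1⟩ := (o.fix _ (smul_mem_Orb (U_le h pl (h2 hx)) (pl.b_mem h))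
          (hc (mem_zpowers ω))).resolve_left (ne_a h pl (h2 hx))
        exact ⟨u, hu, e1.symm⟩, fun ⟨u, hu, e1⟩ => ⟨⟨u, h1 ⟨pl.A_le_U h hu, mem_sup_left hu⟩, e1⟩,
          zpowers_le.mpr (e1 ▸ comm_fix (o.cA u hu) (pl.om_fixb h o))⟩⟩,
      ncard_Orb_A h pl, ncard_Orb_U h pl h2, e] at h3
    have h4 := (Nat.modEq_iff_dvd' (Nat.le_self_pow two_ne_zero _)).mp h3.symm
    rw [pow_two, ← Nat.mul_sub_one] at h4
    exact ((Nat.Prime.dvd_mul o.prime).mp h4).elim (pl.om_not_dvd h o d) (pl.om_odd h o).2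
  · exact Or.inr e

theorem cent_U_mod {n : ℕ} (hg : g ∈ Y) (h2 : g ^ 2 ^ n = 1) (ha : g • a = a)
    (hb : g • t • a = t • a) (hA : g ∈ C[Az Z Y a]) {B : Subgroup G} (hB : Uz Z Y a ≤ N[B])
    (hK : Kz Z Y a t ≤ N[B]) : Kz Z Y a t ≤ N[CM g (Uz Z Y a) B hB] := fun k hk =>
  mem_N_CM hB (norm_Uz h (norm_self Y (Kz_le Z Y a t hk)) (Kz_fix hk)) (hK hk)
    (norm_Uz h (norm_self Y hg) ha) (by
      rw [← mem_C.mp (pl.cent_K h (norm_self Y hg) ha hb hA) k hk]; simp)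

theorem comm_AN (hg : g ∈ Y) (hA : g ∈ C[Az Z Y a]) (hx : x ∈ AN Z Y a) :
    g * x * g⁻¹ * x⁻¹ ∈ Ker Y a := by
  obtain ⟨u, hu, n, hn, rfl⟩ := (pl.mem_AN h).mp hx
  rw [← mul_assoc, ← mem_C.mp hA u hu, show u * g * n * g⁻¹ * (u * n)⁻¹ =
    u * (g * n * g⁻¹ * n⁻¹) * u⁻¹ by group]
  exact (Ker_nml Y a).conj_mem (Az_le Z Y a hu) (mul_mem ((Ker_nml Y a).conj_mem hg hn) (inv_mem hn))

theorem K_N_AN : Kz Z Y a t ≤ N[AN Z Y a] := fun k hk =>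
  pl.norm_AN h (norm_self Y (Kz_le Z Y a t hk)) (Kz_fix hk)

/-- W2c (i) -/
theorem mem_Ker_of_comm (hg : g ∈ Y) {n : ℕ} (h2 : g ^ 2 ^ n = 1) (ha : g • a = a)
    (hb : g • t • a = t • a) (hA : g ∈ C[Az Z Y a]) (e : g * ω * g⁻¹ * ω⁻¹ ∈ Ker Y a) :
    g ∈ Ker Y a := by
  have hgU := norm_Uz h (norm_self Y hg) ha
  have hK := Ker_nml Y a
  obtain ⟨x, hx, hx1, hx2⟩ := exists_comm_mod h2 (pl.U_two h) (U_N_AN h pl) hgU
    (pl.norm_AN h (norm_self Y hg) ha) (not_U_le h pl (by norm_num))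
  have hω := hK.norm (Lz_le Z Y o.memL)
  have h3 := (pl.om_irr h o (V := CM g _ _ (U_N_Ker h pl))
    (fun x hx => ⟨hx.1, pl.comm_AN h o hg hA hx.2⟩) (fun x hx => hx.1)
    (pl.cent_U_mod h o hg h2 ha hb hA _ ((Kz_le Z Y a t).trans hK.norm))
    (mem_N_CM _ (pl.om_N_U h o) hω hgU (Ker_C_U h pl e))).resolve_left fun e1 => by
      refine hx1 (pl.om_fpf h o hx (e1 ⟨mul_mem (conj_mem (pl.om_N_U h o) hx) (inv_mem hx), ?_⟩))
      obtain ⟨u, hu, m, hm, e2⟩ := (pl.mem_AN h).mp hx2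
      have e3 : g * x * g⁻¹ = u * m * x := by rw [← e2]; group
      have hN : ∀ y ∈ Y, y ∈ N[Ker Y a] := fun y hy => hK.norm hy
      have hxY := U_le h pl hx
      have huY := Az_le Z Y a hu
      have hωY := Lz_le Z Y o.memL
      have f1 := (cs_comm (hN g hg) hω hω).mp e
      have f2 : cs (Ker Y a) g * cs (Ker Y a) x * (cs (Ker Y a) g)⁻¹ =
          cs (Ker Y a) u * cs (Ker Y a) x := by
        rw [← cs_inv (hN g hg), ← cs_mul (hN g hg) (hN x hxY),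
          ← cs_mul (mul_mem (hN g hg) (hN x hxY)) (inv_mem (hN g hg)), e3,
          cs_mul (mul_mem (hN u huY) (norm_self _ hm)) (hN x hxY),
          cs_mul (hN u huY) (norm_self _ hm), cs_of_mem hm, mul_one]
      have f3 : cs (Ker Y a) ω * cs (Ker Y a) u = cs (Ker Y a) u * cs (Ker Y a) ω := by
        rw [← cs_mul hω (hN u huY), o.cA u hu, cs_mul (hN u huY) hω]
      have h5 := mul_mem (conj_mem (pl.om_N_U h o) hx) (inv_mem hx)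
      have h6 := hN _ (U_le h pl h5)
      have f4 : cs (Ker Y a) (ω * x * ω⁻¹ * x⁻¹) * cs (Ker Y a) u =
          cs (Ker Y a) u * cs (Ker Y a) (ω * x * ω⁻¹ * x⁻¹) := by
        rw [← cs_mul h6 (hN u huY), pl.centA _ h5 u hu, cs_mul (hN u huY) h6]
      rw [cs_comm (hN g hg) h6 h6]
      rw [cs_mul (mul_mem (mul_mem hω (hN x hxY)) (inv_mem hω)) (inv_mem (hN x hxY)),
        cs_inv (hN x hxY), cs_mul (mul_mem hω (hN x hxY)) (inv_mem hω), cs_mul hω (hN x hxY),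
        cs_inv hω] at f4 ⊢
      generalize cs (Ker Y a) g = g at *
      generalize cs (Ker Y a) ω = w at *
      generalize cs (Ker Y a) x = x at *
      generalize cs (Ker Y a) u = u at *
      calc _ = (g * w * g⁻¹) * (g * x * g⁻¹) * (g * w * g⁻¹)⁻¹ * (g * x * g⁻¹)⁻¹ := by group
        _ = (w * u) * x * w⁻¹ * x⁻¹ * u⁻¹ := by rw [f1, f2]; group
        _ = u * (w * x * w⁻¹ * x⁻¹) * u⁻¹ := by rw [f3]; group
        _ = _ := by rw [← f4]; group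
  refine ⟨hg, fun y hy => ?_⟩
  by_cases hya : y • a = a
  · rw [hya, ha]
  obtain ⟨x, hx, e1⟩ := pl.trans _ ⟨y, hy, rfl⟩ hya
  have h4 : g * x * g⁻¹ * x⁻¹ ∈ Ker Y a := (h3.ge hx).2
  rw [← e1, ← mul_smul, show g * x = g * x * g⁻¹ * x⁻¹ * x * g by group, mul_smul, hb, mul_smul]
  exact Ker_smul h4 (smul_mem_Orb (U_le h pl hx) (pl.b_mem h))

theorem comm_of_cent_V (hg : g ∈ Y) (ha : g • a = a) (hb : g • t • a = t • a)
    (e : ∀ x ∈ Uz Z Y a, g * x * g⁻¹ * x⁻¹ ∈ AN Z Y a) : g * ω * g⁻¹ * ω⁻¹ ∈ Ker Y a := by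
  let T : Subgroup G :=
    { carrier := {k | k ∈ N[AN Z Y a] ∧ k ∈ N[Uz Z Y a] ∧
        ∀ x ∈ Uz Z Y a, k * x * k⁻¹ * x⁻¹ ∈ AN Z Y a}
      one_mem' := ⟨one_mem _, one_mem _, fun x _ => by simp⟩
      mul_mem' := fun {k l} hk hl => ⟨mul_mem hk.1 hl.1, mul_mem hk.2.1 hl.2.1, fun x hx => by
        rw [show k * l * x * (k * l)⁻¹ * x⁻¹ =
          k * (l * x * l⁻¹ * x⁻¹) * k⁻¹ * (k * x * k⁻¹ * x⁻¹) by group]
        exact mul_mem (conj_mem hk.1 (hl.2.2 x hx)) (hk.2.2 x hx)⟩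
      inv_mem' := fun {k} hk => ⟨inv_mem hk.1, inv_mem hk.2.1, fun x hx => by
        rw [show k⁻¹ * x * k⁻¹⁻¹ * x⁻¹ = k⁻¹ * (k * x * k⁻¹ * x⁻¹)⁻¹ * k by group]
        exact conj_mem' hk.1 (inv_mem (hk.2.2 x hx))⟩ }
  have hNT : Ker Y a ≤ T := fun n hn => ⟨norm_self _ (mem_sup_right hn),
    C_le_N _ (Ker_C_U h pl hn), fun x hx => by
      rw [← mem_C.mp (Ker_C_U h pl hn) x hx]; simp⟩
  have hgT : g ∈ T := ⟨pl.norm_AN h (norm_self Y hg) ha, norm_Uz h (norm_self Y hg) ha, e⟩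
  have hωT : ω * g⁻¹ * ω⁻¹ ∈ T := by
    have h1 := inv_mem hgT
    refine ⟨conj_mem (mem_N_N (pl.om_N_AN h o)) h1.1, conj_mem (mem_N_N (pl.om_N_U h o)) h1.2.1,
      fun x hx => ?_⟩
    rw [show ω * g⁻¹ * ω⁻¹ * x * (ω * g⁻¹ * ω⁻¹)⁻¹ * x⁻¹ =
      ω * (g⁻¹ * (ω⁻¹ * x * ω) * g⁻¹⁻¹ * (ω⁻¹ * x * ω)⁻¹) * ω⁻¹ by group]
    exact conj_mem (pl.om_N_AN h o) (h1.2.2 _ (conj_mem' (pl.om_N_U h o) hx))
  obtain ⟨j, hj⟩ := o.norm g hg ha hb
  have hp := o.prime.pos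
  have e1 : g * ω * g⁻¹ * ω⁻¹ =
      g * ω * g⁻¹ * (ω ^ j)⁻¹ * (ω ^ (j + (p - 1)) * (ω ^ p)⁻¹) := by
    conv_rhs => rw [show ω ^ p = ω * ω ^ (p - 1) by rw [← pow_succ', Nat.sub_add_cancel hp], pow_add]
    group
  have h3 : ω ^ (j + (p - 1)) ∈ T := by
    have : g * ω * g⁻¹ * ω⁻¹ ∈ T := by simpa [mul_assoc] using mul_mem hgT hωT
    rwa [e1, T.mul_mem_cancel_left (hNT hj), T.mul_mem_cancel_right (inv_mem (hNT o.powK))] at this
  by_cases hd : p ∣ j + (p - 1)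
  · obtain ⟨m, hm⟩ := hd
    rw [e1, hm, pow_mul]
    exact mul_mem hj (mul_mem (pow_mem o.powK m) (inv_mem o.powK))
  · exact absurd (fun x hx => pl.om_fpf h o hx ((mem_of_pow_mem (hNT o.powK) h3
      ((Nat.Prime.coprime_iff_not_dvd o.prime).mpr hd)).2.2 x hx)) (not_U_le h pl (by norm_num))

theorem sq_mem_Ker (hg : g ∈ Y) {n : ℕ} (h2 : g ^ 2 ^ n = 1) (ha : g • a = a)
    (hb : g • t • a = t • a) (hA : g ∈ C[Az Z Y a]) : g * g ∈ Ker Y a := by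
  have hgU := norm_Uz h (norm_self Y hg) ha
  have hgA := pl.norm_AN h (norm_self Y hg) ha
  refine pl.mem_Ker_of_comm h o (mul_mem hg hg) (n := n) (by
      rw [(Commute.refl g).mul_pow, h2, one_mul]) (by rw [mul_smul, ha, ha])
    (by rw [mul_smul, hb, hb]) (mul_mem hA hA) (pl.comm_of_cent_V h o (mul_mem hg hg)
      (by rw [mul_smul, ha, ha]) (by rw [mul_smul, hb, hb]) fun x hx => ?_)
  set C1 := CM g _ _ (U_N_AN h pl)
  have h1 : Uz Z Y a ⊓ AN Z Y a ≤ C1 := fun x hx =>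
    ⟨hx.1, mem_sup_right (pl.comm_AN h o hg hA hx.2)⟩
  have hK1 : Kz Z Y a t ≤ N[C1] := pl.cent_U_mod h o hg h2 ha hb hA _ (pl.K_N_AN h o)
  have hU1 : Uz Z Y a ≤ N[C1] := le_N_iff.mpr fun y hy x hx => by
    rw [show y * x * y⁻¹ = y * x * y⁻¹ * x⁻¹ * x by group]
    exact mul_mem (h1 ⟨Subgroup.mul_mem _ (conj_mem (norm_self _ hy) hx.1) (Subgroup.inv_mem _ hx.1),
      pl.commU h hy hx.1⟩) hx
  suffices g * x * g⁻¹ * x⁻¹ ∈ C1 by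
    rw [show g * g * x * (g * g)⁻¹ * x⁻¹ = g * (g * x * g⁻¹ * x⁻¹) * g⁻¹ * (g * x * g⁻¹ * x⁻¹)⁻¹ *
      ((g * x * g⁻¹ * x⁻¹) * (g * x * g⁻¹ * x⁻¹)) by group]
    exact mul_mem this.2 (pl.sqU _ this.1)
  obtain ⟨x1, hx1, hx2, hx3⟩ := exists_comm_mod h2 (pl.U_two h) (U_N_AN h pl) hgU hgA
    (not_U_le h pl (by norm_num))
  by_cases e : Uz Z Y a ≤ C1
  · exact e (mul_mem (conj_mem hgU hx) (inv_mem hx))
  have hg1 : g ∈ N[C1] := mem_N_CM _ hgU hgA hgU (by simp)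
  obtain ⟨x2, hx4, hx5, hx6⟩ := exists_comm_mod h2 (pl.U_two h) hU1 hgU hg1 e
  have h12 : C1 ≤ CM g _ _ hU1 := fun x hx =>
    ⟨hx.1, h1 ⟨Subgroup.mul_mem _ (conj_mem hgU hx.1) (Subgroup.inv_mem _ hx.1), hx.2⟩⟩
  rcases chain h pl (h1.trans h12) (fun x hx => hx.1) (pl.cent_U_mod h o hg h2 ha hb hA _ hK1)
    with e1 | e1 | e1
  · exact absurd (e1 (h12 ⟨hx1, hx3⟩)) hx2
  · rcases chain h pl h1 (fun x hx => hx.1) hK1 with e2 | e2 | e2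
    · exact absurd (e2 ⟨hx1, hx3⟩) hx2
    · exact absurd ((eq_of_r h pl h1 h12 (fun x hx => hx.1) (by rw [e1, e2])).ge ⟨hx4, hx6⟩) hx5
    · exact absurd e2.ge e
  · exact (e1.ge hx).2

/-- W2c (ii) -/
theorem relIndex_le_two (hX : IsPi {2} X) (hXY : X ≤ Y) (ha : X ≤ stabilizer G a)
    (hb : X ≤ stabilizer G (t • a)) (hA : X ≤ C[Az Z Y a]) : (Ker Y a).relIndex X ≤ 2 := by
  have := Fact.mk o.prime
  obtain ⟨n, hn⟩ := hX.card_eq_pow Nat.prime_two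
  have h2 : ∀ g ∈ X, g ^ 2 ^ n = 1 := fun g hg => hn ▸ H21.pow_card_eq_one_of_mem hg
  have hN := hXY.trans (Ker_nml Y a).norm
  have hω := (Ker_nml Y a).norm (Lz_le Z Y o.memL)
  have ho : orderOf (cs (Ker Y a) ω) = p := orderOf_eq_prime
    (by rw [← cs_pow hω, cs_of_mem o.powK]) fun e => pl.om_not_mem h o ((cs_eq_one hω).mp e)
  have key : ∀ g ∈ X, g ∉ Ker Y a → cs (Ker Y a) g * cs (Ker Y a) ω * (cs (Ker Y a) g)⁻¹ =
      (cs (Ker Y a) ω)⁻¹ := fun g hg hgN => by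
    obtain ⟨j, hj⟩ := o.norm g (hXY hg) (ha hg) (hb hg)
    rw [cs_comm (hN hg) hω (pow_mem hω j), cs_pow hω] at hj
    have e1 := cs_of_mem (pl.sq_mem_Ker h o (hXY hg) (h2 g hg) (ha hg) (hb hg) (hA hg))
    rw [cs_mul (hN hg) (hN hg)] at e1
    have e2 : cs (Ker Y a) ω ^ (j * j) = cs (Ker Y a) ω ^ 1 := by
      rw [pow_mul, ← hj, conj_pow, ← hj, pow_one]
      calc _ = (cs (Ker Y a) g * cs (Ker Y a) g) * cs (Ker Y a) ω *
            (cs (Ker Y a) g * cs (Ker Y a) g)⁻¹ := by group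
        _ = _ := by rw [e1]; group
    rw [pow_eq_pow_iff_modEq, ho, ← ZMod.natCast_eq_natCast_iff] at e2
    push_cast at e2
    rcases mul_self_eq_one_iff.mp e2 with e3 | e3
    · refine absurd (pl.mem_Ker_of_comm h o (hXY hg) (h2 g hg) (ha hg) (hb hg) (hA hg)
        ((cs_comm (hN hg) hω hω).mpr ?_)) hgN
      rw [hj]
      conv_rhs => rw [← pow_one (cs (Ker Y a) ω)]
      rw [pow_eq_pow_iff_modEq, ho, ← ZMod.natCast_eq_natCast_iff, e3, Nat.cast_one]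
    · rw [hj, eq_inv_iff_mul_eq_one, ← pow_succ, ← orderOf_dvd_iff_pow_eq_one, ho,
        ← ZMod.natCast_eq_zero_iff]
      push_cast
      rw [e3, neg_add_cancel]
  refine relIndex_le_two_of fun x hx y hy h1 h3 => ?_
  have hxy := mul_mem hx hy
  refine pl.mem_Ker_of_comm h o (hXY hxy) (h2 _ hxy) (ha hxy) (hb hxy) (hA hxy)
    ((cs_comm (hN hxy) hω hω).mpr ?_)
  rw [cs_mul (hN hx) (hN hy)]
  calc _ = cs (Ker Y a) x * (cs (Ker Y a) y * cs (Ker Y a) ω * (cs (Ker Y a) y)⁻¹) *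
        (cs (Ker Y a) x)⁻¹ := by group
    _ = (cs (Ker Y a) x * cs (Ker Y a) ω * (cs (Ker Y a) x)⁻¹)⁻¹ := by rw [key y hy h3]; group
    _ = _ := by rw [key x hx h1, inv_inv]

end Pl

namespace Bt

variable {y t g e ω : G} {a b c : Ω} {d i μ p : ℕ}

theorem C0_num {q μ : ℕ} (hq : 4 ≤ q) (h1 : μ ∣ (q ^ 3 + 1) * (q - 1))
    (h2 : ∀ r, r.Prime → r ∣ μ → r ∣ q - 1 ∨ r ∣ q + 1) : μ ∣ Nat.gcd 3 (q + 1) * (q ^ 2 - 1) := by
  obtain ⟨s, rfl⟩ : ∃ s, q = s + 2 := ⟨q - 2, by omega⟩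
  have e1 : (s + 2) ^ 2 - 1 = (s + 1) * (s + 3) := Nat.sub_eq_of_eq_add (by ring)
  have e0 : s + 2 - 1 = s + 1 := rfl
  rw [e0] at h1 h2
  rw [e1]
  have aux : ∀ ν g, s * s + 3 * s + 3 = g * ν → (∀ r, r.Prime → r ∣ s + 3 → ¬ r ∣ ν) →
      μ ∣ g * ((s + 1) * (s + 3)) := fun ν g e hν => by
    refine Nat.Coprime.dvd_of_dvd_mul_right (k := μ) (n := ν)
      (Nat.coprime_of_dvd fun r hr h3 h4 => ?_) ?_
    · rcases h2 r hr h3 with h5 | h5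
      · have := h4.mul_left g
        rw [← e, show s * s + 3 * s + 3 = (s + 1) * (s + 2) + 1 by ring] at this
        exact hr.one_lt.ne' (Nat.dvd_one.mp ((Nat.dvd_add_right (h5.mul_right _)).mp this))
      · exact hν r hr h5 h4
    · rwa [show g * ((s + 1) * (s + 3)) * ν = g * ν * (s + 3) * (s + 1) by ring, ← e,
        show (s * s + 3 * s + 3) * (s + 3) = (s + 2) ^ 3 + 1 by ring]
  by_cases h3 : 3 ∣ s + 2 + 1
  · rw [Nat.gcd_eq_left h3]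
    obtain ⟨m, rfl⟩ : 3 ∣ s := by omega
    refine aux (3 * m * m + 3 * m + 1) 3 (by ring) fun r hr h4 h5 => ?_
    rw [show 3 * m * m + 3 * m + 1 = (3 * m + 3) * m + 1 by ring] at h5
    exact hr.one_lt.ne' (Nat.dvd_one.mp ((Nat.dvd_add_right (h4.mul_right _)).mp h5))
  · rw [(Nat.Prime.coprime_iff_not_dvd Nat.prime_three).mpr h3]
    refine aux _ 1 (one_mul _).symm fun r hr h4 h5 => h3 ?_
    rw [show s * s + 3 * s + 3 = (s + 3) * s + 3 by ring] at h5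
    rwa [← (Nat.prime_dvd_prime_iff_eq hr Nat.prime_three).mp
      ((Nat.dvd_add_right (h4.mul_right _)).mp h5)]

theorem ncard_block (h : Bt Z y a t d i) :
    {c | c = a ∨ ∃ u ∈ Az Z C{y} a, c = u • t • a}.ncard = 2 ^ d + 1 := ncard_blk h.ze h.pl

/-- c0 -/
theorem mu_dvd (h : Bt Z y a t d 3) (hμ : mm Z a = (2 ^ d - 1) * μ) :
    μ ∣ Nat.gcd 3 (2 ^ d + 1) * ((2 ^ d) ^ 2 - 1) := by
  have hz := h.ze
  have hμo : Odd μ := (h.sm.odd_mm a).of_dvd_nat (hμ ▸ Dvd.intro_left _ rfl)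
  refine C0_num (h.pl.four_le hz) ?_ fun r hr hd => ?_
  · have e := h.card_eq hμ
    refine Nat.Coprime.dvd_of_dvd_mul_right (n := (2 ^ d) ^ 3) ?_
      ((Nat.dvd_add_right (Dvd.intro _ rfl)).mp (e ▸ Dvd.intro _ rfl))
    exact (Nat.coprime_two_right.mpr hμo).pow_right d |>.pow_right 3
  have ht := h.pl.tZ
  have it := hz.inv t ht
  have hty : t * y = y * t := mem_C1.mp h.pl.tY
  have htw : t ∈ C{y * t} := mem_C1.mpr (by rw [← mul_assoc, hty])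
  obtain ⟨k, hkw, hk, hka, htk⟩ := hz.exists_K_prime hr (Y := C{y * t}) ⟨ht, htw, rfl⟩ h.pl.ta.symm
    (h.mu_eq' hμ ⟨ht, h.pl.tY, rfl⟩ ▸ hd)
  have hko : Odd (orderOf k) := hk ▸ hμo.of_dvd_nat hd
  obtain ⟨c, hc⟩ := hz.ex t ht
  obtain ⟨c', hc'⟩ := hz.ex _ htk
  have hyc : y • c = c := hz.fix_of_comm ht hc hty
  have hca : a ≠ c := fun e => h.pl.ta (e ▸ hc)
  obtain ⟨t0, -, h0⟩ := h.move' hyc h.bt.2.1 hca
  have htA : t ∈ Az Z C{y} c := mem_Az ⟨ht, h.pl.tY, hc⟩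
  have htkw := mul_mem htw hkw
  have hwc' : (y * t) • c' = c' := hz.fix_of_comm htk hc' (mem_C1.mp htkw)
  have htA' : t ∈ Az Z C{y * t} c := mem_Az ⟨ht, htw, hc⟩
  have ek : k = t * (t * k) := by rw [← mul_assoc, it.2, one_mul]
  have hcc : c' ≠ c := fun e => by
    obtain ⟨t1, h1⟩ := h0.mul htA
    have := h1.pl.A_sq hz (mul_mem htA' (mem_Az ⟨htk, htkw, e ▸ hc'⟩))
    rw [← ek] at this
    exact ne_one_of_orderOf_prime (hk ▸ hr)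
      (H21.eq_one_of_sq_of_odd hko (pow_orderOf_eq_one k) this)
  obtain ⟨t1, e1, h1⟩ := h0.mul' htA hwc' hcc
  obtain ⟨ω, p, o⟩ := h1.pl.om rfl
  have i1 := hz.inv t1 h1.pl.tZ
  have hωk : k * ω = ω * k := by
    have e2 := o.cA _ (mem_Az (show t1 * (t * k) * t1⁻¹ ∈ ZA Z C{y * t} c by
      simpa [i1.smul_eq e1] using hz.conj_ZA (u := t * k) ⟨htk, htkw, hc'⟩ (norm_self _ h1.pl.tY)))
    have e3 : t * k ∈ C{ω} := (conj_mem_iff (norm_self _ (mem_C1.mpr o.ct.symm))).mp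
      (mem_C1.mpr e2.symm)
    rw [ek]
    exact mem_C1.mp (mul_mem (mem_C1.mpr (o.cA t htA').symm) e3)
  have hB : ∀ x, (x = c ∨ ∃ u ∈ Az Z C{y * t} c, x = u • t1 • c) ↔
      x ∈ Orb C{y * t} c ∧ ω • x = x := fun x =>
    ⟨fun e => by
      rcases e with rfl | ⟨u, hu, rfl⟩
      · exact ⟨mem_Orb_self _ _, o.fixa⟩
      · exact ⟨smul_mem_Orb (Az_le _ _ _ hu) (h1.pl.b_mem hz),
          comm_fix (o.cA u hu) (h1.pl.om_fixb hz o)⟩, fun e => o.fix x e.1 e.2⟩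
  by_cases hq : r ∣ 2 ^ d + 1
  · exact Or.inr hq
  obtain ⟨x, hx, e⟩ := exists_fix_of_not_dvd (P := zpowers k) hr
    (piElt_of_orderOf_prime (hk ▸ hr) hk).isPi
    (S := {x | x = c ∨ ∃ u ∈ Az Z C{y * t} c, x = u • t1 • c}) (zp_smul fun x hx =>
      (hB _).mpr ⟨smul_mem_Orb hkw ((hB x).mp hx).1, comm_fix hωk.symm ((hB x).mp hx).2⟩)
    (by rwa [h1.ncard_block])
  exact Or.inl (hk ▸ h1.pl.orderOf_dvd hz ht htw hkw htk hko ((hB x).mp hx).1 (e (mem_zpowers k)))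

theorem exists_TT_cent (h : Bt Z y a t d i) (hp : p.Prime) (hq : ¬ p ∣ 2 ^ d - 1) {j : ℕ}
    (hg : g ^ p ^ j = 1) (hy : g * y = y * g) (ha : g • a = a) (hc : y • c = c) (hca : c ≠ a)
    (hgc : g • c = c) : ∃ s ∈ TT Z C{y} a c, g * s = s * g := by
  obtain ⟨t', rfl, h'⟩ := h.move' h.bt.2.1 hc hca
  obtain ⟨s, hs, e⟩ := exists_cent_of_not_dvd (S := TT Z C{y} a (t' • a)) hp
    (piElt_of_pow_eq_one (piNat_self_pow hp j) hg).isPi (fun x hx s hs => by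
      have h1 : x • a = a := (zpowers_le.mpr ha : zpowers g ≤ stabilizer G a) hx
      have h2 : x • t' • a = t' • a := (zpowers_le.mpr hgc : zpowers g ≤ stabilizer G _) hx
      simpa [h1, h2] using h.ze.conj_TT hs (norm_self _ (zpowers_le.mpr (mem_C1.mpr hy) hx)))
    (by rwa [Nat.eq_sub_of_add_eq (h'.pl.ncard_TT h.ze)])
  exact ⟨s, hs, mem_C1.mp (e (mem_zpowers g))⟩

/-- the fixed points on a unitary plane of an odd `p`-element centralising `A` -/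
theorem fix_block (h : Bt Z y a t d 3) (hp : p.Prime) (h2 : p ≠ 2) (hq : ¬ p ∣ 2 ^ d - 1) {j : ℕ}
    (hg : g ^ p ^ j = 1) (hy : g * y = y * g) (ha : g • a = a) (hb : g • t • a = t • a)
    (hA : g ∈ C[Az Z C{y} a]) (hK : g ∉ Ker C{y} a) (hc : y • c = c) :
    g • c = c ↔ c = a ∨ ∃ u ∈ Az Z C{y} a, c = u • t • a := by
  have hz := h.ze
  refine ⟨fun hgc => ?_, ?_⟩
  swap
  · rintro (rfl | ⟨u, hu, rfl⟩)
    · exact ha
    · exact comm_fix (mem_C'.mp hA u hu) hb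
  by_cases hca : c = a
  · exact Or.inl hca
  obtain ⟨t1, ⟨h3, h4, h5⟩, h6⟩ := h.exists_TT_cent hp hq hg hy ha h.fix_b h.pl.ta hb
  have h' := h.move h.bt.2.1 h3 (mem_C1.mp h4) (h5 ▸ h.pl.ta)
  have hAY : Az Z C{y} a ≤ C{y} ⊓ C{g} := le_inf (Az_le _ _ _) (mem_C_iff_le_C1.mp hA)
  obtain ⟨d', i', p'⟩ := h'.pl_of (Y := C{y} ⊓ C{g}) (fun e => h.sm.C_ne_top h.bt.1.1.1 h.bt.2.1
    (eq_top_iff.mpr (e.ge.trans inf_le_left))) hAY ⟨h4, mem_C1.mpr h6.symm⟩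
  have eA : Az Z (C{y} ⊓ C{g}) a = Az Z C{y} a := le_antisymm (Az_mono inf_le_left a)
    ((closure_le _).mpr fun u hu => mem_Az ⟨hu.1, hAY (mem_Az hu), hu.2.2⟩)
  obtain rfl : d' = d := Nat.pow_right_injective (le_refl 2)
    (show 2 ^ d' = 2 ^ d by rw [← p'.cardA, eA, h.pl.cardA])
  obtain ⟨s, ⟨s1, s2, rfl⟩, s3⟩ := h.exists_TT_cent hp hq hg hy ha hc hca hgc
  by_cases hi : i' = 3
  · subst hi
    have e := Set.eq_of_subset_of_ncard_le (s := Orb (C{y} ⊓ C{g}) a) (t := Orb C{y} a)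
      (fun c ⟨x, hx, e⟩ => ⟨x, hx.1, e⟩) (by rw [p'.card, h.pl.card])
    refine absurd ⟨mem_C1.mpr hy, fun x hx => ?_⟩ hK
    obtain ⟨x', hx', e1⟩ : x • a ∈ Orb (C{y} ⊓ C{g}) a := e ▸ ⟨x, hx, rfl⟩
    exact e1 ▸ comm_fix (mem_C1.mp hx'.2).symm ha
  obtain ⟨ω, r, o⟩ := h'.pl.om rfl
  obtain ⟨x, hx, e⟩ := p'.gen hi (s • a) ⟨s, ⟨s2, mem_C1.mpr s3.symm⟩, rfl⟩
  rw [eA] at hx
  have := o.fix (s • a) ⟨s, s2, rfl⟩ (e ▸ comm_fix (mem_C1.mp ((sup_le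
    (fun u hu => mem_C1.mpr (o.cA u hu).symm) (zpowers_le.mpr (mem_C1.mpr o.ct.symm)) :
      _ ≤ C{ω}) hx)).symm o.fixa)
  rwa [h5] at this

/-- c1 -/
theorem om_not_Ker (h : Bt Z y a t d 3) (hm : Mx Ω Z d) (o : Om Z C{y} a t d ω p)
    (he : e ∈ Az Z C{y} a) : ω ∉ Ker C{y * e} a := fun hω => by
  have hz := h.ze
  have pl := h.pl
  by_cases e1 : e = 1
  · exact pl.om_not_mem hz o (by simpa [e1] using hω)
  obtain ⟨e', he', h1, h2⟩ : ∃ e' ∈ Az Z C{y} a, e' ≠ 1 ∧ e' ≠ e := by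
    by_contra! h1
    have h2 := Set.ncard_le_ncard (s := Az Z C{y} a) (t := {1, e}) (fun x hx => by
      by_cases h3 : x = 1
      · exact Or.inl h3
      · exact Or.inr (h1 x hx h3))
    have h3 := Set.ncard_insert_le (1 : G) {e}
    rw [Set.ncard_singleton] at h3
    have h4 := pl.four_le hz
    rw [← Nat.card_coe_set_eq] at h2
    have h5 := pl.cardA
    change ♯(Az Z C{y} a) ≤ _ at h2
    omega
  obtain ⟨k, hk, ek⟩ := (pl.sing hz).trans he he' e1 h1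
  have hω' : ω ∈ Ker C{y * e'} a := by
    have := conj_mem_cj k hω
    rwa [cj_Ker, cj_C1, Kz_fix hk, mem_C.mp (pl.om_cent_K hz o) k hk, mul_inv_cancel_right,
      show k * (y * e) * k⁻¹ = k * y * k⁻¹ * (k * e * k⁻¹) by group, ek,
      mem_C1_iff_conj.mp (Kz_le _ _ _ _ hk)] at this
  obtain ⟨x, hx, hx1⟩ := SetLike.not_le_iff_exists.mp (not_U_le hz pl (by norm_num))
  have aux : ∀ e ∈ Az Z C{y} a, ω ∈ Ker C{y * e} a → ω * x * ω⁻¹ * x⁻¹ ∈ Ker C{y * e} a :=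
    fun e he hω => by
      rw [mul_assoc, mul_assoc, ← mul_assoc x]
      refine mul_mem hω ((Ker_nml _ a).conj_mem (mem_C1.mpr ?_) (inv_mem hω))
      rw [← mul_assoc, mem_C1.mp (U_le hz pl hx), mul_assoc, pl.centA x hx e he, mul_assoc]
  have hJ : Uz Z C{y} a ⊓ (Ker C{y * e} a ⊓ Ker C{y * e'} a) = ⊥ := by
    refine ((pl.U_two hz).of_le inf_le_left).eq_bot (odd_iff_isPi.mp (odd_of_no_inv ?_))
    rintro v ⟨hv, v1, v2⟩ hi
    obtain ⟨t1, h3⟩ := h.mul he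
    obtain ⟨t2, h4⟩ := h.mul he'
    have hee := mul_mem he he'
    refine h4.pl.ta (h3.fix_inter (e := e * e') (by rwa [h.Az_mul he]) (fun e2 => h2 ?_)
      (h3.fix_eq_of_max hm hi (by rw [h.Az_mul he]; exact mem_C'.mpr (pl.centA v hv))
        (h3.mem_Ker.mp v1).2 ((h4.mem_Ker.mp v2).2 _ h4.fix_b)) ?_)
    · rw [eq_inv_of_mul_eq_one_right e2, H21.invol_inv (pl.A_sq hz he)]
    · rw [mul_assoc, ← mul_assoc e, pl.A_sq hz he, one_mul]; exact h4.fix_b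
  refine hx1 (pl.om_fpf hz o hx ?_)
  rw [mem_bot.mp (hJ.le ⟨Subgroup.mul_mem _ (conj_mem (pl.om_N_U hz o) hx) (Subgroup.inv_mem _ hx), aux e he hω,
    aux e' he' hω'⟩)]
  exact one_mem _

theorem pl_om (h : Bt Z y a t d 3) (o : Om Z C{y} a t d ω p) :
    ∃ d' i', Pl Z C{ω} a t d' i' ∧ Az Z C{ω} a ⊓ C{y} = Az Z C{y} a ∧ (d' = d ∨ d' = 2 * d) := by
  have hz := h.ze
  have hA : Az Z C{y} a ≤ C{ω} := fun u hu => mem_C1.mpr (o.cA u hu).symm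
  obtain ⟨d', i', p'⟩ := h.pl_of (h.sm.C_ne_top (g := ω) (fun e => h.pl.om_not_mem hz o (by rw [e]; exact one_mem _))
    o.fixa) hA (mem_C1.mpr o.ct.symm)
  have e : Az Z C{ω} a ⊓ C{y} = Az Z C{y} a := by
    refine le_antisymm (fun x hx => ?_) (le_inf
      ((closure_le _).mpr fun u hu => mem_Az ⟨hu.1, hA (mem_Az hu), hu.2.2⟩) (Az_le _ _ _))
    rcases (p'.memA x).mp hx.1 with rfl | h1
    · exact one_mem _
    · exact mem_Az ⟨h1.1, hx.2, h1.2.2⟩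
  refine ⟨d', i', p', e, ?_⟩
  rcases hz.card_eq_or_sq p'.memA h.bt.1.1 (norm_self _ (mem_C1_comm.mp (Lz_le _ _ o.memL)))
    h.bt.2.1 p'.tZ p'.tY (mem_C1.mp h.pl.tY) p'.ta with e1 | e1
  · rw [inf_of_le_left e1] at e
    exact Or.inl (Nat.pow_right_injective (le_refl 2)
      (show 2 ^ d' = 2 ^ d by rw [← p'.cardA, e, h.pl.cardA]))
  · rw [e, p'.cardA, h.pl.cardA, ← pow_mul, mul_comm] at e1
    exact Or.inr (Nat.pow_right_injective (le_refl 2) e1)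

end Bt



end ZD
end H6
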