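import Mathlib
import Cfsg.Agent.H6.ZC0

/-! Aschbacher's criterion: the unitary case with `|A_ω| = q ^ 2` is impossible. -/

set_option autoImplicit false
set_option linter.unusedSectionVars false
set_option linter.unusedVariables false

namespace H6
namespace ZD

open H24 H3.B71 Subgroup MulAction C0

variable {G Ω : Type*} [Group G] [Finite G] [MulAction G Ω] [Finite Ω] {Z : Set G}

namespace C2x

theorem not_dvd_sq_add_one {n x : ℕ} (hn : n % 4 = 3) : ¬ n ∣ x ^ 2 + 1 := fun h => by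
  refine ZMod.nonsquare_of_jacobiSym_eq_neg_one (a := -1) (b := n) (by
    rw [jacobiSym.at_neg_one (Nat.odd_iff.mpr (by omega)), ZMod.χ₄_nat_three_mod_four hn])
    ⟨x, ?_⟩
  have := (ZMod.natCast_eq_zero_iff _ _).mpr h
  push_cast at this ⊢
  linear_combination -this

theorem dvd_ncard_of_orb {E : Subgroup G} {S : Set Ω} {n : ℕ} (hS : ∀ g ∈ E, ∀ x ∈ S, g • x ∈ S)
    (h : ∀ x ∈ S, n ∣ (Orb E x).ncard) : n ∣ S.ncard := by
  have hf := Set.toFinite S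
  obtain ⟨R, hR, -, -, hsum⟩ := H16.exists_orbit_reps (G := E) hf.toFinset
    fun g x hx => hf.mem_toFinset.2 (hS g g.2 x (by simpa using hx))
  have := hsum (fun _ => 1) (fun _ _ => rfl)
  simp only [Finset.sum_const, smul_eq_mul, mul_one] at this
  rw [Set.ncard_eq_toFinset_card S hf, this]
  refine Finset.dvd_sum fun r hr => ?_
  have := h r (by simpa using hR hr)
  rwa [show Orb E r = orbit E r from Set.ext fun d =>
    ⟨fun ⟨y, hy, e⟩ => ⟨⟨y, hy⟩, e⟩, fun ⟨y, e⟩ => ⟨y.1, y.2, e⟩⟩, ← Nat.card_coe_set_eq] at this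

theorem card_modEq {p j : ℕ} (hp : p.Prime) {g : G} {A : Subgroup G} (hg : g ^ p ^ j = 1)
    (hA : g ∈ N[A]) : ♯A ≡ ♯(A ⊓ C{g}) [MOD p] := by
  have := conj_modEq (S := A) hp (piElt_of_pow_eq_one (piNat_self_pow hp j) hg).isPi
    fun x hx s hs => conj_mem (zp_le_N hA hx) hs
  rwa [show {s ∈ (A : Set G) | zpowers g ≤ C{s}} = (A ⊓ C{g} : Subgroup G) from Set.ext fun s =>
    and_congr_right fun _ => zpowers_le.trans mem_C1_comm, ← Nat.card_coe_set_eq,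
    ← Nat.card_coe_set_eq] at this

theorem num {d μ s : ℕ} (hd : 2 ≤ d) (h1 : μ ∣ Nat.gcd 3 (2 ^ d + 1) * (2 ^ d - 1))
    (h2 : 2 ^ d ≤ 2 ^ s) (h3 : 2 ^ s ∣ μ - 1) : μ = 1 := by
  have h4 : 2 ^ d ∣ μ - 1 :=
    (pow_dvd_pow 2 ((Nat.pow_le_pow_iff_right (by norm_num)).mp h2)).trans h3
  have h5 : 4 ∣ 2 ^ d := pow_dvd_pow 2 hd
  have h6 : 0 < 2 ^ d := by positivity
  have h7 : 2 ^ d = 4 ∨ 8 ≤ 2 ^ d := by omega
  generalize 2 ^ d = q at *
  obtain ⟨c, hc⟩ := h1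
  obtain ⟨m, hm⟩ := h4
  by_contra h0
  have hμ : μ ≠ 0 := by
    rintro rfl
    rw [zero_mul, mul_eq_zero] at hc
    rcases hc with e | e
    · simp at e
    · omega
  have hm0 : m ≠ 0 := by rintro rfl; omega
  have e : μ = q * m + 1 := by omega
  have h8 : q + 1 ≤ μ := by
    have := Nat.mul_le_mul_left q (Nat.one_le_iff_ne_zero.mpr hm0); omega
  rcases (Nat.dvd_prime Nat.prime_three).mp (Nat.gcd_dvd_left 3 (q + 1)) with e1 | e1
  · rw [e1, one_mul] at hc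
    have := Nat.le_of_dvd (by omega) ⟨c, hc⟩
    omega
  · have h9 := e1 ▸ Nat.gcd_dvd_right 3 (q + 1)
    rw [e1] at hc
    have : c < 3 := by
      by_contra! h
      have := Nat.mul_le_mul h8 h
      omega
    have : m < 3 := by
      by_contra! h
      have := Nat.mul_le_mul_left q h
      have := Nat.le_of_dvd (by omega) ⟨c, hc⟩
      omega
    interval_cases c <;> interval_cases m <;> omega

theorem card_dvd_of_conj {K : Subgroup G} {S : Set G} (hS : ∀ k ∈ K, ∀ z ∈ S, k * z * k⁻¹ ∈ S)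
    (h : ∀ k ∈ K, ∀ z ∈ S, k * z * k⁻¹ = z → k = 1) : ♯K ∣ S.ncard := by
  let : MulAction G G := MulAction.compHom G (ConjAct.toConjAct (G := G)).toMonoidHom
  exact H16.card_dvd_ncard_of_semiregular (X := G) _ _ (Set.toFinite _) hS h

/-- the elements of an abelian group inverted by `y` -/
def invS (K : Subgroup G) (y : G) (h : ∀ k ∈ K, ∀ l ∈ K, k * l = l * k) : Subgroup G where
  carrier := Cfsg.invertedBy K y
  one_mem' := H21.one_mem_invertedBy K y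
  mul_mem' := fun {k l} hk hl => ⟨mul_mem hk.1 hl.1, by
    rw [h k hk.1 l hl.1, mul_inv_rev, ← hk.2, ← hl.2, h l hl.1 k hk.1]; group⟩
  inv_mem' := H21.inv_mem_invertedBy

end C2x

open C2x

theorem Bt.not_c2 {y t ω : G} {a : Ω} {d i p : ℕ} (h : Bt Z y a t d 3) (hm : Mx Ω Z d)
    (o : Om Z C{y} a t d ω p) (p' : Pl Z C{ω} a t (2 * d) i) : False := by
  have hz := h.ze
  have pl := h.pl
  have hp := o.prime
  have ht := pl.tZ
  have it := hz.inv t ht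
  have iy := h.bt.1.1
  have hq := pl.four_le hz
  have hd := pl.two_le
  obtain ⟨μ, -, hμ⟩ := h.exists_mu
  have eq2 : 2 ^ (2 * d) - 1 = (2 ^ d - 1) * (2 ^ d + 1) := by
    rw [two_mul, pow_add]
    obtain ⟨r, hr⟩ : ∃ r, 2 ^ d = r + 1 := ⟨2 ^ d - 1, by omega⟩
    rw [hr]; exact Nat.sub_eq_of_eq_add (by simp only [Nat.add_sub_cancel]; ring)
  have cK := Nat.eq_sub_of_add_eq p'.cardK
  -- `μ = q + 1`
  have hμ1 : mm Z a = 2 ^ (2 * d) - 1 := by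
    obtain ⟨μ2, h1⟩ : 2 ^ (2 * d) - 1 ∣ mm Z a := by
      rw [← cK]
      exact card_dvd_of_conj (fun k hk z hz1 => ⟨hz.conj z hz1.1 k, mem_top _,
          by simpa [Kz_fix hk] using conj_fix (g := k) hz1.2.2⟩)
        fun k hk z hz1 e => p'.K_no_cent hz hk hz1.1 (mul_inv_eq_iff_eq_mul.mp e).symm
    obtain ⟨s, h2, h3⟩ := h.sm.pb_gen (A := Az Z C{ω} a) (E := Az Z C{ω} a) (j := 1)
      (fun x hx => ((p'.memA x).mp hx).imp_right fun e => ⟨e.1, mem_top _, e.2.2⟩) (p'.A_two hz)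
      (fun x hx => Az_fix hx) (fun x hx => mem_C.mpr fun u hu => p'.A_comm hz hu hx)
      fun z _ _ => (pow_one _).ge
    have h4 := h.mu_dvd hμ
    have e : μ = (2 ^ d + 1) * μ2 :=
      Nat.eq_of_mul_eq_mul_left (by omega : 0 < 2 ^ d - 1) (by rw [← hμ, h1, eq2, mul_assoc])
    rw [← pow_mul, mul_comm d, eq2, e, ← mul_assoc, mul_comm _ (2 ^ d + 1)] at h4
    rw [p'.cardA] at h2 h3
    have h5 : 0 < 2 ^ (2 * d) := by positivity
    rw [h1, show (2 ^ (2 * d) - 1) * μ2 + 1 - 2 ^ (2 * d) = (2 ^ (2 * d) - 1) * (μ2 - 1) by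
      rw [Nat.mul_sub_one]; omega] at h3
    rw [h1, num hd (Nat.dvd_of_mul_dvd_mul_left (by omega) h4) (s := s) ?_
      (Nat.Coprime.dvd_of_dvd_mul_left ?_ h3), mul_one]
    · rw [mul_comm, pow_mul] at h2
      exact (Nat.pow_le_pow_iff_left (by norm_num)).mp h2
    · refine (Nat.coprime_two_left.mpr (Nat.odd_iff.mpr ?_)).pow_left s
      have : 2 ∣ 2 ^ (2 * d) := dvd_pow_self 2 (by omega)
      omega
  have hμ2 : μ = 2 ^ d + 1 :=
    Nat.eq_of_mul_eq_mul_left (by omega : 0 < 2 ^ d - 1) (by rw [← hμ, hμ1, eq2])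
  have hZa : ZA Z C{ω} a = ZA Z ⊤ a := Set.eq_of_subset_of_ncard_le
    (fun z hz => ⟨hz.1, mem_top _, hz.2.2⟩) (by
      have := p'.ncard_ZA hz
      rw [mm] at hμ1; omega)
  have hZω : ∀ z ∈ Z, z • a = a ∨ z • t • a = t • a → z ∈ C{ω} := fun z hz1 e => by
    rcases e with e | e
    · exact (hZa.ge ⟨hz1, mem_top _, e⟩).2.1
    · exact (conj_mem_iff (norm_self _ p'.tY)).mp (hZa.ge ⟨hz.conj z hz1 t, mem_top _, by
        simpa [it.smul_smul] using conj_fix (g := t) e⟩).2.1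
  have hAs : ∀ c : Ω, ♯(Az Z ⊤ c) = 2 ^ (2 * d) ∧ ∀ x ∈ Az Z ⊤ c, x = 1 ∨ x ∈ Z := fun c => by
    obtain ⟨g, rfl⟩ := hz.exists_smul a c
    have e : Az Z ⊤ (g • a) = H24.cj g (Az Z C{ω} a) := by
      rw [← cj_top g, ← hz.cj_Az, Az, Az, hZa]
    rw [e, card_cj]
    refine ⟨p'.cardA, fun x hx => ((p'.memA _).mp (mem_cj.mp hx)).imp (fun e1 => ?_) fun e1 => ?_⟩
    · exact conj_eq_one_iff'.mp (show g⁻¹ * x * g⁻¹⁻¹ = 1 by rwa [inv_inv])
    · simpa [mul_assoc] using hz.conj _ e1.1 g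
  -- the group `K'`
  have hyω : y ∈ C{ω} := mem_C1_comm.mp (Lz_le _ _ o.memL)
  have hyK := p'.norm_K hz (norm_self _ hyω) h.bt.2.1 h.fix_b
  have hKK : Kz Z C{y} a t = Kz Z C{ω} a t ⊓ C{y} := by
    ext k
    rw [mem_inf, pl.memK, p'.memK]
    exact ⟨fun e => ⟨⟨mem_C_iff_le_C1.mp (pl.om_cent_K hz o) ((pl.memK k).mpr e), e.2⟩, e.1⟩,
      fun e => ⟨e.2, e.1.2⟩⟩
  set K' := invS (Kz Z C{ω} a t) y fun k hk l hl => p'.K_comm hz hk hl
  have cK' : ♯K' = 2 ^ d + 1 := by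
    have h1 := H21.card_eq_cent_mul_inverted iy.2 (p'.K_odd hz) fun x hx => conj_mem hyK hx
    rw [← hKK, cK, eq2, Nat.eq_sub_of_add_eq pl.cardK] at h1
    exact (Nat.eq_of_mul_eq_mul_left (by omega) h1).symm
  have hty : t * y = y * t := mem_C1.mp pl.tY
  have htw : t ∈ C{y * t} := mem_C1.mpr (by rw [← mul_assoc, hty])
  have hK'w : K' ≤ C{y * t} := fun k hk => mem_C1_comm.mp (mem_C1_iff_conj.mpr (by
    calc _ = y * (t * k * t⁻¹) * y⁻¹ := by group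
      _ = (y * k * y⁻¹)⁻¹ := by rw [p'.K_inv hz hk.1]; group
      _ = k := by rw [hk.2, inv_inv]))
  have hωw : ω ∈ C{y * t} := mem_C1_comm.mp (mul_mem hyω p'.tY)
  -- the plane of `w = y t`
  obtain ⟨c, hc⟩ := hz.ex t ht
  have hac : a ≠ c := fun e => pl.ta (e ▸ hc)
  obtain ⟨e, he, -⟩ := pl.pair hz
  obtain ⟨g0, -, e1, e2, hg0⟩ := hz.exists_swap he.1 ht he.2.2 hc hac
  have hg0ω := hg0 _ (hZω e he.1 (Or.inl he.2.2)) p'.tY
  have e3 : g0 * (y * e) * g0⁻¹ = y * t := by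
    rw [← e1, ← mem_C1_iff_conj.mp (hg0 _ he.2.1 pl.tY)]
    conv_lhs => rw [mem_C1_iff_conj.mp (hg0 _ he.2.1 pl.tY)]
    group
  have hωN : ω ∉ Ker C{y * t} c := fun e4 => h.om_not_Ker hm o (mem_Az he) (by
    rwa [← e3, ← e2, ← cj_C1, ← cj_Ker, ← mem_C1_iff_conj.mp hg0ω, conj_mem_cj_iff] at e4)
  have hωA : ω ∈ C[Az Z C{y * t} c] := by
    rw [← e3, ← e2, ← cj_C1, ← hz.cj_Az, h.Az_mul (mem_Az he), ← cj_C, ← mem_C1_iff_conj.mp hg0ω]
    exact conj_mem_cj _ (mem_C'.mpr o.cA)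
  obtain ⟨t0, h0⟩ := h.mul (mem_Az he)
  replace h0 := h0.cj g0
  rw [e3, e2] at h0
  have hωc : ω • c = c := hz.fix_of_comm ht hc o.ct.symm
  obtain ⟨h2, hq1⟩ := pl.om_odd hz o
  obtain ⟨b', hb', hb'c, hωb⟩ := h0.pl.fix_second hz hp h2 (pl.om_pi hz o)
    (zp_le_N (norm_self _ hωw)) (zpowers_le.mpr hωc)
  obtain ⟨t1, rfl, h1⟩ := h0.move' h0.bt.2.1 (h0.mem_orb.mp hb') hb'c
  obtain ⟨j, hj⟩ := o.pel
  have hS : {x : Ω | (y * t) • x = x ∧ ω • x ≠ x}.ncard + (2 ^ d + 1) = (2 ^ d) ^ 3 + 1 := by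
    rw [← h1.ncard_block, ← h1.ncard_fix, ← Set.ncard_union_eq (Set.disjoint_left.mpr
      fun x hx e => hx.2 ((h1.fix_block hp h2 hq1 hj (mem_C1.mp hωw) hωc (hωb (mem_zpowers ω)) hωA
        hωN hx.1).mpr e))]
    congr 1
    ext x
    refine ⟨fun e => e.elim And.left ?_, fun e => ?_⟩
    · rintro (rfl | ⟨u, hu, rfl⟩)
      · exact h1.bt.2.1
      · exact h1.mem_orb.mp (smul_mem_Orb (Az_le _ _ _ hu) (h1.pl.b_mem hz))
    · by_cases e5 : ω • x = x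
      · exact Or.inr ((h1.fix_block hp h2 hq1 hj (mem_C1.mp hωw) hωc (hωb (mem_zpowers ω)) hωA
          hωN e).mp e5)
      · exact Or.inl ⟨e, e5⟩
  have hfree : ∀ k ∈ K', ∀ x : Ω, (y * t) • x = x → k • x = x → k = 1 := fun k hk x hx e => by
    have ho := odd_orderOf_of_mem (p'.K_odd hz) hk.1
    have h3 := h1.pl.orderOf_dvd hz ht htw (hK'w hk) ((p'.memK k).mp hk.1).2.2 ho
      (h1.mem_orb.mpr hx) e
    have h4 := cK' ▸ orderOf_dvd_card' hk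
    rw [show 2 ^ d + 1 = 2 ^ d - 1 + 2 by omega] at h4
    exact orderOf_eq_one_iff.mp (Nat.Coprime.eq_one_of_dvd
      (Nat.coprime_two_right.mpr ho) ((Nat.dvd_add_right h3).mp h4))
  obtain ⟨P, hP⟩ := Sylow_exists hp K'
  have hPω : P ≤ C{ω} := fun k hk => Kz_le _ _ _ _ (hP.le hk).1
  obtain ⟨ε, ⟨hwε, hωε⟩, k, hk, ek⟩ : ∃ ε ∈ {x : Ω | (y * t) • x = x ∧ ω • x ≠ x}, ω • ε ∈ Orb P ε := by
    by_contra! hno
    have hE : IsPi {p} (P ⊔ zpowers ω) :=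
      hP.pi.sup (pl.om_pi hz o) (norm_of_cent (zpowers_le.mpr (mem_C_iff_le_C1.mpr hPω)))
    have hE1 : P ⊔ zpowers ω ≤ C{y * t} := sup_le (hP.le.trans hK'w) (zpowers_le.mpr hωw)
    have hE2 : P ⊔ zpowers ω ≤ C{ω} := sup_le hPω (zpowers_le.mpr (self_mem_C1 ω))
    have h3 := dvd_ncard_of_orb (n := p * ♯P) (E := P ⊔ zpowers ω)
      (S := {x : Ω | (y * t) • x = x ∧ ω • x ≠ x}) (fun g hg x hx =>
        ⟨comm_fix (mem_C1.mp (hE1 hg)).symm hx.1, fun e => hx.2 (by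
          rwa [← mul_smul, ← mem_C1.mp (hE2 hg), mul_smul, smul_left_cancel_iff] at e)⟩)
      fun x hx => by
        have e4 : (Orb P x).ncard = ♯P := by
          rw [ncard_Orb, ← card_inf_mul_relIndex (stabilizer G x) P,
            show stabilizer G x ⊓ P = ⊥ from eq_bot_iff.mpr
              fun k hk => hfree k (hP.le hk.2) x hx.1 hk.1, card_bot, one_mul]
        by_contra h4
        have h5 := eq_of_dvd_of_not (b := (Orb (P ⊔ zpowers ω) x).ncard)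
          (by rw [ncard_Orb]; exact hE.relIndex _) (by
          rw [← e4, ncard_Orb, ncard_Orb]; exact relIndex_dvd_of_le_pi hp hE le_sup_left _)
          (dvd_refl _) h4
        have h6 := Set.eq_of_subset_of_ncard_le (s := Orb P x) (t := Orb (P ⊔ zpowers ω) x)
          (fun z ⟨g, hg, e⟩ => ⟨g, mem_sup_left hg, e⟩) (by rw [h5, e4])
        exact hno x hx (h6 ▸ ⟨ω, mem_sup_right (mem_zpowers ω), rfl⟩)
    have h4 : {x : Ω | (y * t) • x = x ∧ ω • x ≠ x}.ncard = 2 ^ d * (2 ^ d - 1) * (2 ^ d + 1) := by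
      obtain ⟨r, hr⟩ : ∃ r, 2 ^ d = r + 1 := ⟨2 ^ d - 1, by omega⟩
      rw [hr] at hS ⊢
      rw [Nat.add_sub_cancel]
      exact Nat.add_right_cancel (hS.trans (by ring))
    rw [h4, ← cK', ← hP.card, mul_comm ♯P, ← mul_assoc] at h3
    rcases (Nat.Prime.dvd_mul hp).mp (Nat.dvd_of_mul_dvd_mul_right (card_pos P) h3) with h5 | h5
    · exact ((Nat.Prime.dvd_mul hp).mp h5).elim (pl.om_not_dvd hz o d) hq1
    · exact hP.not_dvd hp h5
  have hk1 : k ≠ 1 := fun e => hωε (by rw [← ek, e, one_smul])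
  have hkK := (hP.le hk).1
  set g := k⁻¹ * ω with hg
  have hgε : g • ε = ε := by rw [mul_smul, ← ek, inv_smul_smul]
  have hgw : g ∈ C{y * t} := mul_mem (inv_mem (hK'w (hP.le hk))) hωw
  obtain ⟨n, hn⟩ := hP.pi.card_eq_pow hp
  have hgp : g ^ p ^ (n + j) = 1 := by
    rw [Commute.mul_pow (mem_C1.mp (inv_mem (hPω hk))), pow_add, pow_mul, ← hn,
      H21.pow_card_eq_one_of_mem (inv_mem hk), one_pow, one_mul, mul_comm, pow_mul, hj, one_pow]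
  have hno : ∀ z ∈ Z, z ∈ C{g} → ¬ (z • a = a ∨ z • t • a = t • a) := fun z hz1 hzg e => by
    have h3 := mul_mem (mem_C1_comm.mp hzg) (inv_mem (mem_C1_comm.mp (hZω z hz1 e)))
    rw [mul_inv_cancel_right] at h3
    exact hk1 (p'.K_no_cent hz hkK hz1 (mem_C1.mp ((inv_mem_iff).mp h3)).symm)
  obtain ⟨ε0, hε0, hwε0⟩ := h1.bt.1.exists_ne ε
  obtain ⟨t2, -, h3⟩ := h1.move' hwε hwε0 hε0
  obtain ⟨ε', hε', hε'ε, hgε'⟩ := h3.pl.fix_second hz hp h2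
    (piElt_of_pow_eq_one (piNat_self_pow hp _) hgp).isPi (zp_le_N (norm_self _ hgw))
    (zpowers_le.mpr hgε)
  obtain ⟨s, ⟨s1, s2, rfl⟩, s3⟩ := h3.exists_TT_cent hp hq1 hgp (mem_C1.mp hgw) hgε
    (h3.mem_orb.mp hε') hε'ε (hgε' (mem_zpowers g))
  have c1 := card_modEq hp hgp (norm_Az hz (norm_self _ hgw) hgε)
  have c2 := card_modEq hp hgp (norm_Az hz (norm_self ⊤ (mem_top g)) hgε)
  rw [h3.pl.cardA] at c1
  rw [(hAs ε).1] at c2
  have c3 : ¬ 2 ^ d ≡ 1 [MOD p] := fun e =>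
    hq1 ((Nat.modEq_iff_dvd' (by omega)).mp e.symm)
  have c4 : 2 ^ (2 * d) ≡ 1 [MOD p] :=
    ((Nat.modEq_iff_dvd' Nat.one_le_two_pow).mpr (eq2 ▸ o.dvd.mul_left _)).symm
  have hmem : ∀ x ∈ Az Z ⊤ ε ⊓ C{g}, x ≠ 1 → x ∈ ZA Z C{g} ε := fun x hx h4 =>
    ⟨((hAs ε).2 x hx.1).resolve_left h4, hx.2, Az_fix hx.1⟩
  have hle : ¬ Az Z ⊤ ε ⊓ C{g} ≤ Az Z C{y * t} ε := fun e => c3 (by
    rw [show Az Z C{y * t} ε ⊓ C{g} = Az Z ⊤ ε ⊓ C{g} from le_antisymm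
      (inf_le_inf_right _ (Az_mono le_top ε)) (le_inf e inf_le_right)] at c1
    exact c1.trans (c2.symm.trans c4))
  obtain ⟨u, hu, hu1⟩ := exists_ne_one (H := Az Z C{y * t} ε ⊓ C{g}) fun e => c3 (by
    rwa [e, card_bot] at c1)
  obtain ⟨v, hv, hv1⟩ := SetLike.not_le_iff_exists.mp hle
  have hu' : u ∈ Az Z ⊤ ε ⊓ C{g} := ⟨Az_mono le_top ε hu.1, hu.2⟩
  have hv2 : v ≠ 1 := fun e => hv1 (e ▸ one_mem _)
  have hg1 : g ≠ 1 := fun e4 => hno e he.1 (mem_C1.mpr (by rw [e4, mul_one, one_mul]))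
    (Or.inl he.2.2)
  obtain ⟨d2, i2, p2⟩ := h.cl.pl C{g} ε s (h.sm.C_ne_top hg1 hgε)
    ⟨u, hmem u hu' hu1, v, hmem v hv hv2, fun e => hv1 (e ▸ hu.1), by
      have i1 := hz.inv _ (hmem u hu' hu1).1
      have i2 := hz.inv _ (hmem v hv hv2).1
      rcases (hAs ε).2 _ (mul_mem hu'.1 hv.1) with e | e
      · rw [e, mul_eq_one_comm.mp e]
      · rw [← (hz.inv _ e).inv, mul_inv_rev, i1.inv, i2.inv]⟩
    s1 (mem_C1.mpr s3.symm) hε'ε fun u hu v hv e => by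
      rcases (hAs ε).2 _ (mul_mem (mem_Az ⟨hu.1, mem_top _, hu.2.2⟩)
        (mem_Az ⟨hv.1, mem_top _, hv.2.2⟩)) with e4 | e4
      · rw [← (hz.inv v hv.1).inv]; exact eq_inv_of_mul_eq_one_left e4
      · exact absurd (hz.nar _ e4 _ _ (e.2 s (mem_C1.mpr s3.symm)) (Ker_fix e)) hε'ε
  have h4 := (hz.card_eq_or_sq p2.memA h3.bt.1.1 (norm_self _ (mem_C1_comm.mp hgw)) hwε s1 p2.tY
    (mem_C1.mp s2) hε'ε).resolve_left fun e =>
      hv1 (mem_Az ⟨(hmem v hv hv2).1, e (mem_Az (hmem v hv hv2)), Az_fix hv.1⟩)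
  have hKg : Kz Z C{y} a t ≤ C{g} := fun l hl => mem_C1_comm.mp (mul_mem (inv_mem
    (mem_C1.mpr (p'.K_comm hz hkK (hKK.le hl).1))) (mem_C1_comm.mp (Kz_le _ _ _ _ (hKK.le hl).1)))
  have h5 := H16.card_dvd_ncard_of_semiregular (Kz Z C{y} a t) (Orb C{g} ε) (Set.toFinite _)
    (fun l hl x hx => smul_mem_Orb (hKg hl) hx) fun l hl x ⟨m, hm, e⟩ e4 => by
      by_contra h5
      obtain ⟨l', hl', hr⟩ := exists_prime_mem_zp h5
      have hl2 := zpowers_le.mpr hl hl'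
      have hx := hz.conj_ZA (hmem u hu' hu1) (norm_self _ hm)
      rw [e] at hx
      have h6 := h.dvd_mu hμ hl2 hr ((zpowers_le.mpr e4 : _ ≤ stabilizer G x) hl')
        (fun e5 => hno _ hx.1 hx.2.1 (Or.inl (e5 ▸ hx.2.2)))
        fun e5 => hno _ hx.1 hx.2.1 (Or.inr (e5 ▸ hx.2.2))
      have h7 := Nat.eq_sub_of_add_eq pl.cardK ▸ orderOf_dvd_card' hl2
      rw [hμ2, show 2 ^ d + 1 = 2 ^ d - 1 + 2 by omega] at h6
      exact hr.one_lt.ne' (Nat.Coprime.eq_one_of_dvd (Nat.coprime_two_right.mpr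
        (odd_orderOf_of_mem (pl.K_odd hz) hl2)) ((Nat.dvd_add_right h7).mp h6))
  rw [p2.card, ← p2.cardA, h4, ← pow_mul, mul_comm, pow_mul, Nat.eq_sub_of_add_eq pl.cardK] at h5
  have h6 : 4 ∣ 2 ^ d := pow_dvd_pow 2 hd
  exact not_dvd_sq_add_one (by omega) h5

end ZD
end H6
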