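import Mathlib
import Cfsg.Agent.H6.ZC2

/-! Aschbacher's criterion: the unitary case is impossible. -/

set_option autoImplicit false
set_option linter.unusedSectionVars false
set_option linter.unusedVariables false

namespace H6
namespace ZD

open H24 H3.B71 Subgroup MulAction C0 C2x

variable {G Ω : Type*} [Group G] [Finite G] [MulAction G Ω] [Finite Ω] {Z : Set G}

namespace C3x

theorem exists_comm_mod' {P U B : Subgroup G} (hP : IsPi {2} P) (hU : IsPi {2} U)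
    (hUB : U ≤ N[B]) (hPU : P ≤ N[U]) (hPB : P ≤ N[B]) (h : ¬ U ≤ B) :
    ∃ x ∈ U, x ∉ B ∧ ∀ g ∈ P, g * x * g⁻¹ * x⁻¹ ∈ B := by
  obtain ⟨z, hz, h1⟩ := exists_ne_one (IsPi.inf_C_ne_bot Nat.prime_two (hP.quo B) (hU.quo B)
    (quo_norm B hPU) fun e => h ((quo_eq_bot hUB).mp e))
  obtain ⟨x, hx, hxN, rfl⟩ := mem_quo.mp hz.1
  refine ⟨x, hx, fun e => h1 (cs_of_mem e), fun g hg => (cs_comm (hPB hg) hxN hxN).mpr ?_⟩
  rw [mem_C.mp hz.2 _ (cs_mem_quo hg (hPB hg)), mul_inv_cancel_right]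

theorem eq_bot_of_no_inv {X : Subgroup G} (hX : IsPi {2} X) (h : ∀ v ∈ X, ¬ Inv v) : X = ⊥ :=
  hX.eq_bot (odd_iff_isPi.mp (odd_of_no_inv h))

theorem exists_inv_of_two {X : Subgroup G} (hX : IsPi {2} X) (h : X ≠ ⊥) : ∃ v ∈ X, Inv v := by
  by_contra! e
  exact h (eq_bot_of_no_inv hX e)

theorem card_mul_le {A B M : Subgroup G} (hA : A ≤ M) (hB : B ≤ M) :
    ♯A * ♯B ≤ ♯M * ♯(A ⊓ B) := by
  rw [← card_mul_relIndex hA, ← card_inf_mul_relIndex A B, mul_assoc, mul_comm ♯(A ⊓ B)]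
  exact Nat.mul_le_mul_left _ (Nat.mul_le_mul_right _
    (relIndex_le_of_le_right hB (relIndex_ne_zero' _ _)))

theorem num {d μ p : ℕ} (hd : 2 ≤ d) (h1 : μ ∣ Nat.gcd 3 (2 ^ d + 1) * ((2 ^ d) ^ 2 - 1))
    (h2 : 2 ^ (2 * d - 1) ∣ μ + (2 ^ d - 1)) (hp : p.Prime) (h3 : p ∣ 2 ^ d + 1)
    (h4 : μ ≡ 1 [MOD p]) : False := by
  by_cases e2 : d = 2
  · subst e2
    norm_num at h1 h2 h3
    obtain rfl := (Nat.prime_dvd_prime_iff_eq hp (by norm_num)).mp h3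
    have := Nat.le_of_dvd (by norm_num) h1
    unfold Nat.ModEq at h4
    interval_cases μ <;> omega
  by_cases e3 : d = 3
  · subst e3
    norm_num at h1 h2
    have := Nat.le_of_dvd (by norm_num) h1
    obtain ⟨c, hc⟩ := h2
    obtain ⟨ν, hν⟩ := h1
    have : c ≤ 6 := by omega
    obtain rfl : μ = 32 * c - 7 := by omega
    interval_cases c <;> omega
  obtain ⟨k, rfl⟩ : ∃ k, d = k + 1 := ⟨d - 1, by omega⟩
  have hr : 2 ^ 3 ≤ 2 ^ k := Nat.pow_le_pow_right (by norm_num) (by omega)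
  rw [show 2 * (k + 1) - 1 = k + k + 1 by omega, pow_succ, pow_add] at h2
  rw [pow_succ] at h1 h2
  have hg := Nat.le_of_dvd (by norm_num) (Nat.gcd_dvd_left 3 (2 ^ k * 2 + 1))
  have hg0 := Nat.gcd_pos_of_pos_left (2 ^ k * 2 + 1) (by norm_num : 0 < 3)
  generalize Nat.gcd 3 (2 ^ k * 2 + 1) = g at *
  generalize 2 ^ k = r at *
  obtain ⟨ν, hν⟩ := h1
  obtain ⟨c, hc⟩ := h2
  have e1 : μ + r * 2 = r * r * 2 * c + 1 := by omega
  have e4 : μ * ν + g = g * (r * 2) ^ 2 := by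
    have : 1 ≤ (r * 2) ^ 2 := Nat.one_le_pow _ _ (by omega)
    rw [← hν, Nat.mul_sub_one]
    exact Nat.sub_add_cancel (Nat.le_mul_of_pos_right _ this)
  have hc0 : 1 ≤ c := by
    by_contra h
    obtain rfl : c = 0 := by omega
    omega
  have h5 : r * 2 ∣ ν + g := by
    have : r * r * 2 * c * ν + (ν + g) = g * (r * 2) ^ 2 + r * 2 * ν := by
      calc _ = (r * r * 2 * c + 1) * ν + g := by ring
        _ = _ := by rw [← e1, ← e4]; ring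
    have h9 : r * 2 ∣ r * r * 2 * c * ν + (ν + g) := ⟨g * (r * 2) + ν, by rw [this]; ring⟩
    exact (Nat.dvd_add_right ⟨r * c * ν, by ring⟩).mp h9
  have h6 := Nat.le_of_dvd (by omega) h5
  have h7 : r * r * 2 + 1 ≤ μ + r * 2 := by nlinarith
  have h8 : μ * 13 ≤ μ * ν := Nat.mul_le_mul_left _ (by omega)
  nlinarith

theorem exists_b {y t ω : G} {a : Ω} {d p : ℕ} (h : Bt Z y a t d 3) (o : Om Z C{y} a t d ω p) :
    ∃ b ∈ Orb C{ω} a, y • b ≠ b := by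
  have hz := h.ze
  obtain ⟨e, he, -⟩ := h.pl.pair hz
  obtain ⟨t', h'⟩ := h.mul (mem_Az he)
  obtain ⟨h2, hq⟩ := h.pl.om_odd hz o
  have hω : ω ∈ C{y * e} := mem_C1_comm.mp (mul_mem (mem_C1_comm.mp (Lz_le _ _ o.memL))
    (mem_C1.mpr (o.cA e (mem_Az he)).symm))
  obtain ⟨b, hb, hba, hωb⟩ := h'.pl.fix_second hz o.prime h2 (h.pl.om_pi hz o)
    (zp_le_N (norm_self _ hω)) (zpowers_le.mpr o.fixa)
  obtain ⟨j, hj⟩ := o.pel
  obtain ⟨s, ⟨s1, s2, rfl⟩, s3⟩ := h'.exists_TT_cent o.prime hq hj (mem_C1.mp hω) o.fixa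
    (h'.mem_orb.mp hb) hba (hωb (mem_zpowers ω))
  exact ⟨_, ⟨s, mem_C1.mpr s3.symm, rfl⟩, fun e1 =>
    hba (h.fix_inter (mem_Az he) (hz.inv e he.1).1 e1 (h'.mem_orb.mp hb))⟩

end C3x

open C3x

theorem Bt.pl_om_three {y t ω : G} {a : Ω} {d p : ℕ} (h : Bt Z y a t d 3) (hm : Mx Ω Z d)
    (o : Om Z C{y} a t d ω p) : Pl Z C{ω} a t d 3 ∧ Az Z C{ω} a = Az Z C{y} a := by
  obtain ⟨d', i', p', e, hd⟩ := h.pl_om o
  obtain rfl := hd.resolve_right fun e1 => h.not_c2 hm o (e1 ▸ p')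
  have eA : Az Z C{ω} a = Az Z C{y} a :=
    (eq_of_card_eq (e.ge.trans inf_le_left) (h.pl.cardA.trans p'.cardA.symm)).symm
  refine ⟨?_, eA⟩
  by_cases hi : i' = 3
  · exact hi ▸ p'
  obtain ⟨b, hb, hyb⟩ := exists_b h o
  obtain ⟨x, hx, rfl⟩ := p'.gen hi b hb
  exact absurd (h.mem_orb.mp ⟨x, (sup_le (eA ▸ Az_le _ _ _) (zpowers_le.mpr h.pl.tY) : _ ≤ C{y}) hx,
    rfl⟩) hyb

theorem Bt.ker_syl {y t : G} {a : Ω} {d : ℕ} (h : Bt Z y a t d 3) (hm : Mx Ω Z d)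
    {X : Subgroup G} (hX : IsPi {2} X) (hK : X ≤ Ker C{y} a) : X ≤ zpowers y := by
  have hz := h.ze
  have iy := h.bt.1.1
  obtain ⟨ω, p, o⟩ := h.pl.om rfl
  obtain ⟨p', eA⟩ := h.pl_om_three hm o
  obtain ⟨ω', r, o'⟩ := p'.om rfl
  obtain ⟨b, hb, hyb⟩ := exists_b h o
  have h1 : IsPi {2} (X ⊔ zpowers y) := hX.sup (isPi_of_card_prime Nat.prime_two iy.card_zpowers)
    (norm_of_cent (zpowers_le.mpr (mem_C_iff_le_C1.mpr (hK.trans (Ker_le _ _)))))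
  have h2 : X ⊔ zpowers y ≤ Ker C{y} a := sup_le hK (zpowers_le.mpr h.y_mem_Ker)
  have hA : Ker C{y} a ≤ C[Az Z C{y} a] := fun n hn =>
    mem_C.mpr fun u hu => h.pl.L_cent hz (Az_le_Lz _ _ _ hu) hn
  have h3 := p'.relIndex_le_two hz o' h1
    (fun x hx => mem_C1.mpr (h.pl.L_cent hz o.memL (h2 hx)).symm) (fun x hx => Ker_fix (h2 hx))
    (fun x hx => Ker_smul (h2 hx) (h.pl.b_mem hz)) (eA ▸ h2.trans hA)
  have h4 : Ker C{ω} a ⊓ (X ⊔ zpowers y) = ⊥ := eq_bot_of_no_inv (h1.of_le inf_le_right)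
    fun v hv hi => hyb (h.fix_eq_of_max hm hi (hA (h2 hv.2)) (h.mem_Ker.mp (h2 hv.2)).2
      (Ker_smul hv.1 hb))
  have h5 := card_inf_mul_relIndex (Ker C{ω} a) (X ⊔ zpowers y)
  rw [h4, card_bot, one_mul] at h5
  exact le_sup_left.trans (eq_of_card_ge le_sup_right (by rw [iy.card_zpowers]; omega)).ge

theorem Bt.not_c {y t : G} {a : Ω} {d : ℕ} (h : Bt Z y a t d 3) (hm : Mx Ω Z d) : False := by
  have hz := h.ze
  have pl := h.pl
  have iy := h.bt.1.1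
  have ht := pl.tZ
  have it := hz.inv t ht
  have hq := pl.four_le hz
  have hya := h.bt.2.1
  obtain ⟨ω, p, o⟩ := pl.om rfl
  obtain ⟨p', eA⟩ := h.pl_om_three hm o
  obtain ⟨b', hb', hyb'⟩ := exists_b h o
  obtain ⟨μ, -, hμ⟩ := h.exists_mu
  have hp := o.prime
  have hωy : ω ∈ C{y} := Lz_le _ _ o.memL
  have hyω : y ∈ C{ω} := mem_C1_comm.mp hωy
  have y2 : IsPi {2} (zpowers y) := isPi_of_card_prime Nat.prime_two iy.card_zpowers
  have eK : Kz Z C{y} a t = Kz Z C{ω} a t := eq_of_card_eq (fun k hk => (p'.memK k).mpr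
    ⟨mem_C_iff_le_C1.mp (pl.om_cent_K hz o) hk, ((pl.memK k).mp hk).2⟩)
    (Nat.add_right_cancel (pl.cardK.trans p'.cardK.symm))
  have hμp : μ ≡ 1 [MOD p] := by
    have htw : t ∈ C{y * t} := mem_C1.mpr (by rw [← mul_assoc, mem_C1.mp pl.tY])
    have hωw : zpowers ω ≤ C{y * t} := zpowers_le.mpr (mem_C1_comm.mp (mul_mem hyω p'.tY))
    have := conj_modEq (S := TT Z C{y * t} a (t • a)) hp (pl.om_pi hz o) fun x hx s hs => by
      have h1 : x • a = a := (zpowers_le.mpr o.fixa : zpowers ω ≤ stabilizer G a) hx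
      have h2 : x • t • a = t • a :=
        (zpowers_le.mpr (pl.om_fixb hz o) : zpowers ω ≤ stabilizer G _) hx
      simpa [h1, h2] using hz.conj_TT hs (norm_self _ (hωw hx))
    rwa [h.mu_eq' hμ ⟨ht, pl.tY, rfl⟩, show {s ∈ TT Z C{y * t} a (t • a) | zpowers ω ≤ C{s}} = {t}
      from Set.eq_singleton_iff_unique_mem.mpr ⟨⟨⟨ht, htw, rfl⟩, zpowers_le.mpr (mem_C1.mpr o.ct)⟩,
        fun s hs => by
          have e : t * (t * s) = s := by rw [← mul_assoc, it.2, one_mul]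
          have hk : t * s ∈ Kz Z C{y} a t := eK ▸ (p'.memK _).mpr ⟨mul_mem p'.tY
            (mem_C1_comm.mp (hs.2 (mem_zpowers ω))), by rw [mul_smul, hs.1.2.2, it.smul_smul],
            e.symm ▸ hs.1.1⟩
          have h1 := mul_mem (mem_C1_comm.mp (Kz_le _ _ _ _ hk))
            (mem_C1_comm.mp (mul_mem htw hs.1.2.1))
          rw [← mul_assoc, iy.2, one_mul] at h1
          rw [← e, pl.K_no_cent hz hk ht (mem_C1.mp h1), mul_one]⟩, Set.ncard_singleton] at this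
  set A := Az Z C{y} a with hA
  set U := Uz Z C{y} a with hU
  set V := Uz Z C{ω} a with hV
  have hUy : U ≤ C{y} := U_le hz pl
  have hVω : V ≤ C{ω} := U_le hz p'
  have hUA : U ≤ C[A] := fun x hx => mem_C'.mpr (pl.centA x hx)
  have hVA : V ≤ C[A] := fun x hx => mem_C'.mpr (eA ▸ p'.centA x hx)
  have hyA : y ∈ C[A] := mem_C_iff_le_C1.mpr (Az_le _ _ _)
  have hAV : A ≤ V := eA ▸ p'.A_le_U hz
  have hAU : A ≤ U := pl.A_le_U hz
  have hyV : y ∈ N[V] := norm_Uz hz (norm_self _ hyω) hya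
  have hker : ∀ x ∈ Ker C{y} a, ∀ n : ℕ, x ^ 2 ^ n = 1 → x ∈ zpowers y := fun x hx n hn =>
    h.ker_syl hm (piElt_of_pow_eq_one (piNat_self_pow Nat.prime_two n) hn).isPi
      (zpowers_le.mpr hx) (mem_zpowers x)
  have hVN : Ker C{ω} a ⊓ V = ⊥ := by
    by_contra e
    obtain ⟨v, hv, hi⟩ := exists_inv_of_two (((p'.U_two hz).of_le inf_le_right).of_le inf_le_left)
      (IsPi.inf_C_ne_bot Nat.prime_two y2 ((p'.U_two hz).of_le inf_le_right)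
        (zp_le_N (mem_N_inf ((Ker_nml _ a).norm hyω) hyV)) e)
    have h1 := pl.mem_Ker_of_comm hz o (C_zpowers y ▸ hv.2) (n := 1)
      (by rw [pow_one, pow_two, hi.2]) (Ker_fix hv.1.1) (Ker_smul hv.1.1 (p'.b_mem hz))
      (hVA hv.1.2) (by rw [mem_C1_iff_conj.mp hv.1.1.1]; simp)
    rw [(iy.mem_zp (hker v h1 1 (by rw [pow_one, pow_two, hi.2]))).resolve_left hi.1] at hv
    exact hyb' (Ker_smul hv.1.1 hb')
  have hVsq : ∀ x ∈ V, x * x ∈ A := fun x hx => by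
    obtain ⟨u, hu, n, hn, e⟩ := (p'.mem_AN hz).mp (p'.sqU x hx)
    rw [eA] at hu
    have : n ∈ V := (V.mul_mem_cancel_left (hAV hu)).mp (e ▸ mul_mem hx hx)
    rwa [e, mem_bot.mp (hVN.le ⟨hn, this⟩), mul_one]
  set E := A ⊔ zpowers y with hE
  have hAE : A ≤ E := le_sup_left
  have hyE : y ∈ E := mem_sup_right (mem_zpowers y)
  have hCE : ∀ x, x ∈ C[E] ↔ x ∈ C[A] ∧ x ∈ C{y} := fun x => by
    rw [hE, C_sup, C_zpowers, mem_inf]
  have hEAN : E ≤ AN Z C{y} a := sup_le le_sup_left (zpowers_le.mpr (mem_sup_right h.y_mem_Ker))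
  have hANE : U ⊓ AN Z C{y} a ≤ E := fun x hx => by
    obtain ⟨u, hu, n, hn, rfl⟩ := (pl.mem_AN hz).mp hx.2
    obtain ⟨j, hj⟩ := ((pl.memU n).mp ((U.mul_mem_cancel_left (hAU hu)).mp hx.1)).2.2
    exact mul_mem (hAE hu) (mem_sup_right (hker n hn j hj))
  have hUE : U ≤ C[E] := fun x hx => (hCE x).mpr ⟨hUA hx, hUy hx⟩
  have hωE : ω ∈ C[E] := (hCE ω).mpr ⟨mem_C'.mpr o.cA, hωy⟩
  obtain ⟨e0, he0, -⟩ := pl.pair hz
  have hCa : C[A] ≤ stabilizer G a := fun x hx =>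
    hz.fix_of_comm he0.1 he0.2.2 (mem_C.mp hx e0 (mem_Az he0))
  have hR := pcore_nml {2} C[E]
  have hR2 := pcore_pi {2} C[E]
  set R := O[{2}, C[E]]
  have hUR : U ≤ R := pcore_max' (pl.U_two hz) hUE fun x hx =>
    norm_Uz hz (norm_self _ ((hCE x).mp hx).2) (hCa ((hCE x).mp hx).1)
  have hRU : ∀ x ∈ R, ∃ u ∈ U, u⁻¹ * x ∈ zpowers y := fun x hx => by
    obtain ⟨x1, x2⟩ := (hCE x).mp (hR.le hx)
    obtain ⟨u, hu, e⟩ := pl.trans (x • t • a) (smul_mem_Orb x2 (pl.b_mem hz)) fun e => pl.ta (by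
      rwa [← (hCa x1 : x • a = a), smul_left_cancel_iff, (hCa x1 : x • a = a)] at e)
    refine ⟨u, hu, ?_⟩
    have hg : u⁻¹ * x ∈ R := mul_mem (inv_mem (hUR hu)) hx
    have hgb : (u⁻¹ * x) • t • a = t • a := by rw [mul_smul, ← e, inv_smul_smul]
    generalize u⁻¹ * x = g at hg hgb
    obtain ⟨g1, g2⟩ := (hCE g).mp (hR.le hg)
    obtain ⟨n, hn⟩ := hR2.card_eq_pow Nat.prime_two
    have h2 : ∀ g ∈ R, g ^ 2 ^ n = 1 := fun g hg => hn ▸ H21.pow_card_eq_one_of_mem hg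
    refine hker g (pl.mem_Ker_of_comm hz o g2 (h2 g hg) (hCa g1) hgb g1 ?_) n (h2 g hg)
    obtain ⟨j, hj⟩ := o.norm g g2 (hCa g1) hgb
    have hN := (Ker_nml C{y} a).norm
    have h3 : g * ω * g⁻¹ * ω⁻¹ ∈ R := by
      rw [mul_assoc, mul_assoc, ← mul_assoc ω]; exact mul_mem hg (hR.conj_mem hωE (inv_mem hg))
    have h4 := hN ((hCE _).mp (hR.le h3)).2
    refine mem_of_pow_mem (m := p) (n := 2 ^ n) ?_ (by rw [h2 _ h3]; exact one_mem _)
      ((Nat.Prime.coprime_iff_not_dvd hp).mpr (pl.om_not_dvd hz o n))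
    rw [cs_comm (hN g2) (hN hωy) (pow_mem (hN hωy) j), cs_pow (hN hωy)] at hj
    have e1 := cs_of_mem o.powK
    rw [cs_pow (hN hωy)] at e1
    rw [← cs_eq_one (pow_mem h4 p), cs_pow h4, cs_mul (mul_mem (mul_mem (hN g2) (hN hωy))
      (inv_mem (hN g2))) (inv_mem (hN hωy)), cs_mul (mul_mem (hN g2) (hN hωy)) (inv_mem (hN g2)),
      cs_mul (hN g2) (hN hωy), cs_inv (hN g2), cs_inv (hN hωy), hj,
      ((Commute.refl _).pow_left j).inv_right.mul_pow, ← pow_mul, mul_comm, pow_mul, inv_pow, e1]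
    simp
  have hKy : Kz Z C{y} a t ≤ C{y} := Kz_le _ _ _ _
  have hKA : Kz Z C{y} a t ≤ N[A] := (pl.sing hz).norm
  have hKU : Kz Z C{y} a t ≤ N[U] := fun k hk => norm_Uz hz (norm_self _ (hKy hk)) (Kz_fix hk)
  have hKV : Kz Z C{y} a t ≤ N[V] := fun k hk =>
    norm_Uz hz (norm_self _ (Kz_le _ _ _ _ (eK.le hk))) (Kz_fix hk)
  have hyN : C{y} ≤ N[zpowers y] := fun k hk => C_le_N _ (C_zpowers y ▸ hk)
  have hKE : Kz Z C{y} a t ≤ N[E] := norm_sup hKA (hKy.trans hyN)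
  set U1 := CM y V A (norm_of_cent hVA) with hU1
  have hU1V : U1 ≤ V := fun x hx => hx.1
  have hU1E : U1 ≤ N[E] := fun u hu => mem_N_of_finite fun x hx => by
    simpa using mem_cj.mp ((sup_le
    (fun x hx => mem_cj.mpr (hAE (conj_mem' (inv_mem (C_le_N _ (hVA hu.1))) hx))) (zpowers_le.mpr
      (mem_cj.mpr (by
        rw [show u⁻¹⁻¹ * y * u⁻¹ = (y * u * y⁻¹ * u⁻¹)⁻¹ * y by group]
        exact mul_mem (hAE (inv_mem hu.2)) hyE))) : E ≤ H24.cj u⁻¹ E) hx)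
  have hKU1 : Kz Z C{y} a t ≤ N[U1] := fun k hk => mem_N_CM _ (hKV hk) (hKA hk) hyV (by
    rw [← mem_C1.mp (hKy hk)]; simp)
  let W : Subgroup G :=
    { carrier := {x | x ∈ U ∧ ∀ g ∈ U1, g * x * g⁻¹ * x⁻¹ ∈ E}
      one_mem' := ⟨one_mem _, fun g _ => by simp⟩
      mul_mem' := fun {x x'} hx hx' => ⟨mul_mem hx.1 hx'.1, fun g hg =>
        ((CM g U E (norm_of_cent hUE)).mul_mem ⟨hx.1, hx.2 g hg⟩ ⟨hx'.1, hx'.2 g hg⟩).2⟩
      inv_mem' := fun {x} hx => ⟨inv_mem hx.1, fun g hg =>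
        ((CM g U E (norm_of_cent hUE)).inv_mem ⟨hx.1, hx.2 g hg⟩).2⟩ }
  have hWN : ∀ k, k ∈ N[U] → k ∈ N[U1] → k ∈ N[E] → k ∈ N[W] := fun k h1 h2 h3 =>
    mem_N_of_finite fun x hx => ⟨conj_mem h1 hx.1, fun g hg => by
      rw [show g * (k * x * k⁻¹) * g⁻¹ * (k * x * k⁻¹)⁻¹ =
        k * (k⁻¹ * g * k * x * (k⁻¹ * g * k)⁻¹ * x⁻¹) * k⁻¹ by group]
      exact conj_mem h3 (hx.2 _ (conj_mem' h2 hg))⟩
  have hnU := not_U_le hz pl (by norm_num)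
  have hW : W = U := (pl.om_irr hz o (V := W) (fun x hx => ⟨hx.1, fun g hg =>
      mul_mem (conj_mem (hU1E hg) (hANE hx)) (inv_mem (hANE hx))⟩) (fun x hx => hx.1)
    (fun k hk => hWN k (hKU hk) (hKU1 hk) (hKE hk)) (hWN ω (pl.om_N_U hz o)
      (C_le_N _ (mem_C_iff_le_C1.mpr (hU1V.trans hVω))) (C_le_N _ hωE))).resolve_left fun e => by
    obtain ⟨x, hx, hxE, h1⟩ := exists_comm_mod' ((p'.U_two hz).of_le hU1V) hR2
      (norm_of_cent hR.le) (norm_pcore _ (hU1E.trans (N_le_NC E))) hU1E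
      fun e1 => hnU (hUR.trans (e1.trans hEAN))
    obtain ⟨u, hu, h2⟩ := hRU x hx
    have h3 : u⁻¹ * x ∈ E := mem_sup_right h2
    refine hxE ((E.mul_mem_cancel_left (inv_mem (hANE ⟨hu, e ⟨hu, fun g hg => ?_⟩⟩))).mp h3)
    rw [show g * u * g⁻¹ * u⁻¹ = g * x * g⁻¹ * x⁻¹ *
      (x * (g * (u⁻¹ * x)⁻¹ * g⁻¹ * (u⁻¹ * x)) * x⁻¹) by group]
    exact mul_mem (h1 g hg) (conj_mem (C_le_N _ (hR.le hx))
      (mul_mem (conj_mem (hU1E hg) (inv_mem h3)) h3))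
  have hcm : ∀ x ∈ U, ∀ g ∈ U1, g ∈ C{ω * x * ω⁻¹ * x⁻¹} := fun x hx g hg => by
    have h1 := (hW.ge hx).2 g hg
    have h2 := mem_C.mp hωE _ h1
    have h3 := mem_C.mp (hUE (mul_mem (conj_mem (pl.om_N_U hz o) hx) (inv_mem hx))) _ h1
    have h4 := mem_C1_iff_conj.mp (hVω (hU1V hg))
    rw [mem_C1_iff_conj]
    calc _ = (g * ω * g⁻¹) * (g * x * g⁻¹ * x⁻¹) * x * (g * ω * g⁻¹)⁻¹ * x⁻¹ *
          (g * x * g⁻¹ * x⁻¹)⁻¹ := by group
      _ = (g * x * g⁻¹ * x⁻¹) * (ω * x * ω⁻¹ * x⁻¹) * (g * x * g⁻¹ * x⁻¹)⁻¹ := by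
          rw [h4, ← h2]; group
      _ = _ := by rw [h3]; group
  set Ys := Subgroup.closure {x | ∃ u ∈ V, x = u * y * u⁻¹} with hYs
  have hYN : ∀ k, k ∈ N[V] → (k ∈ V ∨ k ∈ C{y}) → k ∈ N[Ys] := fun k h1 h2 =>
    h2.elim (fun h3 => (norm_closure (X := V) (by
      rintro k hk _ ⟨u, hu, rfl⟩
      exact Subgroup.subset_closure ⟨k * u, mul_mem hk hu, by group⟩)) h3) fun h3 =>
      (norm_closure (X := N[V] ⊓ C{y}) (by
        rintro k hk _ ⟨u, hu, rfl⟩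
        refine Subgroup.subset_closure ⟨_, conj_mem hk.1 hu, ?_⟩
        conv_rhs => rw [← mem_C1_iff_conj.mp hk.2]
        group)) ⟨h1, h3⟩
  set C0 := C[A] ⊓ C[Ys] with hC0
  have hC0N : ∀ k, k ∈ N[A] → k ∈ N[V] → (k ∈ V ∨ k ∈ C{y}) → k ∈ N[O[{2}, C0]] :=
    fun k h1 h2 h3 => N_le_N_pcore _ _ (mem_N_inf (N_le_NC A h1) (N_le_NC Ys (hYN k h2 h3)))
  have hyY : y ∈ Ys := Subgroup.subset_closure ⟨1, one_mem _, by group⟩
  have hC0E : C0 ≤ C[E] := fun x hx => (hCE x).mpr ⟨hx.1, C_le_C1 hyY hx.2⟩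
  have hωV : ω ∈ C[V] := mem_C_iff_le_C1.mpr hVω
  have hUH : U ⊓ (O[{2}, C0] ⊔ E) = U := (pl.om_irr hz o (le_inf inf_le_left (hANE.trans le_sup_right))
    inf_le_left (norm_inf hKU (norm_sup (fun k hk => hC0N k (hKA hk) (hKV hk) (Or.inr (hKy hk))) hKE))
    (mem_N_inf (pl.om_N_U hz o) (mem_N_sup (hC0N ω (C_le_N _ (mem_C'.mpr o.cA)) (C_le_N _ hωV)
      (Or.inr hωy)) (C_le_N _ hωE)))).resolve_left fun e => hnU fun x hx => by
    have h1 := mul_mem (conj_mem (pl.om_N_U hz o) hx) (inv_mem hx)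
    refine pl.om_fpf hz o hx (e ⟨h1, mem_sup_left (pcore_inf_le _ hC0E ⟨hUR h1, hUA h1,
      mem_C_iff_le_C1.mpr ((closure_le _).mpr ?_)⟩)⟩)
    rintro _ ⟨u, hu, rfl⟩
    rw [show u * y * u⁻¹ = u * (y * u⁻¹ * y⁻¹) * y by group]
    have h2 := mul_mem hu (conj_mem hyV (inv_mem hu))
    refine mul_mem (hcm x hx _ ⟨h2, ?_⟩) (mem_C1_comm.mp (hUy h1))
    have e1 : y * (u * (y * u⁻¹ * y⁻¹)) * y⁻¹ = (u * (y * u⁻¹ * y⁻¹))⁻¹ := by
      calc _ = y * u * y⁻¹ * (y * y) * u⁻¹ * (y * y)⁻¹ := by group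
        _ = _ := by rw [iy.2]; group
    rw [e1]
    exact hVsq _ (inv_mem h2)
  set H := O[{2}, C0] ⊔ (V ⊔ zpowers y) with hH
  have hH2 : IsPi {2} H := (pcore_pi _ _).sup ((p'.U_two hz).sup y2 (zp_le_N hyV))
    (sup_le (fun k hk => hC0N k (C_le_N _ (hVA hk)) (norm_self V hk) (Or.inl hk))
      (zp_le_N (hC0N y (C_le_N _ hyA) hyV (Or.inr (self_mem_C1 y)))))
  have hHA : H ≤ C[A] := sup_le ((pcore_le _ _).trans inf_le_left) (sup_le hVA (zpowers_le.mpr hyA))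
  have hcard : 2 ^ (5 * d + 1) ≤ ♯H := by
    have hVH : V ≤ H := le_sup_left.trans le_sup_right
    have hyH : zpowers y ≤ H := le_sup_right.trans le_sup_right
    have h1 := card_mul_le (A := U ⊔ zpowers y) (sup_le (hUH.ge.trans (inf_le_right.trans
      (sup_le le_sup_left (sup_le (hAV.trans hVH) hyH)))) hyH) hVH
    have h2 : (U ⊔ zpowers y) ⊓ V ≤ A := fun x hx => by
      obtain ⟨u, hu, z, hzy, rfl⟩ := (mem_sup_of_norm (norm_of_cent (zpowers_le.mpr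
        (mem_C_iff_le_C1.mpr hUy)))).mp hx.1
      have h3 : u ∈ C{ω} := (mul_mem_cancel_right (zpowers_le.mpr hyω hzy)).mp (hVω hx.2)
      have h4 := mul_mem (hANE ⟨hu, pl.om_fpf hz o hu (by rw [← mem_C1.mp h3]; simp)⟩)
        (mem_sup_right hzy)
      obtain ⟨u', hu', z', hz', e⟩ := (mem_sup_of_norm (norm_of_cent (zpowers_le.mpr hyA))).mp h4
      rcases iy.mem_zp hz' with rfl | rfl
      · rwa [e, mul_one]
      · have h5 : z' ∈ V := (V.mul_mem_cancel_left (hAV hu')).mp (e ▸ hx.2)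
        exact absurd (hVN.le ⟨p'.free _ h5 _ (p'.b_mem hz) p'.ta h.fix_b, h5⟩) iy.1
    have h3 : ♯V = (2 ^ d) ^ 3 := by
      rw [← card_inf_mul_relIndex (Ker C{ω} a) V, hVN, card_bot, one_mul, p'.relIndex_U hz]
    have h4 : 2 * (2 ^ d) ^ 3 ≤ ♯(U ⊔ zpowers y) := by
      rw [← card_inf_mul_relIndex (Ker C{y} a), ← pl.relIndex_U hz, ← iy.card_zpowers]
      exact Nat.mul_le_mul (card_le (le_inf (zpowers_le.mpr h.y_mem_Ker) le_sup_right))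
        (relIndex_le_of_le_right le_sup_left (relIndex_ne_zero' _ _))
    have h5 := (Nat.mul_le_mul_right _ h4).trans (h1.trans (Nat.mul_le_mul_left _ (card_le h2)))
    rw [h3, pl.cardA] at h5
    exact Nat.le_of_mul_le_mul_right (c := 2 ^ d) (le_of_eq_of_le (by ring) h5) (by omega)
  have hstab : ∀ c : Ω, c ≠ a → ♯(stabilizer G c ⊓ H) ≤ 4 := fun c hc => by
    have hX := hH2.of_le (inf_le_right : stabilizer G c ⊓ H ≤ H)
    by_cases e : stabilizer G c ⊓ H = ⊥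
    · rw [e, card_bot]; norm_num
    obtain ⟨v, hv, hi⟩ := exists_inv_of_two (hX.of_le inf_le_left)
      (IsPi.inf_C_ne_bot Nat.prime_two hX hX (norm_self _) e)
    have hva : v • a = a := hCa (hHA hv.1.2)
    obtain ⟨e1, t', rfl, h'⟩ := h.of_max hm (wide_of_fix hi hc hv.1.1 hva) hva (hHA hv.1.2) hv.1.1 hc
    obtain ⟨ω', r, o'⟩ := h'.pl.om rfl
    have h1 := h'.pl.relIndex_le_two hz o' hX (mem_C_iff_le_C1.mp hv.2)
      (inf_le_right.trans (hHA.trans hCa)) inf_le_left (e1 ▸ inf_le_right.trans hHA)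
    have h2 := card_le (h'.ker_syl hm (hX.of_le inf_le_right) inf_le_left)
    rw [hi.card_zpowers] at h2
    rw [← card_inf_mul_relIndex (Ker C{v} a)]
    exact Nat.mul_le_mul h2 h1
  have hn := dvd_ncard_of_orb (n := 2 ^ (5 * d - 1)) (E := H) (S := {c | c ≠ a})
    (fun g hg c hc e => hc (smul_left_cancel g (e.trans (hCa (hHA hg)).symm)))
    fun c hc => by
      obtain ⟨k, hk⟩ := hH2.card_eq_pow Nat.prime_two
      obtain ⟨j, -, hj⟩ := (Nat.dvd_prime_pow Nat.prime_two).mp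
        (hk ▸ relIndex_dvd_card (stabilizer G c) H)
      have h1 := hcard.trans ((card_inf_mul_relIndex (stabilizer G c) H).ge.trans
        (Nat.mul_le_mul_right _ (hstab c hc)))
      rw [hj, show 4 * 2 ^ j = 2 ^ (j + 2) by ring, Nat.pow_le_pow_iff_right (by norm_num)] at h1
      rw [ncard_Orb, hj]
      exact pow_dvd_pow 2 (by omega)
  have e1 : {c | c ≠ a}.ncard + 1 = Nat.card Ω := by
    rw [← Set.ncard_univ, ← Set.ncard_insert_of_notMem (a := a) (by simp)]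
    congr 1
    ext c
    simp [em]
  obtain ⟨m, hm'⟩ := hn
  have e2 := h.card_eq hμ
  have hd := pl.two_le
  rw [← e1, hm', show 5 * d - 1 = 2 * d - 1 + d * 3 by omega, pow_add, pow_mul] at e2
  refine num hd (h.mu_dvd hμ) ?_ hp o.dvd hμp
  have e3 : 2 ^ (2 * d - 1) * (μ * m) = (2 ^ d) ^ 3 * (2 ^ d - 1) + (μ + (2 ^ d - 1)) := by
    have h0 : 0 < (2 ^ d) ^ 3 := by positivity
    refine Nat.eq_of_mul_eq_mul_left h0 ?_
    generalize 2 ^ d - 1 = r at e2 ⊢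
    generalize 2 ^ (2 * d - 1) = x at e2 ⊢
    generalize (2 ^ d) ^ 3 = q at e2 ⊢
    nlinarith
  refine (Nat.dvd_add_right (Dvd.dvd.mul_right ?_ _)).mp ⟨_, e3.symm⟩
  rw [← pow_mul]
  exact pow_dvd_pow 2 (by omega)

end ZD
end H6
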