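import Mathlib
import Cfsg.Agent.H6.ZB
import Cfsg.Agent.H3.B71D

/-! Aschbacher's criterion: centralisers of big involutions are clean. -/

set_option autoImplicit false
set_option linter.unusedSectionVars false
set_option linter.unusedVariables false

namespace H6
namespace ZD

open H24 H26 H3.B71 Subgroup MulAction Cfsg
open scoped commutatorElement

variable {G Ω : Type*} [Group G] [Finite G] [MulAction G Ω] [Finite Ω] {Z : Set G}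

namespace CC

/-- `O(G_{ab})` -/
abbrev O2 (G : Type*) {Ω : Type*} [Group G] [MulAction G Ω] (a b : Ω) : Subgroup G :=
  O[{2}ᶜ, D2 G a b]

theorem O2_fix {a b : Ω} {x : G} (h : x ∈ O2 G a b) : x • a = a ∧ x • b = b := pcore_le _ _ h

theorem swap_N_O2 {t : G} {a b : Ω} (h1 : t • a = b) (h2 : t • b = a) : t ∈ N[O2 G a b] :=
  N_le_N_pcore _ _ (mem_N_D2 h1 h2)

/-- the pointwise stabiliser of the orbit -/
def Fx (Y : Subgroup G) (a : Ω) : Subgroup G where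
  carrier := {g | ∀ y ∈ Y, g • y • a = y • a}
  mul_mem' := fun {g h} hg hh y hy => by rw [mul_smul, hh y hy, hg y hy]
  one_mem' := fun y _ => one_smul _ _
  inv_mem' := fun {g} hg y hy => by rw [inv_smul_eq_iff, hg y hy]

theorem le_N_Fx (Y : Subgroup G) (a : Ω) : Y ≤ N[Fx Y a] := le_N_iff.mpr fun g hg x hx y hy => by
  have := hx (g⁻¹ * y) (Y.mul_mem (Y.inv_mem hg) hy)
  rw [mul_smul] at this
  rw [mul_smul, mul_smul, this, smul_inv_smul]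

section Blk

variable (h : ZE Ω Z) {a b : Ω} {A L : Subgroup G} {x z k : G}
include h

theorem blk_inv (hA : ⁅A, A⁆ ≤ stabilizer G a) (hodd : Odd ♯A) (hz : z ∈ Z) (hza : z • a = a)
    (hzA : z ∈ N[A]) (hx : x ∈ A) : z • x • a = x⁻¹ • a := by
  obtain ⟨c, k, hc, hcz, hk, rfl⟩ :=
    H21.exists_cent_mul_inverted (h.inv z hz).2 hodd (fun x hx => conj_mem hzA hx) hx
  have hca : c • a = a := h.fix_of_comm hz hza hcz
  have hca' : c⁻¹ • a = a := (stabilizer G a).inv_mem hca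
  rw [mul_smul, blk_fix hA hc hk.1 hca, mul_inv_rev, mul_smul, hca', ← conj_smul, hk.2, hza]

theorem le_stab_of_cent (hL : Odd ♯L) (hz : z ∈ Z) (hza : z • a = a)
    (hzL : z ∈ N[L]) (hkL : k ∈ N[L]) (hcop : (♯L).Coprime ♯(zpowers k))
    (hko : Odd (orderOf k)) (hka : k • a = a) (hki : z * k * z⁻¹ = k⁻¹)
    (hC : L ⊓ C{k} ≤ stabilizer G a) : L ≤ stabilizer G a := by
  by_contra e
  obtain ⟨A, hAL, hN, h1, h2⟩ := exists_block hL e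
  have hA := H24.odd_of_le hL hAL
  have hW : ∀ x ∈ A, zpowers k ≤ stabilizer G (x • a) := fun x hx => zpowers_le.mpr (by
    have hkz := (h.mul_mem_of_odd hz hko hki).1
    have e1 := blk_inv h h2 hA hz hza (hN hzL) hx
    have e2 := blk_inv h h2 hA hkz (by rw [mul_smul, hza, hka]) (mul_mem (hN hkL) (hN hzL))
      (A.inv_mem hx)
    rw [inv_inv, mul_smul, ← e1, (h.inv z hz).smul_smul] at e2
    exact e2)
  have hWa : zpowers k ≤ stabilizer G a := zpowers_le.mpr hka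
  have hWL : zpowers k ≤ N[A] := zp_le_N (hN hkL)
  have hp := coprime_isProd_of_comm_le (V := A ⊓ stabilizer G a) (X := A) (A := zpowers k)
    (norm_inf hWL (norm_of_le hWa))
    (hcop.coprime_dvd_left (card_dvd (inf_le_left.trans hAL)))
    (Or.inl (sol_of_odd (H24.odd_of_le hA inf_le_left))) inf_le_left
    (le_inf (comm_le_left hWL) (commutator_le.mpr fun x hx w hw => by
      have e1 : w⁻¹ • a = a := hWa (inv_mem hw)
      have e2 : w • x⁻¹ • a = x⁻¹ • a := hW _ (A.inv_mem hx) hw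
      rw [mem_stabilizer_iff, commutatorElement_def, mul_smul, mul_smul, mul_smul, e1, e2,
        smul_inv_smul]))
  refine h1 fun x hx => ?_
  obtain ⟨v, hv, c, hc, rfl⟩ := hp.mul x hx
  rw [C_zpowers] at hc
  exact mul_mem hv.2 (hC ⟨hAL hc.1, hc.2⟩)

/-- a product of two members of `Z_a` fixing `b` and `u b` lies in `O_{ab}` -/
theorem mul_mem_O2 {u v : G} (hu : u ∈ Z) (hv : v ∈ Z) (hua : u • a = a) (hva : v • a = a)
    (hb : b ≠ a) (h1 : (u * v) • b = b) (h2 : (u * v) • u • b = u • b) : u * v ∈ O2 G a b :=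
  (h.mem_O_iff hu hua hb (by rw [mul_smul, hva, hua]) h1 h2).mpr
    (h.K_mem_O hu (h.smul_ne hu hua hb) h1 (by rwa [← mul_assoc, (h.inv u hu).2, one_mul]))

theorem mem_N_inf_O2 {F : Subgroup G} (hz : z ∈ Z) (hza : z • a = a) (hb : b ≠ a) (hzF : z ∈ N[F])
    (hF : ∀ x ∈ F, x • a = a ∧ x • b = b ∧ x • z • b = z • b) : z ∈ N[F ⊓ O2 G a b] := by
  have e : F ⊓ O2 G a b = F ⊓ O2 G b (z • b) := by
    ext x
    exact and_congr_right fun hx => h.mem_O_iff hz hza hb (hF x hx).1 (hF x hx).2.1 (hF x hx).2.2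
  rw [e]
  exact mem_N_inf hzF (swap_N_O2 rfl ((h.inv z hz).smul_smul b))

end Blk

section LZ

variable {Y Q : Subgroup G} {a : Ω}

theorem odd_mem_Ker (h : ZE Ω Z) (hQ : LZ Z Y a Q) {u v : G} (hu : u ∈ ZA Z Y a)
    (hv : v ∈ ZA Z Y a) (ho : Odd (orderOf (u * v))) : u * v ∈ Ker Y a := by
  have h1 := hQ.comm u hu v (hQ.mem v hv)
  rw [(h.inv u hu.1).inv, (h.inv v hv.1).inv, mul_assoc (u * v)] at h1
  obtain ⟨n, hn⟩ := ho
  rw [← H21.eq_pow_sq_of_odd (x := u * v) (m := n) (hn ▸ pow_orderOf_eq_one _)]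
  exact pow_mem h1 _

theorem inv_mem_Ker (h : ZE Ω Z) (hQ : LZ Z Y a Q) {u k : G} (hu : u ∈ ZA Z Y a)
    (hk : Odd (orderOf k)) (hkY : k ∈ Y) (hka : k • a = a) (hi : u * k * u⁻¹ = k⁻¹) :
    k ∈ Ker Y a := by
  have e : k * u * u = k := by rw [mul_assoc, (h.inv u hu.1).2, mul_one]
  rw [← e]
  exact odd_mem_Ker h hQ ⟨(h.mul_mem_of_odd hu.1 hk hi).1, mul_mem hkY hu.2.1,
    by rw [mul_smul, hu.2.2, hka]⟩ hu (by rwa [e])

theorem piNat_of_pow {N Q : Subgroup G} (hn : Q ≤ N[N]) (h : ∀ x ∈ Q, ∃ n : ℕ, x ^ 2 ^ n ∈ N) :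
    PiNat {2} (N.relIndex Q) := by
  refine (isPi_quo_iff hn).mp (isPi_iff_piElt.mpr fun z hz => ?_)
  obtain ⟨x, hx, hxN, rfl⟩ := mem_quo.mp hz
  obtain ⟨n, h1⟩ := h x hx
  exact piElt_of_pow_eq_one (piNat_self_pow Nat.prime_two n)
    ((ap_pow _ hxN _).symm.trans (cs_of_mem h1))

/-- an odd `p`-group normalising the situation fixes a second point -/
theorem exists_fix (hQ : LZ Z Y a Q) {p : ℕ} (hp : p.Prime) (h2 : p ≠ 2) {P : Subgroup G}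
    (hP : IsPi {p} P) (hPY : P ≤ Y) (hPa : P ≤ stabilizer G a) {c : Ω} (hc : c ∈ Orb Y a)
    (hca : c ≠ a) : ∃ c' ∈ Orb Y a, c' ≠ a ∧ P ≤ stabilizer G c' := by
  have e : Orb Q c = {d | d ∈ Orb Y a ∧ d ≠ a} := Set.ext fun d =>
    ⟨fun ⟨x, hx, e⟩ => ⟨e ▸ smul_mem_Orb (hQ.le hx) hc, fun e1 => hca (by
      rw [← e, ← hQ.fix x hx, smul_left_cancel_iff] at e1; exact e1)⟩,
    fun hd => hQ.trans c hc d hd.1 hca hd.2⟩
  have e2 : (stabilizer G c).relIndex Q = (Ker Y a).relIndex Q := by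
    rw [← inf_relIndex_right, ← inf_relIndex_right (Ker Y a)]
    congr 1
    ext x
    exact ⟨fun hx => ⟨hQ.free x hx.2 c hc hca hx.1, hx.2⟩, fun hx => ⟨Ker_smul hx.1 hc, hx.2⟩⟩
  obtain ⟨c', h1, h3⟩ := exists_fix_of_not_dvd (S := {d | d ∈ Orb Y a ∧ d ≠ a}) hp hP
    (fun x hx d hd => ⟨smul_mem_Orb (hPY hx) hd.1, fun e1 => hd.2 (by
      rw [← (hPa hx : x • a = a), smul_left_cancel_iff] at e1; exact e1)⟩) (fun hd => by
      rw [← e, ncard_Orb, e2] at hd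
      exact h2 (piNat_of_pow (hQ.le.trans (Ker_nml Y a).norm) hQ.two p hp hd))
  exact ⟨c', h1.1, h1.2, h3⟩

end LZ

/-- `⟨Z_a ∩ Y⟩ Θ` -/
def EE (h : Sm Ω Z) (Y Θ : Subgroup G) (a : Ω) (hn : ∀ w ∈ ZA Z Y a, w ∈ N[Θ])
    (hm : ∀ u ∈ ZA Z Y a, ∀ v ∈ ZA Z Y a, u * v ∈ Θ ∨ ∃ w ∈ ZA Z Y a, u * v * w ∈ Θ) :
    Subgroup G where
  carrier := {x | x ∈ Θ ∨ ∃ w ∈ ZA Z Y a, x * w ∈ Θ}
  one_mem' := Or.inl Θ.one_mem
  mul_mem' := by
    rintro x y (hx | ⟨u, hu, hx⟩) (hy | ⟨v, hv, hy⟩)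
    · exact Or.inl (mul_mem hx hy)
    · exact Or.inr ⟨v, hv, by rw [mul_assoc]; exact mul_mem hx hy⟩
    · refine Or.inr ⟨u, hu, ?_⟩
      rw [show x * y * u = x * u * (u⁻¹ * y * u) by group]
      exact mul_mem hx (conj_mem' (hn u hu) hy)
    · have e : x * y = x * u * (u⁻¹ * (y * v) * u) * (u * v) := by
        rw [(h.ze.inv u hu.1).inv]
        calc x * y = x * (u * u) * y * (v * ((u * u) * v)) := by
              rw [(h.ze.inv u hu.1).2, one_mul, (h.ze.inv v hv.1).2]; group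
          _ = _ := by group
      have e1 := mul_mem hx (conj_mem' (hn u hu) hy)
      rcases hm u hu v hv with h1 | ⟨w, hw, h1⟩
      · exact Or.inl (e ▸ mul_mem e1 h1)
      · exact Or.inr ⟨w, hw, by rw [e, mul_assoc]; exact mul_mem e1 h1⟩
  inv_mem' := by
    rintro x (hx | ⟨u, hu, hx⟩)
    · exact Or.inl (inv_mem hx)
    · refine Or.inr ⟨u, hu, ?_⟩
      rw [show x⁻¹ * u = u * (x * u)⁻¹ * u⁻¹ * (u * u) by group, (h.ze.inv u hu.1).2, mul_one]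
      exact conj_mem (hn u hu) (inv_mem hx)

/-- the class of subgroups used in the last step of `CC1` -/
structure YC (Z : Set G) (p : ℕ) (a b : Ω) (Y : Subgroup G) : Prop where
  ne : Y ≠ ⊤
  pair : Pair Z Y a
  swap : ∃ t, t ∈ TT Z Y a b
  inv : ∃ u ∈ ZA Z Y a, ∃ k ∈ Y, k ≠ 1 ∧ PiElt {p} k ∧ k • a = a ∧ u * k * u⁻¹ = k⁻¹

variable (h : Mn Ω Z) {a b : Ω} {Y S : Subgroup G} {p : ℕ}
include h

theorem YC_step (hp : p.Prime) [Fact p.Prime] (h2 : p ≠ 2) (hb : b ≠ a) (hY : YC Z p a b Y)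
    (hS : Syl p (Y ⊓ O2 G a b) S) : S ≠ ⊥ ∧ YC Z p a b N[H12.WOf p S] := by
  have hz := h.ze
  obtain ⟨t, ht, htY, hta⟩ := hY.swap
  obtain ⟨u, hu, k, hkY, hk1, hkp, hka, hki⟩ := hY.inv
  have hmv : ∃ y ∈ Y, y • a ≠ a := ⟨t, htY, hta ▸ hb⟩
  obtain ⟨Q, hQ⟩ := h.lz Y a hY.ne hY.pair hmv
  have hKY := Ker_nml Y a
  have hbO : b ∈ Orb Y a := ⟨t, htY, hta⟩
  set N := Ker Y a ⊓ O2 G a b with hNdef
  set D := Y ⊓ O2 G a b with hD
  have hN : Odd ♯N := H24.odd_of_le (odd_O _) inf_le_right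
  have hDo : Odd ♯D := H24.odd_of_le (odd_O _) inf_le_right
  have hND : N ≤ D := inf_le_inf_right _ hKY.le
  have hDN : D ≤ N[N] := norm_inf (inf_le_left.trans hKY.norm) (norm_of_le inf_le_right)
  have hZN : ∀ w ∈ ZA Z Y a, w ∈ N[N] := fun w hw =>
    mem_N_inf_O2 hz hw.1 hw.2.2 hb (hKY.norm hw.2.1) fun x hx =>
      ⟨Ker_fix hx, Ker_smul hx hbO, Ker_smul hx (smul_mem_Orb hw.2.1 hbO)⟩
  have hmul : ∀ u ∈ ZA Z Y a, ∀ v ∈ ZA Z Y a, u * v ∈ Ker Y a → u * v ∈ N := fun u hu v hv e =>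
    ⟨e, mul_mem_O2 hz hu.1 hv.1 hu.2.2 hv.2.2 hb (Ker_smul e hbO)
      (Ker_smul e (smul_mem_Orb hu.2.1 hbO))⟩
  have hsq : ∀ u ∈ ZA Z Y a, ∀ v ∈ ZA Z Y a, u * v * (u * v) ∈ N := fun u hu v hv => by
    have e : u * v * (u * v) = u * (v * u * v⁻¹) := by rw [(hz.inv v hv.1).inv]; group
    have hv' : v * u * v⁻¹ ∈ ZA Z Y a := by
      simpa [hv.2.2] using hz.conj_ZA hu (norm_self Y hv.2.1)
    rw [e]
    refine hmul u hu _ hv' ?_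
    have := hQ.comm u hu v (hQ.mem v hv)
    rwa [(hz.inv u hu.1).inv, mul_assoc, mul_assoc, ← mul_assoc v] at this
  have hko : Odd (orderOf k) := by
    rw [← Nat.card_zpowers]; exact odd_of_isPi h2 hkp.isPi
  have hkN : k ∈ N := by
    have e : k * u * u = k := by rw [mul_assoc, (hz.inv u hu.1).2, mul_one]
    rw [← e]
    exact hmul _ ⟨(hz.mul_mem_of_odd hu.1 hko hki).1, mul_mem hkY hu.2.1,
      by rw [mul_smul, hu.2.2, hka]⟩ u hu (e.symm ▸ inv_mem_Ker hz hQ hu hko hkY hka hki)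
  have hm : ∀ u ∈ ZA Z Y a, ∀ v ∈ ZA Z Y a, u * v ∈ N ∨ ∃ w ∈ ZA Z Y a, u * v * w ∈ N := by
    intro u hu v hv
    by_cases ho : Odd (orderOf (u * v))
    · exact Or.inl (hmul u hu v hv (odd_mem_Ker hz hQ hu hv ho))
    have i1 := hz.inv u hu.1
    have i2 := hz.inv v hv.1
    obtain ⟨n, hn⟩ := odd_orderOf_of_mem hN (hsq u hu v hv)
    have e1 : (u * v * (u * v)) ^ (2 * n + 1) = 1 := hn ▸ pow_orderOf_eq_one _
    set g := (u * v) ^ n with hg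
    have hgY : g ∈ Y := pow_mem (mul_mem hu.2.1 hv.2.1) n
    have hga : g • a = a := (stabilizer G a).pow_mem ((stabilizer G a).mul_mem hu.2.2 hv.2.2) n
    have e2 : u * g * u⁻¹ = g⁻¹ := inv_of_mem_zp (i1.conj_mul i2) (pow_mem (mem_zpowers _) n)
    have hv' : g⁻¹ * v * g⁻¹⁻¹ ∈ ZA Z Y a := by
      simpa [inv_smul_eq_iff.mpr hga.symm] using hz.conj_ZA hv (norm_self Y (inv_mem hgY))
    have e3 : u * (g⁻¹ * v * g⁻¹⁻¹) = (u * v) ^ (2 * n + 1) := by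
      have : u * g⁻¹ = g * u := by rw [← e2, i1.inv, ← mul_assoc, ← mul_assoc, i1.2, one_mul]
      rw [inv_inv, ← mul_assoc, ← mul_assoc, this, mul_assoc g, hg, two_mul, add_right_comm,
        pow_add, pow_succ]
    have e4 : (u * v) ^ (2 * n + 1) * (u * v) ^ (2 * n + 1) = 1 := by
      rw [← (Commute.refl _).mul_pow, e1]
    have i3 := hz.inv _ hv'.1
    set v' := g⁻¹ * v * g⁻¹⁻¹
    refine Or.inr ⟨u * v', ⟨h.mul_mem hu.1 hv'.1 (fun e => ho ?_) ?_, mul_mem hu.2.1 hv'.2.1,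
      by rw [mul_smul, hv'.2.2, hu.2.2]⟩, ?_⟩
    · rw [← e, i1.2] at e3
      exact (by use n : Odd (2 * n + 1)).of_dvd_nat (orderOf_dvd_of_pow_eq_one e3.symm)
    · rw [← e3] at e4
      rw [← eq_inv_of_mul_eq_one_left e4 |>.symm, mul_inv_rev, i1.inv, i3.inv]
    · rw [e3, ← pow_succ', show 2 * n + 1 + 1 = 2 * (n + 1) by ring, pow_mul, pow_two]
      exact pow_mem (hsq u hu v hv) _
  set Q0 := EE h.toSm Y N a hZN hm with hQ0
  have hNQ0 : N ≤ Q0 := fun x hx => Or.inl hx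
  have hIQ0 : ∀ w ∈ ZA Z Y a, w ∈ Q0 := fun w hw =>
    Or.inr ⟨w, hw, by rw [(hz.inv w hw.1).2]; exact one_mem _⟩
  have hNa : ∀ x ∈ N, x ∈ Y ∧ x • a = a := fun x hx => ⟨hx.1.1, Ker_fix hx.1⟩
  have hQ0Y : ∀ x ∈ Q0, x ∈ Y ∧ x • a = a := by
    rintro x (hx | ⟨w, hw, hx⟩)
    · exact hNa x hx
    · refine ⟨(Y.mul_mem_cancel_right hw.2.1).mp (hNa _ hx).1, ?_⟩
      have := (hNa _ hx).2
      rwa [mul_smul, hw.2.2] at this
  have hQ0N : Q0 ≤ N[N] := by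
    rintro x (hx | ⟨w, hw, hx⟩)
    · exact norm_self N hx
    · exact (mul_mem_cancel_right (hZN w hw)).mp (norm_self N hx)
  have hDQ0 : D ≤ N[Q0] := le_N_iff.mpr fun d hd x hx => by
    rcases hx with hx | ⟨w, hw, hx⟩
    · exact Or.inl (conj_mem (hDN hd) hx)
    · refine Or.inr ⟨d * w * d⁻¹, ?_, ?_⟩
      · simpa [(O2_fix hd.2).1] using hz.conj_ZA hw (norm_self Y hd.1)
      · rw [show d * x * d⁻¹ * (d * w * d⁻¹) = d * (x * w) * d⁻¹ by group]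
        exact conj_mem (hDN hd) hx
  have hQsq : ∀ x ∈ Q0, x * x ∈ N := by
    rintro x (hx | ⟨w, hw, hx⟩)
    · exact mul_mem hx hx
    · rw [show x * x = x * w * (w⁻¹ * (x * w) * w) * (w * w)⁻¹ by group, (hz.inv w hw.1).2, inv_one,
        mul_one]
      exact mul_mem hx (conj_mem' (hZN w hw) hx)
  have hcomm : ⁅Q0, Q0⁆ ≤ N := commutator_le.mpr fun x hx y hy => by
    rw [commutatorElement_def, show x * y * x⁻¹ * y⁻¹ =
      x * y * (x * y) * (y⁻¹ * (x * x)⁻¹ * y) * (y * y)⁻¹ by group]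
    exact mul_mem (mul_mem (hQsq _ (mul_mem hx hy)) (conj_mem' (hQ0N hy) (inv_mem (hQsq x hx))))
      (inv_mem (hQsq y hy))
  have hQ0Z : ∀ x ∈ Q0, Inv x → x ∈ ZA Z Y a := fun x hx hi => by
    refine ⟨?_, hQ0Y x hx⟩
    rcases hx with hx | ⟨w, hw, hx⟩
    · exact absurd hx (hi.not_mem_odd hN)
    · have i1 := hz.inv w hw.1
      have := (hz.mul_mem_of_odd hw.1 (odd_orderOf_of_mem hN hx) (by
        rw [mul_inv_rev, hi.inv, i1.inv, mul_assoc, mul_assoc, i1.2, mul_one])).1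
      rwa [mul_assoc, i1.2, mul_one] at this
  set B := Q0 ⊔ D with hB
  have hBs : Sol B := (sol_of_der1 ((sol_of_odd hN).of_le hcomm)).sup (sol_of_odd hDo) hDQ0
  have hQB : Q0 ⊴ B := nml_sup_left hDQ0
  have hBY : B ≤ Y := sup_le (fun x hx => (hQ0Y x hx).1) inf_le_left
  have hBa : B ≤ stabilizer G a :=
    sup_le (fun x hx => (hQ0Y x hx).2) fun x hx => (O2_fix hx.2).1
  have hBN : B ≤ N[N] := sup_le hQ0N hDN
  have h2Q : ∀ T ≤ B, IsPi {2} T → T ≤ Q0 := fun T hT hT2 => le_of_idx_compl hQB (by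
      rw [relIndex_sup_of_norm hDQ0]; exact (odd_iff_isPi.mp hDo).relIndex _) hT2 hT
  have hab : ∀ T ≤ B, IsPi {2} T → Abl T := fun T hT hT2 => by
    rw [← der1_eq_bot, eq_bot_iff, ← hT2.inf_eq_bot (odd_iff_isPi.mp hN)]
    exact le_inf (der1_le T) ((der1_mono (h2Q T hT hT2)).trans hcomm)
  have hBZ : ∀ w ∈ B, Inv w → w ∈ ZA Z Y a := fun w hw hi => hQ0Z w (h2Q _ (zpowers_le.mpr hw)
    (isPi_of_card_prime Nat.prime_two hi.card_zpowers) (mem_zpowers w)) hi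
  have hSB : Syl p B S := hS.of_idx le_sup_right (by
    rw [hB, sup_comm, relIndex_sup_of_norm' hDQ0]
    exact ((piNat_of_pow hQ0N fun x hx => ⟨1, by rw [pow_one, pow_two]; exact hQsq x hx⟩).dvd
      (relIndex_dvd_of_le_left _ hND)).mono fun q hq e => h2 (e.symm.trans hq))
  have hconj : ∀ w ∈ ZA Z Y a, ∃ d ∈ D, d * u * d⁻¹ = w := fun w hw => by
    obtain ⟨d, e1, e2, e3, e4⟩ := hz.exists_K ht (hta ▸ hb) hu.1 hw.1 hu.2.2 hw.2.2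
    exact ⟨d, ⟨e4 Y hu.2.1 hw.2.1 htY, hta ▸ hz.K_mem_O ht (hta ▸ hb) e1 e2⟩, e3⟩
  have hO := pcore_nml {p}ᶜ B
  have hOo : Odd ♯O[{p}ᶜ, B] := odd_of_no_inv fun w hw hi => by
    obtain ⟨d, hd, rfl⟩ := hconj w (hBZ w (hO.le hw) hi)
    have hu' : u ∈ O[{p}ᶜ, B] := (conj_mem_iff (hO.norm (mem_sup_right hd))).mp hw
    refine hk1 (hkp.eq_one ((pcore_pi _ B).piElt (inverted_mem_of_comm (Y := B) hko hki
      (mem_sup_right (hND hkN)) fun y hy => ?_)))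
    rw [show u * y * u⁻¹ * y⁻¹ = u * (y * u⁻¹ * y⁻¹) by group]
    exact mul_mem hu' (hO.conj_mem hy (inv_mem hu'))
  have hW := isProd_W hp h2 hBs hab hSB
  set W := H12.WOf p S with hWdef
  have hS0 : S ≠ ⊥ := fun e => hk1 (hkp.eq_one ((hS.isPi_compl_of_eq_bot e).piElt (hND hkN)))
  have hSW : N[S] ≤ N[W] := H12.normalizer_le_normalizer_WOf S
  obtain ⟨T, hT⟩ := Sylow_exists Nat.prime_two (B ⊓ N[W])
  have hTB : Syl 2 B T := hT.of_idx inf_le_left ((odd_iff_isPi.mp hOo).piNat.dvd hW.symm.relIndex_dvd)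
  obtain ⟨u1, hu1, v1, hv1, i3, i4⟩ := hY.pair
  have i1 := hz.inv u1 hu1.1
  have i2 := hz.inv v1 hv1.1
  obtain ⟨g, hg, hgT⟩ := Sylow_Jsub Nat.prime_two hTB (four_pi i1 i2 i4) (sup_le
    (zpowers_le.mpr (mem_sup_left (hIQ0 u1 hu1))) (zpowers_le.mpr (mem_sup_left (hIQ0 v1 hv1))))
  have hu2 : g * u1 * g⁻¹ ∈ B ⊓ N[W] := hT.le (hgT (conj_mem_cj g (mem_sup_left (mem_zpowers _))))
  have hv2 : g * v1 * g⁻¹ ∈ B ⊓ N[W] := hT.le (hgT (conj_mem_cj g (mem_sup_right (mem_zpowers _))))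
  have hu3 : g * u1 * g⁻¹ ∈ ZA Z N[W] a := ⟨hz.conj _ hu1.1 g, hu2.2, hBa hu2.1⟩
  refine ⟨hS0, h.N_ne_top (H12.WOf_ne_bot (hS.pi.isPGroup hp) hS0)
    ((H12.WOf_le S).trans (hSB.le.trans hBa)), ⟨_, hu3, _, ⟨hz.conj _ hv1.1 g, hv2.2, hBa hv2.1⟩,
      by simpa using i3, ?_⟩, ?_, _, hu3, ?_⟩
  · calc _ = g * (u1 * v1) * g⁻¹ := by group
      _ = _ := by rw [i4]; group
  · obtain ⟨d, hd, e⟩ := exists_conj_norm hp (hz.inv t ht) hDo
      (mem_N_inf (norm_self Y htY) (swap_N_O2 hta ((hz.inv t ht).smul_eq hta))) hS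
    refine ⟨_, hz.conj t ht d, hSW e, ?_⟩
    rw [← (O2_fix hd.2).1, conj_smul, hta, (O2_fix hd.2).2]
  · set u2 := g * u1 * g⁻¹
    have i7 : Inv u2 := i1.conj g
    obtain ⟨d, hd, e⟩ := hconj u2 (hBZ u2 hu2.1 i7)
    have huN : u2 ∈ N[N] := hBN hu2.1
    have hki2 : u2 * (d * k * d⁻¹) * u2⁻¹ = (d * k * d⁻¹)⁻¹ := e ▸ conj_inv_conj hki
    obtain ⟨P4, j1, j2, j3⟩ := exists_syl_inv hp i7 hN huN (hkp.conj d).isPi
      (zpowers_le.mpr (conj_mem (hDN hd) hkN)) (zp_mem_N_of_inv hki2)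
    obtain ⟨P5, l1, l2, -⟩ := exists_syl_inv (M := N ⊓ N[W]) hp i7 (H24.odd_of_le hN inf_le_left)
      (mem_N_inf huN (mem_N_N hu2.2)) (isPi_bot _) bot_le (mem_N_bot _)
    have hSN : Syl p N (S ⊓ N) := hS.inf_nml ⟨hND, hDN⟩
    have l3 : Syl p N P5 := l1.of_idx inf_le_left
      (hSN.idx_of_ge (le_inf inf_le_right (inf_le_left.trans ((norm_self S).trans hSW))))
    obtain ⟨c, hc, rfl⟩ := sol_coprime_Sylow_trans hp (zp_le_N huN) (i7.coprime hN)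
      (Or.inl (cyc_zpowers _).sol) l3 (zp_le_N l2) j1 (zp_le_N j2)
    have hm : c⁻¹ * (d * k * d⁻¹) * c ∈ P5 := mem_cj.mp (j3 (mem_zpowers _))
    refine ⟨_, (l1.le hm).2, fun e1 => hk1 ?_, l1.pi.piElt hm, (hNa _ (l1.le hm).1).2, ?_⟩
    · have : c⁻¹ * (d * k * d⁻¹) * c⁻¹⁻¹ = 1 := by rwa [inv_inv]
      exact conj_eq_one_iff'.mp (conj_eq_one_iff'.mp this)
    · have := conj_inv_conj (g := c⁻¹) hki2
      rw [C_zpowers] at hc
      rwa [mem_C1_iff_conj.mp (inv_mem hc.2), inv_inv] at this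

theorem YC_end (hp : p.Prime) (h2 : p ≠ 2) (hb : b ≠ a) (hY : YC Z p a b Y)
    (h0 : O[{p}ᶜ, O2 G a b] = ⊥) :
    ∃ X : Subgroup G, X ≠ ⊤ ∧ N[O2 G a b] ≤ X ∧ ∃ u, u ∈ ZA Z X a := by
  have := Fact.mk hp
  obtain ⟨S0, hS0⟩ := Sylow_exists hp (Y ⊓ O2 G a b)
  obtain ⟨S, -, ⟨Y, hY, hS⟩, hmax⟩ := exists_max
    (P := fun S => ∃ Y, YC Z p a b Y ∧ Syl p (Y ⊓ O2 G a b) S) ⟨Y, hY, hS0⟩
  obtain ⟨hS1, hY2⟩ := YC_step h hp h2 hb hY hS
  have hSD : Syl p (O2 G a b) S := by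
    by_contra e
    obtain ⟨Q, h1, h3, h4, h5⟩ := exists_lt_norm_of_not_syl hp hS.pi (hS.le.trans inf_le_right) e
    obtain ⟨S', h6, h7⟩ := Sylow_superset hp h1
      (le_inf (h5.trans (H12.normalizer_le_normalizer_WOf (p := p) S)) h4)
    exact (h3.trans_le h7).ne' (hmax S' ⟨_, hY2, h6⟩ (h3.le.trans h7))
  have hD := odd_O (D2 G a b)
  have hW := isProd_W hp h2 (sol_of_odd hD) (abl_two_of_odd hD) hSD
  obtain ⟨u, hu, -⟩ := hY2.inv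
  refine ⟨_, hY2.ne, fun g hg => ?_, u, hu⟩
  obtain ⟨o, ho, n, hn, rfl⟩ := (Frattini_arg hp ⟨norm_self _, le_rfl⟩ hSD).mul g hg
  refine mul_mem ?_ (H12.normalizer_le_normalizer_WOf S hn.2)
  obtain ⟨o', ho', n', hn', rfl⟩ := hW.mul o ho
  rw [h0, mem_bot] at ho'
  rw [ho', one_mul]; exact hn'.2

end CC

open CC

/-- CC1 -/
theorem Mn.exists_proper (h : Mn Ω Z) {Y : Subgroup G} {a : Ω} {t u v : G} (hY : Y ≠ ⊤)
    (hP : Pair Z Y a) (ht : t ∈ Z) (htY : t ∈ Y) (hta : t • a ≠ a) (hu : u ∈ ZA Z Y a)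
    (hv : v ∈ ZA Z Y a) (huv : u ≠ v) (ho : Odd (orderOf (u * v))) :
    ∃ X : Subgroup G, X ≠ ⊤ ∧ t ∈ X ∧ ∀ z ∈ Z, z • a = a → z ∈ X := by
  have hz := h.ze
  set b := t • a with hbdef
  have hb : b ≠ a := hta
  have it := hz.inv t ht
  have iu := hz.inv u hu.1
  have htO : t ∈ N[O2 G a b] := swap_N_O2 rfl (it.smul_smul a)
  suffices ∃ X : Subgroup G, X ≠ ⊤ ∧ N[O2 G a b] ≤ X ∧ ∃ u, u ∈ ZA Z X a by
    obtain ⟨X, h1, h2, w, hw⟩ := this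
    refine ⟨X, h1, h2 htO, fun z hz' hza => ?_⟩
    obtain ⟨k, e1, e2, rfl, -⟩ := hz.exists_K ht hta hw.1 hz' hw.2.2 hza
    have hk : k ∈ X := h2 (norm_self _ (hz.K_mem_O ht hta e1 e2))
    exact mul_mem (mul_mem hk hw.2.1) (inv_mem hk)
  have hmv : ∃ y ∈ Y, y • a ≠ a := ⟨t, htY, hta⟩
  obtain ⟨Q, hQ⟩ := h.lz Y a hY hP hmv
  obtain ⟨w, hw, huw, hc⟩ := hz.pair_through hP hmv hu
  have iw := hz.inv w hw.1
  set B := zpowers u ⊔ zpowers w with hB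
  set Y0 := B ⊔ zpowers t with hY0
  have hBY : B ≤ Y := sup_le (zpowers_le.mpr hu.2.1) (zpowers_le.mpr hw.2.1)
  have hY0Y : Y0 ≤ Y := sup_le hBY (zpowers_le.mpr htY)
  have huB : u ∈ B := mem_sup_left (mem_zpowers u)
  have hwB : w ∈ B := mem_sup_right (mem_zpowers w)
  have htY0 : t ∈ Y0 := mem_sup_right (mem_zpowers t)
  set Θ := Fx Y0 a ⊓ O2 G a b with hΘ
  have hΘo : Odd ♯Θ := H24.odd_of_le (odd_O _) inf_le_right
  have hFx : ∀ z ∈ B, ∀ x ∈ Fx Y0 a, x • a = a ∧ x • b = b ∧ x • z • b = z • b := fun z hzB x hx =>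
    ⟨by simpa using hx 1 (one_mem _), hx t htY0,
      by simpa [mul_smul] using hx (z * t) (mul_mem (mem_sup_left hzB) htY0)⟩
  have huΘ : u ∈ N[Θ] :=
    mem_N_inf_O2 hz hu.1 hu.2.2 hb (le_N_Fx Y0 a (mem_sup_left huB)) (hFx u huB)
  have hwΘ : w ∈ N[Θ] :=
    mem_N_inf_O2 hz hw.1 hw.2.2 hb (le_N_Fx Y0 a (mem_sup_left hwB)) (hFx w hwB)
  have hBΘ : B ≤ N[Θ] := sup_le (zp_le_N huΘ) (zp_le_N hwΘ)
  have hY0Θ : Y0 ≤ N[Θ] := sup_le hBΘ (zp_le_N (mem_N_inf (le_N_Fx Y0 a htY0) htO))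
  have hkK := odd_mem_Ker hz hQ hu hv ho
  have hbO : b ∈ Orb Y a := ⟨t, htY, rfl⟩
  have hkΘ : u * v ∈ Θ := ⟨fun y hy => hkK.2 y (hY0Y hy), mul_mem_O2 hz hu.1 hv.1 hu.2.2 hv.2.2 hb
    (Ker_smul hkK hbO) (Ker_smul hkK (smul_mem_Orb hu.2.1 hbO))⟩
  obtain ⟨l, hl, hp⟩ := exists_prime_mem_zp (k := u * v) fun e =>
    huv (by rw [← (hz.inv v hv.1).inv]; exact eq_inv_of_mul_eq_one_left e)
  have hli := inv_of_mem_zp (iu.conj_mul (hz.inv v hv.1)) hl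
  have hlΘ : l ∈ Θ := zpowers_le.mpr hkΘ hl
  have hlo := odd_orderOf_of_mem hΘo hlΘ
  set p := orderOf l with hpdef
  have h2 : p ≠ 2 := fun e => by rw [e] at hlo; exact absurd hlo (by decide)
  by_cases h0 : O[{p}ᶜ, O2 G a b] = ⊥
  · exact YC_end h hp h2 hb ⟨hY, hP, ⟨t, ht, htY, rfl⟩, u, hu, l,
      zpowers_le.mpr (mul_mem hu.2.1 hv.2.1) hl, ne_one_of_orderOf_prime hp,
      piElt_of_orderOf_prime hp rfl, (O2_fix hlΘ.2).1, hli⟩ h0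
  refine ⟨_, h.N_ne_top h0 fun x hx => (O2_fix (pcore_le _ _ hx)).1, N_le_N_pcore _ _, u, hu.1, ?_,
    hu.2.2⟩
  obtain ⟨P, hP1, hBP⟩ := sol_coprime_Sylow_exists hp hBΘ
    ((odd_iff_isPi.mp hΘo).coprime' (four_pi iu iw hc)) (Or.inr (sol_of_odd hΘo))
  have hPo := H24.odd_of_le hΘo hP1.le
  have hnc : ¬ P ≤ C{u} := fun e => Syl.not_mul_dvd hp hP1 C{u} (by
    rw [relIndex_eq_one.mpr e, mul_one]; exact prime_dvd_idx iu hΘo huΘ hlΘ hp hli)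
  obtain ⟨x, hx, hxi, hxn⟩ : ∃ x ∈ B, Inv x ∧ ¬ P ⊓ C{x} ≤ C{u} := by
    by_contra e
    push Not at e
    exact hnc (gen_four iu iw huw hc hPo (hBP huB) (hBP hwB) e)
  have hxa : x • a = a :=
    (sup_le (zpowers_le.mpr hu.2.2) (zpowers_le.mpr hw.2.2) : B ≤ stabilizer G a) hx
  have hxZ : x ∈ Z := by
    obtain ⟨y, hy, y', hy', rfl⟩ := (mem_sup_of_norm (norm_of_cent (zpowers_le.mpr
      (by rw [C_zpowers]; exact mem_C1.mpr hc.symm)))).mp hx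
    rcases iu.mem_zp hy with rfl | rfl <;> rcases iw.mem_zp hy' with rfl | rfl
    · exact absurd (one_mul _) hxi.1
    · simpa using hw.1
    · simpa using hu.1
    · exact h.mul_mem hu.1 hw.1 huw hc
  obtain ⟨k, hk, hk1, hki⟩ := exists_inverted iu (H24.odd_of_le hPo inf_le_left)
    (mem_N_inf (hBP huB) (norm_self _ (mem_C1.mpr ((four_abl hc).comm huB hx)))) hxn
  have hko := odd_orderOf_of_mem hPo hk.1
  have hCk : C{k} ≤ stabilizer G a := fun c hc => by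
    obtain ⟨d, hd⟩ := hz.ex _ (hz.conj x hxZ c)
    by_cases e : a = d
    · exact hz.smul_of_conj hxZ hxa (e ▸ hd)
    · exact absurd (hz.eq_one_of_inv_comm hu.1 (hz.conj x hxZ c) hu.2.2 hd e hko hki (mem_C1.mp
        (mul_mem (mul_mem hc (mem_C1_comm.mp hk.2)) (inv_mem hc)))) hk1
  have hCP : C[P] ≤ Fx Y0 a := fun c hc g hg => by
    obtain ⟨θ, hθ, e⟩ := Sylow_trans hp hP1 (cj_of_mem_N (hY0Θ (inv_mem hg)) ▸ hP1.cj g⁻¹)
    have e1 : θ⁻¹ * (g⁻¹ * c * g⁻¹⁻¹) * θ ∈ C[P] := by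
      rw [← mem_cj, cj_C, ← e, ← cj_C]; exact conj_mem_cj _ hc
    have e2 : (θ⁻¹ * (g⁻¹ * c * g⁻¹⁻¹) * θ) • a = a := hCk (C_le_C1 hk.1 e1)
    have e3 := (O2_fix hθ.2).1
    rwa [mul_smul, e3, mul_smul, inv_smul_eq_iff, e3, inv_inv, mul_smul, mul_smul,
      inv_smul_eq_iff] at e2
  have hub := hz.smul_ne hu.1 hu.2.2 hb
  have hE3 : ∀ x : G, x • a = a → x • b = b → x • u • b = u • b →
      (x ∈ O2 G a b ↔ x ∈ O2 G b (u • b)) := fun x => hz.mem_O_iff hu.1 hu.2.2 hb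
  have hPD2 : P ≤ O2 G b (u • b) := fun x hx => by
    obtain ⟨e1, e2, e3⟩ := hFx u huB x (hP1.le hx).1
    exact (hE3 x e1 e2 e3).mp (hP1.le hx).2
  have huL : u ∈ N[O[{p}ᶜ, O2 G b (u • b)]] := N_le_N_pcore _ _ (swap_N_O2 rfl (iu.smul_smul b))
  have hL : O[{p}ᶜ, O2 G b (u • b)] ≤ stabilizer G a :=
    le_stab_of_cent hz (H24.odd_of_le (odd_O _) (pcore_le _ _)) hu.1 hu.2.2 huL
      ((pcore_nml _ _).norm (hPD2 hk.1))
      ((pcore_pi _ _).coprime' (hP1.pi.of_le (zpowers_le.mpr hk.1))) hko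
      (O2_fix (hP1.le hk.1).2).1 hki (inf_le_right.trans hCk)
  have hle := le_pcore_TB hp h2 (sol_of_odd (odd_O (D2 G a b))) hP1.pi
    (hP1.le.trans inf_le_right) (fun x hx hxc hxp => hP1.le_of_norm
      (piElt_of_pow_eq_one (piNat_self hp) hxp).isPi (zpowers_le.mpr ⟨hCP hxc, hx⟩)
      (zp_le_N (C_le_N P hxc)) (mem_zpowers x))
    (pcore_pi _ _) (fun x hx => (hE3 x (hL hx) (O2_fix (pcore_le _ _ hx)).1
      (O2_fix (pcore_le _ _ hx)).2).mpr (pcore_le _ _ hx)) (hPD2.trans (pcore_nml _ _).norm)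
  have heq : O[{p}ᶜ, O2 G b (u • b)] = O[{p}ᶜ, O2 G a b] := by
    refine eq_of_card_eq hle ?_
    obtain ⟨y, hy, e⟩ := hQ.trans b hbO (t • u • b) (smul_mem_Orb htY (smul_mem_Orb hu.2.1 hbO)) hb
      fun e => hub (by rw [← it.smul_eq e])
    have e1 : cj (t * y) (D2 G a b) = D2 G b (u • b) := by
      rw [cj_D2, mul_smul, mul_smul, hQ.fix y hy, e, it.smul_smul]
    rw [O2, ← e1, pcore_cj, pcore_cj, card_cj]
  exact heq ▸ huL

/-- CC2 -/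
theorem Mn.cl (h : Mn Ω Z) : Cl Ω Z := by
  refine ⟨h, fun y a ⟨hy, hya, hP⟩ u hu v hv huv => ?_⟩
  by_contra hne
  have hz := h.ze
  have iu := hz.inv u hu.1
  have aux : ∀ w : G, Wide Ω w → w • a = a → ∃ g ∈ C{w}, g • a ≠ a := fun w hw hwa => by
    obtain ⟨b, hb, hwb⟩ := hw.exists_ne a
    obtain ⟨g, hg, e⟩ : b ∈ Orb C{w} a := by rw [hz.orb_C hw.1 hwa]; exact hwb
    exact ⟨g, hg, e ▸ hb⟩
  have hO := hz.orb_C hy.1 hya
  have hYt := h.C_ne_top hy.1.1 hya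
  obtain ⟨b0, hb0, hyb0⟩ := hy.exists_ne a
  have hb0O : b0 ∈ Orb C{y} a := hO ▸ hyb0
  have ho := hz.odd_of_fix hu.1 hv.1 hb0.symm (Ker_fix huv) (Ker_smul huv hb0O)
  have key : ∀ b, b ≠ a → y • b = b → ∀ z ∈ Z, ∀ z' ∈ Z, z • a = a → z' • a = a →
      Odd (orderOf (z * z')) → (z * z') • b = b := fun b hb hyb z h1 z' h2 h3 h4 h5 => by
    obtain ⟨t, ht, htY, rfl⟩ := hz.exists_TT_of hu (hO ▸ hyb : b ∈ Orb C{y} a) hb
    obtain ⟨X, hX, htX, hZX⟩ := h.exists_proper hYt hP ht htY hb hu hv hne ho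
    obtain ⟨u1, hu1, v1, hv1, i3, i4⟩ := hP
    obtain ⟨Q, hQ⟩ := h.lz X a hX ⟨u1, ⟨hu1.1, hZX _ hu1.1 hu1.2.2, hu1.2.2⟩, v1,
      ⟨hv1.1, hZX _ hv1.1 hv1.2.2, hv1.2.2⟩, i3, i4⟩ ⟨t, htX, hb⟩
    exact (odd_mem_Ker hz hQ ⟨h1, hZX z h1 h3, h3⟩ ⟨h2, hZX z' h2 h4, h4⟩ h5).2 t htX
  obtain ⟨e, he, hue, hc⟩ := hz.pair_through hP (aux y hy hya) hu
  have ie := hz.inv e he.1
  have huy : u * y = y * u := mem_C1.mp hu.2.1
  have hey : e * y = y * e := mem_C1.mp he.2.1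
  have pr : ∀ z ∈ ZA Z C{y} a, z * u = u * z → z * e = e * z →
      u ∈ ZA Z C{y * z} a ∧ e ∈ ZA Z C{y * z} a := fun z hz1 h1 h2 =>
    ⟨⟨hu.1, mem_C1.mpr (by rw [← mul_assoc, huy, mul_assoc, ← h1, mul_assoc]), hu.2.2⟩,
      ⟨he.1, mem_C1.mpr (by rw [← mul_assoc, hey, mul_assoc, ← h2, mul_assoc]), he.2.2⟩⟩
  have hw := h.wide_mul hy hu.1 huy
  have hwa : (y * u) • a = a := by rw [mul_smul, hu.2.2, hya]
  obtain ⟨g, hga, hg⟩ : ∃ g : G, g • a = a ∧ g * y * g⁻¹ = y * u := by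
    obtain ⟨h1, h2⟩ := pr e he hc.symm rfl
    have hue' := h.mul_mem hu.1 he.1 hue hc
    obtain ⟨g, hg, e1⟩ := hz.conj_of_mem h2 (aux _ (h.wide_mul hy he.1 hey)
      (by rw [mul_smul, he.2.2, hya])) hue' (mul_mem h1.2.1 h2.2.1)
    refine ⟨g, hz.smul_of_conj he.1 he.2.2 (by rw [e1, mul_smul, he.2.2, hu.2.2]), ?_⟩
    calc _ = g * (y * e) * g⁻¹ * (g * e * g⁻¹) * (g * (e * e) * g⁻¹)⁻¹ := by group
      _ = y * (e * (u * e)) := by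
        rw [mem_C1_iff_conj.mp (Lz_le _ _ hg), e1, ie.2]; group
      _ = _ := by rw [hc, ← mul_assoc e, ie.2, one_mul]
  have key2 : ∀ c, c ≠ a → (y * u) • c = c → ∀ k : G, Odd (orderOf k) → k • a = a →
      u * k * u⁻¹ = k⁻¹ → k • c = c := fun c hca hc k h1 h2 h3 => by
    have e1 : g⁻¹ * (k * u) * g⁻¹⁻¹ * (g⁻¹ * u * g⁻¹⁻¹) = g⁻¹ * k * g⁻¹⁻¹ := by
      calc _ = g⁻¹ * k * (u * u) * g := by group
        _ = _ := by rw [iu.2]; group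
    have hga' : g⁻¹ • a = a := inv_smul_eq_iff.mpr hga.symm
    have := key (g⁻¹ • c) (fun e => hca (by rw [← hga, ← e, smul_inv_smul]))
      (fix_of_conj (g := g) (by rwa [hg, smul_inv_smul])) _
      (hz.conj _ (hz.mul_mem_of_odd hu.1 h1 h3).1 g⁻¹) _ (hz.conj _ hu.1 g⁻¹)
      (by simpa [hga'] using conj_fix (g := g⁻¹) (show (k * u) • a = a by rw [mul_smul, hu.2.2, h2]))
      (by simpa [hga'] using conj_fix (g := g⁻¹) hu.2.2) (by rwa [e1, H24.orderOf_conj])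
    rw [e1] at this
    exact fix_of_conj this
  have hK := Ker_nml C{y} a
  have hub := hz.smul_ne hu.1 hu.2.2 hb0
  have hKD : Ker C{y} a ≤ D2 G b0 (u • b0) := fun x hx =>
    ⟨Ker_smul hx hb0O, Ker_smul hx (smul_mem_Orb hu.2.1 hb0O)⟩
  have hkR : u * v ∈ O[{2}ᶜ, Ker C{y} a] :=
    inverted_mem_of_comm ho (iu.conj_mul (hz.inv v hv.1)) huv fun n hn =>
      inf_pcore_le _ hKD ⟨(Ker C{y} a).mul_mem (hK.conj_mem hu.2.1 hn) ((Ker C{y} a).inv_mem hn),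
        hz.comm_mem_O hu.1 rfl hub.symm (hKD hn)⟩
  obtain ⟨p, hp, hR0⟩ := exists_pcore_ne_bot (sol_of_odd (odd_O (Ker C{y} a))) fun e1 => hne (by
    rw [e1, mem_bot] at hkR
    rw [← (hz.inv v hv.1).inv]; exact eq_inv_of_mul_eq_one_left hkR)
  have hR := (hK.pcore {2}ᶜ).pcore {p}
  have hRK := (pcore_le {p} _).trans (pcore_le {2}ᶜ (Ker C{y} a))
  have hRo := H24.odd_of_le (odd_O (Ker C{y} a)) (pcore_le {p} _)
  have hRp := pcore_pi {p} O[{2}ᶜ, Ker C{y} a]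
  set R := O[{p}, O[{2}ᶜ, Ker C{y} a]]
  have h2 : p ≠ 2 := by
    rintro rfl
    exact hR0 (hRp.eq_bot (odd_iff_isPi.mp hRo))
  obtain ⟨h1u, h1e⟩ := pr u hu rfl hc
  obtain ⟨Q, hQ⟩ := h.lz _ a (h.C_ne_top hw.1.1 hwa) ⟨u, h1u, e, h1e, hue, hc⟩ (aux _ hw hwa)
  have hOw := hz.orb_C hw.1 hwa
  obtain ⟨c0, hc0, hwc0⟩ := hw.exists_ne a
  obtain ⟨c, hcO, hca, hc1⟩ := exists_fix hQ hp h2 (P := R ⊓ C{u}) (hRp.of_le inf_le_left)
    (fun x hx => mem_C1.mpr (by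
      rw [← mul_assoc, mem_C1.mp (hR.le hx.1), mul_assoc, mem_C1.mp hx.2, mul_assoc]))
    (fun x hx => Ker_fix (hRK hx.1)) (hOw ▸ hwc0 : c0 ∈ Orb C{y * u} a) hc0
  have hRc : R ≤ stabilizer G c := le_of_cent_inv iu hRo (hR.norm hu.2.1)
    (fun x hx e1 => hc1 ⟨hx, mem_C1.mpr e1.symm⟩) fun x hx e1 =>
      key2 c hca (hOw ▸ hcO :) x (odd_orderOf_of_mem hRo hx) (Ker_fix (hRK hx)) e1
  refine hR0 (eq_bot_iff.mpr fun x hx => h.faithful fun d => ?_)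
  by_cases hd : y • d = d
  · exact Ker_smul (hRK hx) (hO ▸ hd)
  obtain ⟨s, hs, hsy, hsd⟩ := hz.exists_comm_TT hy.1 (Ne.symm hd) (Or.inr rfl)
  obtain ⟨g1, hg1, rfl⟩ := hz.conj_of_mem hu (aux y hy hya) hs (mem_C1.mpr hsy)
  replace hg1 := Lz_le _ _ hg1
  have hd1 : (y * u) • g1⁻¹ • d = g1⁻¹ • d := fix_of_conj (g := g1) (by
    rw [smul_inv_smul, show g1 * (y * u) * g1⁻¹ = g1 * y * g1⁻¹ * (g1 * u * g1⁻¹) by group,
      mem_C1_iff_conj.mp hg1, mul_smul, hsd, hy.1.smul_smul])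
  obtain ⟨q, hq, e1⟩ := hQ.trans c hcO (g1⁻¹ • d) (hOw ▸ hd1) hca fun e1 => hd (by
    rw [inv_smul_eq_iff.mp e1]; exact comm_fix (mem_C1.mp hg1).symm hya)
  have hm := hQ.comm u h1u q hq
  have i5 := iu.conj q
  have e2 : u * q * u⁻¹ * q⁻¹ = u * (q * u * q⁻¹) := by rw [iu.inv]; group
  rw [e2] at hm
  obtain ⟨n, hn⟩ := H21.conj_of_odd_mul iu.2 i5.2 (hz.odd_of_fix hu.1 (hz.conj u hu.1 q) hca.symm
    (Ker_fix hm) (Ker_smul hm hcO)) (pow_orderOf_eq_one _)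
  have hm' := pow_mem hm n
  set o := (u * (q * u * q⁻¹)) ^ n
  have h3 : o * q ∈ C{u} := mem_C1_iff_conj.mpr (by
    calc _ = o * (q * u * q⁻¹) * o⁻¹ := by group
      _ = _ := hn)
  have h4 : o * q ∈ C{y} := by
    have h5 := mem_C1_comm.mp (mul_mem hm'.1 (hQ.le hq))
    have := mul_mem h5 (mem_C1_comm.mp h3)
    rw [mul_assoc, iu.2, mul_one] at this
    exact mem_C1_comm.mp this
  have h6 : (g1 * (o * q)) • c = d := by
    rw [mul_smul, mul_smul, e1, Ker_smul hm' (hOw ▸ hd1), smul_inv_smul]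
  exact h6 ▸ fix_smul (hR.norm (mul_mem hg1 h4)) hRc hx

end ZD
end H6
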