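import Mathlib
import Cfsg.Agent.H6.ZN

/-! Project UNIQ2: the case `μ = 1`, first consequences. -/

set_option autoImplicit false
set_option linter.unusedSectionVars false
set_option linter.unusedVariables false

namespace H6
namespace ZD

open H24 H3.B71 Subgroup MulAction

variable {G Ω : Type*} [Group G] [Finite G] [MulAction G Ω] [Finite Ω] {Z : Set G}

theorem mem_N_top25 (g : G) : g ∈ N[(⊤ : Subgroup G)] := by rw [N_top]; trivial

/-- an involution of a set with three elements is odd -/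
theorem sign_of_three25 {S : Type*} [Fintype S] [DecidableEq S] (hS : Fintype.card S = 3)
    {σ : Equiv.Perm S} (h1 : σ ≠ 1) (h2 : σ * σ = 1) : Equiv.Perm.sign σ = -1 := by
  have a := Equiv.Perm.two_le_card_support_of_ne_one h1
  have b : σ.support.card ≤ 3 := hS ▸ Finset.card_le_univ _
  rcases (by omega : σ.support.card = 2 ∨ σ.support.card = 3) with e | e
  · exact (Equiv.Perm.card_support_eq_two.mp e).sign_eq
  · have o := (card_support_eq_three_iff.mp e).orderOf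
    have : orderOf σ ∣ 2 := orderOf_dvd_of_pow_eq_one (by rw [pow_two, h2])
    rw [o] at this
    omega

/-- an involution of the derived group of `M` centralises an `M`-invariant set of three elements -/
theorem cent_of_three25 {M : Subgroup G} {S : Set G} (hS : S.ncard = 3)
    (hM : ∀ g ∈ M, ∀ s ∈ S, g * s * g⁻¹ ∈ S) {v : G} (hv : v ∈ ⁅M, M⁆) (h2 : v * v = 1) {s : G}
    (hs : s ∈ S) : v * s * v⁻¹ = s := by
  classical
  letI : Fintype S := Fintype.ofFinite _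
  letI : MulAction M S :=
    { smul := fun g s => ⟨g * s * (g : G)⁻¹, hM g g.2 s s.2⟩
      one_smul := fun s => Subtype.ext (by show ((1 : M) : G) * s * _ = s; simp)
      mul_smul := fun g k s => Subtype.ext (by
        show ((g * k : M) : G) * s * _ = g * (k * s * (k : G)⁻¹) * (g : G)⁻¹
        simp [mul_assoc]) }
  have hc : Fintype.card S = 3 := by rw [← hS, ← Nat.card_coe_set_eq, Nat.card_eq_fintype_card]
  let f : M →* ℤˣ := Equiv.Perm.sign.comp (MulAction.toPermHom M S)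
  have hvM : v ∈ M := der1_le M hv
  have hf : f ⟨v, hvM⟩ = 1 := by
    have : ⁅M, M⁆ ≤ f.ker.map M.subtype := by
      rw [commutator_le]
      intro g hg k hk
      refine ⟨⟨g, hg⟩ * ⟨k, hk⟩ * ⟨g, hg⟩⁻¹ * ⟨k, hk⟩⁻¹, ?_, rfl⟩
      show f _ = 1
      rw [map_mul, map_mul, map_mul, map_inv, map_inv, mul_comm (f _) (f _), mul_inv_cancel_right,
        mul_inv_cancel]
    obtain ⟨w, hw, e⟩ := this hv
    have : w = ⟨v, hvM⟩ := Subtype.ext e
    rw [← this]; exact hw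
  by_contra e
  have := sign_of_three25 hc (σ := MulAction.toPermHom M S ⟨v, hvM⟩)
    (fun e' => e (congrArg Subtype.val (Equiv.congr_fun e' ⟨s, hs⟩)))
    (by rw [← map_mul, show (⟨v, hvM⟩ * ⟨v, hvM⟩ : M) = 1 from Subtype.ext h2, map_one])
  have h3 : f ⟨v, hvM⟩ = -1 := this
  rw [hf] at h3
  exact absurd h3 (by decide)

theorem pair_of_le25 {A Y : Subgroup G} {a : Ω} (hA : ∀ x ∈ A, x = 1 ∨ x ∈ ZA Z Y a)
    (hc : ∀ x ∈ A, ∀ y ∈ A, x * y = y * x) (h3 : 3 ≤ ♯A) : Pair Z Y a := by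
  have : 2 < (A : Set G).ncard := by rw [← Nat.card_coe_set_eq]; exact h3
  obtain ⟨u, hu, v, hv, w, hw, h1, h2, h4⟩ := (Set.two_lt_ncard (Set.toFinite _)).mp this
  rcases hA u hu with e1 | e1 <;> rcases hA v hv with e2 | e2 <;> rcases hA w hw with e3 | e3
  · exact absurd (e1.trans e2.symm) h1
  · exact absurd (e1.trans e2.symm) h1
  · exact absurd (e1.trans e3.symm) h2
  · exact ⟨v, e2, w, e3, h4, hc v hv w hw⟩
  · exact absurd (e2.trans e3.symm) h4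
  · exact ⟨u, e1, w, e3, h2, hc u hu w hw⟩
  · exact ⟨u, e1, v, e2, h1, hc u hu v hv⟩
  · exact ⟨u, e1, v, e2, h1, hc u hu v hv⟩

theorem num_II0 {x n i j : ℕ} (hx : 3 ≤ x) (hi : i = 1 ∨ i = 2) (hj : j = 1 ∨ j = 2 ∨ j = 3)
    (e1 : n = ((x + 1) ^ 2) ^ i + 1 + (((x + 1) ^ 2) ^ i + 1) * (x * (x + 2)) * ((x + 1) ^ 2) ^ i)
    (e2 : (x + 2) * n = (x + 2) * ((x + 1) ^ j + 1) + ((x + 1) ^ j + 1) * x * (x + 1) ^ j) :
    False := by
  have a : (x + 1) ^ 6 < n := by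
    rcases hi with rfl | rfl
    · rw [e1]; ring_nf; omega
    · rw [e1]; ring_nf; omega
  have b : (x + 2) * (x + 1) ^ 6 < (x + 2) * n := Nat.mul_lt_mul_of_pos_left a (by omega)
  rw [e2] at b
  obtain ⟨z, rfl⟩ : ∃ z, x = z + 3 := ⟨x - 3, by omega⟩
  rcases hj with rfl | rfl | rfl <;> ring_nf at b <;> omega

namespace Bt

variable {y t v : G} {a : Ω} {d i : ℕ} (h : Bt Z y a t d i)
include h

theorem ZA_eq_top25 (hm : mm Z a + 1 = 2 ^ d) : ZA Z C{y} a = ZA Z ⊤ a :=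
  Set.eq_of_subset_of_ncard_le (fun _ hx => ⟨hx.1, trivial, hx.2.2⟩)
    (by have := h.pl.ncard_ZA h.ze; unfold mm at hm; omega) (Set.toFinite _)

theorem cent_of_one25 (hi : i ≠ 3) (hm : mm Z a + 1 = 2 ^ d) (hv : Wide Ω v) (hva : v • a = a) :
    Az Z C{y} a ≤ C{v} := by
  have hZ := h.ZA_eq_top25 hm
  have hA : ∀ x, x ∈ Az Z C{y} a ↔ x = 1 ∨ x ∈ ZA Z ⊤ a := fun x => by rw [h.pl.memA, hZ]
  obtain ⟨b, hb, hvb⟩ := hv.exists_ne a
  obtain ⟨s, hs, hsv, hsa⟩ := h.ze.exists_comm_TT hv.1 hb.symm (Or.inl ⟨hva, hvb⟩)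
  have hsa' : s • a ≠ a := hsa ▸ hb
  rcases h.ze.card_eq_or_sq hA hv.1 (mem_N_top25 _) hva hs trivial hsv hsa' with e | e
  · exact e
  by_cases h3 : 3 ≤ ♯(Az Z C{y} a ⊓ C{v})
  · exfalso
    have hA' : ∀ x ∈ Az Z C{y} a ⊓ C{v}, x = 1 ∨ x ∈ ZA Z C{v} a := fun x hx =>
      ((hA x).mp hx.1).imp_right fun e => ⟨e.1, hx.2, e.2.2⟩
    obtain ⟨d', j, h'⟩ := h.cl.exists_Bt ⟨hv, hva, pair_of_le25 hA'
      (fun x hx y hy => h.pl.A_comm h.ze hx.1 hy.1) h3⟩ hs hsv hsa'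
    have e1 : Az Z C{v} a = Az Z C{y} a ⊓ C{v} := by
      ext x
      rw [h'.pl.memA]
      refine ⟨?_, hA' x⟩
      rintro (rfl | e)
      · exact one_mem _
      · exact ⟨(hA x).mpr (Or.inr ⟨e.1, trivial, e.2.2⟩), e.2.1⟩
    rw [← e1, h'.pl.cardA, h.pl.cardA] at e
    have h4 := h'.pl.four_le h.ze
    obtain ⟨x, hx⟩ : ∃ x, 2 ^ d' = x + 1 := ⟨2 ^ d' - 1, by omega⟩
    have e2 := h.card_eq (μ := 1) (by omega)
    have e3 := h'.card_eq (μ := x + 2) (by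
      rw [hx, Nat.add_sub_cancel]; rw [e, hx] at hm; ring_nf at hm ⊢; omega)
    rw [hx, Nat.add_sub_cancel] at e3
    have e4 : 2 ^ d - 1 = x * (x + 2) := by rw [e, hx]; ring_nf; omega
    rw [e4, e, hx, one_mul, one_mul] at e2
    refine num_II0 (by omega) ?_ h'.pl.cases e2 e3
    rcases h.pl.cases with r | r | r
    · exact Or.inl r
    · exact Or.inr r
    · exact absurd r hi
  · have h4 := h.pl.four_le h.ze
    rw [h.pl.cardA] at e
    have h5 : mm Z a = 3 := by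
      have : ♯(Az Z C{y} a ⊓ C{v}) ^ 2 ≤ 2 ^ 2 := Nat.pow_le_pow_left (by omega) 2
      omega
    intro x hx
    rcases (hA x).mp hx with rfl | hx
    · exact one_mem _
    rw [mem_C1_comm, mem_C1_iff_conj]
    exact cent_of_three25 (M := stabilizer G a) h5
      (fun g hg s hs => by
        have := h.ze.conj_ZA hs (g := g) (mem_N_top25 _)
        rwa [show g • a = a from hg] at this)
      (h.sm.mem_der hva (n := 1) (by rw [pow_one, pow_two, hv.1.2])) hv.1.2 hx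

end Bt

theorem Bt.c2 {y t : G} {a : Ω} {d i : ℕ} (h : Bt Z y a t d i) (hi : i ≠ 3)
    (hm : mm Z a + 1 = 2 ^ d) : C2 Ω Z d i := by
  have hm' : ∀ b : Ω, mm Z b + 1 = 2 ^ d := fun b => by rw [h.ze.mm_eq b a, hm]
  have key : ∀ b : Ω, ∃ y t, Bt Z y b t d i := fun b => by
    obtain ⟨g, rfl⟩ := h.ze.exists_smul a b
    exact ⟨_, _, h.cj g⟩
  have cent : ∀ (v : G) (b : Ω), Wide Ω v → v • b = b → ∀ z ∈ Z, z • b = b → z * v = v * z := by
    intro v b hv hb z hz hzb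
    obtain ⟨y', t', h'⟩ := key b
    refine mem_C1.mp (h'.cent_of_one25 hi (hm' b) hv hb (mem_Az ?_))
    rw [h'.ZA_eq_top25 (hm' b)]
    exact ⟨hz, trivial, hzb⟩
  refine ⟨h.cl, ?_, hm', ⟨y, h.bt.1⟩, cent, ?_⟩
  · rcases h.pl.cases with r | r | r
    · exact Or.inl r
    · exact Or.inr r
    · exact absurd r hi
  · intro v b s hv hb hs hsv hsb
    obtain ⟨y', t', h'⟩ := key b
    have e : ZA Z C{y'} b = ZA Z C{v} b := by
      rw [h'.ZA_eq_top25 (hm' b)]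
      exact Set.ext fun x => ⟨fun hx => ⟨hx.1, mem_C1.mpr (cent v b hv hb x hx.1 hx.2.2), hx.2.2⟩,
        fun hx => ⟨hx.1, trivial, hx.2.2⟩⟩
    have hP : Pair Z C{v} b := by
      have := h'.bt.2.2
      unfold Pair at this ⊢
      rwa [e] at this
    obtain ⟨d', j, h''⟩ := h.cl.exists_Bt ⟨hv, hb, hP⟩ hs hsv hsb
    have e1 := h''.pl.ncard_ZA h.ze
    rw [← e, h'.pl.ncard_ZA h.ze] at e1
    obtain rfl : d = d' := Nat.pow_right_injective le_rfl e1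
    rwa [h.same_i h''] at h''

namespace C2

variable {d i : ℕ} (h : C2 Ω Z d i) {y v t g k w z z' x : G} {a b c : Ω} {Y : Subgroup G}
include h

theorem ze : ZE Ω Z := h.cl.ze

theorem sm : Sm Ω Z := h.cl.toSm

theorem ne3 : i ≠ 3 := by have := h.i12; omega

theorem exists_wide (a : Ω) : ∃ y : G, Wide Ω y ∧ y • a = a := by
  obtain ⟨y, hy⟩ := h.wide
  obtain ⟨b, -, hb⟩ := hy.exists_ne a
  obtain ⟨g, rfl⟩ := h.ze.exists_smul b a
  exact ⟨_, hy.conj g, conj_fix hb⟩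

theorem bt' (hy : Wide Ω y) (ha : y • a = a) (hb : y • b = b) (hba : b ≠ a) :
    ∃ t, t • a = b ∧ Bt Z y a t d i := by
  obtain ⟨s, hs, hsv, hsa⟩ := h.ze.exists_comm_TT hy.1 hba.symm (Or.inl ⟨ha, hb⟩)
  exact ⟨s, hsa, h.bt y a s hy ha hs hsv (hsa ▸ hba)⟩

theorem bt125 (hy : Wide Ω y) (ha : y • a = a) : ∃ t, Bt Z y a t d i := by
  obtain ⟨b, hb, e⟩ := hy.exists_ne a
  obtain ⟨t, -, ht⟩ := h.bt' hy ha e hb
  exact ⟨t, ht⟩

theorem bt025 (a : Ω) : ∃ y t, Bt Z y a t d i := by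
  obtain ⟨y, hy, ha⟩ := h.exists_wide a
  exact ⟨y, h.bt125 hy ha⟩

theorem two_le : 2 ≤ d := by
  obtain ⟨a, -⟩ := h.sm.nontriv
  obtain ⟨y, t, h'⟩ := h.bt025 a
  exact h'.pl.two_le

theorem three (hi : i = 2) : ¬ 3 ∣ 2 ^ d - 1 := by
  obtain ⟨a, -⟩ := h.sm.nontriv
  obtain ⟨y, t, h'⟩ := h.bt025 a
  exact h'.pl.three hi

theorem Az_eq (hy : Wide Ω y) (ha : y • a = a) : Az Z C{y} a = AA Z a := by
  obtain ⟨t, h'⟩ := h.bt125 hy ha
  unfold AA Az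
  rw [h'.ZA_eq_top25 (h.card a)]

theorem memA : x ∈ AA Z a ↔ x = 1 ∨ (x ∈ Z ∧ x • a = a) := by
  obtain ⟨y, t, h'⟩ := h.bt025 a
  rw [← h.Az_eq h'.bt.1 h'.bt.2.1, h'.pl.memA, h'.ZA_eq_top25 (h.card a)]
  exact or_congr_right ⟨fun e => ⟨e.1, e.2.2⟩, fun e => ⟨e.1, trivial, e.2⟩⟩

theorem cardA (a : Ω) : ♯(AA Z a) = 2 ^ d := by
  obtain ⟨y, t, h'⟩ := h.bt025 a
  rw [← h.Az_eq h'.bt.1 h'.bt.2.1, h'.pl.cardA]

theorem A_sq (hx : x ∈ AA Z a) : x * x = 1 := by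
  rcases h.memA.mp hx with rfl | e
  · exact one_mul 1
  · exact (h.ze.inv x e.1).2

theorem A_le_C (a : Ω) : AA Z a ≤ C[AA Z a] := by
  obtain ⟨y, t, h'⟩ := h.bt025 a
  rw [← h.Az_eq h'.bt.1 h'.bt.2.1]
  exact le_C_iff.mpr fun u hu v hv => h'.pl.A_comm h.ze hu hv

theorem A_free (hx : x ∈ AA Z a) (hc : c ≠ a) (e : x • c = c) : x = 1 := by
  rcases h.memA.mp hx with rfl | hx
  · rfl
  · exact absurd e (h.ze.smul_ne hx.1 hx.2 hc)

theorem N_A (a : Ω) : N[AA Z a] = stabilizer G a := by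
  refine le_antisymm (fun g hg => ?_) fun g hg => norm_Az h.ze (mem_N_top25 _) hg
  obtain ⟨z, hz, ha⟩ := h.ze.pt a
  exact h.ze.smul_of_conj hz ha (Az_fix (conj_mem hg (h.memA.mpr (Or.inr ⟨hz, ha⟩))))

theorem C_le (a : Ω) : C[AA Z a] ≤ stabilizer G a := h.N_A a ▸ C_le_N _

theorem cj_A (g : G) (a : Ω) : cj g (AA Z a) = AA Z (g • a) := by
  rw [h.ze.cj_Az, cj_top]

theorem Az_eq' (hA : AA Z a ≤ Y) : Az Z Y a = AA Z a :=
  le_antisymm (Az_mono le_top a)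
    (closure_mono fun x hx => ⟨hx.1, hA (mem_Az hx), hx.2.2⟩)

theorem mem_C (hy : Wide Ω y) (ha : y • a = a) : y ∈ C[AA Z a] :=
  mem_C_iff_le_C1.mpr (h.Az_eq hy ha ▸ Az_le Z _ a)

theorem not_mem_A (hy : Wide Ω y) : y ∉ AA Z a := fun e => by
  rcases h.memA.mp e with e | e
  · exact hy.1.1 e
  · exact hy.2 (h.ze.nar y e.1)

theorem inv_cases (hx : Inv x) (ha : x • a = a) : x ∈ AA Z a ∨ Wide Ω x := by
  by_cases e : Nar Ω x
  · exact Or.inl (h.memA.mpr (Or.inr ⟨h.sm.mem_of_nar hx e, ha⟩))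
  · exact Or.inr ⟨hx, e⟩

theorem clean (Y : Subgroup G) (hY : ∃ y ∈ Y, y • a ≠ a) : Clean Z Y a := by
  intro u hu v hv e
  obtain ⟨g, hg, hga⟩ := hY
  have := h.A_free (mul_mem (h.memA.mpr (Or.inr ⟨hu.1, hu.2.2⟩))
    (h.memA.mpr (Or.inr ⟨hv.1, hv.2.2⟩))) hga (e.2 g hg)
  rw [← (h.ze.inv v hv.1).inv]
  exact eq_inv_of_mul_eq_one_left this

theorem TT_eq25 {j : ℕ} (p : Pl Z Y a t d j) : TT Z Y a (t • a) = TT Z ⊤ a (t • a) :=
  Set.eq_of_subset_of_ncard_le (fun _ hx => ⟨hx.1, trivial, hx.2.2⟩)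
    (by
      have := p.ncard_TT h.ze
      have := h.card a
      rw [h.ze.ncard_TT_top p.ta.symm]; omega) (Set.toFinite _)

theorem Kz_eq25 {j : ℕ} (p : Pl Z Y a t d j) : Kz Z Y a t = KK Z a t := by
  refine le_antisymm (closure_mono fun k hk => ⟨trivial, hk.2⟩)
    (closure_mono fun k hk => ⟨?_, hk.2⟩)
  have : t * k ∈ TT Z ⊤ a (t • a) := ⟨hk.2.2, trivial, by rw [mul_smul, hk.2.1]⟩
  rw [← h.TT_eq25 p] at this
  simpa using Y.mul_mem (Y.inv_mem p.tY) this.2.1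

theorem pl_of (hY : Y ≠ ⊤) (hA : AA Z a ≤ Y) (ht : t ∈ Z) (htY : t ∈ Y) (hta : t • a ≠ a) :
    ∃ j, Pl Z Y a t d j ∧ Kz Z Y a t = KK Z a t := by
  have hP : Pair Z Y a := by
    obtain ⟨u, hu, v, hv, e⟩ := h.sm.pair_top a
    exact ⟨u, ⟨hu.1, hA (mem_Az hu), hu.2.2⟩, v, ⟨hv.1, hA (mem_Az hv), hv.2.2⟩, e⟩
  obtain ⟨d', j, p⟩ := h.cl.pl Y a t hY hP ht htY hta (h.clean Y ⟨t, htY, hta⟩)
  have e := p.cardA
  rw [h.Az_eq' hA, h.cardA] at e
  obtain rfl : d = d' := Nat.pow_right_injective le_rfl e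
  exact ⟨j, p, h.Kz_eq25 p⟩

/-- a wide involution centralises `T(a, b)` for fixed points `a, b` -/
theorem cent_T (hy : Wide Ω y) (ha : y • a = a) (ht : t ∈ Z) (hta : t • a ≠ a)
    (hb : y • t • a = t • a) : t * y = y * t := by
  obtain ⟨s, hs, h'⟩ := h.bt' hy ha hb hta
  have : t ∈ TT Z ⊤ a (s • a) := ⟨ht, trivial, hs.symm⟩
  rw [← h.TT_eq25 h'.pl] at this
  exact mem_C1.mp this.2.1

theorem cardO : Nat.card Ω = (2 ^ d) ^ i + 1 + ((2 ^ d) ^ i + 1) * (2 ^ d - 1) * (2 ^ d) ^ i := by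
  obtain ⟨a, -⟩ := h.sm.nontriv
  obtain ⟨y, t, h'⟩ := h.bt025 a
  have := h'.card_eq (μ := 1) (by have := h.card a; omega)
  rwa [one_mul, one_mul] at this

/-- `μ = 1` -/
theorem exists_unique_s (hy : Wide Ω y) (hc : y • c ≠ c) :
    ∃! s, s ∈ Z ∧ s * y = y * s ∧ (y * s) • c = c := by
  obtain ⟨a, -, ha⟩ := hy.exists_ne c
  obtain ⟨t, h'⟩ := h.bt125 hy ha
  have e := h'.mu hc
  have h4 := h'.pl.four_le h.ze
  have e1 : (TT Z C{y} c (y • c)).ncard = 1 := by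
    have := h.card a
    refine Nat.eq_of_mul_eq_mul_left (show 0 < 2 ^ d - 1 by omega) ?_
    omega
  obtain ⟨s, hs⟩ := Set.ncard_eq_one.mp e1
  have iff : ∀ s, (s ∈ Z ∧ s * y = y * s ∧ (y * s) • c = c) ↔ s ∈ TT Z C{y} c (y • c) := fun s =>
    and_congr_right fun _ => and_congr mem_C1.symm (by
      rw [mul_smul]
      exact ⟨fun e => (hy.1.smul_eq e).symm, fun e => by rw [e, hy.1.smul_smul]⟩)
  refine ⟨s, (iff s).mpr (hs ▸ rfl), fun s' hs' => ?_⟩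
  have := (iff s').mp hs'
  rwa [hs] at this

section nb

variable (hy : Wide Ω y) (ha : y • a = a) (ht : t ∈ Z) (hta : t • a ≠ a) (hb : y • t • a = t • a)
include hy ha ht hta hb

theorem btT : Bt Z y a t d i := h.bt y a t hy ha ht (h.cent_T hy ha ht hta hb) hta

theorem Kz_eq : Kz Z C{y} a t = KK Z a t := h.Kz_eq25 (h.btT hy ha ht hta hb).pl

theorem memK : k ∈ KK Z a t ↔ k • a = a ∧ t * k ∈ Z :=
  ⟨fun e => (((h.btT hy ha ht hta hb).pl.memK k).mp (h.Kz_eq hy ha ht hta hb ▸ e)).2,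
    fun e => subset_closure ⟨trivial, e⟩⟩

theorem sing : Sing (AA Z a) (KK Z a t) d := by
  have := (h.btT hy ha ht hta hb).pl.sing h.ze
  rwa [h.Az_eq hy ha, h.Kz_eq hy ha ht hta hb] at this

theorem norm_K (h1 : g • a = a) (h2 : g • t • a = t • a) : g ∈ N[KK Z a t] := by
  have e : (g * t * g⁻¹) • a = t • a := by
    have := conj_smul g t a
    rwa [h1, h2] at this
  have ht' := h.ze.conj t ht g
  rw [mem_N_iff_cj, h.ze.cj_Kz, cj_top, h1]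
  have h3 := h.btT hy ha ht' (e ▸ hta) (by rw [e, hb])
  rw [← h.Kz_eq hy ha ht hta hb, ← (h.btT hy ha ht hta hb).pl.K_eq h.ze ⟨ht', h3.pl.tY, e⟩]
  exact (h.Kz_eq25 h3.pl).symm

theorem W_cent_K : WW Z a (t • a) ≤ C[KK Z a t] := by
  intro w hw
  refine mem_C'.mpr fun k hk => ?_
  have hl := conj_mem (h.norm_K hy ha ht hta hb (h.C_le a hw.1) hw.2) hk
  obtain ⟨u, hu, hua⟩ := h.ze.pt a
  have huA : u ∈ AA Z a := h.memA.mpr (Or.inr ⟨hu, hua⟩)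
  rw [h.memK hy ha ht hta hb] at hk hl
  have e := h.ze.K_inj ht hta hu hua hl.1 hk.1 hl.2 hk.2 (by
    have e1 := conj_eq_of_mem_C (inv_mem hw.1) huA
    have e2 := conj_eq_of_mem_C hw.1 (conj_mem (h.N_A a ▸ hk.1 : k ∈ N[AA Z a]) huA)
    calc _ = w * (k * (w⁻¹ * u * w⁻¹⁻¹) * k⁻¹) * w⁻¹ := by group
      _ = _ := by rw [e1, e2])
  exact mul_inv_eq_iff_eq_mul.mp e

theorem K_cent_y : KK Z a t ≤ C{y} := h.Kz_eq hy ha ht hta hb ▸ Kz_le Z _ a t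

/-- K1 -/
theorem K_fix (hk : k ∈ KK Z a t) (h1 : k ≠ 1) (hc : k • c = c) : c = a ∨ c = t • a := by
  by_contra! e
  obtain ⟨l, hl, hp⟩ := exists_prime_mem_zp h1
  rw [← h.Kz_eq hy ha ht hta hb] at hk
  have := (h.btT hy ha ht hta hb).dvd_mu (μ := 1) (by have := h.card a; omega)
    ((zpowers_le.mpr hk) hl) hp ((zpowers_le (H := stabilizer G c)).mpr hc hl) e.1 e.2
  exact hp.one_lt.ne' (Nat.dvd_one.mp this)

end nb

/-- fx -/
theorem fx (hv : Wide Ω v) (hva : v • a = a) (hg : g * v = v * g) (hga : g • a = a)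
    (hc : g • c = c) (hvc : v • c ≠ c) : ∃ e ∈ AA Z a, e ≠ 1 ∧ g * e = e * g := by
  obtain ⟨s, ⟨hs, hsv, hsc⟩, hu⟩ := h.exists_unique_s hv hvc
  have hgv : g * v * g⁻¹ = v := by rw [hg, mul_inv_cancel_right]
  have e : g * s * g⁻¹ = s := hu _ ⟨h.ze.conj s hs g, by
      calc _ = g * (s * v) * g⁻¹ := by nth_rewrite 1 [← hgv]; group
        _ = _ := by rw [hsv]; nth_rewrite 2 [← hgv]; group, by
      have := conj_fix (g := g) hsc
      rw [hc] at this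
      rw [← this]; congr 1
      nth_rewrite 1 [← hgv]; group⟩
  have hgs : g * s = s * g := mul_inv_eq_iff_eq_mul.mp e
  obtain ⟨c0, h0⟩ := h.ze.ex s hs
  have hv0 : v • c0 = c0 := h.ze.fix_of_comm hs h0 hsv
  have hg0 : g • c0 = c0 := h.ze.fix_of_comm hs h0 hgs.symm
  have hsA : s ∈ AA Z c0 := h.memA.mpr (Or.inr ⟨hs, h0⟩)
  by_cases hca : c0 = a
  · exact ⟨s, hca ▸ hsA, (h.ze.inv s hs).1, hgs⟩
  obtain ⟨t, hta, h1⟩ := h.bt' hv hva hv0 hca
  have ht := h1.pl.tZ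
  have htc : t • c0 = a := (h.ze.inv t ht).smul_eq hta
  have hne : t • a ≠ a := h1.pl.ta
  have hne' : t • c0 ≠ c0 := by rw [htc]; exact fun e => hca e.symm
  have hb : v • t • a = t • a := by rw [hta, hv0]
  have hb' : v • t • c0 = t • c0 := by rw [htc, hva]
  have eK : KK Z c0 t = KK Z a t := by
    ext k
    rw [h.memK hv hva ht hne hb, h.memK hv hv0 ht hne' hb']
    exact ⟨fun e => ⟨htc ▸ (h.ze.K_spec ht hne' e.1 e.2).2.1, e.2⟩,
      fun e => ⟨hta ▸ (h.ze.K_spec ht hne e.1 e.2).2.1, e.2⟩⟩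
  refine (h.sing hv hva ht hne hb).hilb (h.N_A a ▸ hga)
    (h.norm_K hv hva ht hne hb hga (by rw [hta, hg0])) fun j hj => ?_
  have h2 := h.btT hv hv0 ht hne' hb'
  have c1 := (h.sing hv hv0 ht hne' hb').cent_of_fix (eK ▸ hj) hsA (h.ze.inv s hs).1
    (mem_C1.mp (pow_mem (mem_C1.mpr hgs) j))
  have c2 := h2.pl.st1 h.ze h.ne3 (pow_mem (mem_C1.mpr hg) j)
    (pow_mem (show g ∈ stabilizer G c0 from hg0) j)
    (by rw [htc]; exact pow_mem (show g ∈ stabilizer G a from hga) j) (h.Az_eq hv hv0 ▸ c1)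
  refine H24.mem_C.mpr fun u hu => ?_
  rcases h.memA.mp hu with rfl | e
  · simp
  · exact h2.pl.centN u e.1 (mem_C1.mpr (h.cent v a hv hva u e.1 e.2)) _ c2

end C2

end ZD
end H6
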