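import Mathlib
import Cfsg.Agent.H6.ZII0
import Cfsg.Agent.H3.B71D

/-! Project UNIQ2: the case `i = 1`, `μ = q + 1` is impossible. -/

set_option autoImplicit false
set_option linter.unusedSectionVars false
set_option linter.unusedVariables false

namespace H6
namespace ZD

open H24 H26 H3.B71 Subgroup MulAction

variable {G Ω : Type*} [Group G] [Finite G] [MulAction G Ω] [Finite Ω] {Z : Set G}

theorem cover25 {ι α : Type*} [Finite α] {T : Set ι} (hT : T.Finite) (F : ι → Set α) {W : Set α}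
    {k : ℕ} (h1 : ∀ i ∈ T, F i ⊆ W) (h2 : ∀ i ∈ T, (F i).ncard = k)
    (h3 : ∀ i ∈ T, ∀ j ∈ T, i ≠ j → ∀ c ∈ F i, c ∉ F j) (h4 : W.ncard ≤ T.ncard * k) {c : α}
    (hc : c ∈ W) : ∃ i ∈ T, c ∈ F i := by
  classical
  have e : (hT.toFinset.biUnion fun i => (F i).toFinite.toFinset).card = T.ncard * k := by
    rw [Finset.card_biUnion, Set.ncard_eq_toFinset_card T hT, ← smul_eq_mul, ← Finset.sum_const]
    · exact Finset.sum_congr rfl fun i hi => by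
        rw [← Set.ncard_eq_toFinset_card, h2 i (by simpa using hi)]
    · intro i hi j hj hij
      exact Finset.disjoint_left.mpr fun c hc hc' =>
        h3 i (by simpa using hi) j (by simpa using hj) hij c (by simpa using hc) (by simpa using hc')
  have e2 : (hT.toFinset.biUnion fun i => (F i).toFinite.toFinset) = W.toFinite.toFinset := by
    refine Finset.eq_of_subset_of_card_le (fun c hc => ?_) ?_
    · obtain ⟨i, hi, hc⟩ := Finset.mem_biUnion.mp hc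
      simpa using h1 i (by simpa using hi) (by simpa using hc)
    · rw [e, ← Set.ncard_eq_toFinset_card]; exact h4
  have : c ∈ W.toFinite.toFinset := by simpa using hc
  rw [← e2] at this
  obtain ⟨i, hi, hc⟩ := Finset.mem_biUnion.mp this
  exact ⟨i, by simpa using hi, by simpa using hc⟩

/-- Baer-Suzuki for a set of involutions -/
theorem two_closure25 {M : Subgroup G} {S : Set G} (hS : ∀ s ∈ S, s ∈ M ∧ s * s = 1)
    (hM : ∀ g ∈ M, ∀ s ∈ S, g * s * g⁻¹ ∈ S) (h2 : ∀ x ∈ S, ∀ y ∈ S, ∃ k, (x * y) ^ 2 ^ k = 1) :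
    IsPi {2} (closure S) := by
  have := H6.isPGroup_closure_of_pairs (p := 2) (K := {x : M | (x : G) ∈ S})
    (fun g x hx => hM g g.2 x hx) fun x hx y hy => by
      obtain ⟨k, hk⟩ := h2 x hx y hy
      exact H6.isPGroup_closure_pair (Subtype.ext (hS x hx).2) (Subtype.ext (hS y hy).2)
        (k := k) (Subtype.ext hk)
  refine (isPi_of_isPGroup Nat.prime_two (this.map M.subtype)).of_le ?_
  rw [MonoidHom.map_closure]
  exact closure_mono fun s hs => ⟨⟨s, (hS s hs).1⟩, hs, rfl⟩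

theorem der_le25 {N H M : Subgroup G} (hn : H ≤ N[N]) (e : M ≤ N ⊔ H) : ⁅M, M⁆ ≤ N ⊔ ⁅H, H⁆ := by
  refine (der1_mono e).trans ?_
  rw [der1_sup hn]
  exact sup_le_sup_right (sup_le (der1_le N) (comm_le_left hn)) _

theorem not_mem_der25 {D : Subgroup G} {y : G} (hy : Inv y) (hS : Syl 2 D (zpowers y)) :
    y ∉ ⁅D, D⁆ := by
  intro e
  rw [← Subgroup.map_subtype_commutator] at e
  obtain ⟨w, hw, rfl⟩ := e
  have hy' : Inv (w : G) := hy
  refine H6.not_mem_commutator_of_fusion (p := 2) ((zpowers (w : G)).subgroupOf D) ⊥ inferInstance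
    (fun x hx x' hx' => ?_) ((Nat.Prime.coprime_iff_not_dvd Nat.prime_two).mpr
      (hS.not_dvd Nat.prime_two)) w (mem_zpowers (w : G)) (fun e => hy'.1 (by
        rw [mem_bot.mp e]; rfl)) ⟨1, by rw [← orderOf_coe, hy'.orderOf_eq]; rfl⟩ (fun m g hg => ?_) hw
  · rw [mem_bot, mul_inv_eq_one, mul_inv_eq_iff_eq_mul]
    exact Subtype.ext ((abl_zpowers (w : G)).comm hx hx')
  · rw [mem_bot, mul_inv_eq_one]
    apply Subtype.ext
    have h1 : ((g * w ^ m * g⁻¹ : D) : G) ∈ zpowers (w : G) := hg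
    have h2 : ((w ^ m : D) : G) ∈ zpowers (w : G) := ⟨m, rfl⟩
    rcases hy'.mem_zp h2 with e | e
    · rw [show w ^ m = 1 from Subtype.ext e]; simp
    · rcases hy'.mem_zp h1 with e' | e'
      · have : w ^ m = 1 := conj_eq_one_iff'.mp (Subtype.ext e')
        rw [this]; simp
      · rw [e, e']

/-- a group with a unique involution `y` in each four-group, and `y` in the derived group -/
theorem exists_sqrt25 {D : Subgroup G} {y : G} (hy : Inv y) (hyD : y ∈ D) (hd : y ∈ ⁅D, D⁆)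
    (h4 : ∀ u ∈ D, ∀ v ∈ D, Inv u → Inv v → u * v = v * u → u = v) : ∃ x ∈ D, x * x = y := by
  obtain ⟨S, hS, hyS⟩ := Sylow_superset Nat.prime_two hy.two (zpowers_le.mpr hyD)
  have hy1 : y ∈ S := hyS (mem_zpowers y)
  have hlt : ¬ S ≤ zpowers y := fun e => not_mem_der25 hy (le_antisymm e hyS ▸ hS) hd
  obtain ⟨x, hx, hxy⟩ := SetLike.not_le_iff_exists.mp hlt
  have hC : S ≤ C{y} := by
    obtain ⟨z, hz, h1, h2⟩ := H21.exists_invol_of_even_card (X := S ⊓ C[S]) (by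
      have := (hS.pi.inf_left C[S]).dvd_card (hS.pi.inf_C_ne_bot Nat.prime_two hS.pi (norm_self S)
        (ne_bot_of_mem hy1 hy.1))
      exact even_iff_two_dvd.mpr this)
    rw [← h4 z (hS.le hz.1) y hyD ⟨h1, h2⟩ hy (mem_C'.mp hz.2 y hy1)]
    exact mem_C_iff_le_C1.mp hz.2
  have hu : ∀ u ∈ S, Inv u → u = y := fun u hu hi =>
    h4 u (hS.le hu) y hyD hi hy (mem_C1.mp (hC hu))
  obtain ⟨k, hk⟩ := (hS.pi.piElt hx).exists_pow Nat.prime_two
  have hk2 : 2 ≤ k := by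
    by_contra! e
    have h2 : x * x = 1 := by
      rw [← pow_two]
      exact orderOf_dvd_iff_pow_eq_one.mp (hk ▸ pow_dvd_pow 2 (show k ≤ 1 by omega))
    by_cases h1 : x = 1
    · exact hxy (h1 ▸ one_mem _)
    · exact hxy (hu x hx ⟨h1, h2⟩ ▸ mem_zpowers x)
  obtain ⟨j, rfl⟩ : ∃ j, k = j + 2 := ⟨k - 2, by omega⟩
  refine ⟨x ^ 2 ^ j, hS.le (pow_mem hx _), hu _ (mul_mem (pow_mem hx _) (pow_mem hx _)) ⟨fun e => ?_, ?_⟩⟩
  · rw [← pow_add, ← orderOf_dvd_iff_pow_eq_one, hk] at e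
    have := Nat.le_of_dvd (by positivity) e
    have h0 : 0 < 2 ^ j := by positivity
    rw [pow_add] at this
    omega
  · rw [← pow_add, ← pow_add, ← orderOf_dvd_iff_pow_eq_one, hk]
    exact Dvd.intro_left 1 (by ring)

namespace Bt

variable {y t : G} {a : Ω} {d : ℕ} (h : Bt Z y a t d 1) (hm : Mx Ω Z d)
    (hμ : mm Z a = (2 ^ d - 1) * (2 ^ d + 1))
include h hμ

theorem I_card : {c : Ω | c ≠ a}.ncard = 2 ^ d * 2 ^ d := by
  have e := h.card_eq hμ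
  have h4 := h.pl.four_le h.ze
  obtain ⟨x, hx⟩ : ∃ x, 2 ^ d = x + 1 := ⟨2 ^ d - 1, by omega⟩
  rw [hx, Nat.add_sub_cancel, pow_one, mul_assoc, ← mul_add] at e
  have e1 := Nat.eq_of_mul_eq_mul_left (by omega) e
  have e2 : {c : Ω | c ≠ a}.ncard + 1 = Nat.card Ω := by
    rw [← Set.ncard_univ, ← Set.ncard_sdiff_singleton_add_one (Set.mem_univ a)]
    congr 2; ext; simp
  rw [hx]; nlinarith

theorem I_cnb {z z' : G} {c : Ω} (hc : c ≠ a) (hz : z ∈ ZA Z ⊤ a) (hz' : z' ∈ ZA Z ⊤ a)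
    (e : z • c = z' • c) : z = z' := by
  obtain ⟨u, hu, h1, -⟩ := cover25 (Set.toFinite (Az Z C{y} a : Set G))
    (fun e => {c : Ω | (y * e) • c = c} \ {a}) (W := {c : Ω | c ≠ a}) (k := 2 ^ d)
    (fun _ _ _ hc => hc.2) (fun u hu => by
      obtain ⟨s, h'⟩ := h.mul hu
      have := Set.ncard_sdiff_singleton_add_one (s := {c : Ω | (y * u) • c = c}) h'.bt.2.1
      rw [h'.ncard_fix, pow_one] at this
      omega)
    (fun u hu v hv huv c h1 h2 => by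
      obtain ⟨s, h'⟩ := h.mul hu
      refine h1.2 (h'.fix_inter (e := u * v) (h.Az_mul hu ▸ mul_mem hu hv) (fun e => huv ?_) h1.1 ?_)
      · rw [← mul_one u, ← h.pl.A_sq h.ze hv, ← mul_assoc, e, one_mul]
      · rw [mul_assoc, ← mul_assoc u, h.pl.A_sq h.ze hu, one_mul]; exact h2.1)
    (by rw [h.I_card hμ, ← Nat.card_coe_set_eq]; exact (congrArg (· * _) h.pl.cardA).ge) hc
  obtain ⟨s, h'⟩ := h.mul hu
  exact h'.cnb h1 hc hz hz' e

theorem I_two : IsPi {2} (Az Z ⊤ a) := by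
  refine two_closure25 (M := stabilizer G a) (fun s hs => ⟨hs.2.2, (h.ze.inv s hs.1).2⟩)
    (fun g hg s hs => h.ze.conj_ZA' hs (mem_N_top25 g) hg) fun z hz z' hz' => ?_
  obtain ⟨k, hk⟩ := H6.odd_orderOf_pow_two_pow (z * z')
  refine ⟨k, by_contra fun e => ?_⟩
  obtain ⟨l, hl, hp⟩ := exists_prime_mem_zp e
  have hl' : l ∈ zpowers (z * z') := zpowers_le.mpr (pow_mem (mem_zpowers _) _) hl
  have ho : Odd (orderOf l) := hk.of_dvd_nat (orderOf_dvd_of_mem_zpowers hl)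
  have hi := h.ze.inv z hz.1
  have hla : l • a = a := (zpowers_le (H := stabilizer G a)).mpr (mul_mem hz.2.2 hz'.2.2) hl'
  have h1 := (h.ze.mul_mem_of_odd hz.1 ho (inv_of_mem_zp (hi.conj_mul (h.ze.inv z' hz'.1)) hl')).2
  have h2 := dvd_ncard_of_no_fix (S := {c : Ω | c ≠ a}) hp (piElt_of_orderOf_prime hp rfl).isPi
    (fun x hx c hc => smul_ne_of_fix ((zpowers_le (H := stabilizer G a)).mpr hla hx) hc)
    fun c hc hf => ne_one_of_orderOf_prime hp (by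
      have := h.I_cnb hμ hc hz (z' := z * l) ⟨h1, trivial, by rw [mul_smul, hla, hz.2.2]⟩
        (by rw [mul_smul, show l • c = c from hf (mem_zpowers l)])
      simpa using this)
  rw [h.I_card hμ, ← pow_add] at h2
  rw [(Nat.prime_dvd_prime_iff_eq hp Nat.prime_two).mp (hp.dvd_of_dvd_pow h2)] at ho
  exact absurd ho (by decide)

theorem I_comm {u v : G} (hu : u ∈ ZA Z ⊤ a) (hv : v ∈ ZA Z ⊤ a) : u * v = v * u := by
  obtain ⟨z, hz, hC⟩ := h.ze.exists_cent_ZA (h.I_two hμ) (fun g _ => mem_N_top25 g)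
    (fun _ => Az_fix) hu ⟨t, trivial, h.pl.ta⟩
  obtain ⟨k, hk, -, rfl, -⟩ := h.ze.exists_K h.pl.tZ h.pl.ta hz.1 hv.1 hz.2.2 hv.2.2
  have := mem_C1.mp (hC (conj_mem' (norm_Az h.ze (mem_N_top25 k) hk) (mem_Az hu)))
  calc _ = k * (k⁻¹ * u * k * z) * k⁻¹ := by group
    _ = _ := by rw [this]; group

theorem I_mem {x : G} : x ∈ Az Z ⊤ a ↔ x = 1 ∨ x ∈ ZA Z ⊤ a := by
  refine ⟨fun hx => ?_, fun hx => hx.elim (fun e => e ▸ one_mem _) mem_Az⟩
  induction hx using closure_induction with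
  | mem x hx => exact Or.inr hx
  | one => exact Or.inl rfl
  | inv x _ hx =>
    rcases hx with rfl | hx
    · simp
    · rw [(h.ze.inv x hx.1).inv]; exact Or.inr hx
  | mul u v _ _ hu hv =>
    rcases hu with rfl | hu
    · rwa [one_mul]
    rcases hv with rfl | hv
    · rw [mul_one]; exact Or.inr hu
    by_cases e : u = v
    · rw [e]; exact Or.inl (h.ze.inv v hv.1).2
    · exact Or.inr ⟨h.sm.mul_mem hu.1 hv.1 e (h.I_comm hμ hu hv), trivial,
        by rw [mul_smul, hv.2.2, hu.2.2]⟩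

theorem I_cardQ : ♯(Az Z ⊤ a) = 2 ^ d * 2 ^ d := by
  have e : (Az Z ⊤ a : Set G) = insert 1 (ZA Z ⊤ a) := Set.ext fun x => h.I_mem hμ
  have e1 : ♯(Az Z ⊤ a) = (Az Z ⊤ a : Set G).ncard := Nat.card_coe_set_eq _
  rw [e1, e, Set.ncard_insert_of_notMem fun e => (h.ze.inv 1 e.1).1 rfl]
  have h4 := h.pl.four_le h.ze
  obtain ⟨x, hx⟩ : ∃ x, 2 ^ d = x + 1 := ⟨2 ^ d - 1, by omega⟩
  have : (ZA Z ⊤ a).ncard = _ := hμ
  rw [this, hx, Nat.add_sub_cancel]; ring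

theorem I_free {x : G} {c : Ω} (hx : x ∈ Az Z ⊤ a) (hc : c ≠ a) (e : x • c = c) : x = 1 := by
  rcases (h.I_mem hμ).mp hx with hx | hx
  · exact hx
  · exact absurd e (h.ze.smul_ne hx.1 hx.2.2 hc)

theorem I_der {x : G} {b : Ω} (hb : b ≠ a) (hx : x ∈ D2 G a b) {n : ℕ} (h2 : x ^ 2 ^ n = 1) :
    x ∈ ⁅D2 G a b, D2 G a b⁆ := by
  have hn : D2 G a b ≤ N[Az Z ⊤ a] := fun g hg => norm_Az h.ze (mem_N_top25 g) hg.1
  have hO : Orb (Az Z ⊤ a) b = {c : Ω | c ≠ a} := by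
    refine Set.eq_of_subset_of_ncard_le ?_ ?_ (Set.toFinite _)
    · rintro c ⟨u, hu, rfl⟩
      exact smul_ne_of_fix (Az_fix hu) hb
    · have := card_inf_mul_relIndex (stabilizer G b) (Az Z ⊤ a)
      rw [show stabilizer G b ⊓ Az Z ⊤ a = ⊥ from
        eq_bot_iff.mpr fun u hu => h.I_free hμ hu.2 hb hu.1, card_bot, one_mul] at this
      rw [ncard_Orb, this, h.I_card hμ, h.I_cardQ hμ]
  have hM : stabilizer G a ≤ Az Z ⊤ a ⊔ D2 G a b := by
    intro g hg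
    have : g • b ∈ Orb (Az Z ⊤ a) b := hO ▸ smul_ne_of_fix hg hb
    obtain ⟨u, hu, e⟩ := this
    rw [← mul_inv_cancel_left u g]
    exact mul_mem_sup hu ⟨(stabilizer G a).mul_mem ((stabilizer G a).inv_mem (Az_fix hu)) hg, by
      show (u⁻¹ * g) • b = b
      rw [mul_smul, ← e, inv_smul_smul]⟩
  obtain ⟨u, hu, w, hw, e⟩ := (mem_sup_of_norm ((der1_le _).trans hn)).mp
    (der_le25 hn hM (h.sm.mem_der hx.1 h2))
  have : u = 1 := h.I_free hμ hu hb (by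
    rw [eq_mul_inv_of_mul_eq e.symm]
    exact (stabilizer G b).mul_mem hx.2 ((stabilizer G b).inv_mem (der1_le _ hw).2))
  rw [e, this, one_mul]; exact hw

include hm in
theorem I_bt {v s : G} (hv : Wide Ω v) (hva : v • a = a) (hs : s ∈ Z) (hsv : s * v = v * s)
    (hsa : s • a ≠ a) : ∃ j, Bt Z v a s d j := by
  have h4 := h.pl.four_le h.ze
  have hA : ∀ x ∈ Az Z ⊤ a ⊓ C{v}, x = 1 ∨ x ∈ ZA Z C{v} a := fun x hx =>
    ((h.I_mem hμ).mp hx.1).imp_right fun e => ⟨e.1, hx.2, e.2.2⟩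
  have hle : 2 ^ d ≤ ♯(Az Z ⊤ a ⊓ C{v}) := by
    rcases h.ze.card_eq_or_sq (fun x => h.I_mem hμ) hv.1 (mem_N_top25 v) hva hs trivial hsv hsa
      with e | e
    · rw [inf_eq_left.mpr e, h.I_cardQ hμ]; nlinarith
    · rw [h.I_cardQ hμ] at e; nlinarith
  have hbt : BT Z v a := ⟨hv, hva, pair_of_le25 hA (fun x hx y hy => by
    rcases (h.I_mem hμ).mp hx.1 with rfl | e
    · simp
    rcases (h.I_mem hμ).mp hy.1 with rfl | e'
    · simp
    exact h.I_comm hμ e e') (by omega)⟩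
  obtain ⟨d', j, h'⟩ := h.cl.exists_Bt hbt hs hsv hsa
  have h1 := hm v a hbt
  have h2 : Az Z ⊤ a ⊓ C{v} ≤ Az Z C{v} a := fun x hx => (h'.pl.memA x).mpr (hA x hx)
  have h3 := card_le h2
  rw [h'.pl.cardA] at h1 h3
  obtain rfl : d' = d := Nat.pow_right_injective le_rfl (le_antisymm h1 (hle.trans h3))
  exact ⟨j, h'⟩

include hm in
theorem I_four {b : Ω} (hb : b ≠ a) :
    ∀ u ∈ D2 G a b, ∀ v ∈ D2 G a b, Inv u → Inv v → u * v = v * u → u = v := by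
  intro u hu v hv iu iv hc
  by_contra hne
  have hV : zpowers u ⊔ zpowers v ≤ D2 G a b := sup_le (zpowers_le.mpr hu) (zpowers_le.mpr hv)
  obtain ⟨s, hs, hsV, hsa⟩ := h.sm.exists_cent_smul (four_pi iu iv hc) (hV.trans inf_le_left)
    (hV.trans inf_le_right) hb.symm
  have is := h.ze.inv s hs
  have hsa' : s • a ≠ a := hsa ▸ hb
  have h4 := h.pl.four_le h.ze
  obtain ⟨p, hp, hpd⟩ := Nat.exists_prime_and_dvd (show 2 ^ d + 1 ≠ 1 by omega)
  have h2d : 2 ∣ 2 ^ d := dvd_pow_self 2 (by have := h.pl.two_le; omega)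
  have hp1 : ¬ p ∣ 2 ^ d - 1 := fun e => by
    have e2 := Nat.dvd_sub hpd e
    rw [show 2 ^ d + 1 - (2 ^ d - 1) = 2 by omega] at e2
    rw [(Nat.prime_dvd_prime_iff_eq hp Nat.prime_two).mp e2] at hpd
    omega
  have hO := odd_O (D2 G a b)
  have hsO : s ∈ N[O[{2}ᶜ, D2 G a b]] := N_le_N_pcore _ _ (mem_N_D2 hsa (is.smul_eq hsa))
  have hE : IsPi {2} ((zpowers u ⊔ zpowers v) ⊔ zpowers s) :=
    (four_pi iu iv hc).sup' is.two (norm_zpowers_of_cent hsV)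
  obtain ⟨P, hP, hEP⟩ := sol_coprime_Sylow_exists hp
    (sup_le (hV.trans (pcore_nml _ _).norm) (zp_le_N hsO)) ((odd_iff_isPi.mp hO).coprime' hE)
    (Or.inr (sol_of_odd hO))
  have hPo : Odd ♯P := H3.B71.odd_of_le hO hP.le
  have hsP : s ∈ N[P] := hEP (mem_sup_right (mem_zpowers s))
  have hPs : P ≤ C{s} := by
    refine gen_four iu iv hne hc hPo (hEP (mem_sup_left (mem_sup_left (mem_zpowers u))))
      (hEP (mem_sup_left (mem_sup_right (mem_zpowers v)))) fun x hx ix => ?_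
    have hsx : s * x = x * s := (mem_C1.mp (hsV hx)).symm
    obtain ⟨j, h'⟩ := h.I_bt hm hμ (wide_of_fix ix hb.symm (hV hx).1 (hV hx).2) (hV hx).1 hs hsx hsa'
    have ho : Odd ♯(P ⊓ C{x}) := H3.B71.odd_of_le hPo inf_le_left
    refine le_C1_of_no_inv is ho (mem_N_inf hsP (norm_self _ (mem_C1.mpr hsx))) fun k hk hi => ?_
    have hK : k ∈ Kz Z C{x} a s := (h'.pl.memK k).mpr ⟨hk.2, (pcore_le _ _ (hP.le hk.1)).1,
      (h.ze.mul_mem_of_odd hs (odd_orderOf_of_mem ho hk) hi).2⟩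
    refine (hP.pi.piElt hk.1).eq_one (((isPi_compl_iff hp).mpr ?_).piElt hK)
    rwa [show ♯(Kz Z C{x} a s) = 2 ^ d - 1 by have := h'.pl.cardK; omega]
  obtain ⟨k, -, hk, hka, hsk⟩ := h.ze.exists_K_prime hp (Y := ⊤) ⟨hs, trivial, hsa⟩ hb.symm
    (by rw [h.ze.ncard_TT_top hb.symm, hμ]; exact hpd.mul_left _)
  have := prime_dvd_idx is hO hsO (hsa ▸ h.ze.K_mem_O hs hsa' hka hsk) (hk ▸ hp)
    (h.ze.K_spec hs hsa' hka hsk).2.2
  exact (hP.idx_of_ge hPs).not_dvd' hp rfl (hk ▸ this)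

end Bt

theorem Bt.not_I {y t : G} {a : Ω} {d : ℕ} (h : Bt Z y a t d 1) (hm : Mx Ω Z d)
    (hμ : mm Z a = (2 ^ d - 1) * (2 ^ d + 1)) : False := by
  have hb := h.pl.ta
  have iy := h.bt.1.1
  have hyD : y ∈ D2 G a (t • a) := ⟨h.bt.2.1, h.fix_b⟩
  have h4 := h.I_four hm hμ hb
  obtain ⟨x, hx, hxy⟩ := exists_sqrt25 iy hyD
    (h.I_der hμ hb hyD (n := 1) (by rw [pow_one, pow_two, iy.2])) h4
  have hx4 : x ^ 2 ^ 2 = 1 := by
    rw [show 2 ^ 2 = 2 * 2 from rfl, pow_mul, pow_two x, hxy, pow_two, iy.2]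
  have hx2 : IsPi {2} (zpowers x) :=
    (piElt_of_pow_eq_one (piNat_self_pow Nat.prime_two 2) hx4).isPi
  have hxC : x ∈ C{y} := mem_C1.mpr (by rw [← hxy, mul_assoc])
  set D := D2 G a (t • a)
  set K := Kz Z C{y} a t
  have hHO : D ⊓ C{y} ≤ N[O[{2}ᶜ, D]] := inf_le_left.trans (pcore_nml _ _).norm
  have hHK : D ⊓ C{y} ≤ N[K] := fun g hg => h.pl.norm_K h.ze (norm_self _ hg.2) hg.1.1 hg.1.2
  have hD : D ≤ O[{2}ᶜ, D] ⊔ D ⊓ C{y} := fun g hg => by
    obtain ⟨o, ho, c, hc, e, rfl⟩ := zstar_prod iy hyD (fun g hg e => (h4 _ hyD _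
      (mul_mem (mul_mem hg hyD) (inv_mem hg)) iy (iy.conj g) e).symm) hg
    exact mul_mem_sup ho ⟨hc, mem_C1.mpr e⟩
  obtain ⟨o, ho, c, hc, e⟩ := (mem_sup_of_norm ((der1_le _).trans hHO)).mp
    (der_le25 hHO hD (h.I_der hμ hb hx hx4))
  have hcH := der1_le _ hc
  have hoH : o ∈ D ⊓ C{y} := by
    rw [eq_mul_inv_of_mul_eq e.symm]
    exact mul_mem ⟨hx, hxC⟩ (inv_mem hcH)
  have hn : zpowers o ≤ N[C[K]] := norm_C (zp_le_N (hHK hoH))
  have hxK : x ∈ C[K] := by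
    refine le_of_idx_compl (π := {2}) (nml_sup_right hn) ?_ hx2 (zpowers_le.mpr ?_) (mem_zpowers x)
    · rw [sup_comm, relIndex_sup_of_norm hn]
      exact ((pcore_pi _ _).of_le (zpowers_le.mpr ho)).relIndex _
    · rw [e]
      exact mul_mem_sup (mem_zpowers o) (H25.cyc_der1_norm_le_cent h.pl.cyc hHK hc)
  obtain ⟨u, hu, -⟩ := h.bt.2.2
  obtain ⟨e0, he0, he⟩ := h.ze.exists_cent_ZA hx2 (zp_le_N (norm_self _ hxC))
    (zpowers_le.mpr hx.1) hu ⟨t, h.pl.tY, hb⟩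
  have hxA := (h.pl.sing h.ze).cent_of_fix hxK (mem_Az he0) (h.ze.inv _ he0.1).1
    (mem_C1.mp (he (mem_zpowers x)))
  -- the endomorphism `φ = 1 + x` of `Q`
  set Q := Az Z ⊤ a
  have hxQ : x ∈ N[Q] := norm_Az h.ze (mem_N_top25 x) hx.1
  have hsq : ∀ u ∈ Q, u * u = 1 := fun u hu => by
    rcases (h.I_mem hμ).mp hu with rfl | e
    · simp
    · exact (h.ze.inv u e.1).2
  let φ : G → G := fun u => u * (x * u * x⁻¹)
  have hφ : ∀ u ∈ Q, φ u ∈ Q := fun u hu => mul_mem hu (conj_mem hxQ hu)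
  have hφφ : ∀ u ∈ Q, φ (φ u) = u * (y * u * y⁻¹) := fun u hu => by
    calc _ = u * (x * (u * u) * x⁻¹) * ((x * x) * u * (x * x)⁻¹) := by simp only [φ]; group
      _ = _ := by rw [hsq u hu, hxy]; group
  have hA : ∀ u ∈ Q, φ (φ u) = 1 → u ∈ Az Z C{y} a := fun u hu e => by
    rw [hφφ u hu] at e
    have e1 : y * u * y⁻¹ = u := by
      rw [eq_inv_of_mul_eq_one_right e, H21.invol_inv (hsq u hu)]
    exact (h.pl.memA u).mpr (((h.I_mem hμ).mp hu).imp_right fun e' =>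
      ⟨e'.1, mem_C1_comm.mp (mem_C1_iff_conj.mpr e1), e'.2.2⟩)
  have hA' : ∀ u ∈ Q, φ (φ u) = 1 → φ u = 1 := fun u hu e => by
    simp only [φ]
    rw [conj_eq_of_mem_C hxA (hA u hu e), hsq u hu]
  have hQ : Q ≤ Az Z C{y} a := fun u hu => by
    refine hA u hu (hA' _ (hφ u hu) (hA' _ (hφ _ (hφ u hu)) ?_))
    have hyQ : y ∈ N[Q] := norm_Az h.ze (mem_N_top25 y) h.bt.2.1
    rw [hφφ _ (hφ _ (hφ u hu)), hφφ u hu]
    calc _ = u * (y * (u * u) * y⁻¹) * ((y * y) * u * (y * y)⁻¹) := by group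
      _ = _ := by rw [hsq u hu, iy.2]; simp [hsq u hu]
  have := card_le hQ
  rw [h.I_cardQ hμ, h.pl.cardA] at this
  have := h.pl.four_le h.ze
  nlinarith

end ZD
end H6
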