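import Mathlib
import Cfsg.Agent.H6.ZII0

/-! ZII1, first part (project UNIQ2): the groups `X`, `F`, `R` of a wide involution in case II -/

set_option autoImplicit false
set_option linter.unusedSectionVars false
set_option linter.unusedVariables false

namespace H6
namespace ZD

open H24 H3.B71 Subgroup MulAction

variable {G Ω : Type*} [Group G] [Finite G] [MulAction G Ω] [Finite Ω] {Z : Set G}

theorem exists_inv_of_two_i1 {X : Subgroup G} (hX : IsPi {2} X) (h : X ≠ ⊥) : ∃ x ∈ X, Inv x := by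
  obtain ⟨x, hx, ho⟩ := exists_orderOf_eq Nat.prime_two (hX.dvd_card h)
  refine ⟨x, hx, ne_one_of_orderOf_prime (ho ▸ Nat.prime_two), ?_⟩
  rw [← pow_two, ← ho, pow_orderOf_eq_one]

theorem comm_of_sq_i1 {X : Subgroup G} (hX : ∀ x ∈ X, x * x = 1) {x y : G} (hx : x ∈ X)
    (hy : y ∈ X) : x * y = y * x := by
  have e := hX _ (X.mul_mem hx hy)
  have ex := hX _ hx
  have ey := hX _ hy
  calc x * y = (x * x) * (y * x) * (y * y) * (x * y * (x * y)) * ((x * y * (x * y)))⁻¹ *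
        ((x * x) * (y * x) * (y * y))⁻¹ * (x * y) := by group
    _ = y * x := by
      have e2 : x * y = (y * x)⁻¹⁻¹ := by
        rw [inv_inv, ← H21.invol_inv e, mul_inv_rev, H21.invol_inv ex, H21.invol_inv ey]
      rw [e2]; group

namespace C2

variable {d i : ℕ} (h : C2 Ω Z d i) {y v t g k e x : G} {a b c c' : Ω}
include h

theorem cj_X (g y : G) (a : Ω) : cj g (XX y a) = XX (g * y * g⁻¹) (g • a) := by
  rw [XX, cj_Ker, cj_C1]

theorem cj_F (g y : G) (a : Ω) : cj g (FF Z y a) = FF Z (g * y * g⁻¹) (g • a) := by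
  rw [FF, cj_sup, h.cj_A, h.cj_X]

theorem cj_R (g y : G) (a : Ω) : cj g (RR Z y a) = RR Z (g * y * g⁻¹) (g • a) := by
  rw [RR, cj_inf, cj_C, h.cj_A, cj_C1]

theorem cj_P (g y : G) (a : Ω) : cj g (PP Z y a) = PP Z (g * y * g⁻¹) (g • a) := by
  rw [PP, cj_inf, cj_C, cj_N, h.cj_A, h.cj_F]

theorem exists_A_ne_i1 (a : Ω) : ∃ e ∈ AA Z a, e ≠ 1 := by
  refine exists_ne_one fun e => ?_
  have h1 := h.cardA a
  rw [card_eq_one'.mpr e] at h1
  have := h.two_le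
  have : 2 ^ 2 ≤ 2 ^ d := Nat.pow_le_pow_right (by norm_num) this
  omega

section

variable (hy : Wide Ω y) (ha : y • a = a)
include hy ha

theorem exists_bt_i1 : ∃ t, Bt Z y a t d i := by
  obtain ⟨b, hba, hb⟩ := hy.exists_ne a
  obtain ⟨t, -, ht⟩ := h.bt' hy ha hb hba
  exact ⟨t, ht⟩

theorem mem_X : x ∈ XX y a ↔ x * y = y * x ∧ ∀ c : Ω, y • c = c → x • c = c := by
  obtain ⟨t, ht⟩ := h.exists_bt_i1 hy ha
  exact ht.mem_Ker

theorem y_mem_X : y ∈ XX y a := by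
  obtain ⟨t, ht⟩ := h.exists_bt_i1 hy ha
  exact ht.y_mem_Ker

theorem X_le_C_i1 : XX y a ≤ C[AA Z a] := by
  obtain ⟨t, ht⟩ := h.exists_bt_i1 hy ha
  intro x hx
  rw [H24.mem_C]
  intro z hz
  rcases h.memA.mp hz with rfl | ⟨hz, hza⟩
  · simp
  · exact ht.pl.centN z hz (mem_C1.mpr (h.cent y a hy ha z hz hza)) x hx

theorem X_eq (hb : y • b = b) (hba : b ≠ a) : XX y a = WW Z a b ⊓ C{y} := by
  obtain ⟨t, rfl, ht⟩ := h.bt' hy ha hb hba
  refine le_antisymm (fun x hx => ⟨⟨h.X_le_C_i1 hy ha hx, ((h.mem_X hy ha).mp hx).2 _ hb⟩, hx.1⟩) ?_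
  rintro g ⟨⟨h1, h2⟩, h3⟩
  exact ht.pl.st1 h.ze h.ne3 h3 (h.C_le a h1) h2 (by rw [h.Az_eq hy ha]; exact h1)

theorem X_two : IsPi {2} (XX y a) := by
  obtain ⟨t, ht⟩ := h.exists_bt_i1 hy ha
  exact ht.ker_two h.ne3

theorem wide_mul (he : e ∈ AA Z a) : Wide Ω (y * e) := by
  rcases h.memA.mp he with rfl | ⟨hz, hza⟩
  · simpa using hy
  · exact h.sm.wide_mul hy hz (h.cent y a hy ha e hz hza)

theorem mul_fix_i1 (he : e ∈ AA Z a) : (y * e) • a = a := by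
  rw [mul_smul, Az_fix he, ha]

theorem fix_of_inv_i1 (hx : x ∈ XX y a) (h1 : Inv x) :
    Wide Ω x ∧ x • a = a ∧ ∀ c : Ω, x • c = c ↔ y • c = c := by
  obtain ⟨b, hba, hb⟩ := hy.exists_ne a
  have hf := ((h.mem_X hy ha).mp hx).2
  have hw : Wide Ω x := wide_of_fix h1 hba (hf _ hb) (hf _ ha)
  obtain ⟨t, ht⟩ := h.exists_bt_i1 hy ha
  obtain ⟨t', ht'⟩ := h.exists_bt_i1 hw (hf _ ha)
  have e : {c : Ω | y • c = c} = {c : Ω | x • c = c} :=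
    Set.eq_of_subset_of_ncard_le (fun c hc => hf c hc) (by rw [ht.ncard_fix, ht'.ncard_fix])
      (Set.toFinite _)
  exact ⟨hw, hf _ ha, fun c => (Set.ext_iff.mp e c).symm⟩

theorem X_inf (he : e ∈ AA Z a) (h1 : e ≠ 1) : XX (y * e) a ⊓ XX y a = ⊥ := by
  by_contra hne
  obtain ⟨x, hx, hi⟩ := exists_inv_of_two_i1 ((h.X_two hy ha).inf_right _) hne
  obtain ⟨b, hba, hb⟩ := hy.exists_ne a
  obtain ⟨t, ht⟩ := h.exists_bt_i1 hy ha
  have e1 := (h.fix_of_inv_i1 hy ha hx.2 hi).2.2 b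
  have e2 := (h.fix_of_inv_i1 (h.wide_mul hy ha he) (h.mul_fix_i1 hy ha he) hx.1 hi).2.2 b
  exact hba (ht.fix_inter (by rw [h.Az_eq hy ha]; exact he) h1 hb (e2.mp (e1.mpr hb)))

theorem R_mul_i1 (he : e ∈ AA Z a) : RR Z (y * e) a = RR Z y a := by
  ext g
  refine and_congr_right fun hg => ?_
  have := H24.mem_C.mp hg e he
  change g ∈ C{y * e} ↔ g ∈ C{y}
  rw [mem_C1, mem_C1, mul_assoc, this, ← mul_assoc, ← mul_assoc, mul_left_inj]

theorem X_le_R_i1 : XX y a ≤ RR Z y a := le_inf (h.X_le_C_i1 hy ha) (Ker_le _ _)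

theorem R_norm_X_i1 : RR Z y a ≤ N[XX y a] := inf_le_right.trans (Ker_nml _ _).2

theorem X_cent_i1 (he : e ∈ AA Z a) (h1 : e ≠ 1) : XX (y * e) a ≤ C[XX y a] := by
  have hw := h.wide_mul hy ha he
  have hf := h.mul_fix_i1 hy ha he
  refine cents_of_inf_eq_bot ?_ ?_ (h.X_inf hy ha he h1)
  · exact (h.X_le_R_i1 hw hf).trans ((h.R_mul_i1 hy ha he).le.trans (h.R_norm_X_i1 hy ha))
  · exact (h.X_le_R_i1 hy ha).trans ((h.R_mul_i1 hy ha he).ge.trans (h.R_norm_X_i1 hw hf))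

theorem X_cent2_i1 {e' : G} (he : e ∈ AA Z a) (he' : e' ∈ AA Z a) (h1 : e ≠ e') :
    XX (y * e) a ≤ C[XX (y * e') a] := by
  have := h.X_cent_i1 (h.wide_mul hy ha he') (h.mul_fix_i1 hy ha he') (mul_mem he' he)
    (fun e1 => h1 (by rw [← mul_one e, ← h.A_sq he', ← mul_assoc, ← comm_of_sq_i1
      (fun _ => h.A_sq) he' he, e1, one_mul]))
  rwa [mul_assoc, ← mul_assoc e', h.A_sq he', one_mul] at this

theorem U_le_R_i1 : Uz Z C{y} a ≤ RR Z y a := by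
  obtain ⟨t, ht⟩ := h.exists_bt_i1 hy ha
  refine le_inf (fun x hx => mem_C'.mpr fun u hu => ht.pl.centA x hx u ?_)
    ((Uz_le_Lz _ _ _).trans (Lz_le _ _))
  rw [h.Az_eq hy ha]; exact hu

theorem U_cent_X_i1 : Uz Z C{y} a ≤ C[XX y a] := by
  obtain ⟨t, ht⟩ := h.exists_bt_i1 hy ha
  exact fun u hu => mem_C'.mpr fun x hx => ht.pl.L_cent h.ze (Uz_le_Lz _ _ _ hu) hx

theorem exists_ux_i1 (hg : g ∈ RR Z y a) : ∃ u ∈ Uz Z C{y} a, ∃ x ∈ XX y a, g = u * x := by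
  obtain ⟨t, ht⟩ := h.exists_bt_i1 hy ha
  have hga : g • a = a := h.C_le a hg.1
  obtain ⟨u, hu, e⟩ := ht.pl.trans (g • t • a) (smul_mem_Orb hg.2 (ht.pl.b_mem h.ze))
    (smul_ne_of_fix hga ht.pl.ta)
  refine ⟨u, hu, u⁻¹ * g, ?_, by group⟩
  have hu' := h.U_le_R_i1 hy ha hu
  rw [h.X_eq hy ha ht.fix_b ht.pl.ta]
  have h1 : u ∈ C[AA Z a] := hu'.1
  have h2 : u ∈ C{y} := hu'.2
  refine ⟨⟨Subgroup.mul_mem _ (inv_mem h1) hg.1, ?_⟩, Subgroup.mul_mem _ (inv_mem h2) hg.2⟩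
  change (u⁻¹ * g) • t • a = t • a
  rw [mul_smul, ← e, inv_smul_smul]

theorem R_eq : RR Z y a = Uz Z C{y} a ⊔ XX y a := by
  refine le_antisymm (fun g hg => ?_) (sup_le (h.U_le_R_i1 hy ha) (h.X_le_R_i1 hy ha))
  obtain ⟨u, hu, x, hx, rfl⟩ := h.exists_ux_i1 hy ha hg
  exact mul_mem (mem_sup_left hu) (mem_sup_right hx)

theorem AN_eq_i1 : AN Z C{y} a = FF Z y a := by rw [AN, h.Az_eq hy ha]

theorem mem_F : v ∈ FF Z y a ↔ ∃ x ∈ XX y a, ∃ e ∈ AA Z a, v = x * e := by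
  rw [FF, sup_comm]
  exact mem_sup_of_norm' (norm_of_cent (h.X_le_C_i1 hy ha))

theorem A_le_R_i1 : AA Z a ≤ RR Z y a :=
  le_inf (h.A_le_C a) (mem_C_iff_le_C1.mp (h.mem_C hy ha))

theorem F_le_R : FF Z y a ≤ RR Z y a := sup_le (h.A_le_R_i1 hy ha) (h.X_le_R_i1 hy ha)

theorem F_eq_R (hi : i = 1) : FF Z y a = RR Z y a := by
  obtain ⟨t, ht⟩ := h.exists_bt_i1 hy ha
  refine le_antisymm (h.F_le_R hy ha) ?_
  rw [h.R_eq hy ha]
  exact sup_le ((ht.pl.U_le_AN h.ze hi).trans (h.AN_eq_i1 hy ha).le) le_sup_right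

theorem U_cent_F_i1 : Uz Z C{y} a ≤ C[FF Z y a] :=
  cents_sup ((h.U_le_R_i1 hy ha).trans inf_le_left) (h.U_cent_X_i1 hy ha)

theorem X_mul_le_F_i1 (he : e ∈ AA Z a) : XX (y * e) a ≤ FF Z y a := by
  by_cases h1 : e = 1
  · subst h1; rw [mul_one]; exact le_sup_right
  have hw := h.wide_mul hy ha he
  have hf := h.mul_fix_i1 hy ha he
  have hR : XX (y * e) a ≤ RR Z y a := (h.X_le_R_i1 hw hf).trans (h.R_mul_i1 hy ha he).le
  rcases h.i12 with hi | hi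
  · rw [h.F_eq_R hy ha hi]; exact hR
  intro x hx
  by_contra hxF
  obtain ⟨t, ht⟩ := h.exists_bt_i1 hy ha
  have p := ht.pl
  obtain ⟨u, hu, n, hn, e1⟩ := h.exists_ux_i1 hy ha (hR hx)
  have huF : u ∉ AN Z C{y} a := fun hu' => hxF (by
    rw [e1]; exact mul_mem ((h.AN_eq_i1 hy ha).le hu') (mem_sup_right hn))
  have hxF' : x ∈ C[FF Z y a] := cents_sup (h.X_le_C_i1 hw hf) (h.X_cent_i1 hy ha he h1) hx
  -- every element of `U` outside `F` is `f x^k f'`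
  have key : ∀ w ∈ Uz Z C{y} a, w ∉ AN Z C{y} a → ∃ k ∈ Kz Z C{y} a t, ∃ f ∈ FF Z y a,
      ∃ f' ∈ FF Z y a, w = f * (k * x * k⁻¹) * f' := by
    intro w hw' hwF
    obtain ⟨k, hk, e2⟩ := p.ktr hi u hu w hw' huF hwF
    rw [h.AN_eq_i1 hy ha] at e2
    refine ⟨k, hk, _, inv_mem e2, (k * n * k⁻¹)⁻¹, inv_mem (mem_sup_right
      (conj_mem ((Ker_nml _ _).2 (Kz_le _ _ _ _ hk)) hn)), ?_⟩
    rw [e1]; group
  have hxk : ∀ k ∈ Kz Z C{y} a t, k * x * k⁻¹ ∈ C{x} := by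
    intro k hk
    by_cases hk1 : k = 1
    · subst hk1; simpa using self_mem_C1 x
    have hka : k • a = a := Kz_fix hk
    have hky : k * y * k⁻¹ = y := mem_C1_iff_conj.mp (Kz_le _ _ _ _ hk)
    have heA : e ∈ Az Z C{y} a := by rw [h.Az_eq hy ha]; exact he
    have he' : k * e * k⁻¹ ∈ AA Z a := by
      rw [← h.Az_eq hy ha]; exact conj_mem ((p.sing h.ze).norm hk) heA
    have hne : k * e * k⁻¹ ≠ e := fun e3 => by
      rcases (p.sing h.ze).free k hk e heA (mul_inv_eq_iff_eq_mul.mp e3) with e4 | e4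
      · exact hk1 e4
      · exact h1 e4
    have e5 : k * x * k⁻¹ ∈ XX (y * (k * e * k⁻¹)) a := by
      have := conj_mem_cj k hx
      rw [h.cj_X, hka] at this
      have e6 : k * (y * e) * k⁻¹ = y * (k * e * k⁻¹) := by
        conv_rhs => rw [← hky]
        group
      rwa [e6] at this
    exact C_le_C1 hx (h.X_cent2_i1 hy ha he' he hne e5)
  have hxU : Uz Z C{y} a ≤ C{x} := by
    intro w hw'
    have hFx : FF Z y a ≤ C{x} := mem_C_iff_le_C1.mp hxF'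
    by_cases hwF : w ∈ AN Z C{y} a
    · exact hFx ((h.AN_eq_i1 hy ha).le hwF)
    · obtain ⟨k, hk, f, hf1, f', hf2, rfl⟩ := key w hw' hwF
      exact mul_mem (mul_mem (hFx hf1) (hxk k hk)) (hFx hf2)
  obtain ⟨w1, hw1, w2, hw2, hne⟩ := p.nonab hi
  apply hne
  have hF2 : FF Z y a ≤ C{w2} := mem_C_iff_le_C1.mp (h.U_cent_F_i1 hy ha hw2)
  have : w1 ∈ C{w2} := by
    by_cases hwF : w1 ∈ AN Z C{y} a
    · exact hF2 ((h.AN_eq_i1 hy ha).le hwF)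
    · obtain ⟨k, hk, f, hf1, f', hf2, rfl⟩ := key w1 hw1 hwF
      refine mul_mem (mul_mem (hF2 hf1) ?_) (hF2 hf2)
      have hkU : k ∈ N[Uz Z C{y} a] :=
        norm_Uz h.ze (norm_self _ (Kz_le _ _ _ _ hk)) (Kz_fix hk)
      have := mem_C1.mp (hxU (conj_mem' hkU hw2))
      rw [mem_C1]
      calc k * x * k⁻¹ * w2 = k * (x * (k⁻¹ * w2 * k)) * k⁻¹ := by group
        _ = w2 * (k * x * k⁻¹) := by rw [← this]; group
  rw [mem_C1.mp this]
  simp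

theorem F_mul_i1 (he : e ∈ AA Z a) : FF Z (y * e) a = FF Z y a := by
  refine le_antisymm (sup_le le_sup_left (h.X_mul_le_F_i1 hy ha he)) (sup_le le_sup_left ?_)
  have := h.X_mul_le_F_i1 (h.wide_mul hy ha he) (h.mul_fix_i1 hy ha he) he
  rwa [mul_assoc, h.A_sq he, mul_one] at this

theorem X_sq (hx : x ∈ XX y a) : x * x = 1 := by
  obtain ⟨e, he, h1⟩ := h.exists_A_ne_i1 a
  have hw := h.wide_mul hy ha he
  have hf := h.mul_fix_i1 hy ha he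
  have hxF : x ∈ FF Z (y * e) a := by rw [h.F_mul_i1 hy ha he]; exact mem_sup_right hx
  obtain ⟨n, hn, e', he', rfl⟩ := (h.mem_F hw hf).mp hxF
  have hc := H24.mem_C.mp (h.X_le_C_i1 hw hf hn) e' he'
  have e2 : n * e' * (n * e') = n * n := by
    calc n * e' * (n * e') = n * (e' * n) * e' := by group
      _ = n * n * (e' * e') := by rw [hc]; group
      _ = n * n := by rw [h.A_sq he', mul_one]
  have : n * e' * (n * e') ∈ XX (y * e) a ⊓ XX y a :=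
    ⟨by rw [e2]; exact mul_mem hn hn, mul_mem hx hx⟩
  rwa [h.X_inf hy ha he h1, mem_bot] at this

theorem X_le_CX_i1 : XX y a ≤ C[XX y a] :=
  fun _ hx => mem_C'.mpr fun _ hx' => comm_of_sq_i1 (fun _ => h.X_sq hy ha) hx hx'

theorem X_le_of_mem_i1 (hx : x ∈ XX y a) (h1 : x ≠ 1) : XX y a ≤ XX x a := by
  obtain ⟨hw, hxa, hf⟩ := h.fix_of_inv_i1 hy ha hx ⟨h1, h.X_sq hy ha hx⟩
  intro g hg
  exact (h.mem_X hw hxa).mpr ⟨comm_of_sq_i1 (fun _ => h.X_sq hy ha) hg hx,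
    fun c hc => ((h.mem_X hy ha).mp hg).2 c ((hf c).mp hc)⟩

theorem of_mem_X (hx : x ∈ XX y a) (h1 : x ≠ 1) :
    Wide Ω x ∧ (∀ c : Ω, x • c = c ↔ y • c = c) ∧ XX x a = XX y a := by
  obtain ⟨hw, hxa, hf⟩ := h.fix_of_inv_i1 hy ha hx ⟨h1, h.X_sq hy ha hx⟩
  have h2 := h.X_le_of_mem_i1 hy ha hx h1
  exact ⟨hw, hf, le_antisymm (h.X_le_of_mem_i1 hw hxa (h2 (h.y_mem_X hy ha)) hy.1.1) h2⟩

theorem exists_conj_mul_i1 (he : e ∈ AA Z a) : ∃ g : G, g • a = a ∧ g * y * g⁻¹ = y * e := by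
  obtain ⟨t, ht⟩ := h.exists_bt_i1 hy ha
  exact ht.conj_mul (by rw [h.Az_eq hy ha]; exact he)

theorem card_X_mul (he : e ∈ AA Z a) : ♯(XX (y * e) a) = ♯(XX y a) := by
  obtain ⟨g, hg, e1⟩ := h.exists_conj_mul_i1 hy ha he
  rw [← card_cj g (XX y a), h.cj_X, hg, e1]

theorem A_inf_X_i1 : AA Z a ⊓ XX y a = ⊥ := by
  obtain ⟨t, ht⟩ := h.exists_bt_i1 hy ha
  rw [← h.Az_eq hy ha]
  exact ht.pl.A_inf_Ker h.ze

theorem card_F : ♯(FF Z y a) = 2 ^ d * ♯(XX y a) := by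
  rw [card_sup_of_inf (norm_of_cent (h.X_le_C_i1 hy ha)) (h.A_inf_X_i1 hy ha), h.cardA]

theorem card_X_le : ♯(XX y a) ≤ 2 ^ d := by
  obtain ⟨e, he, h1⟩ := h.exists_A_ne_i1 a
  have h2 : XX (y * e) a ⊔ XX y a ≤ FF Z y a := sup_le (h.X_mul_le_F_i1 hy ha he) le_sup_right
  have h3 := card_le h2
  rw [card_sup_of_inf (norm_of_cent (cents_symm (h.X_cent_i1 hy ha he h1))) (h.X_inf hy ha he h1),
    h.card_F hy ha, h.card_X_mul hy ha he] at h3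
  exact Nat.le_of_mul_le_mul_right h3 (card_pos _)

theorem R_two : IsPi {2} (RR Z y a) := by
  obtain ⟨t, ht⟩ := h.exists_bt_i1 hy ha
  rw [h.R_eq hy ha]
  exact (ht.pl.U_two h.ze).sup' (h.X_two hy ha) (norm_of_cent (h.U_cent_X_i1 hy ha))

theorem card_R : ♯(RR Z y a) = (2 ^ d) ^ i * ♯(XX y a) := by
  obtain ⟨t, ht⟩ := h.exists_bt_i1 hy ha
  rw [← card_mul_relIndex (h.X_le_R_i1 hy ha), h.R_eq hy ha, sup_comm,
    relIndex_sup_of_norm (norm_of_cent (h.U_cent_X_i1 hy ha)), ht.pl.relIndex_U h.ze, mul_comm]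

theorem R_trans (hc : y • c = c) (hc' : y • c' = c') (h1 : c ≠ a) (h2 : c' ≠ a) :
    ∃ g ∈ RR Z y a, g • c = c' := by
  obtain ⟨t, ht⟩ := h.exists_bt_i1 hy ha
  obtain ⟨u, hu, e⟩ := ht.pl.trans' h.ze (ht.mem_orb.mpr hc) (ht.mem_orb.mpr hc') h1 h2
  exact ⟨u, h.U_le_R_i1 hy ha hu, e⟩

theorem F_sq (hv : v ∈ FF Z y a) : v * v = 1 := by
  obtain ⟨n, hn, e', he', rfl⟩ := (h.mem_F hy ha).mp hv
  have hc := H24.mem_C.mp (h.X_le_C_i1 hy ha hn) e' he'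
  calc n * e' * (n * e') = n * (e' * n) * e' := by group
    _ = n * n * (e' * e') := by rw [hc]; group
    _ = 1 := by rw [h.A_sq he', h.X_sq hy ha hn, mul_one]

theorem R_le_CX_i1 : RR Z y a ≤ C[XX y a] := by
  rw [h.R_eq hy ha]
  exact sup_le (h.U_cent_X_i1 hy ha) (h.X_le_CX_i1 hy ha)

theorem R_le_C : RR Z y a ≤ C[FF Z y a] := cents_sup inf_le_left (h.R_le_CX_i1 hy ha)

theorem R_of_mem_X_i1 (hx : x ∈ XX y a) (h1 : x ≠ 1) : RR Z x a = RR Z y a := by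
  obtain ⟨hw, hf, e⟩ := h.of_mem_X hy ha hx h1
  have hxa := (hf a).mpr ha
  refine le_antisymm (le_inf inf_le_left ?_) (le_inf inf_le_left ?_)
  · exact (h.R_le_CX_i1 hw hxa).trans (C_le_C1 (e.ge (h.y_mem_X hy ha)))
  · exact (h.R_le_CX_i1 hy ha).trans (C_le_C1 hx)

theorem of_mem_F (hv : v ∈ FF Z y a) (h1 : v ∉ AA Z a) :
    Wide Ω v ∧ v • a = a ∧ FF Z v a = FF Z y a ∧ RR Z v a = RR Z y a ∧
      ∃ e ∈ AA Z a, XX v a = XX (y * e) a := by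
  obtain ⟨x, hx, e, he, rfl⟩ := (h.mem_F hy ha).mp hv
  have hx1 : x ≠ 1 := fun e1 => h1 (by rw [e1, one_mul]; exact he)
  obtain ⟨hw, hf, e1⟩ := h.of_mem_X hy ha hx hx1
  have hxa := (hf a).mpr ha
  have hw' := h.wide_mul hw hxa he
  have hf' := h.mul_fix_i1 hw hxa he
  have eF : FF Z (x * e) a = FF Z y a := by rw [h.F_mul_i1 hw hxa he, FF, e1]
  refine ⟨hw', hf', eF, by rw [h.R_mul_i1 hw hxa he, h.R_of_mem_X_i1 hy ha hx hx1], ?_⟩
  have hyF : y ∈ FF Z (x * e) a := by rw [eF]; exact mem_sup_right (h.y_mem_X hy ha)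
  obtain ⟨x', hx', e', he', e2⟩ := (h.mem_F hw' hf').mp hyF
  have e3 : y * e' = x' := by rw [e2, mul_assoc, h.A_sq he', mul_one]
  refine ⟨e', he', ?_⟩
  rw [e3]
  exact (h.of_mem_X hw' hf' hx' (e3 ▸ (h.wide_mul hy ha he').1.1)).2.2.symm

theorem sq_ux_i1 {u : G} (hu : u ∈ Uz Z C{y} a) (hx : x ∈ XX y a) : u * x * (u * x) = u * u := by
  have hc := H24.mem_C.mp (h.U_cent_X_i1 hy ha hu) x hx
  calc u * x * (u * x) = u * (x * u) * x := by group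
    _ = u * u * (x * x) := by rw [hc]; group
    _ = u * u := by rw [h.X_sq hy ha hx, mul_one]

theorem mem_F_of_sq_mem_i1 (hv : v ∈ RR Z y a) (h2 : v * v ∈ XX y a) : v ∈ FF Z y a := by
  obtain ⟨t, ht⟩ := h.exists_bt_i1 hy ha
  obtain ⟨u, hu, x, hx, rfl⟩ := h.exists_ux_i1 hy ha hv
  rw [h.sq_ux_i1 hy ha hu hx] at h2
  exact mul_mem ((h.AN_eq_i1 hy ha).le (ht.pl.invU h.ze hu h2)) (mem_sup_right hx)

theorem mem_F_of_sq (hv : v ∈ RR Z y a) (h2 : v * v = 1) : v ∈ FF Z y a :=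
  h.mem_F_of_sq_mem_i1 hy ha hv (h2 ▸ one_mem _)

end

/-- SQ -/
theorem not_wide_sq (hg : g ∈ C[AA Z a]) : ¬ Wide Ω (g * g) := fun hw => by
  have hga : g • a = a := h.C_le a hg
  have ha : (g * g) • a = a := by rw [mul_smul, hga, hga]
  exact hw.1.1 (h.F_sq hw ha (h.mem_F_of_sq_mem_i1 hw ha ⟨hg, mem_C1.mpr (by group)⟩
    (h.y_mem_X hw ha)))

variable (hy : Wide Ω y) (ha : y • a = a)
include hy ha

theorem sq_mem_A (hg : g ∈ RR Z y a) : g * g ∈ AA Z a := by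
  by_contra h1
  obtain ⟨t, ht⟩ := h.exists_bt_i1 hy ha
  have : g * g ∈ FF Z y a := by
    obtain ⟨u, hu, x, hx, rfl⟩ := h.exists_ux_i1 hy ha hg
    rw [h.sq_ux_i1 hy ha hu hx, ← h.AN_eq_i1 hy ha]
    exact ht.pl.sqU u hu
  exact h.not_wide_sq hg.1 (h.of_mem_F hy ha this h1).1

theorem F_inf (hb : y • b = b) (hba : b ≠ a) : FF Z y a ⊓ stabilizer G b = XX y a := by
  refine le_antisymm ?_ (le_inf le_sup_right fun x hx => ((h.mem_X hy ha).mp hx).2 b hb)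
  rintro v ⟨hv, hvb⟩
  obtain ⟨x, hx, e, he, rfl⟩ := (h.mem_F hy ha).mp hv
  have hxb := ((h.mem_X hy ha).mp hx).2 b hb
  have : e • b = b := by
    apply smul_left_cancel x
    rw [← mul_smul, hxb]; exact hvb
  rw [h.A_free he hba this, mul_one]; exact hx

theorem R_le_P : RR Z y a ≤ PP Z y a := le_inf inf_le_left (norm_of_cent (h.R_le_C hy ha))

theorem K_cent_X (ht : t ∈ Z) (hta : t • a ≠ a) (hb : y • t • a = t • a) :
    KK Z a t ≤ C[XX y a] := by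
  refine cents_symm (le_trans ?_ (h.W_cent_K hy ha ht hta hb))
  rw [h.X_eq hy ha hb hta]; exact inf_le_left

theorem K_norm (ht : t ∈ Z) (hta : t • a ≠ a) (hb : y • t • a = t • a) :
    KK Z a t ≤ N[FF Z y a] ∧ KK Z a t ≤ N[RR Z y a] ∧ KK Z a t ≤ N[PP Z y a] := by
  have hA := (h.sing hy ha ht hta hb).norm
  have hF : KK Z a t ≤ N[FF Z y a] := norm_sup hA (norm_of_cent (h.K_cent_X hy ha ht hta hb))
  exact ⟨hF, norm_inf (norm_C hA) (norm_C1 (h.K_cent_y hy ha ht hta hb)),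
    norm_inf (norm_C hA) (norm_N hF)⟩

end C2

end ZD
end H6
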