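import Mathlib
import Cfsg.Agent.H6.ZII1a

/-! ZII1, second part (project UNIQ2): the action of `P = N_C(F)` on the lines `X_{y e}` -/

set_option autoImplicit false
set_option linter.unusedSectionVars false
set_option linter.unusedVariables false

namespace H6
namespace ZD

open H24 H3.B71 Subgroup MulAction

variable {G Ω : Type*} [Group G] [Finite G] [MulAction G Ω] [Finite Ω] {Z : Set G}

theorem exists_sq_mem_i1 {P R : Subgroup G} (hR : R ⊴ P) (h : 2 ∣ R.relIndex P) :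
    ∃ p ∈ P, p ∉ R ∧ p * p ∈ R := by
  haveI := hR.normal
  haveI := Fact.mk Nat.prime_two
  obtain ⟨x, hx⟩ := exists_prime_orderOf_dvd_card' (G := P ⧸ R.subgroupOf P) 2 h
  induction x using QuotientGroup.induction_on with
  | H p =>
    refine ⟨p, p.2, fun hp => ?_, ?_⟩
    · have : (p : P ⧸ R.subgroupOf P) = 1 := (QuotientGroup.eq_one_iff _).mpr hp
      rw [this, orderOf_one] at hx
      omega
    · have : ((p * p : P) : P ⧸ R.subgroupOf P) = 1 := by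
        rw [QuotientGroup.mk_mul, ← pow_two, ← hx, pow_orderOf_eq_one]
      exact (QuotientGroup.eq_one_iff (p * p : P)).mp this

theorem relIndex_N_i1 (P X : Subgroup G) :
    (N[X]).relIndex P = {Y | ∃ g ∈ P, cj g X = Y}.ncard := by
  letI : MulAction G (Subgroup G) :=
    { smul := cj, one_smul := cj_one, mul_smul := cj_mul }
  have e : stabilizer G X = N[X] := by
    ext g; rw [mem_N_iff_cj]; rfl
  rw [← e, ← ncard_Orb]
  rfl

theorem exists_cent_coset_i1 {R : Subgroup G} {p u : G} {r : ℕ} (hr : r.Prime) (h2 : r ≠ 2)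
    (hR : IsPi {2} R) (hu : u ^ r = 1) (huR : u ∈ N[R]) (hp : p⁻¹ * (u * p * u⁻¹) ∈ R) :
    ∃ x ∈ R, u * (p * x) = p * x * u := by
  have hU : IsPi {r} (zpowers u) := (piElt_of_pow_eq_one (piNat_self hr) hu).isPi
  have hS : ∀ w ∈ zpowers u, ∀ s ∈ {s | p⁻¹ * s ∈ R}, w * s * w⁻¹ ∈ {s | p⁻¹ * s ∈ R} := by
    intro w hw
    obtain ⟨n, rfl⟩ := (mem_powers_iff_mem_zpowers.mpr hw)
    induction n with
    | zero => intro s hs; simpa using hs
    | succ n ih =>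
      intro s hs
      have h1 := ih (pow_mem (mem_zpowers u) n) s hs
      have h3 := mul_mem hp (conj_mem huR h1)
      change p⁻¹ * _ ∈ R
      convert h3 using 1
      simp only [pow_succ']
      group
  have hc : {s | p⁻¹ * s ∈ R}.ncard = ♯R := by
    rw [← Nat.card_coe_set_eq]
    exact Nat.card_congr ⟨fun s => ⟨p⁻¹ * s.1, s.2⟩, fun x => ⟨p * x.1, by simp⟩,
      fun s => by simp, fun x => by simp⟩
  obtain ⟨s, hs, e⟩ := exists_cent_of_not_dvd hr hU hS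
    (by rw [hc]; exact hR.not_dvd hr h2)
  refine ⟨p⁻¹ * s, hs, ?_⟩
  rw [mul_inv_cancel_left]
  exact mem_C1.mp (e (mem_zpowers u))

namespace C2

variable {d i : ℕ} (h : C2 Ω Z d i) {y v t g k e x : G} {a b c c' : Ω}
include h

variable (hy : Wide Ω y) (ha : y • a = a)
include hy ha

theorem line_inj_i1 {e' : G} (he : e ∈ AA Z a) (he' : e' ∈ AA Z a)
    (h1 : y * e ∈ XX (y * e') a) : e = e' := by
  by_contra hne
  have hw := h.wide_mul hy ha he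
  have hf := h.mul_fix_i1 hy ha he
  have hc := comm_of_sq_i1 (fun _ => h.A_sq) he he'
  have h2 := h.X_inf hw hf (mul_mem he he')
    (fun e1 => hne (by rw [← mul_one e, ← h.A_sq he', ← mul_assoc, e1, one_mul]))
  rw [mul_assoc, ← mul_assoc e, h.A_sq he, one_mul] at h2
  have : y * e ∈ XX (y * e') a ⊓ XX (y * e) a := ⟨h1, h.y_mem_X hw hf⟩
  rw [h2, mem_bot] at this
  exact hw.1.1 this

theorem line_inj2_i1 {e' : G} (he : e ∈ AA Z a) (he' : e' ∈ AA Z a)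
    (h1 : XX (y * e) a = XX (y * e') a) : e = e' :=
  h.line_inj_i1 hy ha he he' (h1 ▸ h.y_mem_X (h.wide_mul hy ha he) (h.mul_fix_i1 hy ha he))

theorem exists_line_i1 (hg : g ∈ N[FF Z y a]) (hga : g • a = a) (he : e ∈ AA Z a) :
    ∃ e' ∈ AA Z a, cj g (XX (y * e) a) = XX (y * e') a := by
  have hA : g ∈ N[AA Z a] := by rw [h.N_A]; exact hga
  have h1 : g * (y * e) * g⁻¹ ∈ FF Z y a :=
    conj_mem hg (mul_mem (mem_sup_right (h.y_mem_X hy ha)) (mem_sup_left he))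
  have h2 : g * (y * e) * g⁻¹ ∉ AA Z a := by
    rw [conj_mem_iff hA]; exact h.not_mem_A (h.wide_mul hy ha he)
  obtain ⟨-, -, -, -, e', he', e1⟩ := h.of_mem_F hy ha h1 h2
  exact ⟨e', he', by rw [h.cj_X, hga, e1]⟩

theorem P_fix_i1 (hg : g ∈ PP Z y a) : g • a = a := h.C_le a hg.1

theorem exists_line0_i1 (hg : g ∈ PP Z y a) : ∃ e' ∈ AA Z a, cj g (XX y a) = XX (y * e') a := by
  simpa using h.exists_line_i1 hy ha hg.2 (h.P_fix_i1 hy ha hg) (one_mem _)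

theorem cj_line_i1 (hk : k * y = y * k) (hka : k • a = a) (e : G) :
    cj k (XX (y * e) a) = XX (y * (k * e * k⁻¹)) a := by
  rw [h.cj_X, hka]
  congr 1
  rw [← mul_assoc, hk]; group

theorem mem_R_of_two_i1 (he : e ∈ AA Z a) (h1 : e ≠ 1) (hg : g ∈ C[AA Z a])
    (hX : g ∈ N[XX y a]) (hX' : g ∈ N[XX (y * e) a]) : g ∈ RR Z y a := by
  have hw := h.wide_mul hy ha he
  have hf := h.mul_fix_i1 hy ha he
  have hm := h.y_mem_X hw hf
  have h2 : g * (y * e) * g⁻¹ * (y * e)⁻¹ ∈ XX (y * e) a := mul_mem (conj_mem hX' hm) (inv_mem hm)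
  have hy' := h.y_mem_X hy ha
  have h3 : g * y * g⁻¹ * y⁻¹ ∈ XX y a := mul_mem (conj_mem hX hy') (inv_mem hy')
  have e1 : g * (y * e) * g⁻¹ * (y * e)⁻¹ = g * y * g⁻¹ * y⁻¹ := by
    have := conj_eq_of_mem_C hg he
    calc _ = g * y * g⁻¹ * (g * e * g⁻¹) * e⁻¹ * y⁻¹ := by group
      _ = _ := by rw [this]; group
  have : g * y * g⁻¹ * y⁻¹ ∈ XX (y * e) a ⊓ XX y a := ⟨e1 ▸ h2, h3⟩
  rw [h.X_inf hy ha he h1, mem_bot, mul_inv_eq_one] at this
  exact ⟨hg, mem_C1_iff_conj.mpr this⟩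

theorem P_mul_i1 (he : e ∈ AA Z a) : PP Z (y * e) a = PP Z y a := by
  rw [PP, h.F_mul_i1 hy ha he]

theorem P_norm_R_i1 : PP Z y a ≤ N[RR Z y a] := by
  intro g hg
  have hga := h.P_fix_i1 hy ha hg
  have hA : g ∈ N[AA Z a] := C_le_N _ hg.1
  rw [mem_N_iff_cj, h.cj_R, hga]
  exact (h.of_mem_F hy ha (conj_mem hg.2 (mem_sup_right (h.y_mem_X hy ha)))
    (by rw [conj_mem_iff hA]; exact h.not_mem_A hy)).2.2.2.1

theorem R_norm_line_i1 (he : e ∈ AA Z a) : RR Z y a ≤ N[XX (y * e) a] :=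
  (h.R_mul_i1 hy ha he).ge.trans (h.R_norm_X_i1 (h.wide_mul hy ha he) (h.mul_fix_i1 hy ha he))

theorem P_eq_R_of_i1 (hP : PP Z y a ≤ N[XX y a]) : PP Z y a = RR Z y a := by
  refine le_antisymm (fun g hg => ?_) (h.R_le_P hy ha)
  obtain ⟨e, he, h1⟩ := h.exists_A_ne_i1 a
  obtain ⟨m, hm, e1⟩ := h.exists_conj_mul_i1 hy ha he
  have := norm_cj hP m
  rw [h.cj_P, h.cj_X, hm, e1, h.P_mul_i1 hy ha he] at this
  exact h.mem_R_of_two_i1 hy ha he h1 hg.1 (hP hg) (this hg)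

section nb

variable (ht : t ∈ Z) (hta : t • a ≠ a) (hb : y • t • a = t • a)
include ht hta hb

theorem cj_line_K_i1 (hk : k ∈ KK Z a t) (e : G) :
    cj k (XX (y * e) a) = XX (y * (k * e * k⁻¹)) a :=
  h.cj_line_i1 hy ha (mem_C1.mp (h.K_cent_y hy ha ht hta hb hk)) (Kz_fix hk) e

theorem cj_K_X_i1 (hk : k ∈ KK Z a t) : cj k (XX y a) = XX y a :=
  cj_of_mem_C (h.K_cent_X hy ha ht hta hb hk)

theorem cj_conj_i1 (hk : k ∈ KK Z a t) (he : cj g (XX y a) = XX (y * e) a) :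
    cj (k * g * k⁻¹) (XX y a) = XX (y * (k * e * k⁻¹)) a := by
  rw [cj_mul, cj_mul, h.cj_K_X_i1 hy ha ht hta hb (inv_mem hk), he,
    h.cj_line_K_i1 hy ha ht hta hb hk]

theorem trans_of_i1 (hP : ¬ PP Z y a ≤ N[XX y a]) (he : e ∈ AA Z a) :
    ∃ g ∈ PP Z y a, cj g (XX y a) = XX (y * e) a := by
  by_cases h1 : e = 1
  · exact ⟨1, one_mem _, by rw [h1, mul_one, cj_one]⟩
  obtain ⟨g, hg, hg'⟩ := SetLike.not_le_iff_exists.mp hP
  obtain ⟨e0, he0, e1⟩ := h.exists_line0_i1 hy ha hg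
  have h0 : e0 ≠ 1 := fun e2 => hg' (mem_N_iff_cj.mpr (by rw [e1, e2, mul_one]))
  obtain ⟨k, hk, e2⟩ := (h.sing hy ha ht hta hb).trans he0 he h0 h1
  exact ⟨k * g * k⁻¹, conj_mem ((h.K_norm hy ha ht hta hb).2.2 hk) hg,
    by rw [h.cj_conj_i1 hy ha ht hta hb hk e1, e2]⟩

theorem relIndex_of_i1 (hP : ¬ PP Z y a ≤ N[XX y a]) :
    (N[XX y a]).relIndex (PP Z y a) = 2 ^ d := by
  rw [relIndex_N_i1, ← h.cardA a]
  have e : {Y | ∃ g ∈ PP Z y a, cj g (XX y a) = Y} =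
      (fun e => XX (y * e) a) '' (AA Z a : Set G) := by
    ext Y
    constructor
    · rintro ⟨g, hg, rfl⟩
      obtain ⟨e, he, e1⟩ := h.exists_line0_i1 hy ha hg
      exact ⟨e, he, e1.symm⟩
    · rintro ⟨e, he, rfl⟩
      exact h.trans_of_i1 hy ha ht hta hb hP he
  rw [e, Set.InjOn.ncard_image (fun e he e' he' e1 => h.line_inj2_i1 hy ha he he' e1),
    ← Nat.card_coe_set_eq]
  rfl

theorem Gam_le_P_i1 : WW Z a (t • a) ⊓ N[XX y a] ≤ PP Z y a := by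
  intro g hg
  refine ⟨hg.1.1, ?_⟩
  exact norm_sup (X := zpowers g) (zp_le_N (C_le_N _ hg.1.1)) (zp_le_N hg.2) (mem_zpowers g)

theorem R_inf_W_i1 (hg : g ∈ RR Z y a) (hW : g • t • a = t • a) : g ∈ XX y a := by
  rw [h.X_eq hy ha hb hta]; exact ⟨⟨hg.1, hW⟩, hg.2⟩

/-- an element of `K` fixing all lines is trivial -/
theorem K_eq_one_i1 (hk : k ∈ KK Z a t) (h1 : ∀ e ∈ AA Z a, k ∈ N[XX (y * e) a]) : k = 1 := by
  obtain ⟨e, he, h0⟩ := h.exists_A_ne_i1 a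
  have s := h.sing hy ha ht hta hb
  have e1 := cj_of_mem_N (h1 e he)
  rw [h.cj_line_K_i1 hy ha ht hta hb hk] at e1
  have e2 := h.line_inj2_i1 hy ha (conj_mem (s.norm hk) he) he e1
  exact (s.free k hk e he (mul_inv_eq_iff_eq_mul.mp e2)).resolve_right h0

theorem exists_k_i1 (hg : g ∈ WW Z a (t • a) ⊓ N[XX y a]) :
    ∃ k ∈ KK Z a t, ∀ e ∈ AA Z a, g * k⁻¹ ∈ N[XX (y * e) a] := by
  obtain ⟨e0, he0, h0⟩ := h.exists_A_ne_i1 a
  have s := h.sing hy ha ht hta hb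
  have hP := h.Gam_le_P_i1 hy ha ht hta hb hg
  obtain ⟨e1, he1, e2⟩ := h.exists_line_i1 hy ha hP.2 (h.P_fix_i1 hy ha hP) he0
  have h1 : e1 ≠ 1 := fun e3 => h0 (by
    rw [e3, mul_one, ← cj_of_mem_N hg.2, cj_inj] at e2
    exact h.line_inj2_i1 hy ha he0 (one_mem _) (by rw [e2, mul_one]))
  obtain ⟨k, hk, e3⟩ := s.trans he0 he1 h0 h1
  have hgK := h.W_cent_K hy ha ht hta hb hg.1
  have hKK : ∀ k ∈ KK Z a t, ∀ l ∈ KK Z a t, k * l = l * k := fun k hk l hl =>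
    (Cyc.abl s.cyc).comm hk hl
  refine ⟨k, hk, fun e he => ?_⟩
  by_cases h2 : e = 1
  · rw [h2, mul_one]
    exact mul_mem hg.2 (inv_mem (C_le_N _ (h.K_cent_X hy ha ht hta hb hk)))
  obtain ⟨l, hl, rfl⟩ := s.trans he0 he h0 h2
  rw [mem_N_iff_cj, ← h.cj_line_K_i1 hy ha ht hta hb hl, ← cj_mul]
  have e4 : g * k⁻¹ * l = l * (k⁻¹ * g) := by
    rw [mul_assoc, hKK _ (inv_mem hk) l hl, ← mul_assoc, ← H24.mem_C.mp hgK l hl, mul_assoc,
      H24.mem_C.mp hgK _ (inv_mem hk)]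
  rw [e4, cj_mul, cj_mul, e2, ← e3, ← h.cj_line_K_i1 hy ha ht hta hb hk, cj_inv_cj]

theorem pow_k_i1 (hg : g ∈ WW Z a (t • a)) (hk : k ∈ KK Z a t)
    (h1 : ∀ e ∈ AA Z a, g * k⁻¹ ∈ N[XX (y * e) a]) {n : ℕ} (hn : g ^ n = 1) : k ^ n = 1 := by
  have hc : Commute g k⁻¹ := (H24.mem_C.mp (h.W_cent_K hy ha ht hta hb hg) _ (inv_mem hk)).symm
  refine h.K_eq_one_i1 hy ha ht hta hb (pow_mem hk n) fun e he => ?_
  have := pow_mem (h1 e he) n
  rw [hc.mul_pow, hn, one_mul, inv_pow] at this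
  exact inv_mem_iff.mp this

theorem mem_X_of_one_i1 (hg : g ∈ WW Z a (t • a) ⊓ N[XX y a])
    (h1 : ∀ e ∈ AA Z a, g * (1 : G)⁻¹ ∈ N[XX (y * e) a]) : g ∈ XX y a := by
  obtain ⟨e, he, h0⟩ := h.exists_A_ne_i1 a
  exact h.R_inf_W_i1 hy ha ht hta hb (h.mem_R_of_two_i1 hy ha he h0 hg.1.1 hg.2
    (by simpa using h1 e he)) hg.1.2

theorem K_odd_i1 : Odd ♯(KK Z a t) := by
  rw [← h.Kz_eq hy ha ht hta hb]
  exact (h.btT hy ha ht hta hb).pl.K_odd h.ze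

theorem mem_X_of_two_i1 (hg : g ∈ WW Z a (t • a) ⊓ N[XX y a]) (h2 : PiElt {2} g) :
    g ∈ XX y a := by
  obtain ⟨k, hk, h1⟩ := h.exists_k_i1 hy ha ht hta hb hg
  have e1 := h.pow_k_i1 hy ha ht hta hb hg.1 hk h1 (pow_orderOf_eq_one g)
  have e2 : k = 1 := (piElt_of_pow_eq_one h2 e1).eq_one
    ((odd_iff_isPi.mp (h.K_odd_i1 hy ha ht hta hb)).piElt hk)
  subst e2
  exact h.mem_X_of_one_i1 hy ha ht hta hb hg h1

theorem Gam_fix_i1 (hg : g ∈ WW Z a (t • a) ⊓ N[XX y a]) (hc : y • c = c) : g • c = c := by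
  have bt := h.btT hy ha ht hta hb
  have hXa : XX y a ≤ stabilizer G a := fun _ hx => Ker_fix hx
  have hY : N[XX y a] ≠ ⊤ := h.sm.N_ne_top (ne_bot_of_mem (h.y_mem_X hy ha) hy.1.1) hXa
  have hA : AA Z a ≤ N[XX y a] := norm_of_cent (cents_symm (h.X_le_C_i1 hy ha))
  have hCy : C{y} ≤ N[XX y a] := (Ker_nml _ _).2
  obtain ⟨j, p, -⟩ := h.pl_of hY hA ht (hCy bt.pl.tY) hta
  have eO : Orb N[XX y a] a = {c : Ω | y • c = c} := by
    ext c
    constructor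
    · rintro ⟨n, hn, rfl⟩
      exact fix_smul hn hXa (h.y_mem_X hy ha)
    · intro hc
      obtain ⟨n, hn, e⟩ := bt.mem_orb.mpr hc
      exact ⟨n, hCy hn, e⟩
  have ej : j = i := by
    have e1 := p.card
    rw [eO, bt.ncard_fix, Nat.add_right_cancel_iff] at e1
    have := p.four_le h.ze
    exact (Nat.pow_right_injective (by omega) e1).symm
  have hK := p.st1 h.ze (ej ▸ h.ne3) hg.2 (h.C_le a hg.1.1) hg.1.2
    (by rw [h.Az_eq' hA]; exact hg.1.1)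
  exact Ker_smul hK (by rw [eO]; exact hc)

theorem self_norm_i1 : WW Z a (t • a) ⊓ N[XX y a] ≤ XX y a := by
  by_cases hP : PP Z y a ≤ N[XX y a]
  · intro g hg
    exact h.R_inf_W_i1 hy ha ht hta hb
      ((h.P_eq_R_of_i1 hy ha hP).le (h.Gam_le_P_i1 hy ha ht hta hb hg)) hg.1.2
  intro g0 hg0
  by_contra hg0X
  have s := h.sing hy ha ht hta hb
  -- an element of odd prime order
  obtain ⟨g2, g1, h2, h1, m2, m1, e0⟩ := exists_piElt_decomp {2} g0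
  have hle : zpowers g0 ≤ WW Z a (t • a) ⊓ N[XX y a] := zpowers_le.mpr hg0
  have hg1 : g1 ≠ 1 := fun e => hg0X (by
    rw [e0, e, mul_one]; exact h.mem_X_of_two_i1 hy ha ht hta hb (hle m2) h2)
  obtain ⟨g, hgm, hr⟩ := exists_prime_mem_zp hg1
  have hg : g ∈ WW Z a (t • a) ⊓ N[XX y a] := hle (zpowers_le.mpr m1 hgm)
  have hgo : PiElt {2}ᶜ g := h1.of_mem_zpowers hgm
  have hr2 : orderOf g ≠ 2 := fun e => hgo 2 Nat.prime_two (e ▸ dvd_rfl) rfl
  have hgX : g ∉ XX y a := fun hx =>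
    ne_one_of_orderOf_prime hr (((h.X_two hy ha).piElt hx).eq_one hgo)
  obtain ⟨k, hk, hl⟩ := h.exists_k_i1 hy ha ht hta hb hg
  have hk1 : k ≠ 1 := fun e => hgX (h.mem_X_of_one_i1 hy ha ht hta hb hg (e ▸ hl))
  have hkr := h.pow_k_i1 hy ha ht hta hb hg.1 hk hl (pow_orderOf_eq_one g)
  have hc : Commute g k⁻¹ :=
    (H24.mem_C.mp (h.W_cent_K hy ha ht hta hb hg.1) _ (inv_mem hk)).symm
  set u := g * k⁻¹ with hu
  have hur : u ^ orderOf g = 1 := by rw [hu, hc.mul_pow, pow_orderOf_eq_one, inv_pow, hkr]; simp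
  have hka : k • a = a := Kz_fix hk
  have hkb : k • t • a = t • a := (h.ze.K_spec ht hta hka ((h.memK hy ha ht hta hb).mp hk).2).2.1
  have hga : g • a = a := h.C_le a hg.1.1
  have hgb : g • t • a = t • a := hg.1.2
  have hua : u • a = a := by rw [hu, mul_smul, inv_smul_eq_iff.mpr hka.symm, hga]
  have hub : u • t • a = t • a := by rw [hu, mul_smul, inv_smul_eq_iff.mpr hkb.symm, hgb]
  have hgP := h.Gam_le_P_i1 hy ha ht hta hb hg
  have hKn := h.K_norm hy ha ht hta hb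
  have huP : u ∈ N[PP Z y a] := mul_mem (norm_self _ hgP) (inv_mem (hKn.2.2 hk))
  have huR : u ∈ N[RR Z y a] := mul_mem (h.P_norm_R_i1 hy ha hgP) (inv_mem (hKn.2.1 hk))
  -- `C_R(u) = 1`
  have hRu : ∀ x ∈ RR Z y a, u * x = x * u → x = 1 := by
    intro x hx e1
    have hxa : x • a = a := h.C_le a hx.1
    have f1 : y • x • t • a = x • t • a := by
      rw [← mul_smul, ← mem_C1.mp hx.2, mul_smul, hb]
    have f2 : u • x • t • a = x • t • a := by rw [← mul_smul, e1, mul_smul, hub]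
    have f3 : g • x • t • a = x • t • a := h.Gam_fix_i1 hy ha ht hta hb hg f1
    have f4 : k • x • t • a = x • t • a := by
      rw [hu, hc.eq, mul_smul, f3, inv_smul_eq_iff] at f2
      exact f2.symm
    have f5 := (h.K_fix hy ha ht hta hb hk hk1 f4).resolve_left (smul_ne_of_fix hxa hta)
    have hxX := h.R_inf_W_i1 hy ha ht hta hb hx f5
    by_contra hx1
    obtain ⟨hw, hf, e2⟩ := h.of_mem_X hy ha hxX hx1
    apply hgX
    rw [← e2, h.X_eq hw hxa f5 hta]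
    refine ⟨hg.1, ?_⟩
    have m1 : u ∈ C{x} := mem_C1.mpr e1
    have m2 : k ∈ C{x} := C_le_C1 hxX (h.K_cent_X hy ha ht hta hb hk)
    have := mul_mem m1 m2
    rwa [hu, inv_mul_cancel_right] at this
  -- an involution of `P - R` centralised by `u`
  have hev : 2 ∣ (RR Z y a).relIndex (PP Z y a) := by
    refine Dvd.dvd.trans ?_ (relIndex_dvd_of_le_left _ (h.R_norm_X_i1 hy ha))
    rw [h.relIndex_of_i1 hy ha ht hta hb hP]
    exact dvd_pow_self 2 (by have := h.two_le; omega)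
  obtain ⟨p, hp, hpR, hpp⟩ := exists_sq_mem_i1 ⟨h.R_le_P hy ha, h.P_norm_R_i1 hy ha⟩ hev
  have hlines : ∀ e ∈ AA Z a, p⁻¹ * (u * p * u⁻¹) ∈ N[XX (y * e) a] := by
    intro e he
    obtain ⟨e', he', e1⟩ := h.exists_line_i1 hy ha hp.2 (h.P_fix_i1 hy ha hp) he
    rw [mem_N_iff_cj, cj_mul, cj_mul, cj_mul, cj_of_mem_N (inv_mem (hl e he)), e1,
      cj_of_mem_N (hl e' he'), ← e1, cj_inv_cj]
  obtain ⟨e0, he0, h0⟩ := h.exists_A_ne_i1 a
  have hpu : p⁻¹ * (u * p * u⁻¹) ∈ RR Z y a :=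
    h.mem_R_of_two_i1 hy ha he0 h0 (mul_mem (inv_mem hp) (conj_mem huP hp)).1
      (by simpa using hlines 1 (one_mem _)) (hlines e0 he0)
  obtain ⟨x, hx, e1⟩ := exists_cent_coset_i1 hr hr2 (h.R_two hy ha) hur huR hpu
  set v := p * x with hv
  have hvP : v ∈ PP Z y a := mul_mem hp (h.R_le_P hy ha hx)
  have hvR : v ∉ RR Z y a := fun hv' => hpR (by simpa [hv] using mul_mem hv' (inv_mem hx))
  have hvv : v * v = 1 := by
    refine hRu _ ?_ (by rw [← mul_assoc u v v, e1, mul_assoc v u v, e1, ← mul_assoc])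
    have := mul_mem (mul_mem hpp (conj_mem' (h.P_norm_R_i1 hy ha hp) hx)) hx
    convert this using 1
    rw [hv]; group
  have hvi : Inv v := ⟨fun e => hvR (e ▸ one_mem _), hvv⟩
  have hva := h.P_fix_i1 hy ha hvP
  have hvw : Wide Ω v :=
    (h.inv_cases hvi hva).resolve_left fun hA => hvR (h.A_le_R_i1 hy ha hA)
  have hvb : v • t • a ≠ t • a := fun e => hvR (h.X_le_R_i1 hy ha (by
    refine h.mem_X_of_two_i1 hy ha ht hta hb ⟨⟨hvP.1, e⟩, ?_⟩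
      (piElt_of_orderOf_prime Nat.prime_two hvi.orderOf_eq)
    rw [← h.F_inf hy ha hb hta]
    exact norm_inf (X := zpowers v) (zp_le_N hvP.2) (zp_le_N (norm_self _ e)) (mem_zpowers v)))
  obtain ⟨e, he, h1, e2⟩ := h.fx hvw hva e1 hua hub hvb
  have m1 : u ∈ C{e} := mem_C1.mpr e2
  have m2 : g ∈ C{e} := C_le_C1 he hg.1.1
  have := mul_mem (inv_mem m2) m1
  rw [hu, inv_mul_cancel_left, inv_mem_iff] at this
  rcases s.free k hk e he (mem_C1.mp this) with e3 | e3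
  · exact hk1 e3
  · exact h1 e3

end nb

theorem self_norm (hb : y • b = b) (hba : b ≠ a) : WW Z a b ⊓ N[XX y a] = XX y a := by
  obtain ⟨t, rfl, bt⟩ := h.bt' hy ha hb hba
  refine le_antisymm (h.self_norm_i1 hy ha bt.pl.tZ hba hb) (le_inf ?_ (norm_self _))
  rw [h.X_eq hy ha hb hba]; exact inf_le_left

theorem P_inf (hb : y • b = b) (hba : b ≠ a) : PP Z y a ⊓ stabilizer G b = XX y a := by
  refine le_antisymm (fun g hg => ?_) (le_inf ((h.X_le_R_i1 hy ha).trans (h.R_le_P hy ha))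
    fun x hx => ((h.mem_X hy ha).mp hx).2 b hb)
  rw [← h.self_norm hy ha hb hba]
  refine ⟨⟨hg.1.1, hg.2⟩, ?_⟩
  rw [← h.F_inf hy ha hb hba]
  exact norm_inf (X := zpowers g) (zp_le_N hg.1.2) (zp_le_N (norm_self _ hg.2)) (mem_zpowers g)

theorem mem_R_of_norm_i1 (hg : g ∈ PP Z y a) (hX : g ∈ N[XX y a]) : g ∈ RR Z y a := by
  obtain ⟨b, hba, hb⟩ := hy.exists_ne a
  have hXb : XX y a ≤ stabilizer G b := fun x hx => ((h.mem_X hy ha).mp hx).2 b hb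
  have h1 : y • g • b = g • b := fix_smul hX hXb (h.y_mem_X hy ha)
  obtain ⟨r, hr, e⟩ := h.R_trans hy ha hb h1 hba (smul_ne_of_fix (h.P_fix_i1 hy ha hg) hba)
  have : r⁻¹ * g ∈ PP Z y a ⊓ stabilizer G b :=
    ⟨Subgroup.mul_mem _ (inv_mem (h.R_le_P hy ha hr)) hg, by
      change (r⁻¹ * g) • b = b
      rw [mul_smul, ← e, inv_smul_smul]⟩
  rw [h.P_inf hy ha hb hba] at this
  simpa using mul_mem hr (h.X_le_R_i1 hy ha this)

theorem mem_R_of_line_i1 {g' : G} (hg : g ∈ PP Z y a) (hg' : g' ∈ PP Z y a)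
    (e : cj g (XX y a) = cj g' (XX y a)) : g * g'⁻¹ ∈ RR Z y a := by
  have := h.mem_R_of_norm_i1 hy ha (mul_mem (inv_mem hg') hg) (cj_eq_cj_iff.mp e)
  have := conj_mem (h.P_norm_R_i1 hy ha hg') this
  convert this using 1
  group

theorem line_ne_one_i1 (hg : g ∈ PP Z y a) (h1 : g ∉ RR Z y a)
    (e1 : cj g (XX y a) = XX (y * e) a) : e ≠ 1 := fun e2 =>
  h1 (h.mem_R_of_norm_i1 hy ha hg (mem_N_iff_cj.mpr (by rw [e1, e2, mul_one])))

/-- `K` is transitive on the non-trivial cosets of `R` in `P` -/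
theorem K_trans_P (ht : t ∈ Z) (hta : t • a ≠ a) (hb : y • t • a = t • a) {g' : G}
    (hg : g ∈ PP Z y a) (hg' : g' ∈ PP Z y a) (h1 : g ∉ RR Z y a) (h2 : g' ∉ RR Z y a) :
    ∃ k ∈ KK Z a t, k * g * k⁻¹ * g'⁻¹ ∈ RR Z y a := by
  obtain ⟨e, he, e1⟩ := h.exists_line0_i1 hy ha hg
  obtain ⟨e', he', e2⟩ := h.exists_line0_i1 hy ha hg'
  obtain ⟨k, hk, e3⟩ := (h.sing hy ha ht hta hb).trans he he' (h.line_ne_one_i1 hy ha hg h1 e1)
    (h.line_ne_one_i1 hy ha hg' h2 e2)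
  exact ⟨k, hk, h.mem_R_of_line_i1 hy ha (conj_mem ((h.K_norm hy ha ht hta hb).2.2 hk) hg) hg'
    (by rw [h.cj_conj_i1 hy ha ht hta hb hk e1, e3, e2])⟩

theorem P_cent (hg : g ∈ PP Z y a) (hv : v ∈ FF Z y a) : g * v * g⁻¹ * v⁻¹ ∈ AA Z a := by
  obtain ⟨b, hba, hb⟩ := hy.exists_ne a
  obtain ⟨t, rfl, bt⟩ := h.bt' hy ha hb hba
  have ht := bt.pl.tZ
  have s := h.sing hy ha ht hba hb
  have hKn := h.K_norm hy ha ht hba hb
  -- the elements acting trivially on `F / A`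
  let H0 : Subgroup G :=
    { carrier := {p | p ∈ N[AA Z a] ∧ p ∈ N[FF Z y a] ∧
        ∀ v ∈ FF Z y a, p * v * p⁻¹ * v⁻¹ ∈ AA Z a}
      one_mem' := ⟨one_mem _, one_mem _, fun v _ => by simp⟩
      mul_mem' := fun {p q} hp hq => ⟨mul_mem hp.1 hq.1, mul_mem hp.2.1 hq.2.1, fun v hv => by
        have := mul_mem (conj_mem hp.1 (hq.2.2 v hv)) (hp.2.2 v hv)
        convert this using 1
        group⟩
      inv_mem' := fun {p} hp => ⟨inv_mem hp.1, inv_mem hp.2.1, fun v hv => by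
        have := conj_mem' hp.1 (inv_mem (hp.2.2 v hv))
        convert this using 1
        group⟩ }
  have hcj : ∀ m, m ∈ N[AA Z a] → m ∈ N[FF Z y a] → ∀ p ∈ H0, m * p * m⁻¹ ∈ H0 := by
    intro m h1 h2 p hp
    refine ⟨mul_mem (mul_mem h1 hp.1) (inv_mem h1), mul_mem (mul_mem h2 hp.2.1) (inv_mem h2),
      fun v hv => ?_⟩
    have := conj_mem h1 (hp.2.2 _ (conj_mem' h2 hv))
    convert this using 1
    group
  have hR : RR Z y a ≤ H0 := fun r hr => ⟨C_le_N _ hr.1, (h.R_le_P hy ha hr).2, fun v hv => by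
    rw [conj_eq_of_mem_C (h.R_le_C hy ha hr) hv]; simp⟩
  have hK : KK Z a t ≤ H0 := fun k hk => ⟨s.norm hk, hKn.1 hk, fun v hv => by
    obtain ⟨x, hx, e, he, rfl⟩ := (h.mem_F hy ha).mp hv
    have e1 := conj_eq_of_mem_C (h.K_cent_X hy ha ht hba hb hk) hx
    have := conj_mem (C_le_N _ (h.X_le_C_i1 hy ha hx))
      (mul_mem (conj_mem (s.norm hk) he) (inv_mem he))
    convert this using 1
    calc _ = (k * x * k⁻¹) * (k * e * k⁻¹ * e⁻¹) * x⁻¹ := by group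
      _ = _ := by rw [e1]⟩
  by_cases h1 : g ∈ RR Z y a
  · exact (hR h1).2.2 v hv
  obtain ⟨k, hk, hk1⟩ : ∃ k ∈ KK Z a t, k ≠ 1 := by
    refine exists_ne_one fun e => ?_
    have h2 := s.cardK
    rw [card_eq_one'.mpr e] at h2
    have := bt.pl.four_le h.ze
    omega
  have hc : k * g * k⁻¹ * g⁻¹ ∈ H0 := by
    have := mul_mem (hK hk) (hcj g (C_le_N _ hg.1) hg.2 _ (inv_mem (hK hk)))
    convert this using 1
    group
  have hkg := conj_mem (hKn.2.2 hk) hg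
  have hcP : k * g * k⁻¹ * g⁻¹ ∈ PP Z y a := mul_mem hkg (inv_mem hg)
  have hcR : k * g * k⁻¹ * g⁻¹ ∉ RR Z y a := fun hc' => by
    obtain ⟨e, he, e1⟩ := h.exists_line0_i1 hy ha hg
    have e2 := h.cj_conj_i1 hy ha ht hba hb hk e1
    have e3 : k * g * k⁻¹ = (k * g * k⁻¹ * g⁻¹) * g := by group
    rw [e3, cj_mul, e1, cj_of_mem_N (h.R_norm_line_i1 hy ha he hc')] at e2
    have e4 := h.line_inj2_i1 hy ha he (conj_mem (s.norm hk) he) e2
    rcases s.free k hk e he (mul_inv_eq_iff_eq_mul.mp e4.symm) with e5 | e5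
    · exact hk1 e5
    · exact h.line_ne_one_i1 hy ha hg h1 e1 e5
  obtain ⟨l, hl, e6⟩ := h.K_trans_P hy ha ht hba hb hcP hg hcR h1
  have := mul_mem (inv_mem (hR e6)) (hcj l (s.norm hl) (hKn.1 hl) _ hc)
  have e7 : (l * (k * g * k⁻¹ * g⁻¹) * l⁻¹ * g⁻¹)⁻¹ * (l * (k * g * k⁻¹ * g⁻¹) * l⁻¹) = g := by
    group
  rw [e7] at this
  exact this.2.2 v hv

theorem P_cases : PP Z y a = RR Z y a ∨ (♯(PP Z y a) = 2 ^ d * ♯(RR Z y a) ∧
    ∀ e ∈ AA Z a, ∃ g ∈ PP Z y a, g * y * g⁻¹ = y * e) := by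
  by_cases hP : PP Z y a ≤ N[XX y a]
  · exact Or.inl (h.P_eq_R_of_i1 hy ha hP)
  obtain ⟨b, hba, hb⟩ := hy.exists_ne a
  obtain ⟨t, rfl, bt⟩ := h.bt' hy ha hb hba
  have ht := bt.pl.tZ
  refine Or.inr ⟨?_, fun e he => ?_⟩
  · have e : N[XX y a] ⊓ PP Z y a = RR Z y a :=
      le_antisymm (fun g hg => h.mem_R_of_norm_i1 hy ha hg.2 hg.1)
        (le_inf (h.R_norm_X_i1 hy ha) (h.R_le_P hy ha))
    rw [← card_inf_mul_relIndex N[XX y a], e, h.relIndex_of_i1 hy ha ht hba hb hP, mul_comm]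
  · obtain ⟨g, hg, e1⟩ := h.trans_of_i1 hy ha ht hba hb hP he
    refine ⟨g, hg, ?_⟩
    have hy' := h.y_mem_X hy ha
    have h1 := h.P_cent hy ha hg (mem_sup_right hy')
    have h2 : y * (g * y * g⁻¹ * y⁻¹) = g * y * g⁻¹ := by
      rw [← H24.mem_C.mp (h.mem_C hy ha) _ h1]; group
    have h3 := conj_mem_cj g hy'
    rw [e1, ← h2] at h3
    rw [← h.line_inj_i1 hy ha h1 he h3, h2]

theorem P_two : IsPi {2} (PP Z y a) := by
  rcases h.P_cases hy ha with e | ⟨e, -⟩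
  · rw [e]; exact h.R_two hy ha
  · unfold IsPi
    rw [e]
    exact (piNat_self_pow Nat.prime_two d).mul (h.R_two hy ha)

end C2

end ZD
end H6
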