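import Mathlib
import Cfsg.Agent.H6.ZII1
import Cfsg.Agent.H16.Orbits

/-! Case II of the `Z`-form of Bender's theorem: the group `W` and double transitivity. -/

set_option autoImplicit false
set_option linter.unusedSectionVars false

namespace H6
namespace ZD

open H24 H3.B71 Subgroup MulAction

variable {G Ω : Type*} [Group G] [Finite G] [MulAction G Ω] [Finite Ω] {Z : Set G}

namespace C2

variable {d i : ℕ} (h : C2 Ω Z d i) {y v t g k w x : G} {a b c : Ω}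
include h

section

variable (hy : Wide Ω y) (ha : y • a = a) (hb : y • b = b) (hba : b ≠ a)
include hy ha hb hba

theorem X_le_W : XX y a ≤ WW Z a b := (h.X_eq hy ha hb hba).le.trans inf_le_left

theorem syl_X : Syl 2 (WW Z a b) (XX y a) :=
  Syl.of_norm_le Nat.prime_two (hall_self (h.X_two hy ha)) (h.X_le_W hy ha hb hba)
    (h.self_norm hy ha hb hba).le

theorem W_cent_T (hw : w ∈ WW Z a b) (ht : t ∈ Z) (hta : t • a = b) : w * t = t * w := by
  subst hta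
  have hn : WW Z a (t • a) ⊓ C{t} ⊴ WW Z a (t • a) := ⟨inf_le_left, fun g hg =>
    mem_N_of_finite fun u hu => ⟨H24.conj_mem (norm_self _ hg) hu.1, mem_C1.2 (by
      have tt := (h.ze.inv t ht).2
      have hk : t * (g⁻¹ * t * g) ∈ KK Z a t := (h.memK hy ha ht hba hb).2 ⟨by
        rw [mul_smul, mul_smul, mul_smul, h.C_le a hg.1, inv_smul_eq_iff.2 (Eq.symm hg.2),
          (h.ze.inv t ht).smul_smul],
        by simpa [← mul_assoc, tt] using h.ze.conj t ht g⁻¹⟩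
      have e := h.W_cent_K hy ha ht hba hb hu.1 _ hk
      rw [mul_assoc, ← mul_assoc u, mem_C1.1 hu.2, mul_assoc t u, mul_left_cancel_iff] at e
      calc g * u * g⁻¹ * t = g * (u * (g⁻¹ * t * g)) * g⁻¹ := by group
        _ = _ := by rw [← e]; group)⟩⟩
  have hX : XX y a ≤ WW Z a (t • a) ⊓ C{t} := le_inf (h.X_le_W hy ha hb hba) fun x hx =>
    mem_C1.2 ((h.btT hy ha ht hba hb).pl.centN t ht (h.btT hy ha ht hba hb).pl.tY x hx).symm
  obtain ⟨u, hu, x, hx, rfl⟩ := (Frattini_arg Nat.prime_two hn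
    ((h.syl_X hy ha hb hba).of_le hX inf_le_left)).mul w hw
  rw [h.self_norm hy ha hb hba] at hx
  exact mem_C1.1 (mul_mem hu.2 (hX hx).2)

theorem exists_gen (hc : y • c = c) : ∃ g ∈ C{y}, WW Z a b ≤ C{g} ∧ g • a = c := by
  obtain ⟨t, rfl, B⟩ := h.bt' hy ha hb hba
  obtain ⟨g, hg, e⟩ := B.pl.gen h.ne3 c (B.mem_orb.2 hc)
  refine ⟨g, sup_le (Az_le _ _ _) (zpowers_le.2 B.pl.tY) hg, fun w hw => mem_C1_comm.1 ?_, e⟩
  rw [h.Az_eq hy ha] at hg
  exact sup_le (mem_C_iff_le_C1.1 hw.1) (zpowers_le.2 (mem_C1.2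
    (h.W_cent_T hy ha hb hba hw B.pl.tZ rfl).symm)) hg

theorem W_fix (hw : w ∈ WW Z a b) (hc : y • c = c) : w • c = c := by
  obtain ⟨g, -, hg, rfl⟩ := h.exists_gen hy ha hb hba hc
  exact comm_fix (mem_C1.1 (hg hw)) (h.C_le a hw.1)

theorem W_cent_A (hw : w ∈ WW Z a b) (hc : y • c = c) : w ∈ C[AA Z c] := by
  obtain ⟨g, -, hg, rfl⟩ := h.exists_gen hy ha hb hba hc
  rw [← h.cj_A, ← cj_C, ← mem_C1_iff_conj.1 (mem_C1_comm.1 (hg hw))]
  exact conj_mem_cj g hw.1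

theorem W_cent_L : WW Z a b ≤ C[Lz Z C{y}] := fun w hw => mem_C_iff_le_C1.2 <|
  (closure_le _).2 fun z hz => by
    obtain ⟨c, hc⟩ := h.ze.ex z hz.1
    exact mem_C_iff_le_C1.1 (h.W_cent_A hy ha hb hba hw
      (h.ze.fix_of_comm hz.1 hc (mem_C1.1 hz.2))) (h.memA.2 (Or.inr ⟨hz.1, hc⟩))

theorem W_free (hw : w ∈ WW Z a b) (h1 : w ≠ 1) (hc : w • c = c) : y • c = c := by
  by_contra hyc
  obtain ⟨s, ⟨hs, hsy, hsc⟩, -⟩ := h.exists_unique_s hy hyc
  obtain ⟨c₀, hc₀⟩ := h.ze.ex s hs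
  have y0 := h.ze.fix_of_comm hs hc₀ hsy
  have ne : c ≠ c₀ := fun e => hyc (e ▸ y0)
  obtain ⟨t', ht', e'⟩ := h.ze.exists_TT ne.symm
  have k1 := h.W_cent_T (h.sm.wide_mul hy hs hsy) (by rw [mul_smul, hc₀, y0]) hsc ne
    ⟨h.W_cent_A hy ha hb hba hw y0, hc⟩ ht' e'
  have orb : ∀ c, y • c = c → c ∈ Orb C{w} a := fun c hc => by
    obtain ⟨g, -, hg, e⟩ := h.exists_gen hy ha hb hba hc
    exact ⟨g, mem_C1_comm.1 (hg hw), e⟩
  have hcw : c ∈ Orb C{w} a := e' ▸ smul_mem_Orb (mem_C1.2 k1.symm) (orb c₀ y0)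
  obtain ⟨t, rfl, B⟩ := h.bt' hy ha hb hba
  have AY := mem_C_iff_le_C1.1 hw.1
  have wa := h.C_le a hw.1
  obtain ⟨j, P, -⟩ := h.pl_of (h.sm.C_ne_top h1 wa) AY B.pl.tZ
    (mem_C1.2 (h.W_cent_T hy ha hb hba hw B.pl.tZ rfl).symm) hba
  by_cases hj : j = 3
  swap
  · obtain ⟨g, hg, rfl⟩ := P.gen hj c hcw
    rw [h.Az_eq' AY, ← h.Az_eq hy ha] at hg
    exact hyc (comm_fix (mem_C1.1 (sup_le (Az_le _ _ _) (zpowers_le.2 B.pl.tY) hg)).symm ha)
  obtain ⟨ω, p, O⟩ := P.om hj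
  have hω : ω ∈ WW Z a (t • a) := ⟨fun u hu => (O.cA u (h.Az_eq' AY ▸ hu)).symm,
    comm_fix O.ct O.fixa⟩
  have h2 : {c | y • c = c} ⊆ insert a (Orb (AA Z a) (t • a)) := fun c hc =>
    (O.fix c (orb c hc) (h.W_fix hy ha hb hba hω hc)).imp_right
      fun ⟨u, hu, e⟩ => ⟨u, h.Az_eq' AY ▸ hu, e.symm⟩
  have h3 := (Set.ncard_le_ncard h2).trans (Set.ncard_insert_le _ _)
  have h4 := Nat.le_of_dvd (card_pos _) (ncard_Orb_dvd (AA Z a) (t • a))
  have q4 : 4 ≤ 2 ^ d := Nat.pow_le_pow_right (n := 2) two_pos h.two_le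
  rw [B.ncard_fix] at h3
  rw [h.cardA] at h4
  have h5 := P.card
  have h6 := h.cardO
  rcases h.i12 with rfl | rfl
  swap
  · nlinarith
  have h7 : Orb C{w} a = Set.univ := (Set.eq_univ_iff_ncard _).2 (by
    obtain ⟨r, hr⟩ : ∃ r, 2 ^ d = r + 1 := ⟨2 ^ d - 1, by omega⟩
    rw [h5, h6, hj, hr, Nat.add_sub_cancel]; ring)
  refine h1 (h.sm.faithful fun c => ?_)
  obtain ⟨g, hg, rfl⟩ : c ∈ Orb C{w} a := h7 ▸ Set.mem_univ c
  exact comm_fix (mem_C1.1 hg).symm wa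

omit hb hba in
theorem ncard_off :
    {c : Ω | y • c ≠ c}.ncard = ((2 ^ d) ^ i + 1) * (2 ^ d - 1) * (2 ^ d) ^ i := by
  obtain ⟨b, hba, hb⟩ := hy.exists_ne a
  obtain ⟨t, -, B⟩ := h.bt' hy ha hb hba
  have := Set.ncard_add_ncard_compl {c : Ω | y • c = c}
  rw [B.ncard_fix, h.cardO] at this
  exact Nat.add_left_cancel this

theorem card_W_dvd : ♯(WW Z a b) ∣ ((2 ^ d) ^ i + 1) * (2 ^ d - 1) * (2 ^ d) ^ i := by
  rw [← h.ncard_off hy ha]
  refine H16.card_dvd_ncard_of_semiregular _ _ (Set.toFinite _) (fun w hw c hc e => hc ?_)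
    fun w hw c hc e => by_contra fun k => hc (h.W_free hy ha hb hba hw k e)
  have := h.W_fix hy ha hb hba (inv_mem hw) e
  rw [inv_smul_smul] at this
  rwa [← this] at e

end

theorem exists_K_prime' (hy : Wide Ω y) (ha : y • a = a) (hb : y • b = b) (hba : b ≠ a) {p : ℕ}
    (hp : p.Prime) (hd : p ∣ 2 ^ d - 1) : ∃ k : G, orderOf k = p ∧ k • a = a ∧ k • b = b ∧
      ∀ c : Ω, k • c = c → c = a ∨ c = b := by
  obtain ⟨t, rfl, B⟩ := h.bt' hy ha hb hba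
  have S := h.sing hy ha B.pl.tZ hba hb
  obtain ⟨k, hk, rfl⟩ := exists_orderOf_eq (H := KK Z a t) hp
    (by rwa [← S.cardK, Nat.add_sub_cancel] at hd)
  exact ⟨k, rfl, Kz_fix hk, (h.ze.K_spec B.pl.tZ hba (Kz_fix hk)
    ((h.memK hy ha B.pl.tZ hba hb).1 hk).2).2.1, fun c hc =>
    h.K_fix hy ha B.pl.tZ hba hb hk (ne_one_of_orderOf_prime hp) hc⟩

theorem exists_prime_q : ∃ p : ℕ, p.Prime ∧ p ∣ 2 ^ d - 1 := Nat.exists_prime_and_dvd (by
  have : 4 ≤ 2 ^ d := Nat.pow_le_pow_right (n := 2) two_pos h.two_le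
  omega)

/-- if `W` has an element of odd order then `L` is regular outside `Fix y` -/
theorem L_reg (hy : Wide Ω y) (ha : y • a = a) (hb : y • b = b) (hba : b ≠ a)
    (hx : x ∈ WW Z a b) (h1 : x ≠ 1) (ho : Odd (orderOf x)) :
    (∀ g ∈ Lz Z C{y}, g ∈ XX y a → g = 1) ∧
    (∀ g ∈ Lz Z C{y}, ∀ c : Ω, y • c ≠ c → g • c = c → g = 1) ∧
    ∀ c c' : Ω, y • c ≠ c → y • c' ≠ c' → ∃ g ∈ Lz Z C{y}, g • c = c' := by
  obtain ⟨t, rfl, B⟩ := h.bt' hy ha hb hba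
  have LC := Lz_le Z C{y}
  have nw : ∀ v ∈ Lz Z C{y}, ¬ Wide Ω v := fun v hv hw => by
    obtain ⟨c, hc, e⟩ := hw.1.exists_fix (S := {c : Ω | y • c = c})
      (fun c hc => comm_fix (mem_C1.1 (LC hv)).symm hc) (by
        rw [B.ncard_fix]
        have := h.two_le
        exact ((even_two.pow_of_ne_zero (by omega)).pow_of_ne_zero
          (by rcases h.i12 with e | e <;> omega)).add_one)
    exact h1 (((h.R_two hw e).piElt
      ⟨h.W_cent_A hy ha hb hba hx hc, mem_C1.2 (h.W_cent_L hy ha hb hba hx v hv).symm⟩).eq_one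
      ((piNat_compl_singleton Nat.prime_two).2 ho.not_two_dvd_nat))
  have k1 : ∀ g ∈ Lz Z C{y}, g ∈ XX y a → g = 1 := fun g hg k =>
    by_contra fun g1 => nw g hg (h.of_mem_X hy ha k g1).1
  have k2 : ∀ g ∈ Lz Z C{y}, ∀ c : Ω, y • c ≠ c → g • c = c → g = 1 := fun g hg c hc e => by
    by_contra g1
    obtain ⟨l, hl, lp⟩ := exists_prime_mem_zp g1
    have lL := zpowers_le.2 hg hl
    have lc : l • c = c := (zpowers_le.2 e : zpowers g ≤ stabilizer G c) hl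
    have ly := mem_C1.1 (LC lL)
    rcases lp.eq_two_or_odd' with k | k
    · have il : Inv l := ⟨ne_one_of_orderOf_prime lp, by rw [← pow_two, ← k, pow_orderOf_eq_one]⟩
      exact hc (h.ze.fix_of_comm ((h.memA.1 ((h.inv_cases il lc).resolve_right
        (nw l lL))).resolve_left il.1).1 lc ly)
    obtain ⟨s, ⟨hs, hsy, hsc⟩, hu⟩ := h.exists_unique_s hy hc
    have := hu (l * s * l⁻¹) ⟨h.ze.conj s hs l, by
      rw [← mem_C1_iff_conj.1 (mem_C1.2 ly), conj_mul, conj_mul, hsy], by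
      rw [← mem_C1_iff_conj.1 (mem_C1.2 ly), conj_mul, ← lc]; exact conj_fix hsc⟩
    exact ne_one_of_orderOf_prime lp (k1 l lL (B.pl.oddL h.ze h.ne3 lL k hs (mem_C1.2 hsy)
      (mul_inv_eq_iff_eq_mul.1 this).symm))
  refine ⟨k1, k2, fun c c' hc hc' => ?_⟩
  have e : Orb (Lz Z C{y}) c = {c : Ω | y • c ≠ c} := Set.eq_of_subset_of_ncard_le (by
    rintro _ ⟨g, hg, rfl⟩ e
    rw [← mul_smul, ← mem_C1.1 (LC hg), mul_smul, smul_left_cancel_iff] at e
    exact hc e) (by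
      have e1 := B.pl.relIndex_L h.ze h.ne3
      rw [← inf_relIndex_right, (eq_bot_iff.2 fun g hg => k1 g hg.2 hg.1 :
        Ker C{y} a ⊓ Lz Z C{y} = ⊥), relIndex_bot_left] at e1
      rw [ncard_Orb, ← inf_relIndex_right, (eq_bot_iff.2 fun g hg => k2 g hg.2 c hc hg.1 :
        stabilizer G c ⊓ Lz Z C{y} = ⊥), relIndex_bot_left, e1, h.ncard_off hy ha]
      exact le_of_eq (by ring))
  exact e.ge hc'

/-- 2T -/
theorem nb (hba : b ≠ a) : ∃ y : G, Wide Ω y ∧ y • a = a ∧ y • b = b := by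
  by_contra hn
  obtain ⟨p, hp, hd⟩ := h.exists_prime_q
  obtain ⟨t', ht', rfl⟩ := h.ze.exists_TT hba.symm
  obtain ⟨k, -, rfl, ka, hk⟩ := h.ze.exists_K_prime (Y := ⊤) hp ⟨ht', mem_top _, rfl⟩ hba.symm
    (by rwa [h.ze.ncard_TT_top hba.symm, ← Nat.add_sub_cancel (mm Z a) 1, h.card])
  obtain ⟨ko, kb, ki⟩ := h.ze.K_spec ht' hba ka hk
  have k1 := ne_one_of_orderOf_prime hp
  have hS : ∀ x : G, x • a = a → ∀ c ∈ {c : Ω | c ≠ a ∧ ∃ y : G, Wide Ω y ∧ y • a = a ∧ y • c = c},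
      x • c ∈ {c : Ω | c ≠ a ∧ ∃ y : G, Wide Ω y ∧ y • a = a ∧ y • c = c} :=
    fun x hx c ⟨hc, y, hy, ha, hyc⟩ => ⟨smul_ne_of_fix hx hc, _, hy.conj x,
      by rw [← hx]; exact conj_fix ha, conj_fix hyc⟩
  obtain ⟨c, ⟨hca, y, hy, ha, hc⟩, kc⟩ := exists_fix_of_not_dvd hp
    (piElt_of_orderOf_prime hp rfl).isPi
    (fun x hx => hS x ((zpowers_le.2 ka : zpowers k ≤ stabilizer G a) hx)) (by
      obtain ⟨y, hy, ha⟩ := h.exists_wide a
      obtain ⟨c, hca, hc⟩ := hy.exists_ne a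
      obtain ⟨l, lo, la, lc, hl⟩ := h.exists_K_prime' hy ha hc hca hp hd
      exact not_dvd_of_modEq_one hp (ncard_modEq_one hp (piElt_of_orderOf_prime hp lo).isPi
        (fun x hx => hS x ((zpowers_le.2 la : zpowers l ≤ stabilizer G a) hx))
        ⟨hca, y, hy, ha, hc⟩ (zpowers_le.2 lc) fun c' hc' e =>
          (hl c' (e (mem_zpowers l))).resolve_left hc'.1))
  replace kc : k • c = c := kc (mem_zpowers k)
  obtain ⟨t, rfl, B⟩ := h.bt' hy ha hc hca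
  have ht := B.pl.tZ
  have S := h.sing hy ha ht hca hc
  have fr : ∀ e ∈ AA Z a, e ≠ 1 → k * e ≠ e * k := fun e he e1 e2 =>
    k1 (h.ze.K_free ht' hba ((h.memA.1 he).resolve_left e1).1 (Az_fix he) ka hk e2)
  have kA : k ∈ N[AA Z a] := h.N_A a ▸ ka
  have kK : k ∈ C[KK Z a t] := by
    by_contra k2
    obtain ⟨e, he, e1, e2⟩ := S.hilb kA (h.norm_K hy ha ht hca hc ka kc) fun j hj => by
      by_cases e : k ^ j = 1
      · rw [e]; exact one_mem _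
      · exact absurd (zpowers_le.2 hj ((zpowers_eq_of_prime (by rwa [card_zpowers'])
          (pow_mem (mem_zpowers k) j) e).ge (mem_zpowers k))) k2
    exact fr e he e1 e2
  obtain ⟨k₀, hk₀, hx⟩ := S.cent kA kK
  obtain ⟨e, he, e1⟩ : ∃ e ∈ AA Z a, e ≠ 1 := (bot_or_exists_ne_one _).resolve_left fun e => by
    have := h.cardA a
    have : 4 ≤ 2 ^ d := Nat.pow_le_pow_right (n := 2) two_pos h.two_le
    rw [e, card_bot] at *
    omega
  have spec := fun u (hu : u ∈ KK Z a t) =>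
    h.ze.K_spec ht hca (Kz_fix hu) ((h.memK hy ha ht hca hc).1 hu).2
  have hW : k * k₀⁻¹ ∈ WW Z a (t • a) := ⟨hx, (stabilizer G _).mul_mem kc (spec _ (inv_mem hk₀)).2.1⟩
  have k₀1 : k₀ ≠ 1 := by
    rintro rfl
    exact fr e he e1 (by simpa using (hx e he).symm)
  have yb : y • t' • a ≠ t' • a := fun e => hn ⟨y, hy, ha, e⟩
  have ne : t' • a ≠ t • a := fun e => yb (e ▸ hc)
  have cm : Commute k k₀⁻¹ := (kK _ (inv_mem hk₀)).symm
  obtain ⟨r1, r2, r3⟩ := h.L_reg hy ha hc hca hW (fun e => by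
    rw [mul_inv_eq_one] at e
    exact (h.K_fix hy ha ht hca hc (e ▸ hk₀) k1 kb).elim hba ne)
    ((ko.mul (spec _ (inv_mem hk₀)).1).of_dvd_nat cm.orderOf_mul_dvd_mul_orderOf)
  have KL : KK Z a t ≤ Lz Z C{y} := h.Kz_eq hy ha ht hca hc ▸ B.pl.K_le_L h.ze
  have tL : t ∈ Lz Z C{y} := mem_Lz ht B.pl.tY
  have lk : ∀ g ∈ Lz Z C{y}, g • a = a → g • t • a = t • a → g ∈ KK Z a t := fun g hg h1 h2 => by
    obtain ⟨u, hu, e⟩ := B.pl.lk h.ne3 g hg h1 h2
    rw [h.Kz_eq hy ha ht hca hc] at hu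
    rw [eq_inv_of_mul_eq_one_left (r1 _ (mul_mem hg (KL hu)) e)]
    exact inv_mem hu
  have eF : {c : Ω | k • c = c} = insert a (insert (t • a) (Orb (KK Z a t) (t' • a))) := by
    refine Set.ext fun c => ⟨fun hc' => ?_, ?_⟩
    · by_cases yc : y • c = c
      · have := h.W_fix hy ha hc hca (inv_mem hW) yc
        rw [mul_inv_rev, inv_inv, mul_smul, inv_smul_eq_iff.2 (Eq.symm hc')] at this
        exact (h.K_fix hy ha ht hca hc hk₀ k₀1 this).imp_right Or.inl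
      obtain ⟨g, hg, rfl⟩ := r3 _ _ yb yc
      refine Or.inr (Or.inr ⟨g, ?_, rfl⟩)
      have e2 : k * g * k⁻¹ = k₀ * g * k₀⁻¹ := by
        have := h.W_cent_L hy ha hc hca hW _ (H24.conj_mem (norm_self _ (KL hk₀)) hg)
        calc k * g * k⁻¹ = k * k₀⁻¹ * (k₀ * g * k₀⁻¹) * (k * k₀⁻¹)⁻¹ := by group
          _ = _ := by rw [← this]; group
      have e3 := r2 (g⁻¹ * (k₀ * g * k₀⁻¹)) (mul_mem (inv_mem hg)
        (H24.conj_mem (norm_self _ (KL hk₀)) hg)) _ yb (by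
          rw [← e2, mul_smul, inv_smul_eq_iff, mul_smul, mul_smul, inv_smul_eq_iff.2 kb.symm]
          exact hc')
      rw [inv_mul_eq_one, eq_mul_inv_iff_mul_eq] at e3
      have f := fun c (hc' : k₀ • c = c) =>
        h.K_fix hy ha ht hca hc hk₀ k₀1 (comm_fix e3.symm hc')
      rcases f a (Kz_fix hk₀) with f1 | f1
      · exact lk g hg f1 ((f _ (spec k₀ hk₀).2.1).resolve_left (smul_ne_of_fix f1 hca))
      have it := h.ze.inv t ht
      have f2 : g • t • a = a := (f _ (spec k₀ hk₀).2.1).resolve_right fun e =>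
        hca (smul_left_cancel g (e.trans f1.symm))
      have f3 := B.pl.K_comm h.ze (h.Kz_eq hy ha ht hca hc ▸ lk (t * g) (mul_mem tL hg)
        (by rw [mul_smul, f1, it.smul_smul]) (by rw [mul_smul, f2]))
        (h.Kz_eq hy ha ht hca hc ▸ hk₀)
      have f4 := (spec k₀ hk₀).2.2
      rw [mul_assoc, e3, ← mul_assoc, ← mul_assoc, mul_right_cancel_iff] at f3
      rw [f3, mul_inv_cancel_right] at f4
      exact absurd (H21.eq_one_of_sq_of_odd (spec k₀ hk₀).1 (pow_orderOf_eq_one _)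
        (mul_eq_one_iff_eq_inv.2 f4)) k₀1
    · rintro (rfl | rfl | ⟨u, hu, rfl⟩)
      exacts [ka, kc, comm_fix (kK u hu).symm kb]
  have oK : ∀ c ∈ Orb (KK Z a t) (t' • a), c ≠ a ∧ c ≠ t • a := by
    rintro _ ⟨u, hu, rfl⟩
    exact ⟨smul_ne_of_fix (Kz_fix hu) hba, smul_ne_of_fix (spec u hu).2.1 ne⟩
  have it' := h.ze.inv t' ht'
  obtain ⟨c, hc', e⟩ := it'.exists_fix (S := {c : Ω | k • c = c}) (fun c hc' => by
    have := conj_fix (g := t') (inv_smul_eq_iff.2 (Eq.symm hc'))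
    rwa [← conj_inv, ki, inv_inv] at this) (by
      rw [eF, Set.ncard_insert_of_notMem (by
          rintro (e | e)
          exacts [hca e.symm, (oK _ e).1 rfl]),
        Set.ncard_insert_of_notMem fun e => (oK _ e).2 rfl, ncard_Orb, ← inf_relIndex_right,
        (eq_bot_iff.2 fun g hg => r2 g (KL hg.2) _ yb hg.1 :
          stabilizer G (t' • a) ⊓ KK Z a t = ⊥), relIndex_bot_left, S.cardK]
      exact (even_two.pow_of_ne_zero (by have := h.two_le; omega)).add_one)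
  have := mul_mem (inv_mem (h.memA.2 (Or.inr ⟨ht', e⟩)))
    (h.memA.2 (Or.inr ⟨hk, by rw [mul_smul, hc', e]⟩))
  rw [inv_mul_cancel_left] at this
  exact k1 (H21.eq_one_of_sq_of_odd ko (pow_orderOf_eq_one _) (h.A_sq this))

theorem trans (hb : b ≠ a) (hc : c ≠ a) : ∃ g : G, g • a = a ∧ g • b = c := by
  obtain ⟨p, hp, hd⟩ := h.exists_prime_q
  obtain ⟨g, hg, e⟩ := trans_of_pfix (Y := stabilizer G a) (S := {d | d ≠ a}) hp
    (fun y hy d hd => smul_ne_of_fix hy hd) (fun c hc => by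
      obtain ⟨y, hy, ha, hyc⟩ := h.nb hc
      obtain ⟨l, lo, la, lc, hl⟩ := h.exists_K_prime' hy ha hyc hc hp hd
      exact ⟨_, zpowers_le.2 la, (piElt_of_orderOf_prime hp lo).isPi, zpowers_le.2 lc,
        fun e he h1 => (hl e (h1 (mem_zpowers l))).resolve_left he⟩) hb hc
  exact ⟨g, hg, e⟩

theorem F_conj (hy : Wide Ω y) (ha : y • a = a) (hv : Wide Ω v) (hva : v • a = a) :
    ∃ g : G, g • a = a ∧ cj g (XX y a) = XX v a ∧ cj g (FF Z y a) = FF Z v a ∧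
      cj g (PP Z y a) = PP Z v a := by
  obtain ⟨b, hba, hb⟩ := hy.exists_ne a
  obtain ⟨c, hca, hc⟩ := hv.exists_ne a
  obtain ⟨g, hg, rfl⟩ := h.trans hba hca
  obtain ⟨w, hw, e⟩ := Sylow_trans Nat.prime_two (h.syl_X (hy.conj g)
    (by rw [← hg]; exact conj_fix ha) (conj_fix hb) hca) (h.syl_X hv hva hc hca)
  have ga : (w * g) • a = a := by rw [mul_smul, hg, h.C_le a hw.1]
  have e1 : cj (w * g) (XX y a) = XX v a := by rw [e, cj_mul, h.cj_X g, hg]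
  have e2 : cj (w * g) (FF Z y a) = FF Z v a := by rw [cj_sup, e1, h.cj_A, ga]
  exact ⟨w * g, ga, e1, e2, by rw [cj_inf, cj_C, cj_N, e2, h.cj_A, ga]⟩

end C2

end ZD
end H6
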