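import Mathlib
import Cfsg.Agent.H18.ZA1

/-! Case II, type (a): the structure of `P`. -/

set_option autoImplicit false
set_option linter.unusedSectionVars false
set_option linter.unusedVariables false

namespace H18
namespace ZA

open H24 H26 H3.B71 H6.ZD Subgroup MulAction

variable {G Ω : Type*} [Group G] [Finite G] [MulAction G Ω] [Finite Ω] {Z : Set G} {d : ℕ}

/-- `B = [P, K] A` -/
abbrev BB (Z : Set G) (y : G) (a : Ω) (t : G) : Subgroup G := ⁅PP Z y a, KK Z a t⁆ ⊔ AA Z a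

theorem comm_of_inverts {B : Subgroup G} {x u w : G} (hx : ∀ b ∈ B, x * b * x⁻¹ = b⁻¹)
    (hu : u ∈ B) (hw : w ∈ B) : u * w = w * u := by
  have := hx _ (mul_mem hu hw)
  rw [show x * (u * w) * x⁻¹ = (x * u * x⁻¹) * (x * w * x⁻¹) by group, hx u hu, hx w hw] at this
  rw [← inv_inj, ← this, mul_inv_rev]

variable (h : C2 Ω Z d 1) {y v t g k x e u w : G} {a : Ω} (hy : Wide Ω y) (ha : y • a = a)
include h hy ha

theorem X_not_mem (hx : x ∈ XX y a) (h1 : x ≠ 1) : x ∉ AA Z a :=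
  h.not_mem_A (h.of_mem_X hy ha hx h1).1

theorem F_comm (hv : v ∈ FF Z y a) (hw : w ∈ FF Z y a) : v * w = w * v :=
  mem_C'.1 (h.R_le_C hy ha (h.F_le_R hy ha hv)) w hw

theorem fin (hv : Wide Ω v) (hva : v • a = a)
    (h1 : ∀ w ∈ PP Z y a, w * w = 1 → w ∈ FF Z y a ∨ w ∈ FF Z v a)
    (h2 : C[AA Z a] ⊓ N[PP Z y a] ≤ PP Z y a) : False := by
  refine no_perm_syl h hy ha hv hva (P := PP Z y a)
    (Sylow_subnorm Nat.prime_two inf_le_left ?_) fun g hg =>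
      h1 _ (conj_mem hg (F_le_P h hy ha (y_mem_F h hy ha))) (hy.1.conj g).2
  rw [le_antisymm h2 (le_inf inf_le_left (norm_self _))]
  exact hall_self (h.P_two hy ha)

variable (ht : t ∈ Z) (hta : t • a ≠ a) (hb : y • t • a = t • a)
include ht hta hb

theorem K_NP : KK Z a t ≤ N[PP Z y a] := (h.K_norm hy ha ht hta hb).2.2

theorem K_NA : KK Z a t ≤ N[AA Z a] := (h.sing hy ha ht hta hb).norm

theorem B_le_P : BB Z y a t ≤ PP Z y a :=
  sup_le (comm_le_left (K_NP h hy ha ht hta hb)) ((A_le_F h hy ha).trans (F_le_P h hy ha))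

theorem der_P : ⁅PP Z y a, PP Z y a⁆ ≤ AA Z a :=
  der_le_of_sq (P_le_NA h hy ha) fun _ => sq_mem h hy ha

theorem P_NB : PP Z y a ≤ N[BB Z y a t] :=
  norm_of_der1_le ((der_P h hy ha ht hta hb).trans le_sup_right) (B_le_P h hy ha ht hta hb)

theorem K_NB : KK Z a t ≤ N[BB Z y a t] :=
  norm_sup (norm_comm_right _ _) (K_NA h hy ha ht hta hb)

theorem isProd_B : IsProd (BB Z y a t) (XX y a) (PP Z y a) := by
  refine ⟨B_le_P h hy ha ht hta hb, (X_le_F h hy ha).trans (F_le_P h hy ha), fun g hg => ?_⟩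
  obtain ⟨u, hu, x, hx, rfl⟩ := (coprime_cent_prod (K_NP h hy ha ht hta hb)
    (cop h hy ha ht hta hb (h.P_two hy ha)) ((h.P_two hy ha).sol Nat.prime_two)).mul g hg
  refine ⟨u, le_sup_left (b := AA Z a) hu, x, ?_, rfl⟩
  rw [← h.P_inf hy ha hb hta]
  exact mem_inf.2 ⟨hx.1, fix_of_cent h hy ha ht hta hb (P_le_M h hy ha hx.1) hx.2⟩

theorem eq_one (hB : x ∈ BB Z y a t) (hx : x ∈ XX y a) : x = 1 := by
  by_contra h1
  exact X_not_mem h hy ha hx h1 (mem_of_cent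
    ⟨(A_le_F h hy ha).trans (F_le_P h hy ha), P_le_NA h hy ha⟩ (der_P h hy ha ht hta hb)
    (K_NP h hy ha ht hta hb) (K_NA h hy ha ht hta hb) (cop h hy ha ht hta hb (h.P_two hy ha)) hB
    (cents_symm (h.K_cent_X hy ha ht hta hb) hx))

theorem mem_A (hB : v ∈ BB Z y a t) (hv : v ∈ FF Z y a) : v ∈ AA Z a := by
  obtain ⟨x, hx, e, he, rfl⟩ := (h.mem_F hy ha).1 hv
  rw [eq_one h hy ha ht hta hb ((mul_mem_cancel_right (mem_sup_right he)).1 hB) hx,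
    one_mul]
  exact he

theorem card_B : ♯(BB Z y a t) = 2 ^ d * 2 ^ d := by
  have := (isProd_B h hy ha ht hta hb).card
  rw [card_P h hy ha, (eq_bot_iff_forall (BB Z y a t ⊓ XX y a)).2 fun x hx =>
    eq_one h hy ha ht hta hb hx.1 hx.2, card_bot, mul_one, ← mul_assoc] at this
  exact (Nat.eq_of_mul_eq_mul_right (card_pos _) this).symm

theorem exists_B : ∃ u ∈ BB Z y a t, u ∉ AA Z a := by
  by_contra! e
  have := card_le (show BB Z y a t ≤ AA Z a from e)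
  rw [card_B h hy ha ht hta hb, h.cardA] at this
  have := four_le h
  nlinarith

theorem inv_all (hx : x ∈ XX y a) (hu : u ∈ BB Z y a t) (hA : u ∉ AA Z a)
    (e : (u * x) * (u * x) = 1) : ∀ w ∈ BB Z y a t, x * w * x⁻¹ = w⁻¹ := fun w hw => by
  have hxC : x ∈ C[AA Z a] := (F_le_P h hy ha (X_le_F h hy ha hx)).1
  have hA' : ∀ e ∈ AA Z a, x * e * x⁻¹ = e⁻¹ := fun e he => by
    rw [conj_eq_of_mem_C hxC he, eq_inv_iff_mul_eq_one, h.A_sq he]
  by_cases hwA : w ∈ AA Z a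
  · exact hA' w hwA
  have nR : ∀ w ∈ BB Z y a t, w ∉ AA Z a → w ∉ RR Z y a := fun w hw hA hR =>
    hA (mem_A h hy ha ht hta hb hw (h.F_eq_R hy ha rfl ▸ hR))
  obtain ⟨k, hk, hR⟩ := h.K_trans_P hy ha ht hta hb (B_le_P h hy ha ht hta hb hu)
    (B_le_P h hy ha ht hta hb hw) (nR u hu hA) (nR w hw hwA)
  have hku := conj_mem (K_NB h hy ha ht hta hb hk) hu
  have h1 := mem_A h hy ha ht hta hb (mul_mem hku (inv_mem hw)) (h.F_eq_R hy ha rfl ▸ hR)
  obtain ⟨f, hf⟩ : ∃ f, f = k * u * k⁻¹ * w⁻¹ := ⟨_, rfl⟩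
  rw [← hf] at h1
  have e1 : w = f⁻¹ * (k * u * k⁻¹) := by rw [hf]; group
  have e2 : x * u * x⁻¹ = u⁻¹ := by
    rw [H21.invol_inv (h.X_sq hy ha hx), eq_inv_iff_mul_eq_one]
    calc _ = u⁻¹ * ((u * x) * (u * x)) * u := by group
      _ = _ := by rw [e]; group
  have e3 : k * x = x * k := mem_C'.1 (h.K_cent_X hy ha ht hta hb hk) x hx
  have e4 := mem_C.1 (B_le_P h hy ha ht hta hb (inv_mem hku)).1 f h1
  calc x * w * x⁻¹ = (x * f⁻¹ * x⁻¹) * ((x * k) * u * (x * k)⁻¹) := by rw [e1]; group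
    _ = f * (k * (x * u * x⁻¹) * k⁻¹) := by rw [hA' _ (inv_mem h1), ← e3]; group
    _ = f * (k * u * k⁻¹)⁻¹ := by rw [e2]; group
    _ = _ := by rw [e4, e1]; group

theorem inv_unique {x' : G} (hx : x ∈ XX y a) (hx' : x' ∈ XX y a)
    (h1 : ∀ w ∈ BB Z y a t, x * w * x⁻¹ = w⁻¹) (h2 : ∀ w ∈ BB Z y a t, x' * w * x'⁻¹ = w⁻¹) :
    x = x' := by
  by_contra e
  obtain ⟨u, hu, hA⟩ := exists_B h hy ha ht hta hb
  have h3 := mul_mem (inv_mem hx') hx
  refine hA (mem_A h hy ha ht hta hb hu (mem_F_of_comm h hy ha (X_le_F h hy ha h3)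
    (X_not_mem h hy ha h3 fun e' => e (inv_mul_eq_one.1 e').symm)
    (B_le_P h hy ha ht hta hb hu).1 ?_))
  calc u * (x'⁻¹ * x) = x'⁻¹ * (x' * u * x'⁻¹) * x := by group
    _ = x'⁻¹ * (x * u * x⁻¹) * x := by rw [h1 u hu, h2 u hu]
    _ = _ := by group

theorem inv_cases (hv : v ∈ PP Z y a) (e : v * v = 1) : v ∈ FF Z y a ∨
    ∃ x ∈ XX y a, v * x⁻¹ ∈ BB Z y a t ∧ ∀ w ∈ BB Z y a t, x * w * x⁻¹ = w⁻¹ := by
  obtain ⟨u, hu, x, hx, rfl⟩ := (isProd_B h hy ha ht hta hb).mul v hv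
  by_cases hA : u ∈ AA Z a
  · exact Or.inl (mul_mem (A_le_F h hy ha hA) (X_le_F h hy ha hx))
  · exact Or.inr ⟨x, hx, by simpa using hu, inv_all h hy ha ht hta hb hx hu hA e⟩

theorem not_elem (he : ∀ w ∈ BB Z y a t, w * w = 1) : False := by
  have h1 : ∀ w ∈ BB Z y a t, (1 : G) * w * 1⁻¹ = w⁻¹ := fun w hw => by
    rw [one_mul, inv_one, mul_one, eq_inv_iff_mul_eq_one, he w hw]
  have hF : ∀ w ∈ BB Z y a t, w ∉ AA Z a → Wide Ω w ∧ w • a = a ∧ FF Z w a = BB Z y a t :=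
    fun w hw hA => by
      have hwa : w • a = a := P_le_M h hy ha (B_le_P h hy ha ht hta hb hw)
      have hW := (h.inv_cases ⟨fun e => hA (by rw [e]; exact one_mem _), he w hw⟩ hwa).resolve_left hA
      refine ⟨hW, hwa, (eq_of_card_ge (fun u hu => ?_) ?_).symm⟩
      · rw [h.F_eq_R hW hwa rfl]
        exact mem_inf.2 ⟨(B_le_P h hy ha ht hta hb hu).1, mem_C1.2 (comm_of_inverts h1 hu hw)⟩
      · rw [card_B h hy ha ht hta hb, h.card_F hW hwa]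
        exact Nat.mul_le_mul_left _ (h.card_X_le hW hwa)
  have h2 : ∀ w ∈ PP Z y a, w * w = 1 → w ∈ FF Z y a ∨ w ∈ BB Z y a t := fun w hw e =>
    (inv_cases h hy ha ht hta hb hw e).imp_right fun ⟨x, hx, h3, h4⟩ => by
      rwa [inv_unique h hy ha ht hta hb hx (one_mem _) h4 h1, inv_one, mul_one] at h3
  obtain ⟨u, hu, hA⟩ := exists_B h hy ha ht hta hb
  obtain ⟨hW, hua, hFu⟩ := hF u hu hA
  refine fin h hy ha hW hua (hFu ▸ h2) fun g hg => ?_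
  by_contra hgP
  have hyP := F_le_P h hy ha (y_mem_F h hy ha)
  have h3 : ∀ g ∈ C[AA Z a] ⊓ N[PP Z y a], g ∉ PP Z y a → cj g (FF Z y a) = BB Z y a t :=
    fun g hg hgP => by
      rw [h.cj_F, show g • a = a from h.C_le a hg.1]
      exact (hF _ ((h2 _ (conj_mem hg.2 hyP) (hy.1.conj g).2).resolve_left fun e =>
        hgP (mem_P_of_conj h hy ha hg.1 e)) (conj_not_mem h hy g)).2.2
  obtain ⟨k, hk, hk1⟩ := exists_k h hy ha ht hta hb
  have hkN := norm_inf (norm_C (K_NA h hy ha ht hta hb)) (norm_N (K_NP h hy ha ht hta hb)) hk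
  have hg' := conj_mem' hkN hg
  have h4 := cj_eq_cj_iff.1 ((h3 _ hg' fun e =>
    hgP ((conj_mem_iff' (K_NP h hy ha ht hta hb hk)).1 e)).trans (h3 g hg hgP).symm)
  have h5 : g * (g⁻¹ * (k⁻¹ * g * k)) * g⁻¹ ∈ PP Z y a :=
    conj_mem hg.2 (mem_inf.2 ⟨mul_mem (inv_mem hg.1) hg'.1, h4⟩)
  have h6 := comm_mem h hy ha h5 (conj_mem hg.2 hyP)
  have hky : k * y * k⁻¹ = y := mem_C1_iff_conj.1 (h.K_cent_y hy ha ht hta hb hk)
  refine (K_fpf h hy ha ht hta hb hk (conj_mem hg.2 hyP) (A_le_F h hy ha ?_)).elim hk1 fun e =>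
    hgP (mem_P_of_conj h hy ha hg.1 e)
  have h7 := inv_mem (conj_mem (K_NA h hy ha ht hta hb hk) h6)
  convert h7 using 1
  calc _ = k * (g * y * g⁻¹) * k⁻¹ * (g * (k * y * k⁻¹) * g⁻¹)⁻¹ := by rw [hky]
    _ = _ := by group

theorem exists_inv : ∃ x ∈ XX y a, x ≠ 1 ∧ ∀ w ∈ BB Z y a t, x * w * x⁻¹ = w⁻¹ := by
  by_contra! e
  have h1 : ∀ w ∈ PP Z y a, w * w = 1 → w ∈ FF Z y a := fun w hw h2 =>
    (inv_cases h hy ha ht hta hb hw h2).resolve_right fun ⟨x, hx, _, h4⟩ => by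
      by_cases h5 : x = 1
      · refine not_elem h hy ha ht hta hb fun w hw => ?_
        have := h4 w hw
        rwa [h5, one_mul, inv_one, mul_one, eq_inv_iff_mul_eq_one] at this
      · obtain ⟨w, hw, h6⟩ := e x hx h5
        exact h6 (h4 w hw)
  exact fin h hy ha hy ha (fun w hw h2 => Or.inl (h1 w hw h2)) fun g hg =>
    mem_P_of_conj h hy ha hg.1
      (h1 _ (conj_mem hg.2 (F_le_P h hy ha (y_mem_F h hy ha))) (hy.1.conj g).2)

theorem exists_sqrt (hx : x ∈ XX y a) (h1 : x ≠ 1) (hi : ∀ w ∈ BB Z y a t, x * w * x⁻¹ = w⁻¹)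
    (he : e ∈ AA Z a) : ∃ w ∈ BB Z y a t, w * w = e := by
  obtain ⟨g, hg, h2⟩ := surj h hy ha (X_le_F h hy ha hx) (X_not_mem h hy ha hx h1) he
  obtain ⟨w, hw, x', hx', rfl⟩ := (isProd_B h hy ha ht hta hb).mul g hg
  refine ⟨w, hw, ?_⟩
  have e1 := F_comm h hy ha (X_le_F h hy ha hx') (X_le_F h hy ha hx)
  have e2 := F_comm h hy ha (X_le_F h hy ha hx) (A_le_F h hy ha he)
  calc w * w = w * (x * w * x⁻¹)⁻¹ := by rw [hi w hw, inv_inv]
    _ = w * (x * x') * (w * x')⁻¹ * x⁻¹ := by group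
    _ = w * x' * x * (w * x')⁻¹ * x⁻¹ := by rw [← e1]; group
    _ = _ := by rw [h2, e2]; group

theorem X_cases (hx : x ∈ XX y a) (h1 : x ≠ 1) : ∀ w ∈ BB Z y a t, x * w * x⁻¹ = w⁻¹ := by
  obtain ⟨x0, hx0, h0, hi⟩ := exists_inv h hy ha ht hta hb
  obtain ⟨u, hu, hA⟩ := exists_B h hy ha ht hta hb
  have XP := (X_le_F h hy ha).trans (F_le_P h hy ha)
  have BP := B_le_P h hy ha ht hta hb
  have hv : u * x0 ∈ PP Z y a := mul_mem (BP hu) (XP hx0)
  have hvA : u * x0 ∉ AA Z a := fun e => h0 (eq_one h hy ha ht hta hb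
    ((mul_mem_cancel_left hu).1 (mem_sup_right e)) hx0)
  have x0i := H21.invol_inv (h.X_sq hy ha hx0)
  have hv2 : (u * x0) * (u * x0) = 1 := by
    calc _ = u * (x0 * u * x0⁻¹) := by rw [x0i]; group
      _ = _ := by rw [hi u hu, mul_inv_cancel]
  have hva := P_le_M h hy ha hv
  have hW := (h.inv_cases ⟨fun e => hvA (by rw [e]; exact one_mem _), hv2⟩ hva).resolve_left hvA
  have he := comm_mem h hy ha (XP hx) (BP hu)
  obtain ⟨w, hw, h2⟩ := exists_sqrt h hy ha ht hta hb hx0 h0 hi (inv_mem he)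
  have h3 : w * x ∈ FF Z (u * x0) a := by
    rw [h.F_eq_R hW hva rfl]
    refine mem_inf.2 ⟨(mul_mem (BP hw) (XP hx)).1, mem_C1.2 ?_⟩
    have e1 := F_comm h hy ha (X_le_F h hy ha hx) (X_le_F h hy ha hx0)
    have e2 := comm_of_inverts hi hu (inv_mem hw)
    calc w * x * (u * x0) = w * (x * u * x⁻¹ * u⁻¹)⁻¹⁻¹ * u * (x * x0) := by group
      _ = (w⁻¹ * u) * (x0 * x) := by rw [← h2, e1]; group
      _ = u * (x0 * w * x0⁻¹) * (x0 * x) := by rw [← e2, hi w hw]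
      _ = _ := by group
  by_cases hwA : w ∈ AA Z a
  · refine absurd (mem_A h hy ha ht hta hb hu (mem_F_of_comm h hy ha (X_le_F h hy ha hx)
      (X_not_mem h hy ha hx h1) (BP hu).1 ?_)) hA
    rw [h.A_sq hwA] at h2
    calc u * x = (x * u * x⁻¹ * u⁻¹)⁻¹ * (x * u) := by group
      _ = _ := by rw [← h2, one_mul]
  · exact inv_all h hy ha ht hta hb hx hw hwA (h.F_sq hW hva h3)

end ZA
end H18

namespace H6
namespace ZD

open H24 H3.B71 Subgroup MulAction H18.ZA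

variable {G Ω : Type*} [Group G] [Finite G] [MulAction G Ω] [Finite Ω] {Z : Set G}

/-- first half (file `ZIIa1`): the structure of `P` -/
theorem C2.struct_a {d : ℕ} (h : C2 Ω Z d 1) {y t : G} {a : Ω} (hy : Wide Ω y) (ha : y • a = a)
    (ht : t ∈ Z) (hta : t • a ≠ a) (hb : y • t • a = t • a) :
    XX y a = zpowers y ∧ ∃ B : Subgroup G, AA Z a ≤ B ∧ B ≤ PP Z y a ∧ ♯B = 4 ^ d ∧
      ♯(PP Z y a) = 2 * 4 ^ d ∧ (∀ x ∈ B, ∀ x' ∈ B, x * x' = x' * x) ∧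
      (∀ x ∈ B, x * x ∈ AA Z a) ∧ (∀ x ∈ B, x * x = 1 → x ∈ AA Z a) ∧
      (∀ x ∈ B, y * x * y⁻¹ = x⁻¹) ∧ y ∉ B ∧ N[PP Z y a] ≤ N[B] := by
  have hyX := h.y_mem_X hy ha
  have hi := X_cases h hy ha ht hta hb hyX hy.1.1
  have hX : ∀ x ∈ XX y a, x = 1 ∨ x = y := fun x hx => or_iff_not_imp_left.2 fun h1 =>
    inv_unique h hy ha ht hta hb hx hyX (X_cases h hy ha ht hta hb hx h1) hi
  have hX' : XX y a = zpowers y := le_antisymm
    (fun x hx => (hX x hx).elim (· ▸ one_mem _) (· ▸ mem_zpowers _)) (zpowers_le_of_mem hyX)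
  have BP := B_le_P h hy ha ht hta hb
  have h4 : 4 ^ d = 2 ^ d * 2 ^ d := by rw [← mul_pow]; rfl
  have hsq : ∀ x ∈ BB Z y a t, x * x = 1 → x ∈ AA Z a := fun x hx e => by
    by_contra hA
    exact hy.1.1 (inv_unique h hy ha ht hta hb hyX (one_mem _) hi
      (inv_all h hy ha ht hta hb (one_mem _) hx hA (by simpa using e)))
  refine ⟨hX', BB Z y a t, le_sup_right, BP, h4 ▸ card_B h hy ha ht hta hb, ?_,
    fun x hx x' hx' => comm_of_inverts hi hx hx', fun x hx => sq_mem h hy ha (BP hx), hsq, hi,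
    fun e => hy.1.1 (eq_one h hy ha ht hta hb e hyX), le_N_iff.2 fun g hg u hu => ?_⟩
  · rw [card_P h hy ha, hX', hy.1.card_zpowers, h4]; ring
  have key : ∀ u ∈ BB Z y a t, u ∉ AA Z a → g * u * g⁻¹ ∈ BB Z y a t := fun u hu hA => by
    obtain ⟨w, hw, x, hx, e⟩ := (isProd_B h hy ha ht hta hb).mul _ (conj_mem hg (BP hu))
    rcases hX x hx with rfl | rfl
    · rwa [e, mul_one]
    · refine absurd (hsq u hu ?_) hA
      calc u * u = g⁻¹ * ((g * u * g⁻¹) * (g * u * g⁻¹)) * g := by group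
        _ = g⁻¹ * (w * (x * w * x⁻¹) * (x * x)) * g := by rw [e]; group
        _ = _ := by rw [hi w hw, hy.1.2]; group
  by_cases hA : u ∈ AA Z a
  · obtain ⟨w, hw, hwA⟩ := exists_B h hy ha ht hta hb
    rw [show g * u * g⁻¹ = (g * (u * w) * g⁻¹) * (g * w * g⁻¹)⁻¹ by group]
    exact mul_mem (key _ (mul_mem hu hw) fun e => hwA ((mul_mem_cancel_left hA).1 e))
      (inv_mem (key w hw hwA))
  · exact key u hu hA

end ZD
end H6
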