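import Mathlib
import Cfsg.Agent.H6.ZDefs
import Cfsg.Agent.H6.BaerSuzuki
import Cfsg.Agent.H6.SmallSylow

/-! Two abstract lemmas: a doubly transitive group of degree `2 ^ d`, and a determinant. -/

set_option autoImplicit false
set_option linter.unusedSectionVars false
set_option linter.unusedVariables false

namespace H6
namespace ZD

open H24 H3.B71 Subgroup MulAction

/-- a Sylow subgroup of a transitive group of prime power degree is transitive -/
theorem syl_trans {H Λ : Type*} [Group H] [Finite H] [MulAction H Λ] [Finite Λ] {p d : ℕ}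
    (hp : p.Prime) (hΛ : Nat.card Λ = p ^ d) {l : Λ} (hH : ∀ c : Λ, ∃ g : H, g • l = c)
    {S : Subgroup H} (hS : Syl p ⊤ S) (c : Λ) : ∃ s ∈ S, s • l = c := by
  have h1 : (Orb (⊤ : Subgroup H) l) = Set.univ :=
    Set.eq_univ_of_forall fun c => (hH c).imp fun g hg => ⟨mem_top g, hg⟩
  have h2 := ncard_Orb (⊤ : Subgroup H) l
  rw [h1, Set.ncard_univ, hΛ, relIndex_top_right] at h2
  have h3 : p ^ d ∣ (Orb S l).ncard * S.index := by
    rw [ncard_Orb, ← inf_relIndex_right, relIndex_mul_index inf_le_right, h2]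
    exact index_dvd_of_le inf_le_left
  have h4 := ((hp.coprime_iff_not_dvd.mpr (relIndex_top_right S ▸ hS.not_dvd hp)).pow_left
    d).dvd_of_dvd_mul_right h3
  have h5 : Orb S l = Set.univ := Set.eq_of_subset_of_ncard_le (Set.subset_univ _) (by
    rw [Set.ncard_univ, hΛ]
    exact Nat.le_of_dvd ((Set.ncard_pos).mpr ⟨l, mem_Orb_self S l⟩) h4)
  exact (h5 ▸ Set.mem_univ c : c ∈ Orb S l)

section

variable {H Λ : Type*} [Group H] [Finite H] [MulAction H Λ] [Finite Λ] {l : Λ} {K : Subgroup H}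
  (hf : ∀ g : H, (∀ c : Λ, g • c = c) → g = 1) (hab : ∀ x ∈ K, ∀ y ∈ K, x * y = y * x)
  (hK : K ≤ stabilizer H l) (htr : ∀ c c' : Λ, c ≠ l → c' ≠ l → ∃ k ∈ K, k • c = c')
  (hgal : ∀ g : H, g • l = l → ∃ j : ℕ, ∀ k ∈ K, g * k * g⁻¹ = k ^ 2 ^ j)
include hf hab hK htr hgal

theorem alpha_cent {g : H} {c : Λ} (hl : g • l = l) (hg : ∀ k ∈ K, k * g = g * k) (hc : c ≠ l)
    (e : g • c = c) : g = 1 := hf g fun c' => by
  by_cases e1 : c' = l
  · rwa [e1]
  obtain ⟨k, hk, rfl⟩ := htr c c' hc e1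
  rw [← mul_smul, ← hg k hk, mul_smul, e]

theorem alpha_comm {f g : H} {c : Λ} (hc : c ≠ l) (f1 : f • l = l) (f2 : f • c = c)
    (g1 : g • l = l) (g2 : g • c = c) : f * g = g * f := by
  obtain ⟨i, hi⟩ := hgal f f1
  obtain ⟨j, hj⟩ := hgal g g1
  rw [← inv_mul_eq_one]
  refine alpha_cent hf hab hK htr hgal ?_ (fun k hk => ?_) hc ?_
  · rw [mul_smul, inv_smul_eq_iff, mul_smul, mul_smul, f1, g1, f1]
  · have e : g * f * k * (g * f)⁻¹ = f * g * k * (f * g)⁻¹ := by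
      calc _ = g * (f * k * f⁻¹) * g⁻¹ := by group
        _ = f * (g * k * g⁻¹) * f⁻¹ := by
          rw [hi k hk, hj k hk, hi _ (pow_mem hk _), hj _ (pow_mem hk _), ← pow_mul, ← pow_mul,
            mul_comm]
        _ = _ := by group
    calc _ = (f * g)⁻¹ * (f * g * k * (f * g)⁻¹) * (g * f) := by group
      _ = _ := by rw [← e]; group
  · rw [mul_smul, inv_smul_eq_iff, mul_smul, mul_smul, f2, g2, f2]

theorem alpha_fix {f : H} {c c' : Λ} (hc : c ≠ l) (hc' : c' ≠ l) (f1 : f • l = l)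
    (f2 : f • c = c) (f3 : f • c' = c') : ∃ k ∈ K, k * f = f * k ∧ k • c = c' := by
  obtain ⟨k, hk, e⟩ := htr c c' hc hc'
  obtain ⟨j, hj⟩ := hgal f f1
  have hm : k⁻¹ * (f * k * f⁻¹) ∈ K := mul_mem (inv_mem hk) (hj k hk ▸ pow_mem hk _)
  have := alpha_cent hf hab hK htr hgal (hK hm) (fun _ h => hab _ h _ hm) hc (by
    rw [mul_smul, inv_smul_eq_iff, mul_smul, mul_smul, inv_smul_eq_iff.mpr f2.symm, e, f3])
  exact ⟨k, hk, eq_mul_inv_iff_mul_eq.mp (inv_mul_eq_one.mp this), e⟩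

theorem alpha_core {c f k : H} (hc : c * c = 1) (hcl : c • l ≠ l) (f1 : f • l = l)
    (hi : c * f * c⁻¹ = f⁻¹) (hk : k ∈ K) (hk1 : k ≠ 1) (hkf : k * f = f * k) : f = f⁻¹ := by
  have hcc : ∀ x : Λ, c • c • x = x := fun x => by rw [← mul_smul, hc, one_smul]
  have hfix : ∀ {g : H} {x : Λ}, g ∈ N[zpowers f] → f • x = x → f • g • x = g • x :=
    fun hg hx => fix_smul hg (zpowers_le.mpr hx) (mem_zpowers f)
  have hcN : c ∈ N[zpowers f] := zp_mem_N_of_inv hi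
  have hC : ∀ {g : H}, g ∈ C{f} → g ∈ N[zpowers f] := fun hg =>
    centralizer_le_normalizer _ (mem_C'.mpr fun x hx => by
      obtain ⟨n, rfl⟩ := hx
      exact (Commute.zpow_right (mem_C1.mp hg) n).eq)
  have hcj : ∀ {g : H}, g ∈ C{f} → c * g * c ∈ C{f} := fun {g} hg => mem_C1.mpr (by
    have e : c * f = f⁻¹ * c := mul_inv_eq_iff_eq_mul.mp hi
    have e' : c * f⁻¹ = f * c := by
      rw [mul_inv_eq_iff_eq_mul, mul_assoc, e, mul_inv_cancel_left]
    have e2 : g * f⁻¹ = f⁻¹ * g := (Commute.inv_right (mem_C1.mp hg)).eq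
    rw [mul_assoc, e, ← mul_assoc, mul_assoc c g, e2, ← mul_assoc, e']
    group)
  have f2 := hfix hcN f1
  have hk' := hcj (mem_C1.mpr hkf)
  have h1 : (c * k * c) • l ≠ l := fun e => hk1 (alpha_cent hf hab hK htr hgal (hK hk)
    (fun _ h => hab _ h _ hk) hcl (by rw [← hcc (k • c • l), ← mul_smul c k, ← mul_smul _ c l, e]))
  obtain ⟨k1, hk1K, hk1f, e1⟩ := alpha_fix hf hab hK htr hgal h1 hcl f1 (hfix (hC hk') f1) f2
  have h2 : c • k1 • c • l ≠ l := fun e => h1 (by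
    have e2 : k1 • c • l = c • l := by rw [← hcc (k1 • c • l), e]
    have e3 : (c * k * c) • l = c • l := smul_left_cancel k1 (e1.trans e2.symm)
    rw [mul_smul, mul_smul] at e3
    exact absurd (smul_left_cancel k ((smul_left_cancel c e3).trans (hK hk).symm)) hcl)
  obtain ⟨k2, hk2K, hk2f, e2⟩ := alpha_fix hf hab hK htr hgal h2 hcl f1
    (hfix hcN (hfix (hC (mem_C1.mpr hk1f)) f2)) f2
  have hg := mem_C1.mp (mul_mem (hcj (mem_C1.mpr hk2f)) (mul_mem (mem_C1.mpr hk1f) hk'))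
  have h3 := alpha_comm hf hab hK htr hgal (g := c * (c * k2 * c * (k1 * (c * k * c)))) hcl f1 f2
    (by rw [mul_smul, mul_smul, mul_smul k1, e1, mul_smul, mul_smul, hcc, hcc]; exact hK hk2K)
    (by simp only [mul_smul, hcc, mem_stabilizer_iff.mp (hK hk), e2])
  generalize c * k2 * c * (k1 * (c * k * c)) = g at hg h3
  rw [mul_assoc c, hg, ← mul_assoc f, ← mul_assoc c f] at h3
  rw [← hi, ← mul_right_cancel h3, mul_inv_cancel_right]

theorem alpha0 {d : ℕ} (hd : 2 ≤ d) (hΛ : Nat.card Λ = 2 ^ d) (hH : ∀ c : Λ, ∃ g : H, g • l = c)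
    (hO : ∀ N : Subgroup H, N.Normal → IsPGroup 2 N → N = ⊥) : Odd d := by
  by_contra hd2
  obtain ⟨e, rfl⟩ := Nat.not_odd_iff_even.mp hd2
  obtain ⟨S, hS⟩ := Sylow_exists Nat.prime_two (⊤ : Subgroup H)
  have hSt := syl_trans Nat.prime_two hΛ hH hS
  have : Nontrivial Λ := Finite.one_lt_card_iff_nontrivial.mp
    (hΛ ▸ Nat.one_lt_two_pow (by omega))
  obtain ⟨l', hl'⟩ := exists_ne l
  obtain ⟨c, hcS, hc, hcc⟩ := exists_central_involution (hS.pi.isPGroup Nat.prime_two) (by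
    rintro rfl
    obtain ⟨s, hs, e⟩ := hSt l'
    rw [mem_bot.mp hs, one_smul] at e
    exact hl' e.symm)
  have hc1 : c ≠ 1 := fun e => by simp [e] at hc
  have hcf : ∀ m : Λ, c • m ≠ m := fun m e => hc1 (hf c fun x => by
    obtain ⟨s, hs, rfl⟩ := hSt m
    obtain ⟨s', hs', rfl⟩ := hSt x
    have e1 : c • l = l := smul_left_cancel s (by rw [← mul_smul, hcc s hs, mul_smul, e])
    rw [← mul_smul, ← hcc s' hs', mul_smul, e1])
  obtain ⟨x, hx1, hxo, hxi⟩ := exists_odd_inverted c hc fun N hN h2 h =>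
    hc1 (mem_bot.mp (hO N hN h2 ▸ h))
  obtain ⟨f, hfx, hp⟩ := exists_prime_mem_zp hx1
  have hfo : Odd (orderOf f) := Odd.of_dvd_nat hxo (orderOf_dvd_of_mem_zpowers hfx)
  obtain ⟨m, -, hm⟩ := exists_fix_of_not_dvd (S := (Set.univ : Set Λ)) hp
    (isPi_of_card_prime hp (Nat.card_zpowers f)) (fun _ _ _ _ => Set.mem_univ _) (by
      rw [Set.ncard_univ, hΛ]
      exact fun h => (Nat.not_even_iff_odd.mpr hfo)
        (((Nat.prime_dvd_prime_iff_eq hp Nat.prime_two).mp (hp.dvd_of_dvd_pow h)) ▸ even_two))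
  obtain ⟨g, rfl⟩ := hH m
  have f1 : (g⁻¹ * f * g) • l = l := by
    rw [mul_smul, mul_smul, inv_smul_eq_iff]
    exact hm (mem_zpowers f)
  have h3 : 3 ∣ ♯K := by
    refine dvd_trans ?_ (ncard_Orb_dvd K l')
    have e1 : Orb K l' = {l}ᶜ := Set.ext fun c => ⟨fun ⟨k, hk, e⟩ e' =>
      hl' (smul_left_cancel k (e.trans (e'.trans (hK hk).symm))), fun h => htr _ _ hl' h⟩
    have e2 := Set.ncard_add_ncard_compl ({l} : Set Λ)
    rw [Set.ncard_singleton, hΛ, ← two_mul, pow_mul] at e2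
    have e3 : (2 ^ 2) ^ e % 3 = 1 := by simp [Nat.pow_mod]
    rw [e1]
    omega
  have : Fact (Nat.Prime 3) := ⟨Nat.prime_three⟩
  obtain ⟨k, hk⟩ := exists_prime_orderOf_dvd_card' 3 h3
  obtain ⟨j, hj⟩ := hgal _ f1
  have hk3 : orderOf (k : H) = 3 := by rw [orderOf_coe, hk]
  have e1 := alpha_core hf hab hK htr hgal (c := g⁻¹ * c * g) (f := (g⁻¹ * f * g) * (g⁻¹ * f * g))
    (by
      calc _ = g⁻¹ * c ^ orderOf c * g := by rw [hc, pow_two]; group
        _ = 1 := by simp)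
    (by rw [mul_smul, mul_smul, Ne, inv_smul_eq_iff]; exact hcf _) (by rw [mul_smul, f1, f1])
    (by
      calc _ = g⁻¹ * (c * f * c⁻¹) * (c * f * c⁻¹) * g := by group
        _ = _ := by rw [inv_of_mem_zp hxi hfx]; group)
    k.2 (fun e => by simp [e] at hk3) (by
      rw [eq_comm, ← mul_inv_eq_iff_eq_mul]
      calc _ = g⁻¹ * f * g * (g⁻¹ * f * g * k * (g⁻¹ * f * g)⁻¹) * (g⁻¹ * f * g)⁻¹ := by group
        _ = _ := by
          rw [hj _ k.2, hj _ (pow_mem k.2 _), ← pow_mul, ← mul_pow, ← pow_mod_orderOf, hk3]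
          simp [Nat.pow_mod])
  have e2 : f ^ 2 ^ 2 = 1 := by
    calc _ = g * ((g⁻¹ * f * g) * (g⁻¹ * f * g) * ((g⁻¹ * f * g) * (g⁻¹ * f * g))) * g⁻¹ := by
          norm_num [pow_succ]; group
      _ = 1 := by rw [eq_inv_iff_mul_eq_one.mp e1]; group
  exact (Nat.not_even_iff_odd.mpr hfo) (((Nat.prime_dvd_prime_iff_eq hp Nat.prime_two).mp
    (hp.dvd_of_dvd_pow (orderOf_dvd_of_pow_eq_one e2))) ▸ even_two)

end

/-- the `α`-lemma -/
theorem alpha {H Λ : Type*} [Group H] [Finite H] [MulAction H Λ] [Finite Λ] {d : ℕ} (hd : 2 ≤ d)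
    (hΛ : Nat.card Λ = 2 ^ d) (l : Λ) (K : Subgroup H) (hc : IsCyclic K)
    (hK : K ≤ stabilizer H l) (hcard : ♯K + 1 = 2 ^ d)
    (htr : ∀ c c' : Λ, c ≠ l → c' ≠ l → ∃ k ∈ K, k • c = c') (hH : ∀ c : Λ, ∃ g : H, g • l = c)
    (hgal : ∀ g : H, g • l = l → ∃ j : ℕ, ∀ k ∈ K, ∀ c : Λ, (g * k * g⁻¹) • c = (k ^ 2 ^ j) • c)
    (hO : ∀ N : Subgroup H, N.Normal → (∀ x ∈ N, ∃ n : ℕ, ∀ c : Λ, (x ^ 2 ^ n) • c = c) →
      ∀ x ∈ N, ∀ c : Λ, x • c = c) : Odd d := by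
  let φ := (toPermHom H Λ).rangeRestrict
  have hφ : Function.Surjective φ := MonoidHom.rangeRestrict_surjective _
  have hs : ∀ (g : H) (c : Λ), φ g • c = g • c := fun _ _ => rfl
  have hf : ∀ g : (toPermHom H Λ).range, (∀ c : Λ, g • c = c) → g = 1 := fun g h =>
    Subtype.ext (Equiv.ext h)
  refine alpha0 (l := l) (K := K.map φ) hf ?_ ?_ ?_ ?_ hd hΛ ?_ ?_
  · rintro _ ⟨x, hx, rfl⟩ _ ⟨y, hy, rfl⟩
    rw [← map_mul, ← map_mul]
    exact congrArg (fun z : K => φ z) (IsCyclic.isMulCommutative.is_comm.comm (⟨x, hx⟩ : K) ⟨y, hy⟩)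
  · rintro _ ⟨x, hx, rfl⟩
    exact hK hx
  · intro c c' h h'
    obtain ⟨k, hk, e⟩ := htr c c' h h'
    exact ⟨φ k, mem_map_of_mem φ hk, e⟩
  · intro g hg
    obtain ⟨g, rfl⟩ := hφ g
    obtain ⟨j, hj⟩ := hgal g hg
    refine ⟨j, ?_⟩
    rintro _ ⟨k, hk, rfl⟩
    rw [← map_inv, ← map_mul, ← map_mul, ← map_pow]
    exact Subtype.ext (Equiv.ext (hj k hk))
  · intro c
    obtain ⟨g, e⟩ := hH c
    exact ⟨φ g, e⟩
  · intro N hN h2
    refine eq_bot_iff.mpr fun x hx => ?_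
    obtain ⟨x, rfl⟩ := hφ x
    refine hf _ (hO (N.comap φ) (hN.comap φ) (fun y hy => ?_) x hx)
    obtain ⟨n, hn⟩ := h2 ⟨φ y, hy⟩
    refine ⟨n, fun c => ?_⟩
    rw [← hs, map_pow, show φ y ^ 2 ^ n = 1 from congrArg Subtype.val hn, one_smul]

theorem exists_basis_four {V : Type*} [AddCommGroup V] [Finite V] [Module (ZMod 4) V] {d : ℕ}
    (hV : Nat.card V = 4 ^ d) (h2 : Nat.card (nsmulAddMonoidHom (α := V) 2).ker = 2 ^ d) :
    Nonempty (Module.Basis (Fin d) (ZMod 4) V) := by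
  let W := (nsmulAddMonoidHom (α := V) 2).range
  let _ : Module (ZMod 2) (V ⧸ W) := QuotientAddGroup.zmodModule fun x => ⟨x, rfl⟩
  have h1 : Nat.card (V ⧸ W) = 2 ^ d := by
    have e1 := AddSubgroup.card_mul_index W
    have e2 := AddSubgroup.card_mul_index (nsmulAddMonoidHom (α := V) 2).ker
    rw [AddSubgroup.index_ker, mul_comm, ← e1, h2] at e2
    exact (Nat.eq_of_mul_eq_mul_left Nat.card_pos e2).symm
  have h3 : Module.finrank (ZMod 2) (V ⧸ W) = d := by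
    rw [Module.natCard_eq_pow_finrank (K := ZMod 2), Nat.card_zmod] at h1
    exact Nat.pow_right_injective le_rfl h1
  let b := Module.finBasisOfFinrankEq (ZMod 2) (V ⧸ W) h3
  choose x hx using fun i => QuotientAddGroup.mk_surjective (b i)
  have h4 : ∀ m : V, ∃ w ∈ Submodule.span (ZMod 4) (Set.range x), ∃ m', m = w + 2 • m' := fun m => by
    have : (m : V ⧸ W) ∈ AddSubgroup.toZModSubmodule 2 ((Submodule.span (ZMod 4)
        (Set.range x)).toAddSubgroup.map (QuotientAddGroup.mk' W)) := by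
      refine (b.span_eq.ge.trans (Submodule.span_le.mpr ?_)) Submodule.mem_top
      rintro _ ⟨i, rfl⟩
      exact ⟨x i, Submodule.subset_span ⟨i, rfl⟩, hx i⟩
    obtain ⟨w, hw, e⟩ := this
    obtain ⟨m', e'⟩ := QuotientAddGroup.eq.mp e
    exact ⟨w, hw, m', by rw [← nsmulAddMonoidHom_apply, e']; abel⟩
  have h5 : Function.Surjective (Fintype.linearCombination (ZMod 4) x) := by
    rw [← LinearMap.range_eq_top, Fintype.range_linearCombination, eq_top_iff]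
    intro m _
    obtain ⟨w, hw, m', rfl⟩ := h4 m
    obtain ⟨w', hw', m'', rfl⟩ := h4 m'
    have e : (2 : ℕ) • (2 : ℕ) • m'' = 0 := by
      rw [← mul_nsmul, ← Nat.cast_smul_eq_nsmul (ZMod 4), show ((2 * 2 : ℕ) : ZMod 4) = 0 from rfl,
        zero_smul]
    rw [nsmul_add, e, add_zero]
    exact add_mem hw (nsmul_mem hw' 2)
  exact ⟨(Pi.basisFun (ZMod 4) (Fin d)).map (LinearEquiv.ofBijective _
    (h5.bijective_of_nat_card_le (by simp [hV])))⟩

/-- the determinant on a homocyclic group of exponent `4` and odd rank -/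
theorem exists_index_two {G : Type*} [Group G] [Finite G] {B M : Subgroup G} {d : ℕ} {y : G}
    (hd : Odd d) (hab : ∀ x ∈ B, ∀ x' ∈ B, x * x' = x' * x) (h4 : ∀ x ∈ B, x ^ 4 = 1)
    (hB : ♯B = 4 ^ d) (h2 : {x | x ∈ B ∧ x * x = 1}.ncard = 2 ^ d) (hM : M ≤ N[B]) (hy : y ∈ M)
    (hi : ∀ x ∈ B, y * x * y⁻¹ = x⁻¹) : ∃ X ≤ M, X.relIndex M = 2 := by
  let _ : CommGroup B := { mul_comm := fun x x' => Subtype.ext (hab _ x.2 _ x'.2) }
  let _ : Module (ZMod 4) (Additive B) := AddCommGroup.zmodModule fun x =>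
    congrArg Additive.ofMul (Subtype.ext (h4 _ x.toMul.2) : x.toMul ^ 4 = 1)
  obtain ⟨b⟩ := exists_basis_four (V := Additive B) hB (by
    rw [← h2, ← Nat.card_coe_set_eq]
    exact Nat.card_congr ⟨fun x => ⟨x.1.toMul, x.1.toMul.2, by
        rw [← pow_two]; exact congrArg (fun z : Additive B => (z.toMul : G)) x.2⟩,
      fun x => ⟨Additive.ofMul ⟨x, x.2.1⟩, congrArg Additive.ofMul
        (Subtype.ext ((pow_two _).trans x.2.2) : (⟨x, x.2.1⟩ : B) ^ 2 = 1)⟩,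
      fun _ => rfl, fun _ => rfl⟩)
  have := Module.Free.of_basis b
  let ρ : M → Additive B →ₗ[ZMod 4] Additive B := fun g => AddMonoidHom.toZModLinearMap 4
    (MonoidHom.toAdditive (B.normalizerMonoidHom ⟨g, hM g.2⟩).toMonoidHom)
  have hρ : ∀ (g : M) (x : Additive B), ((ρ g x).toMul : G) = g * x.toMul * (g : G)⁻¹ :=
    fun _ _ => rfl
  have hext : ∀ {f f' : Additive B →ₗ[ZMod 4] Additive B},
      (∀ x, ((f x).toMul : G) = (f' x).toMul) → f = f' := fun h =>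
    LinearMap.ext fun x => Additive.toMul.injective (Subtype.ext (h x))
  let χ : M →* ZMod 4 :=
    { toFun := fun g => LinearMap.det (ρ g)
      map_one' := by rw [hext (f := ρ 1) (f' := 1) fun x => by simp [hρ], map_one]
      map_mul' := fun g g' => by
        rw [← map_mul, hext (f := ρ (g * g')) (f' := ρ g * ρ g') fun x => by simp [hρ, mul_assoc]] }
  have hχ : χ ⟨y, hy⟩ = -1 := by
    have : Fact (1 < 4) := ⟨by norm_num⟩
    change LinearMap.det (ρ _) = _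
    rw [hext (f := ρ ⟨y, hy⟩) (f' := (-1 : ZMod 4) • 1) fun x => by simp [hρ, hi _ x.toMul.2],
      LinearMap.det_smul, Module.finrank_eq_card_basis b, Fintype.card_fin, hd.neg_one_pow, map_one, mul_one]
  refine ⟨χ.toHomUnits.ker.map M.subtype, map_subtype_le _, ?_⟩
  rw [relIndex, subgroupOf, comap_map_eq_self_of_injective (subtype_injective M), index_eq_two_iff]
  refine ⟨⟨y, hy⟩, fun g => ?_⟩
  simp only [MonoidHom.mem_ker, Units.ext_iff, MonoidHom.coe_toHomUnits, map_mul, hχ,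
    Units.val_one, Units.val_mul]
  exact (by decide : ∀ u v : ZMod 4, u * v = 1 → Xor (u * -1 = 1) (u = 1)) _ (χ g⁻¹)
    (by rw [← map_mul, mul_inv_cancel, map_one])

end ZD
end H6
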