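import Mathlib
import Cfsg.Agent.H6.ZII2
import Cfsg.Agent.H6.ZAlpha
import Cfsg.Agent.H6.Transfer2
import Cfsg.Agent.H18.ZA2

/-! Case II, type (a) is impossible. -/

set_option autoImplicit false
set_option linter.unusedSectionVars false
set_option linter.unusedVariables false

namespace H18
namespace ZA
namespace St

open H24 H26 H3.B71 H6.ZD Subgroup MulAction

variable {G Ω : Type*} [Group G] [Finite G] [MulAction G Ω] [Finite Ω]
  {Z : Set G} {d : ℕ} {y t : G} {a : Ω} {B : Subgroup G} (s : St Z d y t a B)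
  {g g' v w e : G} {c : Ω}
include s

theorem idx_P : (stabilizer G (t • a)).relIndex (PP Z y a) = 2 ^ d * 2 ^ d := by
  have := card_inf_mul_relIndex (stabilizer G (t • a)) (PP Z y a)
  rw [inf_comm, s.h.P_inf s.hy s.ha s.hb s.hta, s.X, s.hy.1.card_zpowers, s.cP,
    show 4 ^ d = 2 ^ d * 2 ^ d by rw [← mul_pow]; rfl] at this
  omega

theorem C_eq : C[AA Z a] = PP Z y a := by
  have h := s.h
  have h1 : C[AA Z a] ⊓ N[PP Z y a] ≤ PP Z y a := by
    by_contra e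
    exact s.case1 e
  have hP : Syl 2 C[AA Z a] (PP Z y a) := Sylow_subnorm Nat.prime_two inf_le_left (by
    rw [le_antisymm h1 s.PR]; exact hall_self (h.P_two s.hy s.ha))
  have pr : ∀ c, c ≠ a → IsProd (PP Z y a) (C[AA Z a] ⊓ stabilizer G c) C[AA Z a] := fun c hc =>
    isProd_odd h (C_nml h a) inf_le_left
      (Nat.odd_iff.2 (by have := hP.not_dvd Nat.prime_two; omega)) hc
  have idx : ∀ c, c ≠ a → (Orb C[AA Z a] c).ncard = (stabilizer G c).relIndex (PP Z y a) :=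
    fun c hc => by
      rw [ncard_Orb, ← inf_relIndex_left, (pr c hc).symm.relIndex_eq, ← inf_relIndex_right,
        inf_comm C[AA Z a], inf_assoc, inf_eq_right.2 (inf_le_left : PP Z y a ≤ _),
        inf_relIndex_right]
  have hW : IsPi {2} (WW Z a (t • a)) := fun r hr hd => by
    by_contra h2
    obtain ⟨w, hw, ho⟩ := exists_orderOf_eq hr hd
    have h3 : ({a}ᶜ : Set Ω) ⊆ Orb C[AA Z a] (t • a) := fun c hc => by
      obtain ⟨c', ⟨g, hg, rfl⟩, h4⟩ := exists_fix_of_not_dvd (S := Orb C[AA Z a] c) hr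
        (piElt_of_orderOf_prime hr ho).isPi
        (fun x hx c' hc' => smul_mem_Orb (zpowers_le_of_mem hw.1 hx) hc')
        (idx c hc ▸ ((h.P_two s.hy s.ha).relIndex _).not_dvd hr h2)
      obtain ⟨u, hu, h5⟩ := h.R_trans s.hy s.ha s.hb (h.W_free s.hy s.ha s.hb s.hta hw
        (ne_one_of_orderOf_prime (ho ▸ hr)) (h4 (mem_zpowers w))) s.hta
        (smul_ne_of_fix (h.C_le a hg) hc)
      exact ⟨g⁻¹ * u, mul_mem (inv_mem hg) hu.1, by rw [mul_smul, h5, inv_smul_smul]⟩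
    have h4 := Set.ncard_le_ncard h3
    have h5 := Set.ncard_add_ncard_compl ({a} : Set Ω)
    rw [Set.ncard_singleton, cardO h] at h5
    rw [idx _ s.hta, s.idx_P] at h4
    have h6 := four_le h
    generalize 2 ^ d = q at *
    have : q ^ 3 ≤ q * q := by omega
    nlinarith
  rw [← (pr _ s.hta).sup_eq, sup_eq_left]
  exact ((h.syl_X s.hy s.ha s.hb s.hta).eq_self hW).ge.trans
    ((X_le_F h s.hy s.ha).trans (F_le_P h s.hy s.ha))

theorem MP : stabilizer G a ≤ N[PP Z y a] := s.C_eq ▸ (C_nml s.h a).norm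

theorem D_cent (hg : g ∈ D2 G a (t • a)) : g * y * g⁻¹ = y := by
  refine s.cent_y ?_
  rw [← s.X, ← s.h.P_inf s.hy s.ha s.hb s.hta]
  exact norm_inf (inf_le_left.trans s.MP) (norm_of_le inf_le_right) hg

theorem mem_H (hg : g • a = a) :
    g ∈ PP Z y a ⊔ D2 G a (t • a) ↔ g * y * g⁻¹ ∈ FF Z y a := by
  rw [mem_sup_of_norm (inf_le_left.trans s.MP)]
  constructor
  · rintro ⟨p, hp, u, hu, rfl⟩
    rw [show p * u * y * (p * u)⁻¹ = p * (u * y * u⁻¹) * p⁻¹ by group, s.D_cent hu]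
    exact conj_mem hp.2 s.yF
  · intro e
    obtain ⟨e, he, h1⟩ := (s.F_cases e).resolve_left (conj_not_mem s.h s.hy g)
    obtain ⟨p, hp, h2⟩ := surj_y s.h s.hy s.ha he
    have h3 : y * (p⁻¹ * g) = (p⁻¹ * g) * y := by
      calc _ = p⁻¹ * (p * y * p⁻¹) * g := by group
        _ = p⁻¹ * (g * y * g⁻¹) * g := by rw [h1, h2]
        _ = _ := by group
    have h4 : (p⁻¹ * g) • a = a := mul_mem (inv_mem (P_le_M s.h s.hy s.ha hp)) hg
    obtain ⟨r, hr, h5⟩ := s.h.R_trans s.hy s.ha s.hb (comm_fix h3 s.hb) s.hta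
      (smul_ne_of_fix h4 s.hta)
    have hrP := s.h.R_le_P s.hy s.ha hr
    refine ⟨p * r, mul_mem hp hrP, r⁻¹ * (p⁻¹ * g), mem_inf.2
      ⟨mul_mem (inv_mem (P_le_M s.h s.hy s.ha hrP)) h4, ?_⟩, by group⟩
    rw [mem_stabilizer_iff, mul_smul, ← h5, inv_smul_smul]

theorem H_le : PP Z y a ⊔ D2 G a (t • a) ≤ stabilizer G a :=
  sup_le (P_le_M s.h s.hy s.ha) inf_le_left

theorem idx_H : (PP Z y a ⊔ D2 G a (t • a)).relIndex (stabilizer G a) = 2 ^ d := by
  have h1 := relIndex_mul_relIndex _ _ _ (le_sup_right (a := PP Z y a)) s.H_le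
  have h2 : (D2 G a (t • a)).relIndex (PP Z y a) = 2 ^ d * 2 ^ d := by
    rw [← inf_relIndex_right, D2, inf_comm (stabilizer G a), inf_assoc,
      inf_eq_right.2 (P_le_M s.h s.hy s.ha), inf_relIndex_right, s.idx_P]
  rw [(isProd_sup (inf_le_left.trans s.MP)).symm.relIndex_eq, inf_relIndex_left, idx s.h s.hta,
    h2] at h1
  exact Nat.eq_of_mul_eq_mul_left (n := 2 ^ d * 2 ^ d) (by positivity) (by rw [h1]; ring)

theorem ker (hg : g • a = a)
    (h1 : ∀ m : G, m • a = a → m⁻¹ * g * m ∈ PP Z y a ⊔ D2 G a (t • a)) : g ∈ C[AA Z a] := by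
  have h := s.h
  have h2 : ∀ v ∈ PP Z y a, v ∉ B → g * v * g⁻¹ * v⁻¹ ∈ AA Z a := fun v hv hB => by
    have hw := s.wide hv hB
    have hva := P_le_M h s.hy s.ha hv
    obtain ⟨m, hm, h3, -⟩ := h.F_conj s.hy s.ha hw hva
    have h4 := h.y_mem_X hw hva
    rw [← h3, s.X, cj_zpowers] at h4
    obtain rfl := ((s.hy.1.conj m).mem_zp h4).resolve_left hw.1.1
    have hm' : (m⁻¹ * g * m) • a = a := by
      rw [mul_smul, mul_smul, hm, hg, inv_smul_eq_iff, hm]
    obtain ⟨e, he, h5⟩ := (s.F_cases ((s.mem_H hm').1 (h1 m hm))).resolve_left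
      (conj_not_mem h s.hy _)
    have := conj_mem (M_le_NA h a hm) (conj_mem (M_le_NA h a s.ha) he)
    convert this using 1
    calc _ = m * (m⁻¹ * g * m * y * (m⁻¹ * g * m)⁻¹) * y⁻¹ * m⁻¹ := by group
      _ = _ := by rw [h5]; group
  have h3 : ∀ w ∈ B, g * (w * w) * g⁻¹ = w * w := fun w hw => by
    have e1 := h2 _ (mul_mem (s.BP hw) s.yP) fun e => s.yB ((mul_mem_cancel_left hw).1 e)
    have e2 := conj_mem (P_le_NA h s.hy s.ha (s.BP hw)) (inv_mem (h2 y s.yP s.yB))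
    obtain ⟨u, hu⟩ : ∃ u, u = g * w * g⁻¹ * w⁻¹ := ⟨_, rfl⟩
    have hA : u ∈ AA Z a := by
      have := mul_mem e1 (conj_mem (P_le_NA h s.hy s.ha (mul_mem (s.BP hw) s.yP))
        (conj_mem' (P_le_NA h s.hy s.ha s.yP) (inv_mem (h2 y s.yP s.yB))))
      convert this using 1
      rw [hu]; group
    have e3 := s.comm w hw u (s.AB hA)
    calc _ = u * (w * u) * w := by rw [hu]; group
      _ = (u * u) * (w * w) := by rw [e3]; group
      _ = _ := by rw [h.A_sq hA, one_mul]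
  refine mem_C'.2 fun e he => ?_
  obtain ⟨p, hp, h4⟩ := surj_y h s.hy s.ha he
  obtain ⟨w, hw, h5⟩ : ∃ w ∈ B, w * y * w⁻¹ = y * e := by
    rcases s.cases hp with hw | ⟨w, hw, rfl⟩
    · exact ⟨p, hw, h4⟩
    · exact ⟨w, hw, by rw [← h4]; group⟩
  have h6 : w * w = e := by
    calc w * w = w * (y * w * y⁻¹)⁻¹ := by rw [s.inv w hw, inv_inv]
      _ = w * y * w⁻¹ * y⁻¹ := by group
      _ = _ := by rw [h5, conj_eq_of_mem_C s.yP.1 he]
  have := h3 w hw
  rw [h6] at this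
  conv_rhs => rw [← this]
  group

theorem odd : Odd d := by
  have h := s.h
  have sg := h.sing s.hy s.ha s.ht s.hta s.hb
  obtain ⟨M, hM⟩ : ∃ M, M = stabilizer G a := ⟨_, rfl⟩
  obtain ⟨H, hH⟩ : ∃ H, H = PP Z y a ⊔ D2 G a (t • a) := ⟨_, rfl⟩
  have Ma : ∀ g : M, (g : G) • a = a := fun g => (hM.le g.2 : _ ∈ stabilizer G a)
  have act : ∀ x m m' : M, x • (m : M ⧸ H.subgroupOf M) = m' ↔ (m' : G)⁻¹ * (x * m) ∈ H :=
    fun x m m' => by
      rw [MulAction.Quotient.smul_coe, eq_comm, QuotientGroup.eq]; rfl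
  have KD : KK Z a t ≤ D2 G a (t • a) := fun k hk => mem_inf.2 ⟨Kz_fix hk,
    (h.ze.K_spec s.ht s.hta (Kz_fix hk) ((h.memK s.hy s.ha s.ht s.hta s.hb).1 hk).2).2.1⟩
  have KM : KK Z a t ≤ M := hM ▸ KD.trans inf_le_left
  have PH : PP Z y a ≤ H := hH ▸ le_sup_left
  have MP : M ≤ N[PP Z y a] := hM ▸ s.MP
  have nF : ∀ g : M, (g : M ⧸ H.subgroupOf M) ≠ (1 : M) → g * y * (g : G)⁻¹ ∉ FF Z y a :=
    fun g hg e => hg (by
      have := (act g 1 1).2 (by simpa [hH] using (s.mem_H (Ma g)).2 e)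
      rwa [MulAction.Quotient.smul_coe, smul_eq_mul, mul_one] at this)
  refine alpha (H := M) (Λ := M ⧸ H.subgroupOf M) h.two_le (by rw [hH, hM]; exact s.idx_H)
    ((1 : M) : M ⧸ H.subgroupOf M) ((KK Z a t).subgroupOf M) (Cyc.subgroupOf sg.cyc M)
    (fun k hk => (act k 1 1).2 ?_) (by rw [card_subgroupOf_of_le KM, sg.cardK])
    (fun c c' hc hc' => ?_) (fun c => ?_) (fun g hg => ?_) fun N hN h1 x hx c => ?_
  · simpa [hH] using mem_sup_right (KD hk)
  · obtain ⟨g, rfl⟩ := QuotientGroup.mk_surjective c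
    obtain ⟨g', rfl⟩ := QuotientGroup.mk_surjective c'
    obtain ⟨k, hk, h2⟩ := s.ktr' (MP g.2) (MP g'.2) (Ma g') (nF g hc) (nF g' hc')
    exact ⟨⟨k, KM hk⟩, hk, (act _ _ _).2 (hH ▸ (s.mem_H (Ma (g'⁻¹ * (⟨k, KM hk⟩ * g)))).2 h2)⟩
  · obtain ⟨g, rfl⟩ := QuotientGroup.mk_surjective c
    exact ⟨g, (act _ _ _).2 (by simp)⟩
  · have h2 : (g : G) ∈ H := by simpa using (act g 1 1).1 hg
    rw [hH, mem_sup_of_norm (inf_le_left.trans s.MP)] at h2
    obtain ⟨p, hp, u, hu, e⟩ := h2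
    obtain ⟨j, hj⟩ := sg.gal (M_le_NA h a hu.1) (h.norm_K s.hy s.ha s.ht s.hta s.hb hu.1 hu.2)
    refine ⟨j, fun k hk c => ?_⟩
    obtain ⟨m, rfl⟩ := QuotientGroup.mk_surjective c
    rw [MulAction.Quotient.smul_coe _ (k ^ 2 ^ j), act]
    have h3 := conj_mem' (MP m.2) (mul_mem (conj_mem' (MP (k ^ 2 ^ j).2) hp) (inv_mem hp))
    convert PH h3 using 1
    simp only [smul_eq_mul, coe_mul, coe_inv, e, coe_pow, ← hj k hk]
    group
  · obtain ⟨m, rfl⟩ := QuotientGroup.mk_surjective c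
    have hNM : N.map M.subtype ⊴ M := nml_map_subtype N
    have h2 : IsPi {2} (N.map M.subtype) := isPi_iff_piElt.2 <| by
      rintro _ ⟨z, hz, rfl⟩
      obtain ⟨n, hn⟩ := h1 z hz
      have h3 : ((z ^ 2 ^ n : M) : G) ∈ PP Z y a := s.C_eq ▸ s.ker (Ma _) fun m hm => by
        have := (act _ ⟨m, hM.ge hm⟩ _).1 (hn _)
        rwa [hH, ← mul_assoc] at this
      obtain ⟨l, hl⟩ := ((h.P_two s.hy s.ha).piElt h3).exists_pow Nat.prime_two
      refine piElt_of_pow_eq_one (piNat_self_pow Nat.prime_two (n + l)) ?_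
      rw [pow_add, pow_mul, ← hl]
      exact pow_orderOf_eq_one _
    have h3 := IsPi.inf_C_ne_bot Nat.prime_two h2 (isPi_of_card Nat.prime_two sg.card)
      (hNM.le.trans (hM ▸ M_le_NA h a)) (fun e => by
        have := sg.card
        rw [e, card_bot] at this
        have := four_le h
        omega)
    have h4 := (sg.irr inf_le_left (norm_inf sg.norm (norm_C (KM.trans hNM.norm)))).resolve_left h3
    have h5 : (x : G) ∈ PP Z y a :=
      s.C_eq ▸ cents_symm (inf_eq_left.1 h4) (mem_map_of_mem M.subtype hx)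
    rw [act, ← mul_assoc]
    exact PH (conj_mem' (MP m.2) h5)

theorem false : False := by
  obtain ⟨X, hX, h1⟩ := exists_index_two (M := stabilizer G a) s.odd s.comm (fun x hx => by
    rw [show x ^ 4 = (x * x) * (x * x) by simp [pow_succ, mul_assoc], s.h.A_sq (s.sq x hx)]) s.cB
    (by
      rw [show {x | x ∈ B ∧ x * x = 1} = (AA Z a : Set G) from Set.ext fun x =>
        ⟨fun e => s.om x e.1 e.2, fun e => ⟨s.AB e, s.h.A_sq e⟩⟩, ← Nat.card_coe_set_eq]
      exact s.h.cardA a) (s.MP.trans s.NB) s.ha s.inv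
  exact s.h.sm.no_two hX h1

end St
end ZA
end H18

namespace H6
namespace ZD

open H24 H3.B71 Subgroup MulAction

variable {G Ω : Type*} [Group G] [Finite G] [MulAction G Ω] [Finite Ω] {Z : Set G}

theorem C2.not_a {d : ℕ} (h : C2 Ω Z d 1) : False := by
  obtain ⟨y, hy⟩ := h.wide
  obtain ⟨a, ha⟩ : ∃ a : Ω, y • a = a := by
    obtain ⟨c⟩ := h.sm.nontriv.to_nonempty
    obtain ⟨a, -, ha⟩ := hy.exists_ne c
    exact ⟨a, ha⟩
  obtain ⟨b, hba, hb⟩ := hy.exists_ne a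
  obtain ⟨t, ht, rfl⟩ := h.ze.exists_TT hba.symm
  obtain ⟨h1, B, h2, h3, h4, h5, h6, h7, h8, h9, h10, h11⟩ := h.struct_a hy ha ht hba hb
  exact H18.ZA.St.false ⟨h, hy, ha, ht, hba, hb, h1, h2, h3, h4, h5, h6, h7, h8, h9, h10, h11⟩

end ZD
end H6
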