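import Mathlib
import Cfsg.Agent.H6.ZII2
import Cfsg.Agent.H17.ZBa

/-! Case II (b) of the `Z`-form of Bender's theorem is impossible. -/

set_option autoImplicit false
set_option linter.unusedSectionVars false

namespace H17.ZB

open H24 H26 H3.B71 Subgroup MulAction H6.ZD

variable {G Ω : Type*} [Group G] [Finite G] [MulAction G Ω] [Finite Ω] {Z : Set G}

section
variable {d i : ℕ} (h : C2 Ω Z d i) {y g : G} {a b : Ω}
include h

theorem idx_M (hb : b ≠ a) : (stabilizer G b).relIndex (stabilizer G a) + 1 = Nat.card Ω := by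
  have e : Orb (stabilizer G a) b = Set.univ \ {a} := Set.ext fun c =>
    ⟨fun ⟨g, hg, e⟩ => ⟨trivial, e ▸ smul_ne_of_fix hg hb⟩, fun hc => h.trans hb hc.2⟩
  rw [← ncard_Orb, e, Set.ncard_sdiff_singleton_add_one (Set.mem_univ a), Set.ncard_univ]

variable (hy : Wide Ω y) (ha : y • a = a)
include hy ha

theorem y_mem_F : y ∈ FF Z y a := mem_sup_right (h.y_mem_X hy ha)

theorem y_mem_P : y ∈ PP Z y a := h.R_le_P hy ha (h.F_le_R hy ha (y_mem_F h hy ha))

theorem mem_N_F (hg : g • a = a) (e : g * y * g⁻¹ ∈ FF Z y a) : g ∈ N[FF Z y a] := by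
  rw [mem_N_iff_cj, h.cj_F, hg]
  exact (h.of_mem_F hy ha e (h.not_mem_A (hy.conj g))).2.2.1

theorem mem_F_of_comm (e : g * y * g⁻¹ * y⁻¹ ∈ AA Z a) : g * y * g⁻¹ ∈ FF Z y a := by
  simpa using mul_mem (mem_sup_left e) (y_mem_F h hy ha)

theorem fix_of_mem_F {v : G} (hv : v ∈ FF Z y a) (hw : Wide Ω v) :
    ∃ e ∈ AA Z a, ∀ c : Ω, v • c = c ↔ (y * e) • c = c := by
  obtain ⟨-, h1, -, -, e, he, h2⟩ := h.of_mem_F hy ha hv (h.not_mem_A hw)
  exact ⟨e, he, (h.of_mem_X (h.wide_mul hy ha he) (by rw [mul_smul, Az_fix he, ha])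
    (h2 ▸ h.y_mem_X hw h1) hw.1.1).2.1⟩

theorem card_le (hF : ∀ g : G, g • a = a → g * y * g⁻¹ ∈ FF Z y a) :
    Nat.card Ω ≤ 2 ^ d * ((2 ^ d) ^ i + 1) := by
  classical
  have := Fintype.ofFinite Ω
  have := Fintype.ofFinite (AA Z a)
  obtain ⟨b, hb, hyb⟩ := hy.exists_ne a
  have h1 : (Finset.univ : Finset Ω) ⊆ (Finset.univ : Finset (AA Z a)).biUnion
      fun e => Finset.univ.filter fun c => (y * e) • c = c := fun c _ => by
    simp only [Finset.mem_biUnion, Finset.mem_univ, true_and, Finset.mem_filter]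
    by_cases hc : c = a
    · exact ⟨1, by simpa [hc] using ha⟩
    obtain ⟨g, hg, rfl⟩ := h.trans hb hc
    obtain ⟨e, he, k⟩ := fix_of_mem_F h hy ha (hF g hg) (hy.conj g)
    exact ⟨⟨e, he⟩, (k _).1 (conj_fix hyb)⟩
  rw [Nat.card_eq_fintype_card, (h.cardA a).symm.trans Nat.card_eq_fintype_card |> congrArg (· * _)]
  refine (Finset.card_le_card h1).trans (Finset.card_biUnion_le_card_mul _ _ _ fun e _ => ?_)
  have hw := h.wide_mul hy ha e.2
  obtain ⟨c, hc, hyc⟩ := hw.exists_ne a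
  obtain ⟨t, -, B⟩ := h.bt' hw (by rw [mul_smul, Az_fix e.2, ha]) hyc hc
  rw [← B.ncard_fix, Set.ncard_eq_toFinset_card']
  simp

theorem norm_P (hg : g • a = a) (e : g ∈ N[FF Z y a]) : g ∈ N[PP Z y a] :=
  mem_N_of_zp (norm_inf (norm_C (zp_le_N (h.N_A a ▸ hg))) (norm_of_le (zpowers_le.2 e)))

theorem exists_fix_orb (hP : ∀ e ∈ AA Z a, ∃ g ∈ PP Z y a, g * y * g⁻¹ = y * e) (hb : y • b = b)
    (hba : b ≠ a) (hg : g • a = a) (e : g ∈ N[FF Z y a]) (hp : (orderOf g).Prime)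
    (h2 : orderOf g ≠ 2) : ∃ x ∈ PP Z y a, g • x • b = x • b := by
  have Pa : PP Z y a ≤ stabilizer G a := inf_le_left.trans (h.C_le a)
  have key : ∀ k ∈ zpowers g, k • b ∈ Orb (PP Z y a) b := fun k hk => by
    obtain ⟨u, hu, e1⟩ := fix_of_mem_F h hy ha
      (H24.conj_mem (zpowers_le.2 e hk) (y_mem_F h hy ha)) (hy.conj k)
    obtain ⟨x, hx, e2⟩ := hP u hu
    have e3 := (e1 _).1 (conj_fix (g := k) hb)
    rw [← e2, ← smul_inv_smul x (k • b)] at e3
    obtain ⟨r, hr, e4⟩ := h.R_trans hy ha hb (fix_of_conj e3) hba (smul_ne_of_fix (inv_mem (Pa hx))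
      (smul_ne_of_fix ((zpowers_le.2 hg : zpowers g ≤ stabilizer G a) hk) hba))
    exact ⟨x * r, mul_mem hx (h.R_le_P hy ha hr), by rw [mul_smul, e4, smul_inv_smul]⟩
  obtain ⟨_, ⟨x, hx, rfl⟩, k⟩ := exists_fix_of_not_dvd (S := Orb (PP Z y a) b) hp
    (piElt_of_orderOf_prime hp rfl).isPi (by
      rintro k hk _ ⟨x, hx, rfl⟩
      rw [← conj_smul]
      exact smul_mem_Orb (H24.conj_mem (zp_le_N (norm_P h hy ha hg e) hk) hx) (key k hk))
    fun k => h2 (h.P_two hy ha _ hp (k.trans (ncard_Orb_dvd _ _)))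
  exact ⟨x, hx, k (mem_zpowers g)⟩

end

variable {d : ℕ} (h : C2 Ω Z d 2) {y t : G} {a : Ω} (hy : Wide Ω y) (ha : y • a = a)
  (ht : t ∈ Z) (hta : t • a ≠ a) (hb : y • t • a = t • a)
include h

theorem idx_M' {b : Ω} (hb : b ≠ a) : (stabilizer G b).relIndex (stabilizer G a) =
    (2 ^ d) ^ 3 * (2 ^ d * (2 ^ d - 1) + 1) := by
  have := idx_M h hb
  rw [h.cardO] at this
  obtain ⟨r, hr⟩ : ∃ r, 2 ^ d = r + 1 := ⟨2 ^ d - 1, by have := Nat.one_le_two_pow (n := d); omega⟩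
  rw [hr, Nat.add_sub_cancel] at this ⊢
  nlinarith

include hy ha ht hta hb

theorem sq_inj {r s : G} (hr : r ∈ RR Z y a) (hs : s ∈ RR Z y a) (e : r * r = s * s) :
    r * s⁻¹ ∈ FF Z y a := by
  have p := (h.btT hy ha ht hta hb).pl
  have hU : Uz Z C{y} a ≤ N[XX y a] := ((Uz_le_Lz _ _ _).trans (Lz_le _ _)).trans (Ker_nml _ _).norm
  have key : ∀ r ∈ RR Z y a, ∃ u ∈ Uz Z C{y} a, u * u = r * r ∧ r * u⁻¹ ∈ FF Z y a := by
    intro r hr
    obtain ⟨x, hx, u, hu, rfl⟩ := (isProd_sup hU).mul r (by rwa [sup_comm, ← h.R_eq hy ha])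
    refine ⟨u, hu, ?_, by simpa using mem_sup_right hx⟩
    have := h.R_le_C hy ha (h.R_eq hy ha ▸ mem_sup_left hu) x (mem_sup_right hx)
    rw [mul_assoc, ← mul_assoc u, ← this, ← mul_assoc, ← mul_assoc, h.X_sq hy ha hx, one_mul]
  obtain ⟨u, hu, e1, f1⟩ := key r hr
  obtain ⟨w, hw, e2, f2⟩ := key s hs
  have := p.sq_inj h.ze rfl hu hw (by rw [e1, e2, e, mul_inv_cancel]; exact one_mem _)
  rw [AN, h.Az_eq hy ha] at this
  have := mul_mem (mul_mem f1 this) (inv_mem f2)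
  simpa [mul_assoc] using this

theorem no_ppow {p c : ℕ} (hp : p.Prime) (hc : 0 < c) (h1 : ♯(KK Z a t) ∣ p ^ c - 1) {m : ℕ}
    (hm : Odd m) (h2 : p ^ c ∣ m)
    (h3 : m ∣ (stabilizer G (t • a)).relIndex (stabilizer G a) * ♯(WW Z a (t • a))) : False := by
  have e := (h.sing hy ha ht hta hb).cardK
  refine nb_arith h.two_le (h.three rfl) hp ?_ hc (by rwa [← e, Nat.add_sub_cancel]) ?_
  · rintro rfl
    exact hm.not_two_dvd_nat ((dvd_pow_self 2 hc.ne').trans h2)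
  · refine (h2.trans h3).trans ?_
    rw [idx_M' h hta]
    exact (Nat.mul_dvd_mul_left _ (h.card_W_dvd hy ha hb hta)).trans (dvd_of_eq (by ring))

theorem case_one (h1 : ∀ v ∈ PP Z y a, v * v = 1 → v ∈ FF Z y a) : False := by
  have AC : AA Z a ⊴ C[AA Z a] := ⟨h.A_le_C a, C_le_N _⟩
  have yN := AC.norm (h.mem_C hy ha)
  have MN : stabilizer G a ≤ N[AA Z a] := (h.N_A a).ge
  have hO := coreMod_le {2}ᶜ AC
  have hS : Syl 2 (coreMod {2}ᶜ C[AA Z a] (AA Z a)) (AA Z a) := Hall.mk' (le_coreMod _ _ _)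
    (isPi_of_card Nat.prime_two (h.cardA a)) (coreMod_idx _ _ _)
  have sd := Burnside_normal_complement Nat.prime_two hS (inf_le_left.trans hO)
  have hM := norm_pcore {2}ᶜ (norm_coreMod {2}ᶜ AC (norm_C MN) MN)
  have ho := odd_O (coreMod {2}ᶜ C[AA Z a] (AA Z a))
  have hle := (pcore_le {2}ᶜ _).trans (hO.trans (h.C_le a))
  generalize O[{2}ᶜ, coreMod {2}ᶜ C[AA Z a] (AA Z a)] = O at sd hM ho hle
  have hD : O ≤ D2 G a (t • a) := by
    by_contra k
    obtain ⟨p, c, hp, hc, h2, h3⟩ := exists_ppow' (K := KK Z a t) (sol_of_odd ho)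
      (inf_le_left.trans hM) k (fun k hk => ⟨Kz_fix hk, by
        exact (h.ze.K_spec ht hta (Kz_fix hk) ((h.memK hy ha ht hta hb).1 hk).2).2.1⟩)
      fun k hk k1 g hg e => by
        have ga : g • a = a := sup_le inf_le_left hle hg
        refine ⟨ga, (h.K_fix hy ha ht hta hb hk k1 ?_).resolve_left (smul_ne_of_fix ga hta)⟩
        have := mem_stabilizer_iff.1 e.2
        rwa [mul_smul, mul_smul, inv_smul_eq_iff] at this
    refine no_ppow h hy ha ht hta hb hp hc h2 (m := p ^ c) (ho.of_dvd_nat (h3.trans ?_)) dvd_rfl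
      ((h3.trans ?_).mul_right _)
    · rw [relIndex_sup_of_norm' (inf_le_left.trans hM)]
      exact relIndex_dvd_card _ _
    · rw [← inf_relIndex_left (stabilizer G a)]
      exact Dvd.intro _ (relIndex_mul_relIndex (D2 G a (t • a)) _ (stabilizer G a) le_sup_left
        (sup_le inf_le_left hle))
  have O1 : O = ⊥ := eq_bot_iff.2 fun o ho => h.sm.faithful fun c => by
    by_cases hc : c = a
    · rw [hc]; exact hle ho
    obtain ⟨g, hg, rfl⟩ := h.trans hta hc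
    exact fix_smul (hM hg) (hD.trans inf_le_right) ho
  have e := sd.sup
  rw [O1, bot_sup_eq] at e
  have CP : ∀ g ∈ C[AA Z a], g * y * g⁻¹ * y⁻¹ ∈ AA Z a → g ∈ PP Z y a := fun g hg k =>
    ⟨hg, mem_N_F h hy ha (h.C_le a hg) (mem_F_of_comm h hy ha k)⟩
  have cc : ∀ g ∈ C[AA Z a], ∀ v ∈ C[AA Z a], cs (AA Z a) (g * v * g⁻¹ * v⁻¹) =
      cs (AA Z a) g * cs (AA Z a) v * (cs (AA Z a) g)⁻¹ * (cs (AA Z a) v)⁻¹ :=
    fun g hg v hv => ap_commutator _ (AC.norm hg) (AC.norm hv)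
  have cA : ∀ g ∈ C[AA Z a], ∀ v ∈ C[AA Z a], (g * v * g⁻¹ * v⁻¹ ∈ AA Z a ↔
      cs (AA Z a) g * cs (AA Z a) v * (cs (AA Z a) g)⁻¹ = cs (AA Z a) v) := fun g hg v hv => by
    rw [← cs_eq_one (AC.norm (mul_mem (mul_mem (mul_mem hg hv) (inv_mem hg)) (inv_mem hv))),
      cc g hg v hv, mul_inv_eq_one]
  have yC := h.mem_C hy ha
  have CP' : C[AA Z a] ≤ PP Z y a := fun g hg => by
    have := zstar_iso (Y := quo C[AA Z a] (AA Z a)) (u := cs (AA Z a) y)
      ⟨fun k => h.not_mem_A hy ((cs_eq_one yN).1 k), by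
        unfold cs; rw [← ap_mul _ yN yN, hy.1.2, ap_one]⟩ (cs_mem_quo yC yN) (fun z hz k => by
        obtain ⟨g, hg, hgN, rfl⟩ := mem_quo.1 hz
        have gy := mul_mem (mul_mem hg yC) (inv_mem hg)
        rw [← ap_conj _ hgN yN] at k
        have := CP _ gy ((cA _ gy y yC).2 (mul_inv_eq_iff_eq_mul.2 k.symm))
        exact (cA g hg y yC).1 (h.P_cent hy ha ⟨hg, mem_N_F h hy ha (h.C_le a hg)
          (h1 _ this (hy.1.conj g).2)⟩ (y_mem_F h hy ha))) (cs_mem_quo hg (AC.norm hg))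
    rw [← quo_coreMod, ← e, quo_self, mem_bot, mul_inv_eq_one] at this
    have := inv_mem ((cA y yC g hg).2 this)
    exact CP g hg (by simpa [mul_assoc] using this)
  have := card_le h hy ha fun g hg => h1 _ (CP' (H24.conj_mem (mem_N_of_zp
    (norm_C (zp_le_N (MN hg)))) yC)) (hy.1.conj g).2
  rw [← idx_M h hta, idx_M' h hta] at this
  have q4 : 4 ≤ 2 ^ d := Nat.pow_le_pow_right (n := 2) two_pos h.two_le
  obtain ⟨r, hr⟩ : ∃ r, 2 ^ d = r + 4 := ⟨2 ^ d - 4, by omega⟩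
  rw [hr, show r + 4 - 1 = r + 3 from rfl] at this
  nlinarith [Nat.zero_le (r ^ 5), Nat.zero_le (r ^ 4), Nat.zero_le (r ^ 3), Nat.zero_le (r ^ 2)]

theorem sq_mem {v g : G} (hv : v ∈ PP Z y a) (h2 : v * v = 1) (hF : v ∉ FF Z y a)
    (hg : g ∈ PP Z y a) : g * g ∈ AA Z a := by
  by_cases k : g ∈ RR Z y a
  · exact h.sq_mem_A hy ha k
  obtain ⟨k, hk, e⟩ := h.K_trans_P hy ha ht hta hb hv hg (fun k => hF (h.mem_F_of_sq hy ha k h2)) k
  have hw := H24.conj_mem ((h.K_norm hy ha ht hta hb).2.2 hk) hv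
  have hw2 : k * v * k⁻¹ * (k * v * k⁻¹) = 1 := by rw [conj_mul, h2]; simp
  generalize k * v * k⁻¹ = w at e hw hw2
  have hr := inv_mem e
  obtain ⟨r, er⟩ : ∃ r, r = (w * g⁻¹)⁻¹ := ⟨_, rfl⟩
  obtain rfl : g = r * w := by rw [er]; group
  rw [← er] at hr
  have hr' : w * r * w⁻¹ ∈ RR Z y a := ⟨H24.conj_mem (norm_self _ hw.1) hr.1, mem_C1.2 (by
    have := h.R_le_C hy ha hr _ (H24.conj_mem (Subgroup.inv_mem _ hw.2) (y_mem_F h hy ha))
    calc w * r * w⁻¹ * y = w * (r * (w⁻¹ * y * w⁻¹⁻¹)) * w⁻¹ := by group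
      _ = _ := by rw [← this]; group)⟩
  have h3 := sq_inj h hy ha ht hta hb hr' hr (by
    rw [conj_mul, ← hw.1 _ (h.sq_mem_A hy ha hr), mul_inv_cancel_right])
  have h4 : r * w * (r * w) ∈ FF Z y a := by
    have := mul_mem (H24.conj_mem (h.R_le_P hy ha hr).2 h3) (mem_sup_left (h.sq_mem_A hy ha hr))
    rwa [show r * (w * r * w⁻¹ * r⁻¹) * r⁻¹ * (r * r) = r * w * (r * w⁻¹) by group,
      inv_eq_of_mul_eq_one_right hw2] at this
  by_contra k'
  exact h.not_wide_sq hg.1 (h.of_mem_F hy ha h4 k').1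

theorem case_two {v : G} (hv : v ∈ PP Z y a) (h2 : v * v = 1) (hF : v ∉ FF Z y a) : False := by
  have S := h.sing hy ha ht hta hb
  have Pa : PP Z y a ≤ stabilizer G a := inf_le_left.trans (h.C_le a)
  obtain ⟨cP, hP⟩ := (h.P_cases hy ha).resolve_left fun e =>
    hF (h.mem_F_of_sq hy ha (e ▸ hv) h2)
  have hw : Wide Ω v := (h.inv_cases ⟨fun e => hF (by rw [e]; exact one_mem _), h2⟩ (Pa hv)).resolve_left
    fun e => hF (mem_sup_left e)
  obtain ⟨g, hga, -, gF, gP⟩ := h.F_conj hy ha hw (Pa hv)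
  have eP : PP Z y a = PP Z v a := eq_of_card_eq (fun x hx => ⟨hx.1, mem_N_F h hw (Pa hv) (Pa hx)
    (mem_F_of_comm h hw (Pa hv) (by
      have := mul_mem (sq_mem h hy ha ht hta hb hv h2 hF (mul_mem hx hv))
        (H24.conj_mem (C_le_N _ hv.1) (Subgroup.inv_mem _ (sq_mem h hy ha ht hta hb hv h2 hF hx)))
      rwa [show x * v * (x * v) * (v * (x * x)⁻¹ * v⁻¹) = x * v * x * (v * v) * x⁻¹ * x⁻¹ * v⁻¹ by
        group, h2, mul_one, mul_inv_cancel_right] at this))⟩) (by rw [← gP, H24.card_cj])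
  have WD : WW Z a (t • a) ⊴ D2 G a (t • a) := ⟨inf_le_inf_right _ (h.C_le a),
    norm_inf (norm_C (inf_le_left.trans (h.N_A a).ge)) (norm_of_le inf_le_right)⟩
  have sX := h.syl_X hy ha hb hta
  have hd : Odd d := by
    have := h.three rfl
    by_contra k
    obtain ⟨m, rfl⟩ := Nat.not_odd_iff_even.1 k
    exact this (by simpa [← two_mul, pow_mul] using Nat.sub_dvd_pow_sub_pow 4 1 m)
  have sD : Syl 2 (D2 G a (t • a)) (XX y a) := syl_of_max Nat.prime_two sX.pi (sX.le.trans WD.le)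
    fun Q hQ h3 h4 => (sX.eq_of_le hQ h3 fun x hx => ⟨by
      obtain ⟨n, hn⟩ := hQ.card_eq_pow Nat.prime_two
      exact S.two_odd hd (h.N_A a ▸ (h4 hx).1) (h.norm_K hy ha ht hta hb (h4 hx).1 (h4 hx).2)
        (n := n) (by rw [← hn, H21.pow_card_eq_one_of_mem hx]; exact one_mem _), (h4 hx).2⟩).le
  have cM : ♯(stabilizer G a) =
      ♯(D2 G a (t • a)) * (stabilizer G (t • a)).relIndex (stabilizer G a) := by
    rw [← card_mul_relIndex (inf_le_left : D2 G a (t • a) ≤ _), inf_relIndex_left]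
  have oP : Odd ((PP Z y a).relIndex (stabilizer G a)) := by
    have e := card_mul_relIndex Pa
    rw [cM, cP, h.card_R hy ha, ← sD.card, idx_M' h hta] at e
    rw [Nat.eq_of_mul_eq_mul_left (n := 2 ^ d * ((2 ^ d) ^ 2 * ♯(XX y a)))
      (m := (PP Z y a).relIndex (stabilizer G a)) (k := (XX y a).relIndex (D2 G a (t • a)) * (2 ^ d * (2 ^ d - 1) + 1))
      (by have := card_pos (XX y a); positivity) (by rw [e]; ring)]
    refine (Nat.not_even_iff_odd.1 fun k => sD.not_dvd Nat.prime_two k.two_dvd).mul ?_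
    exact (((even_two.pow_of_ne_zero (by have := h.two_le; omega)).mul_right _).add_one)
  have PH : PP Z y a ≤ stabilizer G a ⊓ N[FF Z y a] := le_inf Pa inf_le_right
  have HH : stabilizer G a ⊓ N[FF Z y a] ≤ stabilizer G a ⊓ N[PP Z y a] := fun x hx =>
    ⟨hx.1, norm_P h hy ha hx.1 hx.2⟩
  have XH : D2 G a (t • a) ⊓ N[XX y a] ≤ stabilizer G a ⊓ N[FF Z y a] :=
    le_inf (inf_le_left.trans inf_le_left) (norm_sup
      ((inf_le_left.trans inf_le_left).trans (h.N_A a).ge) inf_le_right)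
  have sol : Sol (stabilizer G a ⊓ N[PP Z y a]) :=
    sol_of_quo inf_le_right ((h.P_two hy ha).sol Nat.prime_two) (sol_of_odd (by
      rw [card_quo inf_le_right]
      exact oP.of_dvd_nat (Dvd.intro _ (relIndex_mul_relIndex _ _ _ (PH.trans HH) inf_le_left))))
  obtain ⟨p, c, hp, hc, h3, h4⟩ := exists_ppow' (K := KK Z a t) sol (norm_of_le HH)
    (fun k => hF (by
      rw [← cj_of_mem_N (k ⟨hga, mem_N_iff_cj.2 (gP.trans eP.symm)⟩).2, gF]
      exact y_mem_F h hw (Pa hv)))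
    (fun k hk => ⟨Kz_fix hk, (h.K_norm hy ha ht hta hb).1 hk⟩) fun k hk k1 x hx e => by
      rw [sup_eq_right.2 HH] at hx
      obtain ⟨l, hl, lp⟩ := exists_prime_mem_zp k1
      have lK := zpowers_le.2 hk hl
      have e' : x⁻¹ * l * x ∈ stabilizer G a ⊓ N[FF Z y a] := by
        obtain ⟨n, rfl⟩ := hl
        have := zpow_mem e n
        rwa [← inv_inv x, inv_inv x⁻¹, conj_zpow, inv_inv] at this
      have ol : orderOf (x⁻¹ * l * x) = orderOf l := by
        rw [← inv_inv x, inv_inv x⁻¹]; exact H24.orderOf_conj _ _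
      obtain ⟨u, hu, e1⟩ := exists_fix_orb h hy ha hP hb hta e'.1 e'.2 (ol ▸ lp) (by
        rw [ol]
        intro k
        have := (h.ze.K_spec ht hta (Kz_fix lK) ((h.memK hy ha ht hta hb).1 lK).2).1
        rw [k] at this
        exact absurd this (by decide))
      rw [mul_smul, mul_smul, inv_smul_eq_iff, ← mul_smul x u] at e1
      have xa : (x * u) • a = a := mul_mem hx.1 (Pa hu)
      have xb := (h.K_fix hy ha ht hta hb lK (ne_one_of_orderOf_prime lp) e1).resolve_left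
        (smul_ne_of_fix xa hta)
      refine (mul_mem_cancel_right (PH hu)).1 (XH ⟨⟨xa, xb⟩, ?_⟩)
      rw [← h.P_inf hy ha hb hta]
      exact mem_N_of_zp (norm_inf (zp_le_N (mul_mem hx.2 (norm_self _ hu)))
        (norm_of_le (zpowers_le.2 xb)))
  rw [sup_eq_right.2 HH] at h4
  refine no_ppow h hy ha ht hta hb hp hc h3
    (m := (stabilizer G a ⊓ N[FF Z y a]).relIndex (stabilizer G a))
    (oP.of_dvd_nat (relIndex_dvd_of_le_left _ PH))
    (h4.trans (Dvd.intro _ (relIndex_mul_relIndex _ _ _ HH inf_le_left))) ?_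
  refine Nat.dvd_of_mul_dvd_mul_left (card_pos (stabilizer G a ⊓ N[FF Z y a])) ?_
  rw [card_mul_relIndex inf_le_left, cM, mul_comm, mul_left_comm]
  exact Nat.mul_dvd_mul_left _ ((Frattini_arg Nat.prime_two WD sX).card_dvd.trans
    ((Nat.mul_dvd_mul_left _ (card_dvd XH)).trans (dvd_of_eq (mul_comm _ _))))

end H17.ZB

namespace H6
namespace ZD

open H24 H3.B71 Subgroup MulAction

variable {G Ω : Type*} [Group G] [Finite G] [MulAction G Ω] [Finite Ω] {Z : Set G}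

theorem C2.not_b {d : ℕ} (h : C2 Ω Z d 2) : False := by
  obtain ⟨y, hy⟩ := h.wide
  obtain ⟨a, b, ha, hb, hab⟩ : ∃ a b : Ω, y • a = a ∧ y • b = b ∧ a ≠ b := by
    by_contra! k
    exact hy.2 k
  obtain ⟨t, ht, rfl⟩ := h.ze.exists_TT hab
  exact H17.ZB.case_one h hy ha ht hab.symm hb fun v hv h2 =>
    by_contra (H17.ZB.case_two h hy ha ht hab.symm hb hv h2)

end ZD
end H6
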