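import Mathlib
import Cfsg.Agent.H6.ZB
import Cfsg.Agent.H3.B71Red

/-! The inductive step of the `Z`-form of Bender's theorem: proper subgroups with a pair. -/

set_option autoImplicit false
set_option linter.unusedSectionVars false
set_option linter.unusedVariables false

namespace H6
namespace ZD

open H24 H3.B71 Subgroup MulAction

universe u

section General

variable {G Ω : Type*} [Group G] [Finite G] [MulAction G Ω] [Finite Ω] {Z : Set G}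

theorem ZE.eq_bot_of_fix (h : ZE Ω Z) (hf : ∀ g : G, (∀ c : Ω, g • c = c) → g = 1)
    {M : Subgroup G} (hM : M.Normal) {a : Ω} (ha : M ≤ stabilizer G a) : M = ⊥ :=
  eq_bot_iff.mpr fun x hx => hf x fun c => by
    obtain ⟨g, rfl⟩ := h.exists_smul a c
    have h1 : (g⁻¹ * x * g⁻¹⁻¹) • a = a := ha (hM.conj_mem x hx g⁻¹)
    rw [inv_inv, mul_smul, mul_smul, inv_smul_eq_iff] at h1
    exact h1

theorem ZE.odd_eq_bot [Nontrivial Ω] (h : ZE Ω Z) (hf : ∀ g : G, (∀ c : Ω, g • c = c) → g = 1)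
    {a : Ω} (hP : Pair Z ⊤ a) {M : Subgroup G} (hM : M.Normal) (ho : Odd ♯M) : M = ⊥ := by
  obtain ⟨u, hu, v, hv, hne, hc⟩ := hP
  have hN : ∀ x : G, x ∈ N[M] := fun x => (nml_top_iff.mpr hM).2 (mem_top x)
  have iu := h.inv u hu.1
  have iv := h.inv v hv.1
  refine h.eq_bot_of_fix hf hM (a := a) (gen_four iu iv hne hc ho (hN u) (hN v) fun x hx hi g hg => ?_)
  have hxa : x • a = a :=
    (sup_le (zpowers_le.mpr hu.2.2) (zpowers_le.mpr hv.2.2) : _ ≤ stabilizer G a) hx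
  have hx' : x = u ∨ x = v ∨ x = u * v := by
    have hcm : Commute u v := hc
    obtain ⟨y, hy, w, hw, rfl⟩ := (mem_sup_of_norm (zpowers_le.mpr (show v ∈ N[zpowers u] from
      C_le_N _ (by rw [C_zpowers]; exact mem_C1.mpr hc.symm)))).mp hx
    rcases iu.mem_zp hy with rfl | rfl <;> rcases iv.mem_zp hw with rfl | rfl
    · exact absurd (mul_one 1) hi.1
    · simp
    · simp
    · simp
  have hz : x ∈ Z := by
    rcases hx' with rfl | rfl | rfl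
    · exact hu.1
    · exact hv.1
    · exact h.mem_of_nar' hf hi (h.pd u hu.1 v hv.1 hne hc)
  exact h.fix_of_comm hz hxa (mem_C1.mp (show g ∈ C{x} from hg.2)).symm

theorem ZE.simple_of_gen [Nontrivial Ω] (h : ZE Ω Z) (hf : ∀ g : G, (∀ c : Ω, g • c = c) → g = 1)
    {a : Ω} (hP : Pair Z ⊤ a) (hg : closure Z = ⊤) : IsSimpleGroup G := by
  obtain ⟨u, hu, -⟩ := id hP
  have iu := h.inv u hu.1
  have : Nontrivial G := ⟨⟨u, 1, iu.1⟩⟩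
  have hy : ∃ y ∈ (⊤ : Subgroup G), y • a ≠ a := by
    obtain ⟨b, hb⟩ := exists_ne a
    obtain ⟨g, rfl⟩ := h.exists_smul a b
    exact ⟨g, mem_top g, hb⟩
  refine ⟨fun M hM => ?_⟩
  by_cases h1 : ∃ z ∈ Z, z ∈ M
  · obtain ⟨z, hz, hzM⟩ := h1
    have huM : u ∈ M := by
      obtain ⟨g, -, rfl⟩ := h.conj_of_mem hu hy hz (mem_top z)
      simpa [mul_assoc] using hM.conj_mem _ hzM g⁻¹
    refine Or.inr (eq_top_iff.mpr (hg ▸ (closure_le _).mpr fun w hw => ?_))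
    obtain ⟨g, -, rfl⟩ := h.conj_of_mem hu hy hw (mem_top w)
    exact hM.conj_mem _ huM g
  left
  push Not at h1
  have hO : O[{2}ᶜ, M] = ⊥ := h.odd_eq_bot hf hP
    (nml_top_iff.mp ((nml_top_iff.mpr hM).pcore _)) (odd_O M)
  refine h.eq_bot_of_fix hf hM (a := a) fun y hy => h.fix_of_comm hu.1 hu.2.2 ?_
  have key := zstar_iso (Y := M ⊔ zpowers u) iu (mem_sup_right (mem_zpowers u))
    (fun g hg e => by
      by_contra hne
      refine h1 _ (h.mem_of_nar' hf (iu.mul (iu.conj g) (Ne.symm hne) e)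
        (h.pd u hu.1 _ (h.conj u hu.1 g) (Ne.symm hne) e)) ?_
      obtain ⟨m, hm, w, hw, rfl⟩ := (mem_sup_of_norm (zpowers_le.mpr
        ((nml_top_iff.mpr hM).2 (mem_top u)))).mp hg
      have e1 : w * u * w⁻¹ = u := by
        rcases iu.mem_zp hw with rfl | rfl <;> simp
      have e2 : u * (m * w * u * (m * w)⁻¹) = u * m * u⁻¹ * m⁻¹ := by
        rw [iu.inv]
        nth_rw 4 [← e1]
        group
      rw [e2]
      exact M.mul_mem (hM.conj_mem m hm u) (M.inv_mem hm)) (mem_sup_left hy)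
  have h2 : u * y * u⁻¹ * y⁻¹ ∈ O[{2}ᶜ, M] :=
    pcore_inf_le _ le_sup_left ⟨key, M.mul_mem (hM.conj_mem y hy u) (M.inv_mem hy)⟩
  rwa [hO, mem_bot, mul_inv_eq_one, mul_inv_eq_iff_eq_mul] at h2

theorem setup_rebase (h : SE G Ω) {a : Ω} {t t' : G} {Q : Subgroup G}
    (hS : Cfsg.IsRankOneSetup G Ω a t Q) (ht : Inv t') (hb : t' • a ≠ a) :
    Cfsg.IsRankOneSetup G Ω a t' Q := by
  refine ⟨hS.two_transitive, ht.2, ht.1, hb, hS.le, hS.conj_mem, eq_bot_iff.mpr fun x hx =>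
    H21.RankOne.eq_one_of_mem_Q_of_fix hS hx.1 hb hx.2, ?_, hS.even_card, h.odd_stab hb.symm⟩
  refine le_antisymm (sup_le hS.le inf_le_left) fun g hg => ?_
  have hg' : g • a = a := hg
  obtain ⟨x, hx, e⟩ := H21.RankOne.exists_Q_smul hS hb (H21.RankOne.smul_ne_of_fix hg' hb)
  rw [← mul_inv_cancel_left x g]
  refine mul_mem_sup hx ⟨(stabilizer G a).mul_mem ((stabilizer G a).inv_mem (hS.le hx)) hg, ?_⟩
  show (x⁻¹ * g) • t' • a = t' • a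
  rw [mul_smul, ← e, inv_smul_smul]

theorem two_mem_Q {a : Ω} {t : G} {Q : Subgroup G} (hS : Cfsg.IsRankOneSetup G Ω a t Q) {x : G}
    (hx : x • a = a) {n : ℕ} (hn : x ^ 2 ^ n = 1) : x ∈ Q := by
  obtain ⟨q, hq, d, hd, rfl⟩ := H21.RankOne.exists_QD hS hx
  have key : ∀ k : ℕ, (q * d) ^ k * (d ^ k)⁻¹ ∈ Q := fun k => by
    induction k with
    | zero => simp
    | succ k ih =>
      rw [show (q * d) ^ (k + 1) * (d ^ (k + 1))⁻¹ =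
        (q * d) ^ k * (d ^ k)⁻¹ * (d ^ k * q * (d ^ k)⁻¹) by rw [pow_succ, pow_succ]; group]
      exact Q.mul_mem ih (hS.conj_mem _ ((stabilizer G a).pow_mem hd.1 k) q hq)
  have h1 := key (Nat.card ↥(stabilizer G a ⊓ stabilizer G (t • a)))
  rw [H21.RankOne.pow_card_D hd, inv_one, mul_one] at h1
  exact H26.BR.mem_of_pow_coprime (Nat.Coprime.pow_right n
    (Nat.coprime_two_right.mpr hS.odd_card)) h1 (hn ▸ Q.one_mem)

end General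

variable {G Ω : Type u} [Group G] [Finite G] [MulAction G Ω] [Finite Ω] {Z : Set G}

open H26.BR in
/-- the image of `Z ∩ Y` -/
def Zim (Z : Set G) (Y : Subgroup G) (a : Ω) : Set (Im (Lz Z Y) a) :=
  {x | ∃ z : Lz Z Y, (z : G) ∈ Z ∧ pr (Lz Z Y) a z = x}

theorem mem_orbit_iff_Orb {Y : Subgroup G} {a c : Ω} : c ∈ orbit Y a ↔ c ∈ Orb Y a :=
  ⟨fun ⟨y, e⟩ => ⟨y, y.2, e⟩, fun ⟨y, hy, e⟩ => ⟨⟨y, hy⟩, e⟩⟩

open H26.BR in
theorem ze_im (h : ZE Ω Z) {Y : Subgroup G} {a : Ω} {u : G} (hu : u ∈ ZA Z Y a)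
    (hy : ∃ y ∈ Lz Z Y, y • a ≠ a) : ZE (orbit (Lz Z Y) a) (Zim Z Y a) := by
  have hn : ∀ z : Lz Z Y, (z : G) ∈ Z → Nar (orbit (Lz Z Y) a) (pr (Lz Z Y) a z) :=
    fun z hz b c hb hc => Subtype.ext (h.nar z hz _ _ (pr_fix.mp hb) (pr_fix.mp hc))
  have hs : ∀ z : Lz Z Y, (z : G) ∈ Z → pr (Lz Z Y) a z * pr (Lz Z Y) a z = 1 := fun z hz => by
    rw [← map_mul, show z * z = 1 from Subtype.ext (h.inv z hz).2, map_one]
  refine ⟨?_, ?_, ?_, ?_, ?_, ?_⟩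
  · rintro _ ⟨z, hz, rfl⟩
    refine ⟨fun e => ?_, hs z hz⟩
    obtain ⟨b, c, hbc⟩ := nontrivial_orbit hy
    exact hbc (hn z hz b c (by rw [e, one_smul]) (by rw [e, one_smul]))
  · rintro _ ⟨z, hz, rfl⟩ g
    obtain ⟨g, rfl⟩ := pr_surj g
    exact ⟨g * z * g⁻¹, h.conj z hz g, by rw [map_mul, map_mul, map_inv]⟩
  · rintro _ ⟨z, hz, rfl⟩
    obtain ⟨c, hc⟩ := h.ex z hz
    have := h.mem_Orb hu (c := c) ⟨hz, Lz_le Z Y z.2, hc⟩
    rw [← h.orb_Lz hu] at this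
    exact ⟨⟨c, mem_orbit_iff_Orb.mpr this⟩, pr_fix.mpr hc⟩
  · rintro _ ⟨z, hz, rfl⟩
    exact hn z hz
  · rintro ⟨c, ⟨y, rfl⟩⟩
    exact ⟨_, ⟨y * ⟨u, mem_Lz hu.1 hu.2.1⟩ * y⁻¹, h.conj u hu.1 y, rfl⟩,
      pr_fix.mpr (conj_fix (g := (y : G)) hu.2.2)⟩
  · rintro _ ⟨v, hv, rfl⟩ _ ⟨w, hw, rfl⟩ hne hc b c hb hc'
    by_contra hbc
    rw [← map_mul] at hb hc'
    have ho := h.odd_of_fix hv hw (fun e => hbc (Subtype.ext e)) (pr_fix.mp hb) (pr_fix.mp hc')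
    have h1 : (pr (Lz Z Y) a v * pr (Lz Z Y) a w) ^ 2 = 1 := by
      rw [(show Commute _ _ from hc).mul_pow, pow_two, pow_two, hs v hv, hs w hw, one_mul]
    have h2 : (pr (Lz Z Y) a v * pr (Lz Z Y) a w) ^ orderOf ((v : G) * w) = 1 := by
      rw [← map_mul, ← map_pow, ← Subgroup.coe_mul, Subgroup.orderOf_coe, pow_orderOf_eq_one,
        map_one]
    obtain ⟨m, hm⟩ := ho
    rw [hm, pow_succ, pow_mul, h1, one_pow, one_mul] at h2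
    exact hne (by rw [← mul_one (pr (Lz Z Y) a w), ← h2, hc, ← mul_assoc, hs w hw, one_mul])

/-- the image of `L = ⟨Z ∩ Y⟩` on the orbit is a simple Bender group (file `ZLoc0`) -/
theorem hyp_im (ih : IH.{u} (Nat.card G)) (h : Sm Ω Z) {Y : Subgroup G} {a : Ω} {t : G}
    (hY : Y ≠ ⊤) (hP : Pair Z Y a) (ht : t ∈ Z) (htY : t ∈ Y) (hta : t • a ≠ a) :
    IsSimpleGroup (H26.BR.Im (Lz Z Y) a) ∧
    (∀ x : H26.BR.Im (Lz Z Y) a, Inv x →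
      ∃ z : Lz Z Y, (z : G) ∈ Z ∧ H26.BR.pr (Lz Z Y) a z = x) ∧
    ∃ Q s r, H8.Suz.Hyp (H26.BR.Im (Lz Z Y) a) (orbit (Lz Z Y) a) (H26.BR.base (Lz Z Y) a)
      (H26.BR.pr (Lz Z Y) a ⟨t, mem_Lz ht htY⟩) Q s r := by
  obtain ⟨u, hu, v, hv, hne, hc⟩ := hP
  have hy : ∃ y ∈ Lz Z Y, y • a ≠ a := ⟨t, mem_Lz ht htY, hta⟩
  have := H26.BR.nontrivial_orbit hy
  have ze := ze_im h.ze hu hy
  have hP' : Pair (Zim Z Y a) ⊤ (H26.BR.base (Lz Z Y) a) := by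
    refine ⟨_, ⟨⟨⟨u, mem_Lz hu.1 hu.2.1⟩, hu.1, rfl⟩, mem_top _, H26.BR.pr_fix.mpr hu.2.2⟩, _,
      ⟨⟨⟨v, mem_Lz hv.1 hv.2.1⟩, hv.1, rfl⟩, mem_top _, H26.BR.pr_fix.mpr hv.2.2⟩, fun e => ?_, ?_⟩
    · refine hta (h.ze.pd u hu.1 v hv.1 hne hc _ _ ?_ ?_)
      · have h1 := H26.BR.pr_smul (a := a) (⟨u, mem_Lz hu.1 hu.2.1⟩ : Lz Z Y)
          ⟨v • t • a, ⟨⟨v * t, (Lz Z Y).mul_mem (mem_Lz hv.1 hv.2.1) (mem_Lz ht htY)⟩,
            mul_smul v t a⟩⟩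
        rw [e, H26.BR.pr_smul] at h1
        rw [mul_smul]
        exact h1.symm.trans ((h.ze.inv v hv.1).smul_smul _)
      · rw [mul_smul, hv.2.2, hu.2.2]
    · rw [← map_mul, ← map_mul]
      exact congrArg _ (Subtype.ext hc)
  have hg : closure (Zim Z Y a) = ⊤ := eq_top_iff.mpr fun x _ => by
    obtain ⟨⟨y, hy⟩, rfl⟩ := H26.BR.pr_surj x
    induction hy using closure_induction with
    | mem z hz => exact subset_closure ⟨_, hz.1, rfl⟩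
    | one => exact (map_one (H26.BR.pr (Lz Z Y) a)) ▸ one_mem _
    | mul x y hx hy h1 h2 =>
      have := mul_mem (h1 (mem_top _)) (h2 (mem_top _))
      rwa [← map_mul] at this
    | inv x hx h1 =>
      have := inv_mem (h1 (mem_top _))
      rwa [← map_inv] at this
  have hs := ze.simple_of_gen H26.BR.im_faithful hP' hg
  have hlt : Nat.card (H26.BR.Im (Lz Z Y) a) < Nat.card G :=
    H26.BR.card_im_le.trans_lt ((card_le_of_le (Lz_le Z Y)).trans_lt (by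
      have := card_lt (lt_top_iff_ne_top.mpr hY)
      rwa [card_top] at this))
  have hall : ∀ x : H26.BR.Im (Lz Z Y) a, Inv x → x ∈ Zim Z Y a := fun x hx =>
    ze.mem_of_nar' H26.BR.im_faithful hx (by
      by_contra e
      exact ih _ _ _ hlt hs this ze x ⟨hx, e⟩)
  have se : SE (H26.BR.Im (Lz Z Y) a) (orbit (Lz Z Y) a) :=
    ⟨fun z hz => ze.ex z (hall z hz), fun z hz => ze.nar z (hall z hz), fun c => by
      obtain ⟨z, hz, e⟩ := ze.pt c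
      exact ⟨z, ze.inv z hz, e⟩⟩
  obtain ⟨x, hx, y, hy', h1, h2⟩ := hP'
  have ix := ze.inv x hx.1
  have iy := ze.inv y hy'.1
  obtain ⟨t0, Q, s, r, hH⟩ := bender se H26.BR.im_faithful ⟨x, y, ix.1, iy.1, h1, ix.2, iy.2, h2⟩
    (H26.BR.base (Lz Z Y) a)
  exact ⟨hs, hall, Q, H8.Suz.exists_hyp_of_simple (setup_rebase se hH.setup
    (ze.inv _ ⟨_, ht, rfl⟩) fun e => hta (H26.BR.pr_fix.mp e))⟩

/-- the elements of `Y` acting on the orbit like an element of `Q` -/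
def Qup (Z : Set G) (Y : Subgroup G) (a : Ω) (Q : Subgroup (H26.BR.Im (Lz Z Y) a)) :
    Subgroup G where
  carrier := {y | y ∈ Y ∧ ∃ l : Lz Z Y, H26.BR.pr (Lz Z Y) a l ∈ Q ∧ (l : G)⁻¹ * y ∈ Ker Y a}
  mul_mem' := by
    rintro x y ⟨hx, l, hl, h1⟩ ⟨hy, m, hm, h2⟩
    refine ⟨Y.mul_mem hx hy, l * m, by rw [map_mul]; exact Q.mul_mem hl hm, ?_⟩
    rw [show ((l * m : Lz Z Y) : G)⁻¹ * (x * y) =
      (m : G)⁻¹ * ((l : G)⁻¹ * x) * (m : G)⁻¹⁻¹ * ((m : G)⁻¹ * y) by push_cast; group]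
    exact (Ker Y a).mul_mem ((mem_N.mp ((Ker_nml Y a).2 (Y.inv_mem (Lz_le Z Y m.2))) _).mp h1) h2
  one_mem' := ⟨Y.one_mem, 1, by rw [map_one]; exact Q.one_mem, by simp⟩
  inv_mem' := by
    rintro x ⟨hx, l, hl, h1⟩
    refine ⟨Y.inv_mem hx, l⁻¹, by rw [map_inv]; exact Q.inv_mem hl, ?_⟩
    rw [show ((l⁻¹ : Lz Z Y) : G)⁻¹ * x⁻¹ = l * ((l : G)⁻¹ * x)⁻¹ * (l : G)⁻¹ by push_cast; group]
    exact (mem_N.mp ((Ker_nml Y a).2 (Lz_le Z Y l.2)) _).mp ((Ker Y a).inv_mem h1)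

/-- file `ZLoc0` -/
theorem lz_of_ih (ih : IH.{u} (Nat.card G)) (h : Sm Ω Z) {Y : Subgroup G} {a : Ω}
    (hY : Y ≠ ⊤) (hP : Pair Z Y a) (hy : ∃ y ∈ Y, y • a ≠ a) : ∃ Q, LZ Z Y a Q := by
  obtain ⟨u0, hu0, -⟩ := id hP
  obtain ⟨y0, hy0, hy1⟩ := hy
  obtain ⟨t, ht, htY, hta⟩ := h.ze.exists_TT_of hu0 ⟨y0, hy0, rfl⟩ hy1
  obtain ⟨-, -, Q, s, r, hH⟩ := hyp_im ih h hY hP ht htY (hta ▸ hy1)
  have ho := h.ze.orb_Lz hu0
  have hk : ∀ {l : Lz Z Y}, H26.BR.pr (Lz Z Y) a l = 1 ↔ (l : G) ∈ Ker Y a := fun {l} => by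
    rw [H26.BR.pr_eq_one, mem_Ker', mem_Ker', ho]
    exact ⟨fun e => ⟨Lz_le Z Y l.2, e.2⟩, fun e => ⟨l.2, e.2⟩⟩
  have hnk : ∀ {g n : G}, g ∈ Y → n ∈ Ker Y a → g * n * g⁻¹ ∈ Ker Y a := fun hg hn =>
    (mem_N.mp ((Ker_nml Y a).2 hg) _).mp hn
  have hsm : ∀ {l x : G} {c : Ω}, (l : G)⁻¹ * x ∈ Ker Y a → c ∈ Orb Y a → x • c = l • c :=
    fun {l x c} h1 hc => by rw [← mul_inv_cancel_left l x, mul_smul, Ker_smul h1 hc]
  have hZ : ∀ u (hu : u ∈ ZA Z Y a), H26.BR.pr (Lz Z Y) a ⟨u, mem_Lz hu.1 hu.2.1⟩ ∈ Q ∧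
      H26.BR.pr (Lz Z Y) a ⟨u, mem_Lz hu.1 hu.2.1⟩ *
        H26.BR.pr (Lz Z Y) a ⟨u, mem_Lz hu.1 hu.2.1⟩ = 1 := fun u hu => by
    have h1 : H26.BR.pr (Lz Z Y) a ⟨u, mem_Lz hu.1 hu.2.1⟩ *
        H26.BR.pr (Lz Z Y) a ⟨u, mem_Lz hu.1 hu.2.1⟩ = 1 := by
      rw [← map_mul, ← map_one (H26.BR.pr (Lz Z Y) a)]
      exact congrArg _ (Subtype.ext (h.ze.inv u hu.1).2)
    exact ⟨H21.RankOne.invol_mem_Q hH.setup (H26.BR.pr_fix.mpr hu.2.2) h1, h1⟩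
  refine ⟨Qup Z Y a Q, fun x hx => hx.1, ?_, fun x hx => ⟨hx.1, 1, ?_, by simpa using hx⟩,
    fun y hy hya => ?_, ?_, fun c hc c' hc' h1 h2 => ?_, ?_, fun u hu => ?_, ?_⟩
  · rintro x ⟨hx, l, hl, h1⟩
    rw [hsm h1 (mem_Orb_self Y a)]
    exact H26.BR.pr_fix.mp (H21.RankOne.Q_fix hH.setup hl)
  · rw [map_one]; exact Q.one_mem
  · refine mem_N_of_finite ?_
    rintro x ⟨hx, l, hl, h1⟩
    have hyL : y ∈ N[Lz Z Y] := norm_Lz h.ze (Subgroup.le_normalizer hy)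
    refine ⟨Y.mul_mem (Y.mul_mem hy hx) (Y.inv_mem hy), ⟨y * l * y⁻¹, (mem_N.mp hyL _).mp l.2⟩, ?_, ?_⟩
    · obtain ⟨n, hn⟩ := hH.struct'.two ⟨_, hl⟩
      have h2 : H26.BR.pr (Lz Z Y) a l ^ 2 ^ n = 1 := congrArg Subtype.val hn
      rw [← map_pow, hk] at h2
      refine two_mem_Q hH.setup (H26.BR.pr_fix.mpr ?_) (n := n) ?_
      · have h3 : (l : G) • a = a := H26.BR.pr_fix.mp (H21.RankOne.Q_fix hH.setup hl)
        have h4 := conj_fix (g := y) h3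
        rwa [hya] at h4
      · rw [← map_pow, hk]
        have := hnk hy h2
        rwa [Subgroup.coe_pow, ← conj_pow] at this
    · rw [show (y * l * y⁻¹)⁻¹ * (y * x * y⁻¹) = y * ((l : G)⁻¹ * x) * y⁻¹ by group]
      exact hnk hy h1
  · rintro x ⟨hx, l, hl, h1⟩
    obtain ⟨n, hn⟩ := hH.struct'.two ⟨_, hl⟩
    have h2 : H26.BR.pr (Lz Z Y) a l ^ 2 ^ n = 1 := congrArg Subtype.val hn
    rw [← map_pow, hk, Subgroup.coe_pow] at h2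
    refine ⟨n, mem_Ker'.mpr ⟨Y.pow_mem hx _, fun c hc => ?_⟩⟩
    rw [← Ker_smul h2 hc]
    nth_rw 1 [Ker_smul h2 hc]
    have hl' := Lz_le Z Y l.2
    generalize 2 ^ n = k
    induction k with
    | zero => simp
    | succ k ih =>
      obtain ⟨g, hg, rfl⟩ := hc
      rw [pow_succ', pow_succ', mul_smul, mul_smul, ih,
        hsm h1 ⟨(l : G) ^ k * g, Y.mul_mem (Y.pow_mem hl' k) hg, mul_smul _ _ _⟩]
  · rw [← ho] at hc hc'
    obtain ⟨q, hq, e⟩ := H21.RankOne.exists_Q_smul hH.setup (b := ⟨c, mem_orbit_iff_Orb.mpr hc⟩)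
      (c := ⟨c', mem_orbit_iff_Orb.mpr hc'⟩) (fun e => h1 (congrArg Subtype.val e))
      (fun e => h2 (congrArg Subtype.val e))
    obtain ⟨x, rfl⟩ := H26.BR.pr_surj q
    exact ⟨x, ⟨Lz_le Z Y x.2, x, hq, by simp⟩, congrArg Subtype.val e⟩
  · rintro x ⟨hx, l, hl, h1⟩ c hc hca e
    rw [hsm h1 hc] at e
    have h2 := H21.RankOne.eq_one_of_mem_Q_of_fix hH.setup hl
      (c := ⟨c, mem_orbit_iff_Orb.mpr (ho ▸ hc)⟩) (fun e => hca (congrArg Subtype.val e))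
      (H26.BR.pr_fix.mpr e)
    rw [← mul_inv_cancel_left (l : G) x]
    exact (Ker Y a).mul_mem (hk.mp h2) h1
  · exact ⟨hu.2.1, _, (hZ u hu).1, by simp⟩
  · rintro u hu x ⟨hx, l, hl, h1⟩
    have h2 := hH.central (hZ u hu).1 (hZ u hu).2 hl
    have h3 : u * l * u⁻¹ * (l : G)⁻¹ ∈ Ker Y a :=
      (hk (l := ⟨u, mem_Lz hu.1 hu.2.1⟩ * l * ⟨u, mem_Lz hu.1 hu.2.1⟩⁻¹ * l⁻¹)).mp (by
        rw [map_mul, map_mul, map_mul, map_inv, map_inv, h2]; group)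
    have hl' := Lz_le Z Y l.2
    rw [show u * x * u⁻¹ * x⁻¹ = u * l * ((l : G)⁻¹ * x) * (u * l)⁻¹ * (u * l * u⁻¹ * (l : G)⁻¹) *
      (l * ((l : G)⁻¹ * x)⁻¹ * (l : G)⁻¹) by group]
    exact (Ker Y a).mul_mem ((Ker Y a).mul_mem (hnk (Y.mul_mem hu.2.1 hl') h1) h3)
      (hnk hl' ((Ker Y a).inv_mem h1))

end ZD
end H6
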