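import Mathlib
import Cfsg.Agent.H6.ZLoc0
import Cfsg.Agent.H8.ZL1

/-! Planes by induction (project UNIQ2). -/

set_option autoImplicit false
set_option linter.unusedSectionVars false
set_option linter.unusedVariables false

namespace H6
namespace ZD

open H24 H3.B71 Subgroup MulAction

universe u

variable {G Ω : Type u} [Group G] [Finite G] [MulAction G Ω] [Finite Ω] {Z : Set G}

theorem pl_of_ih (ih : IH.{u} (Nat.card G)) (h : Sm Ω Z) {Y : Subgroup G} {a : Ω} {t : G}
    (hY : Y ≠ ⊤) (hP : Pair Z Y a) (ht : t ∈ Z) (htY : t ∈ Y) (hta : t • a ≠ a)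
    (hc : Clean Z Y a) : ∃ d i, Pl Z Y a t d i := by
  obtain ⟨h1, h2, Q, s, r, h3⟩ := hyp_im ih h hY hP ht htY hta
  exact H8.ZL.pl_of_hyp h hP ht htY hta hc (H26.BR.pr (Lz Z Y) a) H26.BR.pr_surj
    H26.BR.pr_smul h1 h2 h3

end ZD
end H6
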