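import Mathlib
import Cfsg.Agent.H6.ZLoc1

/-! The inductive situation (project UNIQ2). -/

set_option autoImplicit false

namespace H6
namespace ZD

open H24 H3.B71 Subgroup MulAction

universe u

variable {G Ω : Type u} [Group G] [Finite G] [MulAction G Ω] [Finite Ω] {Z : Set G}

theorem mn_of_ih (ih : IH.{u} (Nat.card G)) (h : Sm Ω Z) : Mn Ω Z :=
  { h with
    lz := fun _ _ hY hP hy => lz_of_ih ih h hY hP hy
    pl := fun _ _ _ hY hP ht htY hta hc => pl_of_ih ih h hY hP ht htY hta hc }

end ZD
end H6
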