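import Mathlib
import Cfsg.Agent.H6.ZN

/-! Project UNIQ2: in types (a), (b) either `μ = 1`, or `i = 1` and `μ = q + 1`. -/

set_option autoImplicit false
set_option linter.unusedSectionVars false
set_option linter.unusedVariables false

namespace H6
namespace ZD

open H24 H26 H3.B71 Subgroup MulAction

variable {G Ω : Type*} [Group G] [Finite G] [MulAction G Ω] [Finite Ω] {Z : Set G}

theorem two_split_mu {s n : ℕ} (h : 2 ^ s ≤ 2 ^ n) : ∃ e, 2 ^ n = 2 ^ s * 2 ^ e := by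
  have := (Nat.pow_le_pow_iff_right (show 1 < 2 by norm_num)).mp h
  exact ⟨n - s, by rw [← pow_add]; congr 1; omega⟩

theorem numA_mu {d s μ : ℕ} (h4 : 4 ≤ 2 ^ d) (h0 : 0 < μ) (h1 : 2 * 2 ^ d ≤ (2 ^ s) ^ 2)
    (h2 : 2 ^ s ∣ μ - 1) (h3 : μ ∣ 2 ^ d - 1) : μ = 1 := by
  by_contra hne
  obtain ⟨a, ha⟩ := h2
  obtain ⟨ν, hν⟩ := h3
  have ha0 : 0 < a := Nat.pos_of_ne_zero (by rintro rfl; omega)
  have hν0 : 0 < ν := Nat.pos_of_ne_zero (by rintro rfl; omega)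
  have e1 : μ = 2 ^ s * a + 1 := by omega
  have e2 : 2 ^ d = μ * ν + 1 := by omega
  obtain ⟨e, he⟩ := two_split_mu (s := s) (n := d) (by
    rw [e2, e1]; nlinarith [Nat.mul_le_mul (le_refl (2 ^ s)) (Nat.mul_pos ha0 hν0)])
  have e3 : 2 ^ s ∣ ν + 1 := by
    have : 2 ^ s * 2 ^ e = 2 ^ s * (a * ν) + (ν + 1) := by rw [← he, e2, e1]; ring
    exact (Nat.dvd_add_right (dvd_mul_right _ _)).mp (this ▸ dvd_mul_right _ _)
  have e4 := Nat.le_of_dvd (by omega) e3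
  generalize 2 ^ s = σ at *
  generalize 2 ^ d = q at *
  subst e1
  nlinarith [Nat.mul_le_mul e4 (le_refl σ), Nat.mul_le_mul (le_refl (σ * ν)) ha0]

theorem split_mu {n s μ : ℕ} (h0 : 0 < μ) (hne : μ ≠ 1) (hne' : μ ≠ 2 ^ n + 1)
    (h2 : 2 ^ s ∣ μ - 1) (h3 : μ ∣ 2 ^ n + 1) :
    ∃ a b e, 0 < a ∧ 0 < b ∧ 2 ^ n = 2 ^ s * 2 ^ e ∧ 2 ^ e = a + b + a * b * 2 ^ s := by
  obtain ⟨a, ha⟩ := h2
  obtain ⟨ν, hν⟩ := h3
  have ha0 : 0 < a := Nat.pos_of_ne_zero (by rintro rfl; omega)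
  have hν0 : 0 < ν := Nat.pos_of_ne_zero (by rintro rfl; simp at hν)
  have e1 : μ = 2 ^ s * a + 1 := by omega
  obtain ⟨e, he⟩ := two_split_mu (s := s) (n := n) (by
    rw [e1] at hν; nlinarith [Nat.mul_le_mul (le_refl (2 ^ s)) (Nat.mul_pos ha0 hν0)])
  obtain ⟨ν', rfl⟩ : ∃ ν', ν = ν' + 1 := ⟨ν - 1, by omega⟩
  have e3 : 2 ^ s ∣ ν' := by
    have : 2 ^ s * 2 ^ e = 2 ^ s * (a * (ν' + 1)) + ν' := by rw [← he]; rw [e1] at hν; nlinarith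
    exact (Nat.dvd_add_right (dvd_mul_right _ _)).mp (this ▸ dvd_mul_right _ _)
  obtain ⟨b, rfl⟩ := e3
  refine ⟨a, b, e, ha0, Nat.pos_of_ne_zero (by rintro rfl; simp at hν; omega), he, ?_⟩
  refine Nat.eq_of_mul_eq_mul_left (show 0 < 2 ^ s by positivity) ?_
  rw [← he]; rw [e1] at hν; nlinarith

theorem numB1_mu {d s μ : ℕ} (h0 : 0 < μ) (h1 : 2 * 2 ^ d ≤ (2 ^ s) ^ 2)
    (h2 : 2 ^ s ∣ μ - 1) (h3 : μ ∣ 2 ^ d + 1) : μ = 1 ∨ μ = 2 ^ d + 1 := by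
  by_contra! hne
  obtain ⟨a, b, e, ha, hb, e1, e2⟩ := split_mu h0 hne.1 hne.2 h2 h3
  have hσ : 0 < 2 ^ s := by positivity
  rw [e1, e2] at h1
  generalize 2 ^ s = σ at *
  have : 1 ≤ a * b := Nat.mul_pos ha hb
  nlinarith [Nat.mul_le_mul (le_refl (σ * σ)) this]

theorem numB2_mu {n s μ : ℕ} (h0 : 0 < μ) (h1 : 2 * 2 ^ n ≤ (2 ^ s) ^ 3)
    (h2 : 2 ^ s ∣ μ - 1) (h3 : μ ∣ 2 ^ n + 1) : μ = 1 ∨ μ = 2 ^ n + 1 := by
  by_contra! hne
  obtain ⟨a, b, e, ha, hb, e1, e2⟩ := split_mu h0 hne.1 hne.2 h2 h3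
  have hσ : 0 < 2 ^ s := by positivity
  have hab : 1 ≤ a * b := Nat.mul_pos ha hb
  obtain ⟨f, hf⟩ := two_split_mu (s := s) (n := e) (by rw [e2]; nlinarith)
  have e3 : 2 ^ s ∣ a + b := by
    have : 2 ^ s * 2 ^ f = 2 ^ s * (a * b) + (a + b) := by rw [← hf, e2]; ring
    exact (Nat.dvd_add_right (dvd_mul_right _ _)).mp (this ▸ dvd_mul_right _ _)
  have e4 := Nat.le_of_dvd (by omega) e3
  rw [e1, e2] at h1
  generalize 2 ^ s = σ at *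
  obtain ⟨a, rfl⟩ : ∃ a', a = a' + 1 := ⟨a - 1, by omega⟩
  obtain ⟨b, rfl⟩ : ∃ b', b = b' + 1 := ⟨b - 1, by omega⟩
  have e5 : σ * σ ≤ a + 1 + (b + 1) + (a + 1) * (b + 1) * σ := by
    have : σ ≤ (a + 1) * (b + 1) + 1 := by nlinarith [Nat.zero_le (a * b)]
    nlinarith [Nat.mul_le_mul this (le_refl σ)]
  nlinarith [Nat.mul_le_mul (le_refl σ) e5, Nat.mul_pos hσ (Nat.mul_pos hσ hσ)]

theorem relIndex_le_two_mu {N X : Subgroup G} (h : ∀ x ∈ X, ∀ y ∈ X, x ∉ N → y ∉ N → x * y ∈ N) :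
    N.relIndex X ≤ 2 := by
  refine Nat.le_of_dvd two_pos (relIndex_dvd_two_iff.mpr ?_)
  by_cases e : X ≤ N
  · exact ⟨1, one_mem _, fun b hb => Or.inr (e hb)⟩
  obtain ⟨x, hx, hxN⟩ := SetLike.not_le_iff_exists.mp e
  exact ⟨x, hx, fun b hb => (em (b ∈ N)).symm.imp_left fun e => h b hb x hx e hxN⟩

theorem block_mu {U V : Subgroup G} {B S : Set G} (hB : ∀ u ∈ U, ∀ x ∈ B, u * x * u⁻¹ ∈ S)
    (hV : ∀ u ∈ U, ∀ x ∈ B, u * x * u⁻¹ ∈ B → u ∈ V) : V.relIndex U * B.ncard ≤ S.ncard := by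
  rw [← Nat.card_coe_set_eq, ← Nat.card_coe_set_eq, relIndex, index, ← Nat.card_prod]
  refine Nat.card_le_card_of_injective (fun p : (U ⧸ V.subgroupOf U) × B =>
    (⟨p.1.out * p.2 * (p.1.out : G)⁻¹, hB _ p.1.out.2 _ p.2.2⟩ : S)) ?_
  rintro ⟨κ, x⟩ ⟨κ', x'⟩ e
  have e : (κ.out : G) * x * (κ.out : G)⁻¹ = κ'.out * x' * (κ'.out : G)⁻¹ := congrArg Subtype.val e
  have e1 : κ' = κ := by
    rw [← κ.out_eq', ← κ'.out_eq', QuotientGroup.eq]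
    refine hV _ (κ'.out⁻¹ * κ.out).2 x x.2 ?_
    have : ((κ'.out⁻¹ * κ.out : U) : G) * x * ((κ'.out⁻¹ * κ.out : U) : G)⁻¹ = x' := by
      calc _ = (κ'.out : G)⁻¹ * (κ.out * x * (κ.out : G)⁻¹) * κ'.out := by push_cast; group
        _ = _ := by rw [e]; group
    exact this ▸ x'.2
  subst e1
  simpa using Subtype.ext (by simpa using e)

theorem ncard_Orb_mu {J : Subgroup G} {c : Ω} (h : ∀ j ∈ J, j • c = c → j = 1) :
    (Orb J c).ncard = ♯J := by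
  have := card_inf_mul_relIndex (stabilizer G c) J
  rwa [show stabilizer G c ⊓ J = ⊥ from eq_bot_iff.mpr fun u hu => h u hu.2 hu.1, card_bot,
    one_mul, ← ncard_Orb] at this

namespace Pl

variable {Y : Subgroup G} {a c c' c'' : Ω} {t g : G} {d i : ℕ} (h : ZE Ω Z) (p : Pl Z Y a t d i)
include h p

theorem two_pt_mu (hi : i ≠ 3) (hc : c ∈ Orb Y a) (hc' : c' ∈ Orb Y a) (hne : c' ≠ c) :
    ∃ K : Subgroup G, ♯K + 1 = 2 ^ d ∧ K ≤ Y ∧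
      (∀ g ∈ Lz Z Y, g • c = c → g • c' = c' → ∃ k ∈ K, g * k ∈ Ker Y a) ∧
      ∀ k ∈ K, k ≠ 1 → ∀ x ∈ Orb Y a, k • x = x → x = c ∨ x = c' := by
  obtain ⟨s, p1⟩ := p.exists_move h hc
  obtain ⟨s', h1, h2, rfl⟩ := p1.exists_TT h (Orb_eq_of_mem_Orb hc ▸ hc') hne
  have p2 := p.move h hc h1 h2 hne
  refine ⟨Kz Z Y c s', p2.cardK, Kz_le _ _ _ _, ?_, ?_⟩
  · rw [← Ker_eq_of_mem_Orb hc]; exact p2.lk hi
  · rw [← Orb_eq_of_mem_Orb hc]; exact p2.fix3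

theorem fix_pt_mu {k : G} (hk : g * k ∈ Ker Y a) (hc : c ∈ Orb Y a) (e : g • c = c) :
    k • c = c := by
  have := Ker_smul hk hc
  rw [mul_smul] at this
  exact smul_left_cancel g (this.trans e.symm)

theorem three_pt_mu (hi : i ≠ 3) (hg : g ∈ Lz Z Y) (hc : c ∈ Orb Y a) (hc' : c' ∈ Orb Y a)
    (hc'' : c'' ∈ Orb Y a) (h1 : c' ≠ c) (h2 : c'' ≠ c) (h3 : c'' ≠ c') (e : g • c = c)
    (e' : g • c' = c') (e'' : g • c'' = c'') : g ∈ Ker Y a := by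
  obtain ⟨K, -, -, hK, hK'⟩ := p.two_pt_mu h hi hc hc' h1
  obtain ⟨k, hk, hgk⟩ := hK g hg e e'
  by_cases hk1 : k = 1
  · simpa [hk1] using hgk
  · exact ((hK' k hk hk1 _ hc'' (p.fix_pt_mu h hgk hc'' e'')).elim h2 h3).elim

end Pl

/-- the group `J` -/
structure JJ_mu (Z : Set G) (y s : G) (c : Ω) (J : Subgroup G) : Prop where
  odd : Odd ♯J
  le : J ≤ Lz Z C{y}
  comm : ∀ x ∈ J, ∀ x' ∈ J, x * x' = x' * x
  mem : ∀ x, x ∈ J ↔ s * x ∈ TT Z C{y} c (y • c)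
  inv : ∀ x ∈ J, s * x * s⁻¹ = x⁻¹

namespace Bt

variable {y t s x e : G} {a c : Ω} {d i μ : ℕ} {J : Subgroup G} (h : Bt Z y a t d i) (hi : i ≠ 3)
include h hi

theorem eq_one_mu (hx : x ∈ Ker C{y} a) (ho : Odd (orderOf x)) : x = 1 :=
  ((h.ker_two hi).piElt hx).eq_one ((piNat_compl_singleton Nat.prime_two).mpr (not_two_dvd ho))

theorem inv_mu (ho : Odd ♯J) (hJ : J ≤ Lz Z C{y}) (he : e ∈ Z) (hey : e ∈ C{y}) (hn : e ∈ N[J])
    (hx : x ∈ J) : e * x * e⁻¹ = x⁻¹ := by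
  obtain ⟨u, v, hu, h1, h2, rfl⟩ := H21.exists_cent_mul_inverted (h.ze.inv e he).2 ho
    (fun x hx => conj_mem hn hx) hx
  have hu' := odd_orderOf_of_mem ho hu
  rw [h.eq_one_mu hi (h.pl.oddL h.ze hi (hJ hu) hu' he hey h1) hu', one_mul]
  exact h2.2

theorem exists_J_mu (hc : y • c ≠ c) (hs : s ∈ TT Z C{y} c (y • c)) : ∃ J, JJ_mu Z y s c J := by
  have is := h.ze.inv s hs.1
  have hsc : s • c ≠ c := hs.2.2 ▸ hc
  have ho : Odd ♯(Kz Z C{y} c s) := H3.B71.odd_of_le (odd_O (D2 G c (s • c)))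
    ((closure_le _).mpr fun k hk => h.ze.K_mem_O hs.1 hsc hk.2.1 hk.2.2)
  have hL : Kz Z C{y} c s ≤ Lz Z C{y} := (closure_le _).mpr fun k hk => by
    have := mul_mem (mem_Lz hs.1 hs.2.1) (mem_Lz hk.2.2 (mul_mem hs.2.1 hk.1))
    rwa [← mul_assoc, is.2, one_mul] at this
  have hn : s ∈ N[Kz Z C{y} c s] := mem_N_of_zp (norm_closure fun g hg k hk => by
    rcases is.mem_zp hg with rfl | rfl
    · simpa using subset_closure hk
    · rw [(h.ze.K_spec hs.1 hsc hk.2.1 hk.2.2).2.2]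
      exact inv_mem (subset_closure hk))
  have hinv := fun x hx => h.inv_mu hi (x := x) ho hL hs.1 hs.2.1 hn hx
  refine ⟨_, ho, hL, fun x hx x' hx' => ?_, fun x => ⟨fun hx => ?_, fun hx => ?_⟩, hinv⟩
  · have := hinv _ (mul_mem hx hx')
    rw [← _root_.conj_mul, hinv x hx, hinv x' hx', ← mul_inv_rev, inv_inj] at this
    exact this.symm
  · exact ⟨(h.ze.mul_mem_of_odd hs.1 (odd_orderOf_of_mem ho hx) (hinv x hx)).2,
      mul_mem hs.2.1 (Kz_le _ _ _ _ hx), by rw [mul_smul, Kz_fix hx, hs.2.2]⟩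
  · refine subset_closure ⟨by simpa using mul_mem (inv_mem hs.2.1) hx.2.1, ?_, hx.1⟩
    have := hx.2.2
    rw [mul_smul, ← hs.2.2] at this
    exact smul_left_cancel s this

omit h hi in
theorem card_J_mu (hJ : JJ_mu Z y s c J) : ♯J = (TT Z C{y} c (y • c)).ncard := by
  rw [show ♯J = (J : Set G).ncard from Nat.card_coe_set_eq _]
  refine Set.ncard_congr (fun x _ => s * x) (fun x hx => (hJ.mem x).mp hx)
    (fun _ _ _ _ e => mul_left_cancel e) fun z hz => ⟨s⁻¹ * z, (hJ.mem _).mpr (by simpa), by simp⟩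

theorem caseA_mu (hJ : JJ_mu Z y s c J) (hx : x ∈ J) (h1 : x ≠ 1) {c1 : Ω} (hc1 : c1 ∈ Orb C{y} a)
    (e : x • c1 = c1) : ♯J ∣ 2 ^ d - 1 := by
  obtain ⟨l, hl, hp⟩ := exists_prime_mem_zp h1
  have hlJ : l ∈ J := zpowers_le.mpr hx hl
  have hl1 : l • c1 = c1 := (zpowers_le (H := stabilizer G c1)).mpr e hl
  have ho := fun x hx => odd_orderOf_of_mem hJ.odd (x := x) hx
  have hY : J ≤ C{y} := hJ.le.trans (Lz_le _ _)
  obtain ⟨s1, p1⟩ := h.pl.exists_move h.ze hc1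
  obtain ⟨c2, hc2, hne, hl2⟩ := p1.fix_second h.ze hp (fun e => by
    have := ho l hlJ; rw [e] at this; exact absurd this (by decide))
    (piElt_of_orderOf_prime hp rfl).isPi (zp_le_N (norm_self _ (hY hlJ))) (zpowers_le.mpr hl1)
  rw [Orb_eq_of_mem_Orb hc1] at hc2
  have hl2 : l • c2 = c2 := hl2 (mem_zpowers l)
  obtain ⟨K, hK, hKY, hK1, hK2⟩ := h.pl.two_pt_mu h.ze hi hc1 hc2 hne
  obtain ⟨k, hk, hlk⟩ := hK1 l (hJ.le hlJ) hl1 hl2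
  have hk1 : k ≠ 1 := fun e => ne_one_of_orderOf_prime hp
    (h.eq_one_mu hi (by simpa [e] using hlk) (ho l hlJ))
  have hf : ∀ g ∈ J, ∀ c ∈ Orb C{y} a, l • c = c → g • c = c1 ∨ g • c = c2 := fun g hg c hc e =>
    hK2 k hk hk1 _ (smul_mem_Orb (hY hg) hc) (h.pl.fix_pt_mu h.ze hlk (smul_mem_Orb (hY hg) hc)
      (comm_fix (hJ.comm l hlJ g hg) e))
  have hle : J ≤ Ker C{y} a ⊔ K := fun g hg => by
    have e1 : g • c1 = c1 := by
      rcases hf g hg c1 hc1 hl1 with e1 | e1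
      · exact e1
      rcases hf g hg c2 hc2 hl2 with e2 | e2
      · rw [← odd_pow_smul (by rw [mul_smul, e1, e2]) (ho g hg), pow_orderOf_eq_one, one_smul]
      · exact absurd (smul_left_cancel g (e2.trans e1.symm)) hne
    have e2 : g • c2 = c2 := (hf g hg c2 hc2 hl2).resolve_left fun e2 =>
      hne (smul_left_cancel g (e2.trans e1.symm))
    obtain ⟨k, hk, hgk⟩ := hK1 g (hJ.le hg) e1 e2
    rw [← mul_inv_cancel_right g k]
    exact mul_mem_sup hgk (inv_mem hk)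
  have := (card_dvd hle).trans (isProd_sup (hKY.trans (Ker_nml _ a).norm)).card_dvd
  rw [mul_comm, show ♯K = 2 ^ d - 1 by omega] at this
  exact PiNat.dvd_of_dvd_mul (π := {2}ᶜ) (odd_iff_isPi.mp hJ.odd)
    (by rw [compl_compl]; exact h.ker_two hi) this

omit hi in
theorem caseB_mu (hJ : JJ_mu Z y s c J) (hf : ∀ x ∈ J, ∀ c ∈ Orb C{y} a, x • c = c → x = 1) :
    ♯J ∣ (2 ^ d) ^ i + 1 := by
  have hY : J ≤ C{y} := hJ.le.trans (Lz_le _ _)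
  rw [← h.pl.card]
  refine dvd_ncard_of_classes (fun c c' => c' ∈ Orb J c) _ (fun c _ => mem_Orb_self J c) ?_ ?_ ?_
  · rintro c - _ - ⟨g, hg, rfl⟩
    exact ⟨g⁻¹, inv_mem hg, inv_smul_smul _ _⟩
  · rintro c - _ - _ - hc ⟨g, hg, rfl⟩
    exact smul_mem_Orb hg hc
  · intro c hc
    rw [← ncard_Orb_mu fun j hj => hf j hj c hc]
    refine dvd_of_eq (congrArg _ (Set.ext fun c' => ⟨fun e => ⟨?_, e⟩, fun e => e.2⟩))
    obtain ⟨g, hg, rfl⟩ := e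
    exact smul_mem_Orb (hY hg) hc

theorem cent_mu (hJ : JJ_mu Z y s c J) (hf : ∀ x ∈ J, ∀ c ∈ Orb C{y} a, x • c = c → x = 1)
    (hc : ♯J = (2 ^ d) ^ i + 1) (hx : x ∈ J) (h1 : x ≠ 1) {g : G} (hg : g ∈ Lz Z C{y})
    (ho : Odd (orderOf g)) (e : g * x = x * g) : g ∈ J := by
  have hY : J ≤ C{y} := hJ.le.trans (Lz_le _ _)
  have ha := mem_Orb_self C{y} a
  have hO : Orb J a = Orb C{y} a := by
    refine Set.eq_of_subset_of_ncard_le ?_ ?_ (Set.toFinite _)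
    · rintro _ ⟨g, hg, rfl⟩
      exact ⟨g, hY hg, rfl⟩
    · rw [ncard_Orb_mu fun j hj => hf j hj a ha, hc, h.pl.card]
  have : g • a ∈ Orb J a := hO ▸ ⟨g, Lz_le _ _ hg, rfl⟩
  obtain ⟨j, hj, hja⟩ := this
  have e0 : (j⁻¹ * g) • a = a := by rw [mul_smul, ← hja, inv_smul_smul]
  have e1 : (j⁻¹ * g) * x = x * (j⁻¹ * g) := by
    rw [mul_assoc, e, ← mul_assoc, hJ.comm _ (inv_mem hj) x hx, mul_assoc]
  have hxa := smul_mem_Orb (hY hx) ha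
  have hN : j⁻¹ * g ∈ Ker C{y} a := by
    refine h.pl.three_pt_mu h.ze hi (mul_mem (inv_mem (hJ.le hj)) hg) ha hxa
      (smul_mem_Orb (hY hx) hxa) (fun e => h1 (hf x hx a ha e)) (fun e => h1 ?_)
      (fun e => h1 (hf x hx _ hxa e)) e0 (comm_fix e1 e0) (comm_fix e1 (comm_fix e1 e0))
    exact H21.eq_one_of_sq_of_mem_odd hJ.odd hx (hf _ (mul_mem hx hx) a ha (by rw [mul_smul, e]))
  have e2 := h.pl.L_cent h.ze hg hN
  have e3 : j⁻¹ * g = 1 := by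
    refine ((h.ker_two hi).piElt hN).eq_one (PiElt.mul ((odd_iff_isPi.mp hJ.odd).piElt (inv_mem hj))
      ((piNat_compl_singleton Nat.prime_two).mpr (not_two_dvd ho)) ?_)
    rw [← mul_assoc] at e2
    exact (mul_right_cancel e2).symm
  rw [← inv_mul_eq_one.mp e3]; exact hj

end Bt

theorem Bt.caseC_mu {y t s : G} {a c : Ω} {d : ℕ} {J : Subgroup G} (h : Bt Z y a t d 2)
    (hs : s ∈ ZA Z C{y} a) (hJ : JJ_mu Z y s c J)
    (hf : ∀ x ∈ J, ∀ c ∈ Orb C{y} a, x • c = c → x = 1) (hc : ♯J = (2 ^ d) ^ 2 + 1) : False := by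
  have hi : (2 : ℕ) ≠ 3 := by decide
  have is := h.ze.inv s hs.1
  have hsA := mem_Az hs
  have hsT : s ∈ TT Z C{y} c (y • c) := by simpa using (hJ.mem 1).mp (one_mem _)
  set U := Uz Z C{y} a
  set N := Ker C{y} a
  have hUL : U ≤ Lz Z C{y} := Uz_le_Lz _ _ _
  have hUY : U ≤ C{y} := hUL.trans (Lz_le _ _)
  have h1 := block_mu (U := U) (V := N[J]) (B := TT Z C{y} c (y • c) \ {s})
    (S := {z | z ∈ Z ∧ z ∈ C{y}})
    (fun u hu x hx => ⟨h.ze.conj x hx.1.1 u, conj_mem (norm_self _ (hUY hu)) hx.1.2.1⟩)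
    (fun u hu x hx hx' => by
      have e : u * (s * x) * u⁻¹ = s * (u * x * u⁻¹) := by
        rw [← mul_assoc, h.pl.centA u hu s hsA]; group
      have hJ' : ∀ x ∈ TT Z C{y} c (y • c), s * x ∈ J := fun x hx =>
        (hJ.mem _).mpr (by rwa [← mul_assoc, is.2, one_mul])
      refine mem_N_of_finite fun j hj => h.cent_mu hi hJ hf hc (hJ' _ hx'.1) (fun e => hx'.2 ?_)
        (conj_mem (norm_self _ (hUL hu)) (hJ.le hj))
        (by rw [orderOf_conj]; exact odd_orderOf_of_mem hJ.odd hj) ?_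
      · rw [← is.inv]; exact eq_inv_of_mul_eq_one_right e
      · rw [← e, _root_.conj_mul, _root_.conj_mul, hJ.comm j hj _ (hJ' _ hx.1)])
  have e1 := Set.ncard_sdiff_singleton_add_one hsT
  rw [← Bt.card_J_mu hJ, hc, Nat.add_right_cancel_iff] at e1
  rw [e1, h.pl.ncard_Z h.ze] at h1
  have hNJ : ∀ n ∈ N, n ∈ N[J] := fun n hn =>
    C_le_N _ (mem_C.mpr fun j hj => h.pl.L_cent h.ze (hJ.le hj) hn)
  have hV1 : ∀ x ∈ AN Z C{y} a, x ∈ N[J] → x ∉ N → s * x ∈ N := by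
    intro x hx hxJ hxN
    obtain ⟨u, hu, n, hn, rfl⟩ := (h.pl.mem_AN h.ze).mp hx
    have huJ : u ∈ N[J] := by simpa using mul_mem hxJ (inv_mem (hNJ n hn))
    rcases (h.pl.memA u).mp hu with rfl | hu'
    · exact absurd (by simpa using hn) hxN
    rcases (h.pl.memA _).mp (mul_mem hsA hu) with e | e
    · rw [← mul_assoc, e, one_mul]; exact hn
    exfalso
    have : J = ⊥ := eq_bot_iff.mpr fun j hj => by
      have ho := odd_orderOf_of_mem hJ.odd hj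
      refine h.eq_one_mu hi (h.pl.oddL h.ze hi (hJ.le hj) ho e.1 e.2.1 ?_) ho
      rw [← mul_inv_eq_iff_eq_mul]
      calc _ = s * (u * j * u⁻¹) * s⁻¹ := by group
        _ = _ := by
          rw [h.inv_mu hi hJ.odd hJ.le hu'.1 hu'.2.1 huJ hj,
            hJ.inv _ (inv_mem hj), inv_inv]
    rw [this, card_bot] at hc
    have := h.pl.four_le h.ze
    nlinarith
  have hmul : ∀ x x' : G, x ∈ C{y} → s * x ∈ N → s * x' ∈ N → x * x' ∈ N := fun x x' hx e e' => by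
    have := mul_mem (conj_mem' ((Ker_nml _ a).norm hs.2.1) e) e'
    rwa [show s⁻¹ * (s * x) * s * (s * x') = x * (s * s) * x' by group, is.2, mul_one] at this
  have h2 : N.relIndex (AN Z C{y} a ⊓ (N[J] ⊓ U)) ≤ 2 :=
    relIndex_le_two_mu fun x hx x' hx' e e' =>
      hmul x x' (hUY hx.2.2) (hV1 x hx.1 hx.2.1 e) (hV1 x' hx'.1 hx'.2.1 e')
  have h3 : (AN Z C{y} a).relIndex (N[J] ⊓ U) ≤ 2 :=
    relIndex_le_two_mu fun x hx x' hx' e e' => by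
      have aux : ∀ x ∈ N[J] ⊓ U, x ∉ AN Z C{y} a → s * (x * x) ∈ N := fun x hx e =>
        hV1 _ (h.pl.sqU x hx.2) (mul_mem hx.1 hx.1) fun e' => e (h.pl.invU h.ze hx.2 e')
      have := h.pl.sq_inj h.ze rfl hx.2 (inv_mem hx'.2) (by
        rw [← mul_inv_rev, inv_inv]
        exact hmul _ _ (hUY (mul_mem hx.2 hx.2)) (aux x hx e) (aux x' hx' e'))
      rwa [inv_inv] at this
  have h4 := relIndex_inf_mul_relIndex N (AN Z C{y} a) (N[J] ⊓ U)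
  have h5 := relIndex_inf_mul_relIndex N N[J] U
  rw [inf_eq_left.mpr (show N ≤ AN Z C{y} a from le_sup_right)] at h4
  rw [inf_eq_left.mpr (show N ≤ N[J] from hNJ), h.pl.relIndex_U h.ze, ← h4] at h5
  have h6 := h.pl.four_le h.ze
  have h7 := Nat.mul_le_mul (Nat.mul_le_mul h2 h3) (le_refl ((N[J]).relIndex U))
  rw [h5] at h7
  obtain ⟨q, hq⟩ : ∃ q, 2 ^ d = q + 1 := ⟨2 ^ d - 1, by omega⟩
  rw [hq] at h1 h6 h7
  rw [Nat.add_sub_cancel] at h1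
  generalize (N[J]).relIndex U = r at *
  have h8 : q + 1 ≤ r := by nlinarith
  nlinarith [Nat.mul_le_mul h8 (le_refl ((q + 1) ^ 2))]

theorem Bt.mu_cases {y t : G} {a : Ω} {d i : ℕ} (h : Bt Z y a t d i) (hm : Mx Ω Z d)
    (hi : i ≠ 3) : mm Z a + 1 = 2 ^ d ∨ (i = 1 ∧ mm Z a = (2 ^ d - 1) * (2 ^ d + 1)) := by
  obtain ⟨μ, ho, hμ⟩ := h.exists_mu
  obtain ⟨c, hc⟩ := h.exists_off
  have hT := h.mu_eq hμ hc
  have h0 := ho.pos
  have h4 := h.pl.four_le h.ze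
  obtain ⟨s, hs⟩ := Set.nonempty_of_ncard_ne_zero (hT ▸ h0.ne')
  obtain ⟨J, hJ⟩ := h.exists_J_mu hi hc hs
  have hJc := (Bt.card_J_mu hJ).trans hT
  suffices μ = 1 ∨ (i = 1 ∧ μ = 2 ^ d + 1) by
    rcases this with rfl | ⟨h1, rfl⟩
    · left; omega
    · exact Or.inr ⟨h1, hμ⟩
  obtain ⟨σ, h1, h2⟩ := h.pb hμ
  by_cases hf : ∀ x ∈ J, ∀ c ∈ Orb C{y} a, x • c = c → x = 1
  · have h3 := h.caseB_mu hJ hf
    rw [hJc] at h3
    rcases h.pl.cases with rfl | rfl | rfl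
    · rw [pow_one] at h3
      exact (numB1_mu h0 h1 h2 h3).imp_right fun e => ⟨rfl, e⟩
    · obtain ⟨τ, h5, h6⟩ := h.pbb rfl hm hμ
      rw [← pow_mul] at h3 h5
      refine Or.inl ((numB2_mu h0 h5 h6 h3).resolve_right fun e => ?_)
      obtain ⟨c0, t1, -, h7, h', -⟩ := h.mul_Z hs.1 (mem_C1.mp hs.2.1)
      refine h'.caseC_mu ⟨hs.1, hs.2.1, h7⟩ hJ ?_ (by rw [hJc, e, pow_mul])
      rwa [Orb_eq_of_mem_Orb (h.mem_orb.mpr h'.bt.2.1)]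
    · exact absurd rfl hi
  · push Not at hf
    obtain ⟨x, hx, c1, hc1, e, h5⟩ := hf
    exact Or.inl (numA_mu h4 h0 h1 h2 (hJc ▸ h.caseA_mu hi hJ hx h5 hc1 e))

end ZD
end H6
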