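import Mathlib
import Cfsg.Agent.H6.ZB
import Cfsg.Agent.H6.RankThree
import Cfsg.Agent.H22.Herzog

/-! A wide involution centralising a pair exists. -/

set_option autoImplicit false
set_option linter.unusedSectionVars false

namespace H17.ZS

open H24 H3.B71 Subgroup MulAction H6.ZD

theorem two_group_cases {S : Type*} [Group S] [Finite S] (hS : IsPGroup 2 S) (hnc : ¬ IsCyclic S) :
    (∃ C : Subgroup S, IsCyclic C ∧ C.index = 2) ∨ ∃ z u : S, Inv z ∧ Inv u ∧ u ≠ z ∧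
      (∀ s, s * z = z * s) ∧ ∀ s, s * u * s⁻¹ = u ∨ s * u * s⁻¹ = u * z := by
  by_cases hn : ∀ A : Subgroup S, A.Normal → IsMulCommutative A → IsCyclic A
  · left
    have key : ∀ (r : S) (m : ℕ), orderOf r = m → Nat.card S = m * 2 →
        ∃ C : Subgroup S, IsCyclic C ∧ C.index = 2 := fun r m h1 h2 =>
      ⟨zpowers r, inferInstance, Nat.eq_of_mul_eq_mul_left (orderOf_pos r) (by
        rw [← Nat.card_zpowers, card_mul_index, h2, Nat.card_zpowers, h1])⟩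
    rcases (H13.cyclic_normal_abelian 2 hS hn hnc).2 with ⟨n, ⟨e⟩⟩ | ⟨n, h8, ⟨e⟩⟩ |
      ⟨n, -, hc, x, -, hx, -⟩
    · have : Finite (QuaternionGroup n) := Finite.of_equiv _ e.toEquiv
      have : NeZero n := ⟨by
        rintro rfl
        have : Infinite (ZMod (2 * 0)) := inferInstanceAs (Infinite ℤ)
        exact not_finite_iff_infinite.2 (Infinite.of_injective (QuaternionGroup.a (n := 0))
          fun _ _ h => QuaternionGroup.a.inj h) ‹_›⟩
      exact key (e.symm (QuaternionGroup.a 1)) (2 * n)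
        (by rw [e.symm.orderOf_eq, QuaternionGroup.orderOf_a_one])
        (by rw [Nat.card_congr e.toEquiv, Nat.card_eq_fintype_card, QuaternionGroup.card]; ring)
    · have : NeZero n := ⟨by omega⟩
      exact key (e.symm (DihedralGroup.r 1)) n
        (by rw [e.symm.orderOf_eq, DihedralGroup.orderOf_r_one])
        (by rw [Nat.card_congr e.toEquiv, DihedralGroup.nat_card, mul_comm])
    · exact key x _ hx (by rw [hc, pow_succ])
  right
  push Not at hn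
  obtain ⟨A, hA, hc, h⟩ := hn
  obtain ⟨V, hV, h4, h2⟩ := H22.Hz.exists_normal_four hS hc h
  have kV := H13.isKleinFour_of_card_of_sq h4 fun w hw => by rw [pow_two, h2 w hw]
  obtain ⟨z, hz, z1⟩ := (bot_or_exists_ne_one _).resolve_left
    (Nil.inf_C_ne_bot (H := ⊤) ((isPi_of_isPGroup Nat.prime_two (hS.to_subgroup ⊤)).nil
      Nat.prime_two) ⟨le_top, norm_of_normal _ V⟩ fun e => by simp [e] at h4)
  have iz : Inv z := ⟨z1, h2 z hz.1⟩
  obtain ⟨u, hu, uz⟩ := SetLike.not_le_iff_exists.1 fun k : V ≤ zpowers z => by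
    have := Nat.le_of_dvd (card_pos _) (card_dvd k)
    rw [h4, iz.card_zpowers] at this
    omega
  have u1 : u ≠ 1 := fun e => uz (e ▸ one_mem _)
  have uz' : u ≠ z := fun e => uz (e ▸ mem_zpowers _)
  refine ⟨z, u, iz, ⟨u1, h2 u hu⟩, uz', fun s => hz.2 s (mem_top s), fun s =>
    or_iff_not_imp_left.2 fun k => congrArg Subtype.val (IsKleinFour.eq_mul_of_ne_all
      (x := (⟨u, hu⟩ : V)) (y := ⟨z, hz.1⟩) (z := ⟨_, hV.conj_mem u hu s⟩) (by simpa using u1)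
      (by simpa using z1) (by simpa using uz') (by simpa using u1) (by simpa using k)
      fun e => uz' ?_)⟩
  have e' : s * u * s⁻¹ = z := congrArg Subtype.val e
  rw [mul_inv_eq_iff_eq_mul, ← hz.2 s (mem_top s)] at e'
  exact mul_left_cancel e'

variable {G Ω : Type*} [Group G] [Finite G] [MulAction G Ω] [Finite Ω] {Z : Set G}

theorem relIndex_le_two {S : Subgroup G} {u w : G}
    (h : ∀ s ∈ S, s * u * s⁻¹ = u ∨ s * u * s⁻¹ = w) : (C{u}).relIndex S ≤ 2 := by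
  rw [relIndex_C1]
  refine (Set.ncard_le_ncard (t := {u, w}) ?_).trans ((Set.ncard_insert_le _ _).trans (by simp))
  rintro _ ⟨s, hs, rfl⟩
  exact h s hs

variable (h : Sm Ω Z) {x z z' : G} {S Q : Subgroup G}
include h

theorem thompson (hS : Syl 2 ⊤ S) {R : Subgroup G} (hR : R ≤ S) (h2 : R.relIndex S ≤ 2)
    (hx : Inv x) : ∃ g : G, g * x * g⁻¹ ∈ R := by
  have := relIndex_pos R S
  rcases (by omega : R.relIndex S = 1 ∨ R.relIndex S = 2) with e | e
  · obtain ⟨g, -, k⟩ := Sylow_Jsub Nat.prime_two hS hx.two le_top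
    exact ⟨g, relIndex_eq_one.1 e (k (H24.conj_mem_cj g (mem_zpowers x)))⟩
  by_contra! k
  obtain ⟨H, hH, -⟩ := H6.thompson_transfer (m := S.index) (Nat.odd_iff.2 (by
    have := hS.not_dvd Nat.prime_two
    rw [relIndex_top_right] at this
    omega)) (by rw [← relIndex_mul_index hR, e]) hx.2 k
  exact h.index_ne_two H hH

theorem no_cyc (hx : Wide Ω x) (hz : z ∈ Z) (hS : Syl 2 ⊤ S) {C : Subgroup S} (hC : IsCyclic C)
    (h2 : C.index = 2) : False := by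
  have e : (C.map S.subtype).relIndex S = 2 := by
    rw [← h2, relIndex, ← comap_subtype, comap_map_eq_self_of_injective S.subtype_injective]
  obtain ⟨g, hg⟩ := thompson h hS (map_subtype_le C) e.le hx.1
  obtain ⟨k, hk⟩ := thompson h hS (map_subtype_le C) e.le (h.ze.inv z hz)
  have iz := (h.ze.inv z hz).conj k
  have := H25.cyc_le_of_card_dvd (Cyc.map (H := C) hC S.subtype) (zpowers_le.2 hg)
    (zpowers_le.2 hk) (by rw [iz.card_zpowers, (hx.1.conj g).card_zpowers]) (mem_zpowers _)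
  exact h.ze.ne_of_wide (hx.conj g) (h.ze.conj z hz k)
    ((iz.mem_zp this).resolve_left (hx.1.conj g).1)

theorem exists_syl (hz : z ∈ Z) (hQ : IsPi {2} Q) (h1 : Q ≤ C{z}) :
    ∃ S, Syl 2 ⊤ S ∧ Q ≤ S ∧ S ≤ C{z} := by
  obtain ⟨T, hT⟩ := Sylow_exists Nat.prime_two (⊤ : Subgroup G)
  obtain ⟨a, ha⟩ := h.exists_fix hT.pi
  obtain ⟨u, hu, ua⟩ := h.ze.pt a
  obtain ⟨w, hw, k⟩ := h.ze.exists_cent_ZA (Y := ⊤) hT.pi (norm_of_le le_top) ha
    ⟨hu, mem_top _, ua⟩ (h.exists_move a)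
  obtain ⟨g, -, rfl⟩ := h.ze.conj_of_mem hw (h.exists_move a) hz (mem_top _)
  obtain ⟨S, hS, h2⟩ := Sylow_superset Nat.prime_two hQ h1
  exact ⟨S, hS.of_idx le_top ((hT.cj_mem (mem_top g)).idx_of_ge (cj_C1 g w ▸ cj_mono g k)), h2,
    hS.le⟩

variable (H : ∀ u, Wide Ω u → ∀ z ∈ Z, ∀ z' ∈ Z, z * z' = z' * z → u ∈ C{z} → u ∈ C{z'} → z = z')
  (hx : Wide Ω x) (hz : z ∈ Z) (hz' : z' ∈ Z) (hne : z ≠ z') (hc : z * z' = z' * z)
include H hx hz hz' hne hc

theorem exists_u (hS : Syl 2 ⊤ S) (h1 : z ∈ S) (h2 : z' ∈ S) (h3 : S ≤ C{z}) :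
    ∃ u ∈ S, (∀ s ∈ S, s * u * s⁻¹ = u ∨ s * u * s⁻¹ = u * z) ∧
      (∀ w ∈ Z, w ∈ S → w ∈ C{u} → w = z) ∧ u * z' * u⁻¹ = z' * z := by
  have iz := h.ze.inv z hz
  have iz' := h.ze.inv z' hz'
  obtain ⟨C, hC, h4⟩ | ⟨w, u, iw, iu, uw, cw, cu⟩ := two_group_cases (hS.pi.isPGroup Nat.prime_two)
    fun k => hne ((iz'.mem_zp (H25.cyc_le_of_card_dvd k (zpowers_le.2 h1) (zpowers_le.2 h2)
      (by rw [iz.card_zpowers, iz'.card_zpowers]) (mem_zpowers _))).resolve_left iz.1)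
  · exact (no_cyc h hx hz hS hC h4).elim
  have val : ∀ {v : S}, Inv v → Inv (v : G) := fun k =>
    ⟨fun e => k.1 (Subtype.ext e), congrArg Subtype.val k.2⟩
  have cw' : ∀ s ∈ S, (w : G) ∈ C{s} := fun s hs =>
    mem_C1.2 (congrArg Subtype.val (cw ⟨s, hs⟩)).symm
  have cu' : ∀ s ∈ S, s * u * s⁻¹ = u ∨ s * u * s⁻¹ = u * w := fun s hs =>
    (cu ⟨s, hs⟩).imp (congrArg Subtype.val) (congrArg Subtype.val)
  have wZ : (w : G) ∈ Z := h.mem_of_nar (val iw) (by_contra fun k =>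
    hne (H w ⟨val iw, k⟩ z hz z' hz' hc (cw' z h1) (cw' z' h2)))
  have wu : Wide Ω (u : G) := ⟨val iu, fun k => by
    obtain ⟨g, hg⟩ := thompson h hS (R := C{(u : G)} ⊓ S) inf_le_right
      (by rw [inf_relIndex_right]; exact relIndex_le_two cu') hx.1
    exact uw (Subtype.ext (H _ (hx.conj g) u (h.mem_of_nar (val iu) k) w wZ
      (mem_C1.1 (cw' u u.2)).symm hg.1 (mem_C1_comm.1 (cw' _ hg.2))))⟩
  have k1 : ∀ v ∈ Z, v ∈ S → v ∈ C{(u : G)} → v = z := fun v hv h4 h5 =>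
    H u wu v hv z hz (mem_C1.1 (h3 h4)) (mem_C1_comm.1 h5) (h3 u.2)
  rw [k1 w wZ w.2 (cw' u u.2)] at cu'
  refine ⟨u, u.2, cu', k1, ?_⟩
  have := (cu' _ (inv_mem h2)).resolve_left fun e => hne (k1 z' hz' h2
    (by simpa using inv_mem (mem_C1_iff_conj.2 e))).symm
  calc u * z' * (u : G)⁻¹ = z' * (z'⁻¹ * u * z'⁻¹⁻¹) * (u : G)⁻¹ := by group
    _ = _ := by rw [this, mem_C1.1 (h3 u.2)]; group

theorem main : False := by
  have iz := h.ze.inv z hz
  have iz' := h.ze.inv z' hz'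
  obtain ⟨R, hR⟩ := Sylow_exists Nat.prime_two (C{z} ⊓ C{z'})
  have mem : ∀ v : G, H3.B71.Inv v → v ∈ C{z} ⊓ C{z'} → C{z} ⊓ C{z'} ≤ C{v} → v ∈ R := fun v iv h1 h2 =>
    zpowers_le.1 (hR.le_of_norm' iv.two (zpowers_le.2 h1) (norm_zpowers_of_cent (hR.le.trans h2)))
  have zR := mem z iz ⟨self_mem_C1 z, mem_C1.2 hc⟩ inf_le_left
  have zR' := mem z' iz' ⟨mem_C1.2 hc.symm, self_mem_C1 z'⟩ inf_le_right
  obtain ⟨S, hS, RS, hSz⟩ := exists_syl h hz hR.pi (hR.le.trans inf_le_left)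
  obtain ⟨T, hT, RT, hTz⟩ := exists_syl h hz' hR.pi (hR.le.trans inf_le_right)
  obtain ⟨u, hu, h1, h2, h3⟩ := exists_u h H hx hz hz' hne hc hS (RS zR) (RS zR') hSz
  obtain ⟨g, hg, -, -, h4⟩ := exists_u h H hx hz' hz hne.symm hc.symm hT (RT zR') (RT zR) hTz
  have nm : ∀ {a b g : G}, g * a * g⁻¹ = a → g * b * g⁻¹ = b * a → g ∈ N[C{a} ⊓ C{b}] :=
    fun e1 e2 => mem_N_of_cj_le fun v hv => by
      rw [H24.cj_inf, cj_C1, cj_C1, e1, e2] at hv
      exact ⟨hv.1, mem_C1_comm.1 ((mul_mem_cancel_right (mem_C1_comm.1 hv.1)).1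
        (mem_C1_comm.1 hv.2))⟩
  have uz := mem_C1_iff_conj.1 (hSz hu)
  obtain ⟨c, hc', n, hn, e⟩ := (Frattini_arg Nat.prime_two (nml_N _) hR).mul (u * g)
    (mul_mem (nm uz h3) (inf_comm C{z'} C{z} ▸ nm (mem_C1_iff_conj.1 (hTz hg)) h4))
  have e1 : n * z * n⁻¹ = z' := by
    have : c * (n * z * n⁻¹) * c⁻¹ = z' := by
      calc c * (n * z * n⁻¹) * c⁻¹ = c * n * z * (c * n)⁻¹ := by group
        _ = u * (g * z * g⁻¹) * u⁻¹ := by rw [← e]; group
        _ = z' := by rw [h4, ← conj_mul, uz, h3, ← mul_assoc, hc, mul_assoc, iz.2, mul_one]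
    rw [← mem_C1_iff_conj.1 hc'.2] at this
    simpa using this
  have sq : ∀ r ∈ R, r * r ≠ z := fun r hr k => by
    have hs := RS (H24.conj_mem hn.2 hr)
    refine hne (h2 z' hz' (RS zR') (mem_C1_iff_conj.2 ?_)).symm
    rw [← e1, ← k, ← conj_mul]
    generalize n * r * n⁻¹ = s at hs
    calc s * s * u * (s * s)⁻¹ = s * (s * u * s⁻¹) * s⁻¹ := by group
      _ = u := by
        rcases h1 s hs with k | k
        · rw [k, k]
        · rw [k, ← conj_mul, k, mem_C1_iff_conj.1 (hSz hs), mul_assoc, iz.2, mul_one]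
  have key : ∀ (k : ℕ), ∀ r ∈ C{u} ⊓ R, r ^ 2 ^ k = 1 → r = 1 ∨ r = z := fun k => by
    induction k with
    | zero => exact fun r _ e => Or.inl (by simpa using e)
    | succ k ih =>
      intro r hr e
      have := (ih (r * r) (mul_mem hr hr) (by rwa [← pow_two, ← pow_mul, ← pow_succ'])).resolve_right
        (sq r hr.2)
      refine or_iff_not_imp_left.2 fun r1 => h2 r (h.mem_of_nar ⟨r1, this⟩ (by_contra fun k =>
        hne (H r ⟨⟨r1, this⟩, k⟩ z hz z' hz' hc (hR.le hr.2).1 (hR.le hr.2).2))) (RS hr.2) hr.1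
  have c1 : ♯(C{u} ⊓ R) ≤ 2 := iz.card_zpowers ▸ card_le_of_le fun r hr => by
    obtain ⟨k, hk⟩ := (hR.pi.piElt hr.2).exists_pow Nat.prime_two
    rcases key k r hr (hk ▸ pow_orderOf_eq_one r) with rfl | rfl
    exacts [one_mem _, mem_zpowers _]
  have c2 : ♯R ≤ 2 ^ 2 := by
    rw [← card_inf_mul_relIndex C{u} R]
    exact Nat.mul_le_mul c1 (relIndex_le_two fun s hs => h1 s (RS hs))
  have eR : C{z'} ⊓ S = R := hR.eq_of_le (hS.pi.inf_right _) (le_inf (hR.le.trans inf_le_right) RS)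
    (le_inf (inf_le_right.trans hSz) inf_le_left)
  obtain ⟨m, hm⟩ := hS.pi.card_eq_pow Nat.prime_two
  have m3 : 3 ≤ m := by
    obtain ⟨j, hj⟩ := hR.pi.card_eq_pow Nat.prime_two
    have k1 := card_lt (lt_of_le_of_ne (zpowers_le.2 zR) fun e =>
      hne ((iz.mem_zp (e ▸ zR')).resolve_left iz'.1).symm)
    have k2 := card_lt (lt_of_le_of_ne RS fun e => iz.1 (by
      rwa [mem_C1_iff_conj.1 (hR.le (e ▸ hu)).2, left_eq_mul] at h3))
    rw [iz.card_zpowers, hj] at k1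
    rw [hj, hm] at k2
    have := (Nat.pow_lt_pow_iff_right one_lt_two).1 k2
    have := (Nat.pow_lt_pow_iff_right (n := 1) one_lt_two).1 k1
    omega
  obtain ⟨C, hC, h5⟩ := H3.exists_cyclic_index_two_of_maxClass m3 hm
    (H3.nilpotencyClass_eq_of_card_centralizer_le (p := 2) (by omega) hm (x := ⟨z', RS zR'⟩) (by
      rw [← eR, ← card_subgroupOf] at c2
      refine le_of_eq_of_le (congrArg (fun X : Subgroup S => Nat.card X) ?_) c2
      ext s
      rw [mem_subgroupOf, mem_C1, mem_C1, Subtype.ext_iff]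
      rfl))
  exact no_cyc h hx hz hS hC h5

end H17.ZS

namespace H6
namespace ZD

open H24 H3.B71 Subgroup MulAction

variable {G Ω : Type*} [Group G] [Finite G] [MulAction G Ω] [Finite Ω] {Z : Set G}

theorem Sm.exists_bt (h : Sm Ω Z) {x : G} (hx : Wide Ω x) : ∃ (y : G) (a : Ω), BT Z y a := by
  by_contra! k
  have := h.nontriv
  obtain ⟨a⟩ : Nonempty Ω := inferInstance
  obtain ⟨z, hz, z', hz', hne, hc⟩ := h.pair_top a
  refine H17.ZS.main h (fun u hu v hv w hw h1 h2 h3 => by_contra fun ne => ?_) hx hz.1 hz'.1 hne hc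
  obtain ⟨b, hb⟩ := h.ze.ex v hv
  exact k u b ⟨hu, h.ze.fix_of_comm hv hb (mem_C1.1 h2).symm, v, ⟨hv, mem_C1_comm.1 h2, hb⟩, w,
    ⟨hw, mem_C1_comm.1 h3, h.ze.fix_of_comm hv hb h1⟩, ne, h1⟩

end ZD
end H6
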