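import Mathlib
import Cfsg.Agent.H6.ZLoc
import Cfsg.Agent.H6.ZS
import Cfsg.Agent.H6.ZCC
import Cfsg.Agent.H6.ZMu
import Cfsg.Agent.H6.ZC3
import Cfsg.Agent.H6.ZI
import Cfsg.Agent.H6.ZIIa
import Cfsg.Agent.H6.ZIIb
import Cfsg.Agent.H6.StrongEmb

/-! Aschbacher's criterion for strong embedding. -/

set_option autoImplicit false

namespace H6
namespace ZD

open H24 H3.B71 Subgroup MulAction

universe u

theorem ih_all (n : ℕ) : IH.{u} n := by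
  induction n with
  | zero => intro G Ω _ _ _ _ Z hn; exact absurd hn (Nat.not_lt_zero _)
  | succ n ih =>
    intro G Ω _ _ _ _ Z hn hs hnt hz x hx
    have hM : Mn Ω Z := mn_of_ih (fun G' Ω' _ _ _ _ Z' hn' => ih G' Ω' Z' (by omega)) ⟨hz, hs, hnt⟩
    have hC := hM.cl
    obtain ⟨y0, a0, h0⟩ := hM.toSm.exists_bt hx
    obtain ⟨⟨y, a⟩, hy, hmax⟩ := Set.exists_max_image {q : G × Ω | BT Z q.1 q.2}
      (fun q => ♯(Az Z C{q.1} q.2)) (Set.toFinite _) ⟨(y0, a0), h0⟩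
    obtain ⟨b, hb, hyb⟩ := hy.1.exists_ne a
    obtain ⟨t, d, i, -, hB⟩ := hC.exists_Bt' hy hyb hb
    have hm : Mx Ω Z d := fun v b hv => hB.pl.cardA ▸ hmax (v, b) hv
    by_cases hi : i = 3
    · subst hi
      exact hB.not_c hm
    rcases hB.mu_cases hm hi with e | ⟨rfl, e⟩
    · have h2 := hB.c2 hi e
      rcases h2.i12 with rfl | rfl
      · exact h2.not_a
      · exact h2.not_b
    · exact hB.not_I hm e

/-- in a simple group with a `Z`-structure every involution fixes at most one point -/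
theorem Sm.nar {G Ω : Type u} [Group G] [Finite G] [MulAction G Ω] [Finite Ω] {Z : Set G}
    (h : Sm Ω Z) {x : G} (hx : Inv x) : Nar Ω x := by
  by_contra e
  exact ih_all (Nat.card G + 1) G Ω Z (Nat.lt_succ_self _) h.simple h.nontriv h.ze x ⟨hx, e⟩

variable {G : Type u} [Group G] [Finite G]

theorem ze_cosets {M : Subgroup G} {z : G} (hz : Inv z) (hzM : z ∈ M) (h1 : Odd (C{z}).index)
    (h2 : ∀ g : G, g * z * g⁻¹ ∈ M → g ∈ M)
    (h3 : ∀ g : G, z * (g * z * g⁻¹) = (g * z * g⁻¹) * z → g * z * g⁻¹ ≠ z →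
      C{z * (g * z * g⁻¹)} ≤ M) : ZE (G ⧸ M) {x | ∃ g : G, g * z * g⁻¹ = x} := by
  have hfix : ∀ g : G, (g * z * g⁻¹) • (g : G ⧸ M) = (g : G ⧸ M) := fun g =>
    (smul_coe_eq_iff M _ _).mpr (by simpa [mul_assoc] using hzM)
  have huniq : ∀ (g : G) (c : G ⧸ M), (g * z * g⁻¹) • c = c → c = g := fun g c hc => by
    obtain ⟨x, rfl⟩ := QuotientGroup.mk_surjective c
    exact QuotientGroup.eq.mpr (h2 _ (by
      simpa [mul_assoc] using (smul_coe_eq_iff M _ _).mp hc))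
  have hC : C{z} ≤ M := fun g hg => h2 g (by rwa [mem_C1_iff_conj.mp hg])
  refine ⟨?_, ?_, ?_, ?_, fun a => ?_, ?_⟩
  · rintro _ ⟨g, rfl⟩; exact hz.conj g
  · rintro _ ⟨g, rfl⟩ x; exact ⟨x * g, by group⟩
  · rintro _ ⟨g, rfl⟩; exact ⟨_, hfix g⟩
  · rintro _ ⟨g, rfl⟩ a b ha hb; rw [huniq g a ha, huniq g b hb]
  · obtain ⟨x, rfl⟩ := QuotientGroup.mk_surjective a
    exact ⟨_, ⟨x, rfl⟩, hfix x⟩
  · rintro _ ⟨g, rfl⟩ _ ⟨g', rfl⟩ hne hc
    have e0 : g' * z * g'⁻¹ = g * ((g⁻¹ * g') * z * (g⁻¹ * g')⁻¹) * g⁻¹ := by group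
    rw [e0] at hne hc ⊢
    rw [conj_mul] at hc ⊢
    rw [conj_mul, mul_left_inj, mul_right_inj] at hc
    refine Nar.conj ?_ g
    have hne' : (g⁻¹ * g') * z * (g⁻¹ * g')⁻¹ ≠ z := fun e => hne (by rw [e])
    have hy := hz.mul (hz.conj (g⁻¹ * g')) hne'.symm hc
    have hyM := h3 _ hc hne'
    set y := z * ((g⁻¹ * g') * z * (g⁻¹ * g')⁻¹)
    suffices ∀ c : G ⧸ M, y • c = c → c = ((1 : G) : G ⧸ M) from fun a b ha hb => by
      rw [this a ha, this b hb]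
    intro c hc
    obtain ⟨x, rfl⟩ := QuotientGroup.mk_surjective c
    have hx := (smul_coe_eq_iff M _ _).mp hc
    obtain ⟨_, ⟨m, hm, rfl⟩, e⟩ := exists_cent_of_not_dvd (S := {x | ∃ y ∈ M, y * z * y⁻¹ = x})
      Nat.prime_two (hy.conj x⁻¹).two (by
        rintro w hw _ ⟨m, hm, rfl⟩
        exact ⟨w * m, mul_mem (zpowers_le.mpr (by rwa [inv_inv]) hw) hm, by group⟩)
      (by rw [← relIndex_C1]; exact not_two_dvd (h1.of_dvd_nat (relIndex_dvd_index_of_le hC)))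
    have e1 := mem_C1.mp (e (mem_zpowers _))
    have := h2 (x * m) (hyM (mem_C1.mpr (by
      calc _ = x * (m * z * m⁻¹ * (x⁻¹ * y * x⁻¹⁻¹)) * x⁻¹ := by group
        _ = _ := by rw [← e1]; group)))
    exact QuotientGroup.eq.mpr (by simpa using (M.mul_mem_cancel_right hm).mp this)

theorem s1175 [IsSimpleGroup G] {M : Subgroup G} (hM : M ≠ ⊤) {z : G} (hz : orderOf z = 2)
    (hzM : z ∈ M) (h1 : ∃ S : Sylow 2 G, z ∈ S ∧ ∀ s ∈ S, Commute s z)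
    (h2 : ∀ g : G, g * z * g⁻¹ ∈ M → g ∈ M)
    (h3 : ∀ g : G, Commute z (g * z * g⁻¹) → g * z * g⁻¹ ≠ z → C{z * (g * z * g⁻¹)} ≤ M) :
    Cfsg.IsStronglyEmbedded M := by
  have hinv : ∀ t : G, orderOf t = 2 → Inv t := fun t ht =>
    ⟨fun e => by simp [e] at ht, by rw [← pow_two, ← ht, pow_orderOf_eq_one]⟩
  obtain ⟨S, -, hS⟩ := h1
  have h : Sm (G ⧸ M) {x | ∃ g : G, g * z * g⁻¹ = x} := ⟨ze_cosets (hinv z hz) hzM
    ((Nat.not_even_iff_odd.mp fun e => S.not_dvd_index (even_iff_two_dvd.mp e)).of_dvd_nat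
      (index_dvd_of_le fun s hs => mem_C1.mpr (hS s hs).eq)) h2 h3, inferInstance,
    H26.BR.nontrivial_cosets hM⟩
  refine isStronglyEmbedded_iff.mpr ⟨hM, H21.even_card_of_invol hzM (hinv z hz).1 (hinv z hz).2,
    fun g t ht ho hg => ?_⟩
  have := h.nar (hinv t ho) ((g⁻¹ : G) : G ⧸ M) ((1 : G) : G ⧸ M)
    ((smul_coe_eq_iff M _ _).mpr (by rwa [inv_inv])) ((smul_coe_eq_iff M _ _).mpr (by simpa using ht))
  simpa using QuotientGroup.eq.mp this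

theorem s1174 [IsSimpleGroup G] (S : Sylow 2 G) {T : Subgroup G} (hT1 : T ≠ ⊥)
    (hT : Cfsg.IsStronglyClosed T (S : Subgroup G))
    (hprop : (⨆ t : {t : G // t ∈ T ∧ orderOf t = 2}, C{(t : G)}) ≠ ⊤) :
    Cfsg.IsStronglyEmbedded N[⨆ t : {t : G // t ∈ T ∧ orderOf t = 2}, C{(t : G)}] := by
  set M0 := ⨆ t : {t : G // t ∈ T ∧ orderOf t = 2}, C{(t : G)}
  have hC : ∀ t ∈ T, orderOf t = 2 → C{t} ≤ M0 := fun t ht ho =>
    le_iSup (fun t : {t : G // t ∈ T ∧ orderOf t = 2} => C{(t : G)}) ⟨t, ht, ho⟩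
  have hS : Syl 2 ⊤ (S : Subgroup G) := syl_top_of_sylow Nat.prime_two S
  have hTS : (S : Subgroup G) ≤ N[T] := le_N_iff.mpr fun s hs x hx =>
    hT.2 x hx s (mul_mem (mul_mem hs (hT.1 hx)) (inv_mem hs))
  obtain ⟨z, hz, hz2⟩ : ∃ z ∈ T ⊓ C[(S : Subgroup G)], orderOf z = 2 :=
    exists_orderOf_eq Nat.prime_two ((hS.pi.of_le (inf_le_left.trans hT.1)).dvd_card
      ((hS.pi.nil Nat.prime_two).inf_C_ne_bot ⟨hT.1, hTS⟩ hT1))
  have hSz : (S : Subgroup G) ≤ C{z} := mem_C_iff_le_C1.mp hz.2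
  have hSM : (S : Subgroup G) ≤ M0 := hSz.trans (hC z hz.1 hz2)
  have hzM : z ∈ M0 := hSM (hT.1 hz.1)
  have hN : N[(S : Subgroup G)] ≤ N[M0] := fun n hn => mem_N_of_cj_le (cj_le_iff.mpr
    (iSup_le fun t => cj_le_iff.mp (by
      rw [cj_C1]
      exact hC _ (hT.2 _ t.2.1 n (conj_mem hn (hT.1 t.2.1))) (by rw [H24.orderOf_conj, t.2.2]))))
  have hzp : ∀ g : G, IsPi {2} (zpowers (g * z * g⁻¹)) := fun g =>
    isPi_of_card_prime Nat.prime_two (by rw [Nat.card_zpowers, H24.orderOf_conj, hz2])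
  refine s1175 (fun e => ?_) hz2 (norm_self _ hzM) ⟨S, hT.1 hz.1, fun s hs => mem_C1.mp (hSz hs)⟩
    (fun g hg => ?_) fun g hc hne => ?_
  · rcases (normalizer_eq_top_iff.mp e).eq_bot_or_eq_top with e1 | e1
    · rw [e1, mem_bot] at hzM
      simp [hzM] at hz2
    · exact hprop e1
  · obtain ⟨m, hm, h1⟩ := Sylow_Jsub Nat.prime_two (hS.of_le (hSM.trans (norm_self _)) le_top)
      (hzp g) (zpowers_le.mpr hg)
    have h2 : (m * g) * z * (m * g)⁻¹ ∈ T := hT.2 z hz.1 _ (by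
      simpa [mul_assoc] using h1 (conj_mem_cj m (mem_zpowers _)))
    have h3 : cj (m * g) S ≤ M0 := ((cj_mono _ hSz).trans (cj_C1 _ _).le).trans
      (hC _ h2 (by rw [H24.orderOf_conj, hz2]))
    obtain ⟨m0, hm0, h4⟩ := Sylow_Jsub Nat.prime_two (hS.of_le hSM le_top) (hS.pi.cj _) h3
    rw [← cj_mul] at h4
    have := hN (mem_N_of_cj_le h4)
    rwa [Subgroup.mul_mem_cancel_left _ (norm_self _ hm0), Subgroup.mul_mem_cancel_left _ hm] at this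
  · obtain ⟨c, hc', h1⟩ := Sylow_Jsub Nat.prime_two (hS.of_le hSz le_top)
      (hzp g) (zpowers_le.mpr (mem_C1.mpr hc.eq.symm))
    have h2 : (c * g) * z * (c * g)⁻¹ ∈ T := hT.2 z hz.1 _ (by
      simpa [mul_assoc] using h1 (conj_mem_cj c (mem_zpowers _)))
    have e : c * (z * (g * z * g⁻¹)) * c⁻¹ = z * ((c * g) * z * (c * g)⁻¹) := by
      rw [← conj_mul, mem_C1_iff_conj.mp hc']; group
    have hi : Inv z := ⟨fun e => by simp [e] at hz2, by rw [← pow_two, ← hz2, pow_orderOf_eq_one]⟩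
    have h3 := hC _ (mul_mem hz.1 h2) (by
      rw [← e, H24.orderOf_conj]; exact (hi.mul (hi.conj g) hne.symm hc.eq).orderOf_eq)
    rw [← e, ← cj_C1, cj_le_iff, cj_of_mem (inv_mem (hC z hz.1 hz2 hc'))] at h3
    exact h3.trans (norm_self _)

end ZD
end H6
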