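import Mathlib
import Cfsg.Agent.H6.TI
import Cfsg.Agent.H6.RankThree
import Cfsg.Agent.H1.Coprime
import Cfsg.Agent.H2.Frattini

/-!
# TI families in 2-groups; chains of elementary abelian subgroups of order 8
-/

set_option autoImplicit false

namespace H6

open Subgroup H22
open scoped commutatorElement

variable {G : Type*} [Group G]

/-- a proper subgroup of a `p`-subgroup `K` lies in a proper subgroup normalized by `K` -/
theorem exists_lt_normalized [Finite G] {p : ℕ} [Fact p.Prime] {R K : Subgroup G}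
    (hK : IsPGroup p K) (h : R < K) :
    ∃ M : Subgroup G, R ≤ M ∧ M < K ∧ K ≤ normalizer (M : Set G) := by
  have h1 : R.subgroupOf K ≠ ⊤ := fun e => h.ne (le_antisymm h.le (subgroupOf_eq_top.1 e))
  obtain ⟨M, hM, hRM⟩ := (eq_top_or_exists_le_coatom (R.subgroupOf K)).resolve_left h1
  have hn := H2.IsPGroup.normal_of_isCoatom hK hM
  refine ⟨M.map K.subtype, fun x hx => ⟨⟨x, h.le hx⟩, hRM hx, rfl⟩,
    lt_of_le_of_ne (map_subtype_le _) fun e => hM.1 ?_, fun k hk => ?_⟩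
  · rw [eq_top_iff]
    intro x _
    have : (x : G) ∈ M.map K.subtype := e.symm ▸ x.2
    obtain ⟨y, hy, e'⟩ := this
    exact (Subtype.ext e' : y = x) ▸ hy
  · apply mem_normalizer_of_conj_mem
    rintro _ ⟨a, ha, rfl⟩
    exact ⟨_, hn.conj_mem a ha ⟨k, hk⟩, rfl⟩

theorem exists_not_mem_sq_mem {N : Subgroup G} {t : G} {k : ℕ} (hk : t ^ 2 ^ k = 1)
    (ht : t ∉ N) : ∃ j : ℕ, t ^ 2 ^ j ∉ N ∧ (t ^ 2 ^ j) ^ 2 ∈ N := by
  by_contra hcon
  push Not at hcon
  have : ∀ j, t ^ 2 ^ j ∉ N := by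
    intro j
    induction j with
    | zero => simpa using ht
    | succ j ih =>
      rw [pow_succ, pow_mul]
      exact hcon j ih
  exact this k (hk ▸ N.one_mem)

theorem exists_orderFour {x : G} {k : ℕ} (hk : x ^ 2 ^ k = 1) (hx : x ^ 2 ≠ 1) :
    ∃ j : ℕ, (x ^ 2 ^ j) ^ 2 ≠ 1 ∧ (x ^ 2 ^ j) ^ 4 = 1 := by
  obtain ⟨j, h1, h2⟩ := exists_not_mem_sq_mem (N := ⊥) (t := x ^ 2) (k := k)
    (by rw [← pow_mul, mul_comm, pow_mul, hk, one_pow]) (by simpa using hx)
  refine ⟨j, fun e => h1 ?_, ?_⟩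
  · rw [mem_bot, ← pow_mul, mul_comm, pow_mul, e]
  · rw [mem_bot] at h2
    rw [← h2, ← pow_mul, ← pow_mul, ← pow_mul]
    congr 1
    ring

/-- the core of the commuting lemma for TI families -/
theorem ti_pair_normalizes [Finite G] {R T : Subgroup G} (hT2 : IsPGroup 2 T)
    (hR2 : IsPGroup 2 R) (hcard : Nat.card T ≤ Nat.card R) (hx : ∃ x ∈ R, x ^ 2 ≠ 1)
    (hRt : ∀ t ∈ T, cj t R = R ∨ (cj t R ⊓ R = ⊥ ∧ ∀ a ∈ R, ∀ b ∈ cj t R, a * b = b * a))
    (hTr : ∀ r ∈ R, cj r T = T ∨ (cj r T ⊓ T = ⊥ ∧ ∀ a ∈ T, ∀ b ∈ cj r T, a * b = b * a)) :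
    T ≤ normalizer (R : Set G) := by
  by_contra hcon
  obtain ⟨t0, ht0, ht0n⟩ := SetLike.not_le_iff_exists.1 hcon
  obtain ⟨k, hk⟩ := isPGroup_iff_forall_mem.1 hT2 t0 ht0
  obtain ⟨j, htn, ht2⟩ := exists_not_mem_sq_mem hk ht0n
  set t := t0 ^ 2 ^ j with htdef
  have ht : t ∈ T := pow_mem ht0 _
  obtain ⟨hdisj, hcomm⟩ := (hRt t ht).resolve_left fun e => htn (cj_eq_iff.1 e)
  have hfix : ∀ a ∈ R, t * a * t⁻¹ ∈ R → a = 1 := fun a ha h => by
    have : t * a * t⁻¹ ∈ cj t R ⊓ R := ⟨conj_mem_cj ha, h⟩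
    rw [hdisj, mem_bot, conj_eq_one_iff] at this
    exact this
  by_cases hRN : R ≤ normalizer (T : Set G)
  · -- the map `r ↦ [r, t]` is a bijection `R → T`
    let f : R → T := fun r => ⟨r * t * r⁻¹ * t⁻¹,
      mul_mem (conj_mem_of_mem_normalizer (hRN r.2) ht) (inv_mem ht)⟩
    have hf : Function.Injective f := by
      intro r s e
      have e' : (r : G) * t * (r : G)⁻¹ * t⁻¹ = s * t * (s : G)⁻¹ * t⁻¹ := congrArg Subtype.val e
      have e2 : t * ((s : G)⁻¹ * r) * t⁻¹ = (s : G)⁻¹ * r := by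
        have : (s : G)⁻¹ * r * t = t * ((s : G)⁻¹ * r) := by
          calc (s : G)⁻¹ * r * t = (s : G)⁻¹ * (r * t * (r : G)⁻¹ * t⁻¹) * t * r := by group
            _ = (s : G)⁻¹ * (s * t * (s : G)⁻¹ * t⁻¹) * t * r := by rw [e']
            _ = _ := by group
        rw [← this]; group
      have := hfix _ (mul_mem (inv_mem s.2) r.2) (e2.symm ▸ mul_mem (inv_mem s.2) r.2)
      exact Subtype.ext (inv_mul_eq_one.1 this).symm
    have hb := (Nat.bijective_iff_injective_and_card f).2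
      ⟨hf, le_antisymm (Nat.card_le_card_of_injective f hf) hcard⟩
    obtain ⟨r, hr⟩ := hb.2 ⟨t, ht⟩
    have e : (r : G) * t * (r : G)⁻¹ * t⁻¹ = t := congrArg Subtype.val hr
    apply htn
    rw [← e]
    have : (r : G) * t * (r : G)⁻¹ * t⁻¹ = r * (t * (r : G)⁻¹ * t⁻¹) := by group
    rw [this]
    refine mul_mem (le_normalizer r.2) (mem_normalizer_of_conj_mem fun a ha => ?_)
    rw [← hcomm a ha _ (conj_mem_cj (inv_mem r.2)), mul_inv_cancel_right]
    exact ha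
  · have hinv : ∀ r ∈ R, r ∉ normalizer (T : Set G) → r ^ 2 = 1 := by
      intro r hr hrn
      obtain ⟨-, hc⟩ := (hTr r hr).resolve_left fun e => hrn (cj_eq_iff.1 e)
      have c1 := hc t ht _ (conj_mem_cj (g := r) ht)
      have c2 := hcomm r hr _ (conj_mem_cj (g := t) hr)
      have h2 : t * t * r * (t * t)⁻¹ ∈ R := conj_mem_of_mem_normalizer (by rwa [← sq]) hr
      apply hfix _ (pow_mem hr 2)
      -- `(r^t)^2 = r * r^(t^2)`
      have e : t * r ^ 2 * t⁻¹ = r * (t * t * r * (t * t)⁻¹) := by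
        have c3 : t * t * r * (t * t)⁻¹ = t * (t * r * t⁻¹) * t⁻¹ := by group
        have c4 : t * r * t⁻¹ = (r * t * r⁻¹ * t⁻¹)⁻¹ * r := by group
        have c5 : t * (r * t * r⁻¹ * t⁻¹)⁻¹ * t⁻¹ = (r * t * r⁻¹ * t⁻¹)⁻¹ := by
          have : t * (r * t * r⁻¹ * t⁻¹) * t⁻¹ = r * t * r⁻¹ * t⁻¹ := by
            calc t * (r * t * r⁻¹ * t⁻¹) * t⁻¹ = t * (r * t * r⁻¹) * t⁻¹ * t⁻¹ := by group
              _ = _ := by rw [c1]; group
          calc t * (r * t * r⁻¹ * t⁻¹)⁻¹ * t⁻¹ = (t * (r * t * r⁻¹ * t⁻¹) * t⁻¹)⁻¹ := by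
                simp only [mul_inv_rev, inv_inv, mul_assoc]
            _ = _ := by rw [this]
        have c6 : t * (t * r * t⁻¹) * t⁻¹ = (r * t * r⁻¹ * t⁻¹)⁻¹ * (t * r * t⁻¹) := by
          conv_lhs => rw [c4]
          calc t * ((r * t * r⁻¹ * t⁻¹)⁻¹ * r) * t⁻¹
              = t * (r * t * r⁻¹ * t⁻¹)⁻¹ * t⁻¹ * (t * r * t⁻¹) := by group
            _ = _ := by rw [c5]
        rw [c3, c6]
        calc t * r ^ 2 * t⁻¹ = (t * r * t⁻¹) * (t * r * t⁻¹) := by rw [sq]; group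
          _ = r * ((t * r * t⁻¹) * r⁻¹) * (t * r * t⁻¹) := by
            have : r * ((t * r * t⁻¹) * r⁻¹) = t * r * t⁻¹ := by
              rw [← mul_assoc, c2, mul_inv_cancel_right]
            rw [this]
          _ = _ := by group
      rw [e]
      exact mul_mem hr h2
    obtain ⟨r, hr, hrn⟩ := SetLike.not_le_iff_exists.1 hRN
    obtain ⟨x0, hx0, hx02⟩ := hx
    obtain ⟨k', hk'⟩ := isPGroup_iff_forall_mem.1 hR2 x0 hx0
    obtain ⟨j', hx2, hx4⟩ := exists_orderFour hk' hx02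
    set x := x0 ^ 2 ^ j' with hxdef
    have hx : x ∈ R := pow_mem hx0 _
    have hxn : x ∈ normalizer (T : Set G) := by
      by_contra h
      exact hx2 (hinv x hx h)
    have hr2 := hinv r hr hrn
    have hxr := hinv (x * r) (mul_mem hx hr) fun h => hrn (by simpa using mul_mem (inv_mem hxn) h)
    have hrx : r * x * r⁻¹ = x⁻¹ := by
      have : r⁻¹ = r := by rw [inv_eq_iff_mul_eq_one, ← sq, hr2]
      rw [this, eq_inv_iff_mul_eq_one]
      have e : r * x * r * x = x⁻¹ * (x * r) ^ 2 * x := by rw [sq]; group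
      rw [e, hxr]; group
    obtain ⟨hd, -⟩ := (hTr r hr).resolve_left fun e => hrn (cj_eq_iff.1 e)
    have hy := conj_mem_cj (g := t) (inv_mem hx)
    set y := t * x⁻¹ * t⁻¹ with hydef
    have hc : x * y ∈ T := by
      have : x * y = x * t * x⁻¹ * t⁻¹ := by rw [hydef]; group
      rw [this]
      exact mul_mem (conj_mem_of_mem_normalizer hxn ht) (inv_mem ht)
    have cxy : Commute x y := hcomm x hx y hy
    have cry : Commute r y := hcomm r hr y hy
    have e1 : r * (x * y) ^ 2 * r⁻¹ = (x * y) ^ 2 := by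
      have : r * (x * y) ^ 2 * r⁻¹ = (r * x * r⁻¹) ^ 2 * (r * y * r⁻¹) ^ 2 := by
        rw [cxy.mul_pow]; simp only [sq]; group
      rw [this, hrx, cry.eq, mul_inv_cancel_right, cxy.mul_pow]
      congr 1
      rw [inv_pow, inv_eq_iff_mul_eq_one, ← pow_add, hx4]
    have : (x * y) ^ 2 ∈ cj r T ⊓ T :=
      ⟨e1 ▸ conj_mem_cj (pow_mem hc 2), pow_mem hc 2⟩
    rw [hd, mem_bot, cxy.mul_pow] at this
    apply hx2
    apply hfix _ (pow_mem hx 2)
    have e2 : t * x ^ 2 * t⁻¹ = x ^ 2 := by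
      have : t * x ^ 2 * t⁻¹ = (y ^ 2)⁻¹ := by
        rw [hydef]; simp only [sq, mul_inv_rev, inv_inv, mul_assoc, inv_mul_cancel_left]
      rw [this, inv_eq_iff_mul_eq_one, (cxy.pow_pow 2 2).symm.eq]
      assumption
    rw [e2]
    exact pow_mem hx 2

/-- distinct members of an invariant TI family of non-elementary subgroups of a 2-group commute -/
theorem ti_family_comm [Finite G] {S : Subgroup G} (hS : IsPGroup 2 S) (Δ : Set (Subgroup G))
    (hinv : ∀ s ∈ S, ∀ R ∈ Δ, cj s R ∈ Δ) (hexp : ∀ R ∈ Δ, ∃ x ∈ R, x ^ 2 ≠ 1)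
    (hord : ∀ R ∈ Δ, ∀ T ∈ Δ, Nat.card R = Nat.card T)
    (hti : ∀ R ∈ Δ, ∀ T ∈ Δ, R = T ∨ R ⊓ T = ⊥) :
    ∀ R ∈ Δ, ∀ T ∈ Δ, R ≤ S → T ≤ S → R ≠ T → ∀ a ∈ R, ∀ b ∈ T, a * b = b * a := by
  suffices H : ∀ n : ℕ, ∀ R ∈ Δ, ∀ T ∈ Δ, Nat.card ↥(R ⊔ T) = n → R ≤ S → T ≤ S → R ≠ T →
      ∀ a ∈ R, ∀ b ∈ T, a * b = b * a from fun R hR T hT => H _ R hR T hT rfl
  intro n
  induction n using Nat.strong_induction_on with
  | _ n ih =>
  have key : ∀ R ∈ Δ, ∀ T ∈ Δ, Nat.card ↥(R ⊔ T) = n → R ≤ S → T ≤ S → R ≠ T →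
      ∀ t ∈ T, cj t R = R ∨ (cj t R ⊓ R = ⊥ ∧ ∀ a ∈ R, ∀ b ∈ cj t R, a * b = b * a) := by
    intro R hR T hT hn hRS hTS hne t ht
    by_cases e : cj t R = R
    · exact Or.inl e
    refine Or.inr ⟨(hti _ (hinv t (hTS ht) R hR) R hR).resolve_left e, ?_⟩
    have hlt : R < R ⊔ T := lt_of_le_of_ne le_sup_left fun h => hne
      (eq_of_le_of_card_ge (h ▸ le_sup_right : T ≤ R) (hord R hR T hT).le).symm
    obtain ⟨M, hRM, hMK, hMn⟩ := exists_lt_normalized
      (hS.to_le (sup_le hRS hTS : R ⊔ T ≤ S)) hlt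
    have htM : cj t R ≤ M := cj_le_iff.2 fun a ha =>
      conj_mem_of_mem_normalizer (hMn (mem_sup_right ht)) (hRM ha)
    refine ih _ ?_ R hR _ (hinv t (hTS ht) R hR) rfl hRS
      (htM.trans (hMK.le.trans (sup_le hRS hTS))) (Ne.symm e)
    rw [← hn]
    exact H2.card_lt_of_lt (lt_of_le_of_lt (sup_le hRM htM) hMK)
  intro R hR T hT hn hRS hTS hne a ha b hb
  have k1 := key R hR T hT hn hRS hTS hne
  have k2 := key T hT R hR (by rw [sup_comm]; exact hn) hTS hRS hne.symm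
  have n1 := ti_pair_normalizes (hS.to_le hTS) (hS.to_le hRS) (hord T hT R hR).le
    (hexp R hR) k1 k2
  have n2 := ti_pair_normalizes (hS.to_le hRS) (hS.to_le hTS) (hord R hR T hT).le
    (hexp T hT) k2 k1
  exact mul_comm_of_normalizes ((hti R hR T hT).resolve_left hne) ha hb (n2 ha) (n1 hb)

theorem exists_sq_ne_one_of_frattini [Finite G] {R : Subgroup G} (h : frattini R ≠ ⊥) :
    ∃ x ∈ R, x ^ 2 ≠ 1 := by
  by_contra hcon
  push Not at hcon
  have hsq : ∀ x : R, x ^ 2 = 1 := fun x => Subtype.ext (hcon x x.2)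
  have : IsMulCommutative R := ⟨⟨fun a b => by
    have ha := hsq a; have hb := hsq b; have hab := hsq (a * b)
    rw [sq] at ha hb hab
    calc a * b = a * (a * b * (a * b)) * b := by rw [hab, mul_one]
      _ = (a * a) * (b * a) * (b * b) := by group
      _ = b * a := by rw [ha, hb]; group⟩⟩
  exact h (H2.frattini_eq_bot_of_elementary Nat.prime_two hsq)

/-- if `C(Q) ≤ Q = O_p(G)`, an element acting trivially on `Q/Φ(Q)` lies in `Q` -/
theorem mem_pCore_of_frattini [Finite G] {p : ℕ} [hp : Fact p.Prime]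
    (hC : centralizer (Cfsg.pCore p G : Set G) ≤ Cfsg.pCore p G) {g : G}
    (hg : ∀ q ∈ Cfsg.pCore p G, g * q * g⁻¹ * q⁻¹ ∈
      (frattini (Cfsg.pCore p G)).map (Cfsg.pCore p G).subtype) : g ∈ Cfsg.pCore p G := by
  set Q := Cfsg.pCore p G with hQ
  set P := (frattini Q).map Q.subtype with hP
  have hQn : Q.Normal := inferInstance
  have hPn : P.Normal := inferInstance
  let C : Subgroup G :=
    { carrier := {g | ∀ q ∈ Q, g * q * g⁻¹ * q⁻¹ ∈ P}
      one_mem' := fun q _ => by simp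
      mul_mem' := fun {a b} ha hb q hq => by
        have : a * b * q * (a * b)⁻¹ * q⁻¹ =
          a * (b * q * b⁻¹ * q⁻¹) * a⁻¹ * (a * q * a⁻¹ * q⁻¹) := by group
        rw [this]
        exact mul_mem (hPn.conj_mem _ (hb q hq) a) (ha q hq)
      inv_mem' := fun {a} ha q hq => by
        have : a⁻¹ * q * a⁻¹⁻¹ * q⁻¹ = a⁻¹ * (a * q * a⁻¹ * q⁻¹)⁻¹ * a⁻¹⁻¹ := by group
        rw [this]
        exact hPn.conj_mem _ (inv_mem (ha q hq)) _ }
  have hCn : C.Normal := ⟨fun a ha x q hq => by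
    have : x * a * x⁻¹ * q * (x * a * x⁻¹)⁻¹ * q⁻¹ =
      x * (a * (x⁻¹ * q * x⁻¹⁻¹) * a⁻¹ * (x⁻¹ * q * x⁻¹⁻¹)⁻¹) * x⁻¹ := by group
    rw [this]
    exact hPn.conj_mem _ (ha _ (hQn.conj_mem q hq _)) x⟩
  refine H2.le_pCore hCn (isPGroup_iff_forall_mem.2 fun a ha => ?_) hg
  obtain ⟨k, hk⟩ := exists_pow_coprime (p := p) (isOfFinOrder_of_finite a)
  have h1 : zpowers (a ^ p ^ k) ≤ centralizer (Q : Set G) := by
    apply H1.le_centralizer_of_frattini _ _ (by rw [normalizer_eq_top]; exact le_top)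
    · rw [Nat.card_zpowers]
      exact H1.card_coprime_of_isPGroup ((H2.pCore_isPGroup p G).to_subgroup _) hk
    · intro b hb
      exact (zpowers_le.2 (pow_mem ha _) : zpowers (a ^ p ^ k) ≤ C) hb
  have h2 : a ^ p ^ k ∈ Q := hC (h1 (mem_zpowers _))
  obtain ⟨m, hm⟩ := isPGroup_iff_forall_mem.1 (H2.pCore_isPGroup p G) _ h2
  exact ⟨k + m, by rw [pow_add, pow_mul, hm]⟩

theorem sq_mem_pCore_of_ti [Finite G]
    (hC : centralizer (Cfsg.pCore 2 G : Set G) ≤ Cfsg.pCore 2 G) {A : Subgroup G}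
    (hA2 : IsPGroup 2 A) (hAa : IsMulCommutative A) (hti : IsTI A) {a : G} (ha : a ∈ A) :
    a ^ 2 ∈ Cfsg.pCore 2 G := by
  by_cases ha2 : a ^ 2 = 1
  · rw [ha2]; exact one_mem _
  set Q := Cfsg.pCore 2 G with hQ
  have hQn : Q.Normal := inferInstance
  have hS : IsPGroup 2 ↥(A ⊔ Q) := isPGroup_sup_of_le_normalizer hA2 (H2.pCore_isPGroup 2 G)
    (by rw [normalizer_eq_top]; exact le_top)
  have key := ti_family_comm hS (Set.range fun g => cj g A)
    (by rintro s - _ ⟨g, rfl⟩; exact ⟨s * g, cj_mul _ _ _⟩)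
    (by
      rintro _ ⟨g, rfl⟩
      refine ⟨_, conj_mem_cj ha, fun h => ha2 ?_⟩
      rwa [conj_pow, conj_eq_one_iff] at h)
    (by rintro _ ⟨g, rfl⟩ _ ⟨h, rfl⟩; rw [card_cj, card_cj])
    (by
      rintro _ ⟨g, rfl⟩ _ ⟨h, rfl⟩
      have := hti.cj h (g * h⁻¹)
      rwa [← cj_mul, inv_mul_cancel_right] at this)
  apply mem_pCore_of_frattini hC
  intro q hq
  have hc : a * (q * a * q⁻¹) = q * a * q⁻¹ * a := by
    by_cases e : cj q A = A
    · exact comm_of_isMulCommutative hAa ha (e ▸ conj_mem_cj ha)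
    · exact key A ⟨1, cj_one A⟩ (cj q A) ⟨q, rfl⟩ le_sup_left
        (cj_le_iff.2 fun b hb => mul_mem (mul_mem (mem_sup_right hq) (mem_sup_left hb))
          (inv_mem (mem_sup_right hq))) (Ne.symm e) a ha _ (conj_mem_cj ha)
  have hq' : a * q * a⁻¹ * q⁻¹ ∈ Q := mul_mem (hQn.conj_mem q hq a) (inv_mem hq)
  have e : a ^ 2 * q * (a ^ 2)⁻¹ * q⁻¹ = (a * q * a⁻¹ * q⁻¹) ^ 2 := by
    have c : Commute a (q * a * q⁻¹)⁻¹ := (show Commute a (q * a * q⁻¹) from hc).inv_right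
    have : a * q * a⁻¹ * q⁻¹ = a * (q * a * q⁻¹)⁻¹ := by group
    rw [this, c.mul_pow]
    simp only [sq]; group
  rw [e]
  exact ⟨⟨_, hq'⟩ ^ 2, H2.IsPGroup.pow_mem_frattini (H2.pCore_isPGroup 2 G) _, rfl⟩

theorem mem_closure_sq_iff {A : Subgroup G} (hAa : IsMulCommutative A) {x : G} :
    x ∈ closure ((fun a : G => a ^ 2) '' (A : Set G)) ↔ ∃ a ∈ A, a ^ 2 = x := by
  constructor
  · intro hx
    induction hx using closure_induction with
    | mem x hx => exact hx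
    | one => exact ⟨1, one_mem _, one_pow 2⟩
    | mul x y _ _ hx hy =>
      obtain ⟨a, ha, rfl⟩ := hx
      obtain ⟨b, hb, rfl⟩ := hy
      exact ⟨a * b, mul_mem ha hb,
        (show Commute a b from comm_of_isMulCommutative hAa ha hb).mul_pow 2⟩
    | inv x _ hx =>
      obtain ⟨a, ha, rfl⟩ := hx
      exact ⟨a⁻¹, inv_mem ha, inv_pow a 2⟩
  · exact fun h => subset_closure h

theorem ti_squares [Finite G]
    (hC : centralizer (Cfsg.pCore 2 G : Set G) ≤ Cfsg.pCore 2 G) {A : Subgroup G}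
    (hA2 : IsPGroup 2 A) (hAa : IsMulCommutative A) (hti : IsTI A) :
    closure ((fun a : G => a ^ 2) '' (A : Set G)) ≤ Cfsg.pCore 2 G ∧
      (¬ Cfsg.IsElementaryAbelian 2 (closure ((fun a : G => a ^ 2) '' (A : Set G))) →
        IsMulCommutative ↥(normalClosure ((fun a : G => a ^ 2) '' (A : Set G)))) := by
  set B := closure ((fun a : G => a ^ 2) '' (A : Set G)) with hB
  have hBQ : B ≤ Cfsg.pCore 2 G := by
    rw [hB, closure_le]
    rintro _ ⟨a, ha, rfl⟩
    exact sq_mem_pCore_of_ti hC hA2 hAa hti ha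
  have hBA : B ≤ A := by
    rw [hB, closure_le]
    rintro _ ⟨a, ha, rfl⟩
    exact pow_mem ha 2
  refine ⟨hBQ, fun hne => ?_⟩
  have hBa : ∀ x ∈ B, ∀ y ∈ B, x * y = y * x := fun x hx y hy =>
    comm_of_isMulCommutative hAa (hBA hx) (hBA hy)
  obtain ⟨b, hb, hb2⟩ : ∃ b ∈ B, b ^ 2 ≠ 1 := by
    by_contra h
    push Not at h
    exact hne ⟨isMulCommutative_of_comm hBa, h⟩
  have hBti : IsTI B := fun g => by
    rcases hti g with e | e
    · left
      apply cj_eq_of_le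
      rw [cj_le_iff]
      intro x hx
      obtain ⟨a, ha, rfl⟩ := (mem_closure_sq_iff hAa).1 hx
      exact (mem_closure_sq_iff hAa).2 ⟨_, e ▸ conj_mem_cj ha, conj_pow⟩
    · right
      rw [eq_bot_iff, ← e]
      exact inf_le_inf (cj_mono hBA) hBA
  have hQn : (Cfsg.pCore 2 G).Normal := inferInstance
  have key := ti_family_comm (H2.pCore_isPGroup 2 G) (Set.range fun g => cj g B)
    (by rintro s - _ ⟨g, rfl⟩; exact ⟨s * g, cj_mul _ _ _⟩)
    (by
      rintro _ ⟨g, rfl⟩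
      refine ⟨_, conj_mem_cj hb, fun h => hb2 ?_⟩
      rwa [conj_pow, conj_eq_one_iff] at h)
    (by rintro _ ⟨g, rfl⟩ _ ⟨h, rfl⟩; rw [card_cj, card_cj])
    (by
      rintro _ ⟨g, rfl⟩ _ ⟨h, rfl⟩
      have := hBti.cj h (g * h⁻¹)
      rwa [← cj_mul, inv_mul_cancel_right] at this)
  have hle : ∀ g, cj g B ≤ Cfsg.pCore 2 G := fun g => cj_le_iff.2 fun a ha =>
    hQn.conj_mem a (hBQ ha) g
  have key2 : ∀ g h : G, ∀ x ∈ cj g B, ∀ y ∈ cj h B, x * y = y * x := by
    intro g h x hx y hy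
    by_cases e : cj g B = cj h B
    · rw [← e] at hy
      have := hBa _ (mem_cj.1 hx) _ (mem_cj.1 hy)
      calc x * y = g * (g⁻¹ * x * g * (g⁻¹ * y * g)) * g⁻¹ := by group
        _ = _ := by rw [this]; group
    · exact key _ ⟨g, rfl⟩ _ ⟨h, rfl⟩ (hle g) (hle h) e x hx y hy
  apply isMulCommutative_of_comm
  have hgen : ∀ x ∈ Group.conjugatesOfSet ((fun a : G => a ^ 2) '' (A : Set G)),
      ∃ g, x ∈ cj g B := by
    intro x hx
    obtain ⟨a, ha, hc⟩ := Group.mem_conjugatesOfSet_iff.1 hx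
    obtain ⟨g, rfl⟩ := isConj_iff.1 hc
    exact ⟨g, conj_mem_cj (subset_closure ha)⟩
  intro x hx y hy
  refine closure_induction₂ (p := fun x y _ _ => x * y = y * x) ?_ ?_ ?_ ?_ ?_ ?_ ?_ hx hy
  · intro x y hx hy
    obtain ⟨g, hg⟩ := hgen x hx
    obtain ⟨h, hh⟩ := hgen y hy
    exact key2 g h x hg y hh
  · intro x _; simp
  · intro x _; simp
  · intro x y z _ _ _ h1 h2; exact (Commute.mul_left h1 h2).eq
  · intro x y z _ _ _ h1 h2; exact (Commute.mul_right h1 h2).eq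
  · intro x y _ _ h; exact (Commute.inv_left h).eq
  · intro x y _ _ h; exact (Commute.inv_right h).eq

/-- an involution normalizing an elementary abelian 2-subgroup `F` has `|F| ≤ |C_F(t)|²` -/
theorem card_le_sq_card_centralizer [Finite G] {F : Subgroup G}
    (hF : Cfsg.IsElementaryAbelian 2 F) {t : G} (ht : t ^ 2 = 1)
    (hn : t ∈ normalizer (F : Set G)) :
    Nat.card F ≤ Nat.card ↥(F ⊓ centralizer ({t} : Set G)) ^ 2 := by
  have hc : ∀ {a b : G}, a ∈ F → b ∈ F → a * b = b * a := comm_of_isMulCommutative hF.1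
  have hm : ∀ {a : G}, a ∈ F → t * a * t⁻¹ ∈ F := conj_mem_of_mem_normalizer hn
  have htt : t * t = 1 := by rw [← sq, ht]
  let φ : F →* ↥(F ⊓ centralizer ({t} : Set G)) :=
    { toFun := fun f => ⟨t * f * t⁻¹ * f, mul_mem (hm f.2) f.2, mem_centralizer_singleton.2 (by
        have : t * (t * f * t⁻¹ * f) * t⁻¹ = (t * t) * f * (t * t)⁻¹ * (t * f * t⁻¹) := by group
        rw [htt, one_mul, inv_one, mul_one, hc f.2 (hm f.2)] at this
        symm
        calc t * (t * f * t⁻¹ * f) = t * (t * f * t⁻¹ * f) * t⁻¹ * t := by group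
          _ = _ := by rw [this])⟩
      map_one' := by ext; simp
      map_mul' := fun a b => by
        ext
        simp only [coe_mul]
        have := hc a.2 (hm b.2)
        calc t * (a * b) * t⁻¹ * (a * b) = t * a * t⁻¹ * (t * b * t⁻¹ * a) * b := by group
          _ = _ := by rw [← this]; group }
  have h1 : Nat.card φ.ker ≤ Nat.card ↥(F ⊓ centralizer ({t} : Set G)) := by
    rw [← H2.card_map_subtype]
    apply card_le_of_le
    rintro _ ⟨f, hf, rfl⟩
    refine ⟨f.2, mem_centralizer_singleton.2 ?_⟩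
    have e : t * f * t⁻¹ * f = 1 := congrArg Subtype.val hf
    have e2 : (f : G) * f = 1 := by rw [← sq, hF.2 f f.2]
    have : t * f * t⁻¹ = f := mul_right_cancel (e.trans e2.symm)
    simp only [coe_subtype]
    symm
    calc t * f = t * f * t⁻¹ * t := by group
      _ = _ := by rw [this]
  rw [← φ.ker.card_mul_index, index_ker, sq]
  exact Nat.mul_le_mul h1 (Nat.card_le_card_of_injective _ Subtype.val_injective)

theorem card_le_pow_card_centralizer [Finite G] {A : Subgroup G}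
    (hA : Cfsg.IsElementaryAbelian 2 A) : ∀ (j : ℕ) (A₀ F : Subgroup G), A₀ ≤ A →
      Nat.card A = 2 ^ j * Nat.card A₀ → Cfsg.IsElementaryAbelian 2 F →
      A ≤ normalizer (F : Set G) → F ≤ centralizer (A₀ : Set G) →
      Nat.card F ≤ Nat.card ↥(F ⊓ centralizer (A : Set G)) ^ 2 ^ j := by
  intro j
  induction j with
  | zero =>
    intro A₀ F h0 hc _ _ hF
    have : A₀ = A := eq_of_le_of_card_ge h0 (by simpa using hc.le)
    rw [← this, inf_of_le_left hF]
    simp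
  | succ j ih =>
    intro A₀ F h0 hc hF hn hFc
    have hlt : ¬ A ≤ A₀ := fun h => by
      have h1 := card_le_of_le h
      have h2 : 0 < Nat.card A₀ := Nat.card_pos
      have h3 : 1 ≤ 2 ^ j := Nat.one_le_two_pow
      rw [hc, pow_succ] at h1
      nlinarith
    obtain ⟨a, ha, ha0⟩ := SetLike.not_le_iff_exists.1 hlt
    have hAc : ∀ {a b : G}, a ∈ A → b ∈ A → a * b = b * a := comm_of_isMulCommutative hA.1
    have han : a ∈ normalizer (A₀ : Set G) := mem_normalizer_of_conj_mem fun b hb => by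
      rwa [hAc ha (h0 hb), mul_inv_cancel_right]
    have hcard := H2.card_sup_zpowers_of_pow_prime_mem Nat.prime_two han ha0
      (by rw [hA.2 a ha]; exact one_mem _)
    have h1 := card_le_sq_card_centralizer hF (hA.2 a ha) (hn ha)
    have h2 := ih (zpowers a ⊔ A₀) (F ⊓ centralizer ({a} : Set G))
      (sup_le (zpowers_le.2 ha) h0) (by rw [hc, hcard]; ring)
      ⟨isMulCommutative_of_comm fun x hx y hy => comm_of_isMulCommutative hF.1 hx.1 hy.1,
        fun x hx => hF.2 x hx.1⟩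
      (fun b hb => mem_normalizer_inf (hn hb) (mem_normalizer_of_conj_mem fun c hc => by
        rw [mem_centralizer_singleton] at hc ⊢
        have := hAc ha hb
        symm
        calc a * (b * c * b⁻¹) = b * (a * c) * b⁻¹ := by rw [← mul_assoc, ← mul_assoc, this]; group
          _ = b * c * (a * b⁻¹) := by rw [← hc]; group
          _ = _ := by rw [hAc ha (inv_mem hb)]; group))
      (by
        rw [le_centralizer_iff]
        refine sup_le (zpowers_le.2 fun f hf => mem_centralizer_singleton.1 hf.2) ?_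
        rw [← le_centralizer_iff]
        exact inf_le_left.trans hFc)
    refine h1.trans ?_
    rw [pow_succ 2 j, pow_mul]
    refine Nat.pow_le_pow_left (h2.trans (Nat.pow_le_pow_left (card_le_of_le ?_) _)) 2
    exact inf_le_inf_right _ inf_le_left

theorem exists_between_card_pow [Finite G] {p m n : ℕ} [Fact p.Prime] {H X : Subgroup G}
    (hXH : X ≤ H) (hX : Nat.card X = p ^ m) (hmn : m ≤ n) (hn : p ^ n ∣ Nat.card H) :
    ∃ K : Subgroup G, X ≤ K ∧ K ≤ H ∧ Nat.card K = p ^ n := by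
  obtain ⟨K, hK, hXK⟩ := Sylow.exists_subgroup_card_pow_prime_le p hn (X.subgroupOf H)
    (by rw [H2.card_subgroupOf_of_le hXH, hX]) hmn
  refine ⟨K.map H.subtype, ?_, map_subtype_le _, by rw [H2.card_map_subtype, hK]⟩
  intro x hx
  exact ⟨⟨x, hXH hx⟩, hXK (by simpa [mem_subgroupOf] using hx), rfl⟩

theorem pow_dvd_card_of_lt [Finite G] {H : Subgroup G} (hH : IsPGroup 2 H) {n : ℕ}
    (h : 2 ^ n < 2 * Nat.card H) : 2 ^ n ∣ Nat.card H := by
  obtain ⟨k, hk⟩ := hH.exists_card_eq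
  rw [hk] at h ⊢
  apply pow_dvd_pow
  rw [← pow_succ'] at h
  have := (Nat.pow_lt_pow_iff_right (by norm_num : 1 < 2)).1 h
  omega

theorem IsEA.isPGroup {A : Subgroup G} (h : Cfsg.IsElementaryAbelian 2 A) : IsPGroup 2 A :=
  isPGroup_iff_forall_mem.2 fun a ha => ⟨1, by simpa using h.2 a ha⟩

theorem IsEA.of_le {A B : Subgroup G} (h : Cfsg.IsElementaryAbelian 2 A) (hle : B ≤ A) :
    Cfsg.IsElementaryAbelian 2 B :=
  ⟨isMulCommutative_of_comm fun _ hx _ hy => comm_of_isMulCommutative h.1 (hle hx) (hle hy),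
    fun x hx => h.2 x (hle hx)⟩

theorem IsEA.sup {A B : Subgroup G} (hA : Cfsg.IsElementaryAbelian 2 A)
    (hB : Cfsg.IsElementaryAbelian 2 B) (h : ∀ a ∈ A, ∀ b ∈ B, a * b = b * a) :
    Cfsg.IsElementaryAbelian 2 (A ⊔ B) := by
  have hn : A ≤ normalizer (B : Set G) := fun a ha => by
    rw [mem_normalizer_iff]
    intro b
    constructor
    · intro hb; rwa [h a ha b hb, mul_inv_cancel_right]
    · intro hb
      have := h a ha _ hb
      have e : b = a * b * a⁻¹ := by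
        have : a * (a * b * a⁻¹) = a * b := by rw [this]; group
        exact (mul_left_cancel this).symm
      rwa [e]
  constructor
  · apply isMulCommutative_of_comm
    intro x hx y hy
    obtain ⟨a, ha, b, hb, rfl⟩ := (mem_sup_of_le_normalizer hn).1 hx
    obtain ⟨c, hc, d, hd, rfl⟩ := (mem_sup_of_le_normalizer hn).1 hy
    have c1 : Commute a c := comm_of_isMulCommutative hA.1 ha hc
    have c2 : Commute a d := h a ha d hd
    have c3 : Commute b c := (h c hc b hb).symm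
    have c4 : Commute b d := comm_of_isMulCommutative hB.1 hb hd
    exact ((c1.mul_right c2).mul_left (c3.mul_right c4)).eq
  · intro x hx
    obtain ⟨a, ha, b, hb, rfl⟩ := (mem_sup_of_le_normalizer hn).1 hx
    rw [(show Commute a b from h a ha b hb).mul_pow, hA.2 a ha, hB.2 b hb, one_mul]

theorem e8_step [Finite G] {E : Subgroup G} [E.Normal] (hE : Cfsg.IsElementaryAbelian 2 E)
    (hE32 : 32 ≤ Nat.card E) {A : Subgroup G} (hA : Cfsg.IsElementaryAbelian 2 A)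
    (hA8 : Nat.card A = 8) {k : ℕ} (hk : k < 3) (hAE : 2 ^ k ∣ Nat.card ↥(A ⊓ E)) :
    ∃ D : Subgroup G, Cfsg.IsElementaryAbelian 2 D ∧ Nat.card D = 8 ∧ ⁅A, D⁆ = ⊥ ∧
      2 ^ (k + 1) ∣ Nat.card ↥(D ⊓ E) := by
  obtain ⟨A₀, -, hA₀, hA₀c⟩ := exists_between_card_pow (p := 2) (m := 0) (bot_le : ⊥ ≤ A ⊓ E)
    (by simp) (Nat.zero_le k) hAE
  have h1 := card_le_pow_card_centralizer hA (3 - k) A₀ E (hA₀.trans inf_le_left)
    (by rw [hA8, hA₀c, ← pow_add, Nat.sub_add_cancel hk.le]; rfl) hE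
    (by rw [normalizer_eq_top]; exact le_top)
    (fun e he a ha => comm_of_isMulCommutative hE.1 (hA₀ ha).2 he)
  have h2 : 2 ^ (k + 1) ∣ Nat.card ↥(E ⊓ centralizer (A : Set G)) := by
    apply pow_dvd_card_of_lt ((IsEA.isPGroup hE).to_le inf_le_left)
    by_contra hcon
    push Not at hcon
    have h3 : Nat.card ↥(E ⊓ centralizer (A : Set G)) ≤ 2 ^ k := by
      rw [pow_succ] at hcon; omega
    have h4 := hE32.trans (h1.trans (Nat.pow_le_pow_left h3 _))
    interval_cases k <;> norm_num at h4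
  obtain ⟨U, -, hU, hUc⟩ := exists_between_card_pow (p := 2) (m := 0)
    (bot_le : ⊥ ≤ E ⊓ centralizer (A : Set G)) (by simp) (Nat.zero_le _) h2
  have hUA : Cfsg.IsElementaryAbelian 2 (A ⊔ U) := IsEA.sup hA
    (IsEA.of_le hE (hU.trans inf_le_left)) fun a ha u hu => (hU hu).2 a ha
  obtain ⟨D, hUD, hD, hDc⟩ := exists_between_card_pow (p := 2) (n := 3)
    (le_sup_right : U ≤ A ⊔ U) hUc hk (by
      have := card_dvd_of_le (le_sup_left : A ≤ A ⊔ U)
      rwa [hA8] at this)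
  refine ⟨D, IsEA.of_le hUA hD, hDc, ?_, ?_⟩
  · rw [H23.comm_bot_iff]
    exact fun a ha d hd => comm_of_isMulCommutative hUA.1 (mem_sup_left ha) (hD hd)
  · rw [← hUc]
    exact card_dvd_of_le (le_inf hUD (hU.trans inf_le_left))

theorem e8_connected [Finite G] {E : Subgroup G} [E.Normal] (hE : Cfsg.IsElementaryAbelian 2 E)
    (hE32 : 32 ≤ Nat.card E) (A B : Subgroup G) (hA : Cfsg.IsElementaryAbelian 2 A)
    (hA8 : Nat.card A = 8) (hB : Cfsg.IsElementaryAbelian 2 B) (hB8 : Nat.card B = 8) :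
    Relation.ReflTransGen (fun C D : Subgroup G => Cfsg.IsElementaryAbelian 2 C ∧
      Nat.card C = 8 ∧ Cfsg.IsElementaryAbelian 2 D ∧ Nat.card D = 8 ∧ ⁅C, D⁆ = ⊥) A B := by
  set r := fun C D : Subgroup G => Cfsg.IsElementaryAbelian 2 C ∧
      Nat.card C = 8 ∧ Cfsg.IsElementaryAbelian 2 D ∧ Nat.card D = 8 ∧ ⁅C, D⁆ = ⊥ with hr
  have key : ∀ A : Subgroup G, Cfsg.IsElementaryAbelian 2 A → Nat.card A = 8 →
      ∃ D, Cfsg.IsElementaryAbelian 2 D ∧ Nat.card D = 8 ∧ D ≤ E ∧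
        Relation.ReflTransGen r A D := by
    intro A hA hA8
    obtain ⟨D1, a1, b1, c1, d1⟩ := e8_step hE hE32 hA hA8 (k := 0) (by norm_num) (by simp)
    obtain ⟨D2, a2, b2, c2, d2⟩ := e8_step hE hE32 a1 b1 (k := 1) (by norm_num) d1
    obtain ⟨D3, a3, b3, c3, d3⟩ := e8_step hE hE32 a2 b2 (k := 2) (by norm_num) d2
    refine ⟨D3, a3, b3, ?_, ?_⟩
    · rw [← inf_eq_left]
      exact eq_of_le_of_card_ge inf_le_left (by rw [b3]; exact Nat.le_of_dvd Nat.card_pos d3)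
    · exact ((Relation.ReflTransGen.single ⟨hA, hA8, a1, b1, c1⟩).tail
        ⟨a1, b1, a2, b2, c2⟩).tail ⟨a2, b2, a3, b3, c3⟩
  have hsymm : ∀ C D, Relation.ReflTransGen r C D → Relation.ReflTransGen r D C := by
    intro C D h
    induction h with
    | refl => exact Relation.ReflTransGen.refl
    | tail _ h ih =>
      exact ih.head ⟨h.2.2.1, h.2.2.2.1, h.1, h.2.1, H23.comm_bot_symm h.2.2.2.2⟩
  obtain ⟨C, c1, c2, c3, c4⟩ := key A hA hA8
  obtain ⟨D, d1, d2, d3, d4⟩ := key B hB hB8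
  refine (c4.tail ⟨c1, c2, d1, d2, ?_⟩).trans (hsymm _ _ d4)
  rw [H23.comm_bot_iff]
  exact fun a ha b hb => comm_of_isMulCommutative hE.1 (c3 ha) (d3 hb)

theorem exists_e8_of_four [Finite G] {E : Subgroup G} [E.Normal]
    (hE : Cfsg.IsElementaryAbelian 2 E) (hE32 : 32 ≤ Nat.card E) (V : Subgroup G)
    (hV : Cfsg.IsElementaryAbelian 2 V) (hV4 : Nat.card V = 4) :
    ∃ A : Subgroup G, V ≤ A ∧ Cfsg.IsElementaryAbelian 2 A ∧ Nat.card A = 8 := by
  have hVC : Cfsg.IsElementaryAbelian 2 (V ⊔ (E ⊓ centralizer (V : Set G))) := IsEA.sup hV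
    (IsEA.of_le hE inf_le_left) fun a ha u hu => hu.2 a ha
  have hlt : V < V ⊔ (E ⊓ centralizer (V : Set G)) := by
    refine lt_of_le_of_ne le_sup_left fun e => ?_
    have hle : E ⊓ centralizer (V : Set G) ≤ V := le_sup_right.trans e.ge
    have h1 := card_le_pow_card_centralizer hV 2 ⊥ E bot_le (by simp [hV4]) hE
      (by rw [normalizer_eq_top]; exact le_top)
      (fun e _ v hv => by rw [mem_bot.1 hv, one_mul, mul_one])
    have h2 : 2 ^ 2 ∣ Nat.card ↥(E ⊓ centralizer (V : Set G)) := by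
      apply pow_dvd_card_of_lt ((IsEA.isPGroup hE).to_le inf_le_left)
      by_contra hcon
      push Not at hcon
      have h3 : Nat.card ↥(E ⊓ centralizer (V : Set G)) ≤ 2 := by omega
      have h4 := hE32.trans (h1.trans (Nat.pow_le_pow_left h3 _))
      norm_num at h4
    have h3 : E ⊓ centralizer (V : Set G) = V :=
      eq_of_le_of_card_ge hle (by rw [hV4]; exact Nat.le_of_dvd Nat.card_pos h2)
    have h4 : V ≤ E := h3 ▸ inf_le_left
    have h5 : E ≤ V := by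
      rw [← h3]
      exact le_inf le_rfl fun e he v hv => comm_of_isMulCommutative hE.1 (h4 hv) he
    have := card_le_of_le h5
    omega
  have h8 : 2 ^ 3 ∣ Nat.card ↥(V ⊔ (E ⊓ centralizer (V : Set G))) := by
    apply pow_dvd_card_of_lt (IsEA.isPGroup hVC)
    have := H2.card_lt_of_lt hlt
    omega
  obtain ⟨D, hVD, hD, hDc⟩ := exists_between_card_pow (p := 2) (m := 2) (n := 3)
    hlt.le hV4 (by norm_num) h8
  exact ⟨D, hVD, IsEA.of_le hVC hD, hDc⟩

end H6
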