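import Mathlib
import Cfsg.Agent.H6.OneFix

/-!
# Groups in which involution centralizers are elementary abelian 2-groups
-/

set_option autoImplicit false

namespace H6

open Subgroup H22 MulAction

variable {G : Type*} [Group G] {Ω : Type*} [MulAction G Ω]

theorem eq_one_of_odd_of_mul_self {d : G} (hd : Odd (orderOf d)) (h : d * d = 1) : d = 1 := by
  by_contra hne
  rw [orderOf_eq_two_of h hne] at hd
  exact absurd hd (by decide)

/-- the abstract setting of `SL₂(2ⁿ)` on the projective line -/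
structure CEA (G Ω : Type*) [Group G] [MulAction G Ω] : Prop where
  oneFix : OneFix G Ω
  two : ∀ x : Ω, ∃ s t : G, orderOf s = 2 ∧ orderOf t = 2 ∧ s ≠ t ∧ s • x = x ∧ t • x = x
  comm : ∀ (x : Ω) (s t : G), s * s = 1 → t * t = 1 → s • x = x → t • x = x → s * t = t * s
  cent : ∀ s c : G, orderOf s = 2 → c * s = s * c → c * c = 1

namespace CEA

variable [Finite G] (h : CEA G Ω)
include h

theorem exists_swap {x y : Ω} (hxy : x ≠ y) : ∃ u : G, orderOf u = 2 ∧ u • x = y ∧ u • y = x := by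
  obtain ⟨s, -, hs, -, -, hsx, -⟩ := h.two x
  obtain ⟨t, -, ht, -, -, hty, -⟩ := h.two y
  obtain ⟨v, -, hv, -, h1, h2⟩ := h.oneFix.exists_swap hs ht hsx hty hxy
  exact ⟨v, hv, h1, h2⟩

theorem eq_one_of_comm {d s : G} {x y : Ω} (hxy : x ≠ y) (hx : d • x = x) (hy : d • y = y)
    (hs : orderOf s = 2) (hc : d * s = s * d) : d = 1 :=
  eq_one_of_odd_of_mul_self (h.oneFix.odd_orderOf_of_fix_two hxy hx hy) (h.cent s d hs hc)

theorem exists_mul {g : G} {x y : Ω} (hxy : x ≠ y) (hg : g • x = x) :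
    ∃ d t : G, d • x = x ∧ d • y = y ∧ t * t = 1 ∧ t • x = x ∧ g = d * t := by
  obtain ⟨s, -, hs, -, -, hsx, -⟩ := h.two x
  obtain ⟨u, hu, hux, huy⟩ := h.exists_swap hxy
  obtain ⟨k, hk1, hk2, -, hk4⟩ := h.oneFix.exists_conj_of_swap (mul_self_of_orderOf_two hu)
    (x := x) (by rw [hux]; exact hxy.symm) hs (t := g * s * g⁻¹) (by rw [orderOf_conj, hs]) hsx
    (by have := conj_smul_smul g s hsx; rwa [hg] at this)
  refine ⟨k, k⁻¹ * g, hk1, hux ▸ hk2, h.cent s _ hs ?_, ?_, by group⟩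
  · calc k⁻¹ * g * s = k⁻¹ * (g * s * g⁻¹) * g := by group
      _ = _ := by rw [← hk4]; group
  · rw [mul_smul, hg, inv_smul_eq_iff, hk1]

theorem inverts {u d : G} (hu : u * u = 1) {x : Ω} (hux : u • x ≠ x) (hx : d • x = x)
    (hy : d • u • x = u • x) : u * d * u⁻¹ = d⁻¹ := by
  obtain ⟨s, -, hs, -, -, hsx, -⟩ := h.two x
  obtain ⟨k, hk1, hk2, hk3, hk4⟩ := h.oneFix.exists_conj_of_swap hu hux hs
    (t := d * s * d⁻¹) (by rw [orderOf_conj, hs]) hsx
    (by have := conj_smul_smul d s hsx; rwa [hx] at this)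
  have : k⁻¹ * d = 1 := h.eq_one_of_comm hux.symm (by rw [mul_smul, hx, inv_smul_eq_iff, hk1])
    (by rw [mul_smul, hy, inv_smul_eq_iff, hk2]) hs (by
      calc k⁻¹ * d * s = k⁻¹ * (d * s * d⁻¹) * d := by group
        _ = _ := by rw [← hk4]; group)
  rw [inv_mul_eq_one] at this
  rw [← this, hk3]

theorem comm_of_fix_two {d e : G} {x y : Ω} (hxy : x ≠ y) (hd : d • x = x) (hd' : d • y = y)
    (he : e • x = x) (he' : e • y = y) : d * e = e * d := by
  obtain ⟨u, hu, rfl, -⟩ := h.exists_swap hxy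
  have hu2 := mul_self_of_orderOf_two hu
  have h1 := h.inverts hu2 hxy.symm hd hd'
  have h2 := h.inverts hu2 hxy.symm he he'
  have h3 := h.inverts hu2 hxy.symm (d := d * e) (by rw [mul_smul, he, hd])
    (by rw [mul_smul, he', hd'])
  rw [show u * (d * e) * u⁻¹ = (u * d * u⁻¹) * (u * e * u⁻¹) by group, h1, h2, ← mul_inv_rev] at h3
  exact (inv_injective h3).symm

theorem eq_one_of_inverted {g e : G} {x y : Ω} (hxy : x ≠ y) (hg : g • x = x) (he : e • x = x)
    (he' : e • y = y) (hinv : g * e * g⁻¹ = e⁻¹) : e = 1 := by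
  obtain ⟨d, c, hd, hd', hc, hcx, rfl⟩ := h.exists_mul hxy hg
  have h1 := h.comm_of_fix_two hxy hd hd' he he'
  have h2 : c * e * c⁻¹ = e⁻¹ := by
    calc c * e * c⁻¹ = d⁻¹ * (d * c * e * (d * c)⁻¹) * d := by group
      _ = (d⁻¹ * (e⁻¹ * d)) := by rw [hinv]; group
      _ = (d⁻¹ * (e⁻¹ * (d * e))) * e⁻¹ := by group
      _ = _ := by rw [h1]; group
  have h3 : (c * e) * (c * e) = 1 := by
    calc (c * e) * (c * e) = (c * e * c⁻¹) * (c * c) * e := by group
      _ = 1 := by rw [h2, hc]; group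
  have h4 := h.comm x c (c * e) hc h3 hcx (by rw [mul_smul, he, hcx])
  rw [mul_assoc, mul_right_inj] at h4
  apply eq_one_of_odd_of_mul_self (h.oneFix.odd_orderOf_of_fix_two hxy he he')
  rw [h4, mul_inv_cancel_right] at h2
  nth_rewrite 1 [h2]
  exact inv_mul_cancel e

theorem eq_one_of_fix_three {e : G} {x y w : Ω} (hxy : x ≠ y) (hxw : x ≠ w) (hyw : y ≠ w)
    (hx : e • x = x) (hy : e • y = y) (hw : e • w = w) : e = 1 := by
  obtain ⟨u, hu, hux, huy⟩ := h.exists_swap hxy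
  obtain ⟨v, hv, hvx, hvw⟩ := h.exists_swap hxw
  have hu2 := mul_self_of_orderOf_two hu
  have hv2 := mul_self_of_orderOf_two hv
  have h1 := h.inverts hu2 (x := x) (by rw [hux]; exact hxy.symm) hx (by rw [hux, hy])
  have h2 := h.inverts hv2 (x := x) (by rw [hvx]; exact hxw.symm) hx (by rw [hvx, hw])
  have hne : x ≠ v • y := by
    intro e
    apply hyw
    rw [← hvx, e, smul_smul_of_mul_self hv2]
  have hfix : e • v • y = v • y := by
    have : e * v = v * e⁻¹ := by
      rw [← h2]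
      calc e * v = (v * v) * e * v := by rw [hv2, one_mul]
        _ = _ := by rw [inv_eq_of_mul_self hv2]; group
    rw [← mul_smul, this, mul_smul, inv_smul_eq_iff.2 hy.symm]
  obtain ⟨v', hv', hv'x, -⟩ := h.exists_swap hne
  have h3 := h.inverts (mul_self_of_orderOf_two hv') (x := x) (by rw [hv'x]; exact hne.symm) hx
    (by rw [hv'x, hfix])
  refine h.eq_one_of_inverted hxy (g := u * v * v')
    (by rw [mul_smul, mul_smul, hv'x, smul_smul_of_mul_self hv2, huy]) hx hy ?_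
  calc u * v * v' * e * (u * v * v')⁻¹ = u * (v * (v' * e * v'⁻¹) * v⁻¹) * u⁻¹ := by group
    _ = u * (v * e * v⁻¹)⁻¹ * u⁻¹ := by rw [h3]; group
    _ = _ := by rw [h2, inv_inv, h1]

theorem exists_ne_one_fix_two {x y : Ω} (hxy : x ≠ y) : ∃ e : G, e ≠ 1 ∧ e • x = x ∧ e • y = y := by
  obtain ⟨s, t, hs, ht, hst, hsx, htx⟩ := h.two x
  obtain ⟨u, hu, hux, -⟩ := h.exists_swap hxy
  obtain ⟨k, hk1, hk2, -, hk4⟩ := h.oneFix.exists_conj_of_swap (mul_self_of_orderOf_two hu)
    (x := x) (by rw [hux]; exact hxy.symm) hs ht hsx htx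
  refine ⟨k, ?_, hk1, hux ▸ hk2⟩
  rintro rfl
  exact hst (by simpa using hk4)

theorem exists_invol_smul_eq {x y w : Ω} (hxy : x ≠ y) (hxw : x ≠ w) :
    ∃ r : G, r * r = 1 ∧ r • x = x ∧ r • y = w := by
  obtain ⟨e, he1, hex, hew⟩ := h.exists_ne_one_fix_two hxw
  obtain ⟨d, t, hd, hd', ht, htx, rfl⟩ := h.exists_mul hxy hex
  have hd1 : d ≠ 1 := by
    rintro rfl
    exact he1 (eq_one_of_odd_of_mul_self (h.oneFix.odd_orderOf_of_fix_two hxw hex hew)
      (by rw [one_mul, ht]))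
  have hmul : ∀ a b : G, a * a = 1 → b * b = 1 → a • x = x → b • x = x →
      (a * b) * (a * b) = 1 := fun a b ha hb hax hbx => by
    have := h.comm x a b ha hb hax hbx
    calc (a * b) * (a * b) = a * (b * a) * b := by group
      _ = (a * a) * (b * b) := by rw [← this]; group
      _ = 1 := by rw [ha, hb, one_mul]
  have hcj : ∀ r : G, r * r = 1 → (d⁻¹ * r * d) * (d⁻¹ * r * d) = 1 := fun r hr => by
    calc _ = d⁻¹ * (r * r) * d := by group
      _ = 1 := by rw [hr]; group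
  have hcx : ∀ r : G, r • x = x → (d⁻¹ * r * d) • x = x := fun r hr => by
    rw [mul_smul, mul_smul, hd, hr, inv_smul_eq_iff, hd]
  let φ : {r : G // r * r = 1 ∧ r • x = x} → {r : G // r * r = 1 ∧ r • x = x} := fun r =>
    ⟨d⁻¹ * r * d * r, hmul _ _ (hcj _ r.2.1) r.2.1 (hcx _ r.2.2) r.2.2,
      by rw [mul_smul, r.2.2, hcx _ r.2.2]⟩
  have hφ : Function.Injective φ := by
    rintro ⟨a, ha, hax⟩ ⟨b, hb, hbx⟩ e
    have e' : d⁻¹ * a * d * a = d⁻¹ * b * d * b := congrArg Subtype.val e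
    by_contra hne
    have hab : b * a ≠ 1 := fun e => hne (Subtype.ext (by
      show a = b
      rw [← inv_eq_of_mul_self hb]; exact (inv_eq_of_mul_eq_one_right e).symm))
    apply hd1
    refine h.eq_one_of_comm hxy hd hd' (orderOf_eq_two_of (hmul b a hb ha hbx hax) hab) ?_
    calc d * (b * a) = (b * b) * d * (b * a) := by rw [hb, one_mul]
      _ = b * d * (d⁻¹ * b * d * b) * a := by group
      _ = b * a * d * (a * a) := by rw [← e']; group
      _ = _ := by rw [ha, mul_one]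
  obtain ⟨⟨r, hr, hrx⟩, e⟩ := (Finite.injective_iff_surjective.1 hφ) ⟨t, ht, htx⟩
  have e' : d⁻¹ * r * d * r = t := congrArg Subtype.val e
  refine ⟨r, hr, hrx, ?_⟩
  by_contra hne
  refine he1 (h.eq_one_of_fix_three (y := r • y) (w := w) ?_ hxw hne hex ?_ hew)
  · intro e
    apply hxy
    rw [← smul_smul_of_mul_self hr y, ← e, hrx]
  · rw [← e', ← mul_smul, show d * (d⁻¹ * r * d * r) * r = r * d * (r * r) by group, hr, mul_one,
      mul_smul, hd']

theorem exists_fix_two_smul_eq {x y w z : Ω} (hxy : x ≠ y) (hxw : x ≠ w) (hxz : x ≠ z)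
    (hyw : y ≠ w) (hyz : y ≠ z) : ∃ d : G, d • x = x ∧ d • y = y ∧ d • w = z := by
  obtain ⟨r, hr, hrx, rfl⟩ := h.exists_invol_smul_eq hxy hxw
  obtain ⟨r', hr', hrx', rfl⟩ := h.exists_invol_smul_eq hxy hxz
  obtain ⟨u, hu, hux, -⟩ := h.exists_swap hxy
  obtain ⟨k, hk1, hk2, -, hk4⟩ := h.oneFix.exists_conj_of_swap (mul_self_of_orderOf_two hu)
    (x := x) (by rw [hux]; exact hxy.symm)
    (orderOf_eq_two_of hr (by rintro rfl; simp at hyw))
    (orderOf_eq_two_of hr' (by rintro rfl; simp at hyz)) hrx hrx'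
  rw [hux] at hk2
  refine ⟨k, hk1, hk2, ?_⟩
  rw [← hk4, mul_smul, mul_smul, inv_smul_eq_iff.2 hk2.symm]

theorem three_trans {x₁ x₂ x₃ y₁ y₂ y₃ : Ω} (h12 : x₁ ≠ x₂) (h13 : x₁ ≠ x₃) (h23 : x₂ ≠ x₃)
    (k12 : y₁ ≠ y₂) (k13 : y₁ ≠ y₃) (k23 : y₂ ≠ y₃) :
    ∃ g : G, g • x₁ = y₁ ∧ g • x₂ = y₂ ∧ g • x₃ = y₃ := by
  have : ∃ a : G, a • x₁ = y₁ := by
    by_cases e : x₁ = y₁
    · exact ⟨1, by rw [one_smul, e]⟩
    · obtain ⟨u, -, hu, -⟩ := h.exists_swap e
      exact ⟨u, hu⟩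
  obtain ⟨a, rfl⟩ := this
  obtain ⟨r, -, hr1, hr2⟩ := h.exists_invol_smul_eq (x := a • x₁) (y := a • x₂)
    (fun e => h12 (MulAction.injective a e)) k12
  obtain ⟨d, hd1, hd2, hd3⟩ := h.exists_fix_two_smul_eq (w := r • a • x₃) k12
    (fun e => h13 (MulAction.injective a (MulAction.injective r (hr1.trans e)))) k13
    (fun e => h23 (MulAction.injective a (MulAction.injective r (hr2.trans e)))) k23
  exact ⟨d * r * a, by rw [mul_smul, mul_smul, hr1, hd1], by rw [mul_smul, mul_smul, hr2, hd2],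
    by rw [mul_smul, mul_smul, hd3]⟩

end CEA

section Sylow

variable [Finite G] (T : Sylow 2 G) (hnc : ¬ IsCyclic (T : Subgroup G))
  (hC : ∀ t : G, orderOf t = 2 → IsMulCommutative (Subgroup.centralizer ({t} : Set G)) ∧
    ∀ c ∈ Subgroup.centralizer ({t} : Set G), c ^ 2 = 1)
include hnc hC

theorem cea_centralizer_eq {t : G} (ht : orderOf t = 2) (htT : t ∈ (T : Subgroup G)) :
    centralizer ({t} : Set G) = T := by
  have hp : ∀ t : G, orderOf t = 2 → IsPGroup 2 (centralizer ({t} : Set G)) := fun t ht =>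
    isPGroup_iff_forall_mem.2 fun c hc => ⟨1, (hC t ht).2 c hc⟩
  have hne : (T : Subgroup G) ≠ ⊥ := fun e => hnc (e ▸ inferInstance)
  obtain ⟨z, -, hz, hzc⟩ := exists_central_involution T.isPGroup' hne
  have h1 : (T : Subgroup G) ≤ centralizer ({z} : Set G) :=
    fun c hc => mem_centralizer_singleton.2 (hzc c hc)
  exact T.is_maximal' (hp t ht) fun c hc => mem_centralizer_singleton.2
    (comm_of_isMulCommutative (hC z hz).1 (h1 hc) (h1 htT))

theorem cea_mem_iff {t : G} : t ∈ (T : Subgroup G) ↔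
    t * t = 1 ∧ t ∈ normalizer ((T : Subgroup G) : Set G) := by
  constructor
  · intro ht
    have hne : (T : Subgroup G) ≠ ⊥ := fun e => hnc (e ▸ inferInstance)
    obtain ⟨z, hzT, hz⟩ := exists_involution_mem_of_isPGroup T.isPGroup' hne
    refine ⟨?_, le_normalizer ht⟩
    rw [← sq]
    exact (hC z hz).2 t (by rw [cea_centralizer_eq T hnc hC hz hzT]; exact ht)
  · rintro ⟨h1, h2⟩
    have := T.is_maximal' (isPGroup_sup_of_le_normalizer (isPGroup_zpowers (k := 1)
      (by rw [pow_one, sq, h1])) T.isPGroup' (zpowers_le.2 h2)) le_sup_right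
    rw [← this]
    exact mem_sup_left (mem_zpowers t)

theorem cea_isStronglyEmbedded (hnn : ¬ (T : Subgroup G).Normal) :
    Cfsg.IsStronglyEmbedded (Subgroup.normalizer ((T : Subgroup G) : Set G)) := by
  have hne : (T : Subgroup G) ≠ ⊥ := fun e => hnc (e ▸ inferInstance)
  obtain ⟨z, hzT, hz⟩ := exists_involution_mem_of_isPGroup T.isPGroup' hne
  refine isStronglyEmbedded_iff.2 ⟨fun e => hnn (normalizer_eq_top_iff.1 e),
    even_card_of_involution_mem (le_normalizer hzT) hz, fun g t htH ht hg => ?_⟩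
  have hg2 : orderOf (g * t * g⁻¹) = 2 := by rw [orderOf_conj, ht]
  have h1 := cea_centralizer_eq T hnc hC ht
    ((cea_mem_iff T hnc hC).2 ⟨mul_self_of_orderOf_two ht, htH⟩)
  have h2 := cea_centralizer_eq T hnc hC hg2
    ((cea_mem_iff T hnc hC).2 ⟨mul_self_of_orderOf_two hg2, hg⟩)
  rw [← cj_centralizer_singleton, h1] at h2
  exact cj_eq_iff.1 h2

theorem cea_of_sylow (hnn : ¬ (T : Subgroup G).Normal) :
    CEA G (G ⧸ Subgroup.normalizer ((T : Subgroup G) : Set G)) := by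
  refine ⟨oneFix_of_isStronglyEmbedded (cea_isStronglyEmbedded T hnc hC hnn), fun x => ?_,
    fun x s t hs ht hsx htx => ?_, fun s c hs hc => ?_⟩
  · obtain ⟨a, rfl⟩ := MulAction.exists_smul_eq G ((1 : G) : G ⧸ _) x
    have hne : (T : Subgroup G) ≠ ⊥ := fun e => hnc (e ▸ inferInstance)
    obtain ⟨s, hsT, hs⟩ := exists_involution_mem_of_isPGroup T.isPGroup' hne
    have : ∃ t ∈ (T : Subgroup G), t ∉ zpowers s := by
      by_contra hcon
      push Not at hcon
      apply hnc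
      rw [le_antisymm hcon (zpowers_le.2 hsT)]
      infer_instance
    obtain ⟨t, htT, hts⟩ := this
    have ht : orderOf t = 2 := orderOf_eq_two_of ((cea_mem_iff T hnc hC).1 htT).1
      (by rintro rfl; exact hts (one_mem _))
    refine ⟨a * s * a⁻¹, a * t * a⁻¹, by rw [orderOf_conj, hs], by rw [orderOf_conj, ht], ?_,
      conj_smul_smul a s ((smul_one_eq_iff _ _).2 (le_normalizer hsT)),
      conj_smul_smul a t ((smul_one_eq_iff _ _).2 (le_normalizer htT))⟩
    intro e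
    rw [mul_left_inj, mul_right_inj] at e
    exact hts (e ▸ mem_zpowers s)
  · obtain ⟨a, rfl⟩ := QuotientGroup.mk_surjective x
    rw [smul_coe_eq_iff] at hsx htx
    have hcj : ∀ r : G, r * r = 1 → (a⁻¹ * r * a) * (a⁻¹ * r * a) = 1 := fun r hr => by
      calc _ = a⁻¹ * (r * r) * a := by group
        _ = 1 := by rw [hr]; group
    have h1 := (cea_mem_iff T hnc hC).2 ⟨hcj s hs, hsx⟩
    have h2 := (cea_mem_iff T hnc hC).2 ⟨hcj t ht, htx⟩
    have h3 := ((cea_mem_iff T hnc hC).1 (mul_mem h1 h2)).1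
    have h4 : (s * t) * (s * t) = 1 := by
      calc _ = a * (a⁻¹ * s * a * (a⁻¹ * t * a) * (a⁻¹ * s * a * (a⁻¹ * t * a))) * a⁻¹ := by group
        _ = 1 := by rw [h3]; group
    rw [← inv_eq_of_mul_self h4, mul_inv_rev, inv_eq_of_mul_self hs, inv_eq_of_mul_self ht]
  · rw [← sq]
    exact (hC s hs).2 c (mem_centralizer_singleton.2 hc)

theorem cea_inf_spec (hnn : ¬ (T : Subgroup G).Normal) (u : G) (hu : orderOf u = 2)
    (huH : u ∉ Subgroup.normalizer ((T : Subgroup G) : Set G)) :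
    (∀ d ∈ Subgroup.normalizer ((T : Subgroup G) : Set G) ⊓
      cj u (Subgroup.normalizer ((T : Subgroup G) : Set G)), u * d * u⁻¹ = d⁻¹) ∧
    Nat.card (Subgroup.normalizer ((T : Subgroup G) : Set G)) = Nat.card T * (Nat.card T - 1) ∧
    Subgroup.IsComplement' ((Subgroup.normalizer ((T : Subgroup G) : Set G) ⊓
      cj u (Subgroup.normalizer ((T : Subgroup G) : Set G))).subgroupOf
        (Subgroup.normalizer ((T : Subgroup G) : Set G)))
      ((T : Subgroup G).subgroupOf (Subgroup.normalizer ((T : Subgroup G) : Set G))) := by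
  have h := cea_of_sylow T hnc hC hnn
  have hSE := cea_isStronglyEmbedded T hnc hC hnn
  set H := Subgroup.normalizer ((T : Subgroup G) : Set G) with hH
  have hux : u • ((1 : G) : G ⧸ H) ≠ ((1 : G) : G ⧸ H) := mt (smul_one_eq_iff H u).1 huH
  have hcompl : Subgroup.IsComplement' ((H ⊓ cj u H).subgroupOf H)
      ((T : Subgroup G).subgroupOf H) := by
    apply isComplement'_of_disjoint_and_mul_eq_univ
    · rw [disjoint_def]
      intro d hd hdT
      obtain ⟨h1, h2⟩ := (mem_inf_cj_iff H u d).1 hd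
      exact Subtype.ext (eq_one_of_odd_of_mul_self (h.oneFix.odd_orderOf_of_fix_two hux.symm h1 h2)
        ((cea_mem_iff T hnc hC).1 hdT).1)
    · rw [Set.eq_univ_iff_forall]
      rintro ⟨g, hg⟩
      obtain ⟨d, t, hd, hd', ht, htx, rfl⟩ := h.exists_mul hux.symm ((smul_one_eq_iff H g).2 hg)
      rw [smul_one_eq_iff] at htx
      exact ⟨⟨d, (smul_one_eq_iff H d).1 hd⟩, (mem_inf_cj_iff H u d).2 ⟨hd, hd'⟩, ⟨t, htx⟩,
        (cea_mem_iff T hnc hC).2 ⟨ht, htx⟩, rfl⟩
  refine ⟨fun d hd => ?_, ?_, hcompl⟩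
  · obtain ⟨h1, h2⟩ := (mem_inf_cj_iff H u d).1 hd
    exact h.inverts (mul_self_of_orderOf_two hu) hux h1 h2
  · have hne : (T : Subgroup G) ≠ ⊥ := fun e => hnc (e ▸ inferInstance)
    obtain ⟨s, hsT, hs⟩ := exists_involution_mem_of_isPGroup T.isPGroup' hne
    have h1 : Nat.card ↥(H ⊓ cj u H) = Nat.card {t : (T : Subgroup G) // t ≠ 1} := by
      refine Nat.card_congr (Equiv.ofBijective (fun d => ⟨⟨d * s * (d : G)⁻¹,
        conj_mem_of_mem_normalizer d.2.1 hsT⟩, fun e => ne_one_of_orderOf_two hs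
          (conj_eq_one_iff.1 (congrArg Subtype.val e))⟩) ⟨?_, ?_⟩)
      · rintro ⟨d, hd⟩ ⟨e, he⟩ hde
        have hde' : d * s * d⁻¹ = e * s * e⁻¹ := congrArg (fun x => (x.1 : G)) hde
        obtain ⟨h1, h2⟩ := (mem_inf_cj_iff H u _).1 (mul_mem (inv_mem he) hd)
        have := h.eq_one_of_comm hux.symm h1 h2 hs (by
          calc e⁻¹ * d * s = e⁻¹ * (d * s * d⁻¹) * d := by group
            _ = _ := by rw [hde']; group)
        rw [inv_mul_eq_one] at this
        exact Subtype.ext this.symm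
      · rintro ⟨⟨t, htT⟩, ht1⟩
        obtain ⟨d, hd, -, e⟩ := exists_conj_inf_of_isStronglyEmbedded hSE hu huH hs
          (le_normalizer hsT) (orderOf_eq_two_of ((cea_mem_iff T hnc hC).1 htT).1
            fun e => ht1 (Subtype.ext e)) (le_normalizer htT)
        exact ⟨⟨d, hd⟩, Subtype.ext (Subtype.ext e)⟩
    have h2 : Nat.card {t : (T : Subgroup G) // t ≠ 1} = Nat.card T - 1 := by
      classical
      have := Fintype.ofFinite (T : Subgroup G)
      rw [Nat.card_eq_fintype_card, Fintype.card_subtype_compl, Fintype.card_subtype_eq,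
        ← Nat.card_eq_fintype_card]
    rw [← hcompl.card_mul_card, Nat.card_congr (subgroupOfEquivOfLe inf_le_left).toEquiv,
      Nat.card_congr (subgroupOfEquivOfLe le_normalizer).toEquiv, h1, h2, mul_comm]

theorem cea_normalizer_inf (hnn : ¬ (T : Subgroup G).Normal) (u : G) (hu : orderOf u = 2)
    (huH : u ∉ Subgroup.normalizer ((T : Subgroup G) : Set G)) :
    Subgroup.normalizer ((Subgroup.normalizer ((T : Subgroup G) : Set G) ⊓
      cj u (Subgroup.normalizer ((T : Subgroup G) : Set G)) : Subgroup G) : Set G) =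
      (Subgroup.normalizer ((T : Subgroup G) : Set G) ⊓
        cj u (Subgroup.normalizer ((T : Subgroup G) : Set G))) ⊔ Subgroup.zpowers u ∧
    ∀ g : G, ((∀ d ∈ Subgroup.normalizer ((T : Subgroup G) : Set G) ⊓
      cj u (Subgroup.normalizer ((T : Subgroup G) : Set G)),
        d • (QuotientGroup.mk g : G ⧸ Subgroup.normalizer ((T : Subgroup G) : Set G)) =
          QuotientGroup.mk g) ↔
      (QuotientGroup.mk g : G ⧸ Subgroup.normalizer ((T : Subgroup G) : Set G)) =
        QuotientGroup.mk 1 ∨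
      (QuotientGroup.mk g : G ⧸ Subgroup.normalizer ((T : Subgroup G) : Set G)) =
        QuotientGroup.mk u) := by
  have h := cea_of_sylow T hnc hC hnn
  have hinv := (cea_inf_spec T hnc hC hnn u hu huH).1
  set H := Subgroup.normalizer ((T : Subgroup G) : Set G) with hH
  have hux : u • ((1 : G) : G ⧸ H) ≠ ((1 : G) : G ⧸ H) := mt (smul_one_eq_iff H u).1 huH
  have hu1 : u • ((1 : G) : G ⧸ H) = (u : G ⧸ H) := by
    rw [MulAction.Quotient.smul_coe, smul_eq_mul, mul_one]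
  have hu2 := mul_self_of_orderOf_two hu
  have key : ∀ w : G ⧸ H, (∀ d ∈ H ⊓ cj u H, d • w = w) ↔
      w = ((1 : G) : G ⧸ H) ∨ w = u • ((1 : G) : G ⧸ H) := by
    intro w
    constructor
    · intro hw
      by_contra hcon
      push Not at hcon
      obtain ⟨e, he1, h1, h2⟩ := h.exists_ne_one_fix_two hux.symm
      exact he1 (h.eq_one_of_fix_three hux.symm hcon.1.symm hcon.2.symm h1 h2
        (hw e ((mem_inf_cj_iff H u e).2 ⟨h1, h2⟩)))
    · rintro (rfl | rfl) d hd
      · exact ((mem_inf_cj_iff H u d).1 hd).1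
      · exact ((mem_inf_cj_iff H u d).1 hd).2
  have huN : u ∈ normalizer ((H ⊓ cj u H : Subgroup G) : Set G) :=
    mem_normalizer_of_conj_mem fun d hd => by rw [hinv d hd]; exact inv_mem hd
  refine ⟨le_antisymm (fun g hg => ?_) (sup_le le_normalizer (zpowers_le.2 huN)),
    fun g => by rw [key, hu1]⟩
  have hfix : ∀ g ∈ normalizer ((H ⊓ cj u H : Subgroup G) : Set G), ∀ w : G ⧸ H,
      (∀ d ∈ H ⊓ cj u H, d • w = w) → (∀ d ∈ H ⊓ cj u H, d • g • w = g • w) := by
    intro g hg w hw d hd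
    have := hw _ (conj_mem_of_mem_normalizer' hg hd)
    rwa [mul_smul, mul_smul, inv_smul_eq_iff] at this
  have hD : ∀ g ∈ normalizer ((H ⊓ cj u H : Subgroup G) : Set G),
      g • ((1 : G) : G ⧸ H) = ((1 : G) : G ⧸ H) → g ∈ H ⊓ cj u H := by
    intro g hg hg1
    refine (mem_inf_cj_iff H u g).2 ⟨hg1, ?_⟩
    rcases (key _).1 (hfix g hg _ ((key _).2 (Or.inr rfl))) with e | e
    · exact absurd (MulAction.injective g (e.trans hg1.symm)) hux
    · exact e
  rcases (key _).1 (hfix g hg _ ((key _).2 (Or.inl rfl))) with e | e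
  · exact mem_sup_left (hD g hg e)
  · have := hD (u * g) (mul_mem huN hg) (by rw [mul_smul, e, smul_smul_of_mul_self hu2])
    have h2 : u * (u * g) ∈ (H ⊓ cj u H) ⊔ zpowers u :=
      mul_mem (mem_sup_right (mem_zpowers u)) (mem_sup_left this)
    rwa [← mul_assoc, hu2, one_mul] at h2

theorem cea_regular (hnn : ¬ (T : Subgroup G).Normal)
    (x y : G ⧸ Subgroup.normalizer ((T : Subgroup G) : Set G)) (hx : x ≠ QuotientGroup.mk 1)
    (hy : y ≠ QuotientGroup.mk 1) : ∃! t : G, t ∈ T ∧ t • x = y := by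
  have h := cea_of_sylow T hnc hC hnn
  obtain ⟨r, hr, hr1, hr2⟩ := h.exists_invol_smul_eq hx.symm hy.symm
  have hrT := (cea_mem_iff T hnc hC).2 ⟨hr, (smul_one_eq_iff _ _).1 hr1⟩
  refine ⟨r, ⟨hrT, hr2⟩, ?_⟩
  rintro t ⟨htT, ht⟩
  have h1 := (cea_mem_iff T hnc hC).1 (mul_mem (inv_mem hrT) htT)
  have := eq_one_of_odd_of_mul_self (h.oneFix.odd_orderOf_of_fix_two hx (d := r⁻¹ * t)
    (by rw [mul_smul, ht, inv_smul_eq_iff, hr2]) ((smul_one_eq_iff _ _).2 h1.2)) h1.1
  rw [inv_mul_eq_one] at this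
  exact this.symm

theorem cea_card_quotient (hnn : ¬ (T : Subgroup G).Normal) :
    Nat.card (G ⧸ Subgroup.normalizer ((T : Subgroup G) : Set G)) = Nat.card T + 1 := by
  obtain ⟨u, hu, huH⟩ := exists_involution_not_mem (cea_isStronglyEmbedded T hnc hC hnn)
  have hux := mt (smul_one_eq_iff _ u).1 huH
  rw [← Finite.card_option]
  symm
  refine Nat.card_congr (Equiv.ofBijective (fun o => match o with
    | none => ((1 : G) : G ⧸ _)
    | some t => (t : G) • u • ((1 : G) : G ⧸ _)) ⟨?_, ?_⟩)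
  · have key : ∀ t : T, (t : G) • u • ((1 : G) : G ⧸ normalizer ((T : Subgroup G) : Set G)) ≠
        ((1 : G) : G ⧸ _) := fun t e =>
      hux (MulAction.injective (t : G) (e.trans ((smul_one_eq_iff _ _).2 (le_normalizer t.2)).symm))
    rintro (_ | a) (_ | b) e
    · rfl
    · exact absurd e.symm (key b)
    · exact absurd e (key a)
    · have := (cea_regular T hnc hC hnn _ _ hux (key b)).unique ⟨a.2, e⟩ ⟨b.2, rfl⟩
      rw [Subtype.ext this]
  · intro y
    by_cases hy : y = ((1 : G) : G ⧸ _)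
    · exact ⟨none, hy.symm⟩
    · obtain ⟨t, ⟨ht, e⟩, -⟩ := cea_regular T hnc hC hnn _ y hux hy
      exact ⟨some ⟨t, ht⟩, e⟩

end Sylow

end H6
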