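import Mathlib
import Cfsg.Prelude.Def_SporadicB
import Cfsg.Agent.H6.RankThree

/-!
# Involutions in double covers of small alternating groups
-/

set_option autoImplicit false

namespace H6

open Subgroup Equiv Equiv.Perm

theorem split_of_lifts {H K : Type*} [Group H] [Group K] [Finite H] (π : H →* K)
    (hπ : Function.Surjective π) {z : H} (hz : orderOf z = 2) (hzc : z ∈ center H)
    (hker : π.ker = zpowers z) (hl : ∀ h, orderOf (π h) = 2 → h * h = 1) {a b : K}
    (ha : orderOf a = 2) (hb : orderOf b = 2) (hm : orderOf (a * b) = 2 ∨ orderOf (a * b) = 4)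
    {k : ℕ} (hk : Odd k) (hc : Nat.card K = 2 * orderOf (a * b) * k) :
    ∃ L : Subgroup H, L.index = 2 ∧ z ∉ L := by
  have : Finite K := Finite.of_surjective π hπ
  obtain ⟨a, rfl⟩ := hπ a
  obtain ⟨b, rfl⟩ := hπ b
  have ha' : orderOf a = 2 := orderOf_eq_two_of (hl a ha) fun e =>
    ne_one_of_orderOf_two ha (by rw [e, map_one])
  have hb' : orderOf b = 2 := orderOf_eq_two_of (hl b hb) fun e =>
    ne_one_of_orderOf_two hb (by rw [e, map_one])
  rw [← map_mul] at hm hc
  have ho : orderOf (a * b) = orderOf (π (a * b)) := by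
    refine Nat.dvd_antisymm (orderOf_dvd_of_pow_eq_one ?_) (orderOf_map_dvd π _)
    rcases hm with h | h
    · rw [h, sq, hl _ h]
    · have := hl ((a * b) ^ 2) (by rw [map_pow, orderOf_pow, h]; norm_num)
      rw [h, show 4 = 2 + 2 from rfl, pow_add, this]
  have hab : a ≠ b := by
    rintro rfl
    rw [hl a ha, map_one, orderOf_one] at hm
    omega
  obtain ⟨e⟩ := closure_pair_dihedral a b ha' hb' hab
  have hR : Nat.card (closure ({a, b} : Set H)) = 2 * orderOf (a * b) := by
    rw [Nat.card_congr e.toEquiv, DihedralGroup.nat_card]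
  have hH : Nat.card H = 2 * Nat.card K := by
    rw [← π.ker.card_mul_index, index_ker, MonoidHom.range_eq_top.2 hπ, card_top, hker,
      Nat.card_zpowers, hz]
  have hidx : (closure ({a, b} : Set H)).index = 2 * k := by
    have h1 := (closure ({a, b} : Set H)).card_mul_index
    rw [hR, hH, hc, ← ho] at h1
    have h2 : 0 < 2 * orderOf (a * b) := by have := orderOf_pos (a * b); omega
    apply Nat.eq_of_mul_eq_mul_left h2
    rw [h1]; ring
  refine thompson_transfer hk hidx (mul_self_of_orderOf_two hz) fun g hg => ?_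
  rw [mem_center_iff.1 hzc g, mul_inv_cancel_right] at hg
  have hz1 : π z = 1 := by rw [← MonoidHom.mem_ker, hker]; exact mem_zpowers z
  obtain ⟨j, hj | hj⟩ := (mem_closure_pair_iff (hl a ha) (hl b hb)).1 hg
  · apply ne_one_of_orderOf_two hz
    rw [hj, ← orderOf_dvd_iff_zpow_eq_one, ho, orderOf_dvd_iff_zpow_eq_one, ← map_zpow, ← hj, hz1]
  · apply left_not_mem_zpowers (mul_self_of_orderOf_two ha) (mul_self_of_orderOf_two hb)
      (ne_one_of_orderOf_two ha) (ne_one_of_orderOf_two hb)
    rw [hj, map_mul, map_zpow, map_mul] at hz1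
    have := inv_mem (zpow_mem (mem_zpowers (π a * π b)) j)
    rwa [← eq_inv_of_mul_eq_one_left hz1] at this

theorem cycleType_of_even_involution {n : ℕ} (hn : n ≤ 7) {σ : Perm (Fin n)}
    (hσ : orderOf σ = 2) (hs : sign σ = 1) : σ.cycleType = {2, 2} := by
  obtain ⟨k, hk⟩ := cycleType_prime_order (σ := σ) (by rw [hσ]; exact Nat.prime_two)
  rw [hσ] at hk
  have h1 := sum_cycleType σ
  have h2 : σ.support.card ≤ n := by simpa using Finset.card_le_univ σ.support
  have h3 := sign_of_cycleType σ
  rw [hk, Multiset.sum_replicate, smul_eq_mul] at h1 h3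
  rw [Multiset.card_replicate, hs] at h3
  have h4 : k ≤ 2 := by omega
  interval_cases k
  · exact absurd h3 (by decide)
  · rw [hk]; rfl
  · exact absurd h3 (by decide)

theorem isConj_alt_of_involution {n : ℕ} (hn : n ≤ 7) {σ τ : alternatingGroup (Fin n)}
    (hσ : orderOf σ = 2) (hτ : orderOf τ = 2) : IsConj σ τ := by
  rw [← Subgroup.orderOf_coe] at hσ hτ
  have h1 : IsConj (σ : Perm (Fin n)) τ := isConj_of_cycleType_eq (by
    rw [cycleType_of_even_involution hn hσ σ.2, cycleType_of_even_involution hn hτ τ.2])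
  obtain ⟨g, hg⟩ := isConj_iff.1 h1
  rcases Int.units_eq_one_or (sign g) with h | h
  · exact isConj_iff.2 ⟨⟨g, h⟩, Subtype.ext hg⟩
  · obtain ⟨i, hi⟩ : ∃ i, (σ : Perm (Fin n)) i ≠ i := by
      by_contra hc
      push Not at hc
      exact ne_one_of_orderOf_two hσ (Equiv.ext hc)
    have h2 : (σ : Perm (Fin n)) ((σ : Perm (Fin n)) i) = i := by
      rw [← Perm.mul_apply, mul_self_of_orderOf_two hσ]; rfl
    have h3 : (σ : Perm (Fin n)) * swap i ((σ : Perm (Fin n)) i) =
        swap i ((σ : Perm (Fin n)) i) * σ := by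
      rw [mul_swap_eq_swap_mul, h2, swap_comm]
    refine isConj_iff.2 ⟨⟨g * swap i ((σ : Perm (Fin n)) i), ?_⟩, Subtype.ext ?_⟩
    · rw [mem_alternatingGroup, map_mul, h, sign_swap hi.symm]; decide
    · change g * swap i _ * σ * (g * swap i _)⁻¹ = τ
      rw [← hg, mul_assoc g, ← h3]
      group

/-- the double transposition `(a b)(c d)` -/
def dt {n : ℕ} (a b c d : Fin n) : alternatingGroup (Fin n) :=
  if h : a ≠ b ∧ c ≠ d then ⟨swap a b * swap c d, by
    rw [mem_alternatingGroup, map_mul, sign_swap h.1, sign_swap h.2]; decide⟩ else 1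

theorem alt_dihedral_sylow {n : ℕ} (h4 : 4 ≤ n) (hn : n ≤ 7) :
    ∃ a b : alternatingGroup (Fin n), orderOf a = 2 ∧ orderOf b = 2 ∧
      (orderOf (a * b) = 2 ∨ orderOf (a * b) = 4) ∧ ∃ k, Odd k ∧
        Nat.card (alternatingGroup (Fin n)) = 2 * orderOf (a * b) * k := by
  have hc : 2 * Nat.card (alternatingGroup (Fin n)) = n.factorial := by
    have : Nontrivial (Fin n) := Fin.nontrivial_iff_two_le.2 (by omega)
    rw [two_mul_nat_card_alternatingGroup, Nat.card_perm, Nat.card_fin]
  have o4 : ∀ {G : Type} [Group G] (x : G), ¬ x ^ 2 = 1 → x ^ 4 = 1 → orderOf x = 4 :=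
    fun x h1 h2 => orderOf_eq_prime_pow (p := 2) (n := 1) h1 h2
  interval_cases n
  · have h := orderOf_eq_two_of (x := (dt 0 1 2 3 *
      dt 0 2 1 3 : alternatingGroup (Fin 4))) (by decide) (by decide)
    refine ⟨_, _, orderOf_eq_two_of (by decide) (by decide),
      orderOf_eq_two_of (by decide) (by decide), Or.inl h, 3, by decide, ?_⟩
    rw [h]; simp only [Nat.factorial] at hc; omega
  · have h := orderOf_eq_two_of (x := (dt 0 1 2 3 *
      dt 0 2 1 3 : alternatingGroup (Fin 5))) (by decide) (by decide)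
    refine ⟨_, _, orderOf_eq_two_of (by decide) (by decide),
      orderOf_eq_two_of (by decide) (by decide), Or.inl h, 15, by decide, ?_⟩
    rw [h]; simp only [Nat.factorial] at hc; omega
  · have h := o4 (dt 0 1 2 3 *
      dt 0 2 4 5 : alternatingGroup (Fin 6)) (by decide) (by decide)
    refine ⟨_, _, orderOf_eq_two_of (by decide) (by decide),
      orderOf_eq_two_of (by decide) (by decide), Or.inr h, 45, by decide, ?_⟩
    rw [h]; simp only [Nat.factorial] at hc; omega
  · have h := o4 (dt 0 1 2 3 *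
      dt 0 2 4 5 : alternatingGroup (Fin 7)) (by decide) (by decide)
    refine ⟨_, _, orderOf_eq_two_of (by decide) (by decide),
      orderOf_eq_two_of (by decide) (by decide), Or.inr h, 315, by decide, ?_⟩
    rw [h]; simp only [Nat.factorial] at hc; omega

theorem isComplement'_of_index_two {H : Type*} [Group H] [Finite H] {z : H} (hz : orderOf z = 2)
    {L : Subgroup H} (hL : L.index = 2) (hzL : z ∉ L) : (zpowers z).IsComplement' L := by
  refine isComplement'_of_card_mul_and_disjoint ?_ ?_
  · rw [Nat.card_zpowers, hz, ← hL, mul_comm, card_mul_index]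
  · rw [disjoint_iff_inf_le]
    intro x hx
    rcases (mem_zpowers_of_orderOf_two hz).1 hx.1 with e | e
    · exact e
    · exact absurd (e ▸ hx.2) hzL

theorem exists_eq_zpowers_of_card_two {H : Type*} [Group H] {Z : Subgroup H}
    (h : Nat.card Z = 2) : ∃ z : H, orderOf z = 2 ∧ Z = zpowers z := by
  have : Finite Z := Nat.finite_of_card_ne_zero (by omega)
  obtain ⟨z, hz⟩ := exists_prime_orderOf_dvd_card' (G := Z) 2 (by rw [h])
  have hz' : orderOf (z : H) = 2 := by rw [Subgroup.orderOf_coe, hz]
  refine ⟨z, hz', ?_⟩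
  symm
  apply eq_of_le_of_card_ge (zpowers_le.2 z.2)
  rw [Nat.card_zpowers, hz', h]

theorem double_cover_unique_involution {n : ℕ} {H : Type*} [Group H] [Finite H] (hn : n ≤ 7)
    (hH : Cfsg.IsNonsplitDoubleCover H (alternatingGroup (Fin n))) (x y : H)
    (hx : orderOf x = 2) (hy : orderOf y = 2) : x = y := by
  obtain ⟨h2, ⟨e⟩, hns⟩ := hH
  obtain ⟨z, hz, hZ⟩ := exists_eq_zpowers_of_card_two h2
  have hzc : z ∈ center H := hZ ▸ mem_zpowers z
  suffices H : ∀ x : H, orderOf x = 2 → x = z by rw [H x hx, H y hy]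
  intro x hx
  by_contra hxz
  let π : H →* alternatingGroup (Fin n) := e.toMonoidHom.comp (QuotientGroup.mk' (center H))
  have hπ : Function.Surjective π := e.surjective.comp (QuotientGroup.mk'_surjective _)
  have hker : π.ker = zpowers z := by
    rw [← hZ]
    ext h
    simp [π]
  have hπx : orderOf (π x) = 2 := orderOf_eq_two_of
    (by rw [← map_mul, mul_self_of_orderOf_two hx, map_one]) fun h => by
      have : x ∈ zpowers z := hker ▸ h
      rcases (mem_zpowers_of_orderOf_two hz).1 this with e | e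
      · exact ne_one_of_orderOf_two hx e
      · exact hxz e
  have hl : ∀ h, orderOf (π h) = 2 → h * h = 1 := by
    intro h hh
    obtain ⟨g, hg⟩ := isConj_iff.1 (isConj_alt_of_involution hn hπx hh)
    obtain ⟨g, rfl⟩ := hπ g
    have h1 : (g * x * g⁻¹)⁻¹ * h ∈ zpowers z := by
      rw [← hker, MonoidHom.mem_ker, map_mul, map_inv, map_mul, map_mul, map_inv, hg,
        inv_mul_cancel]
    have h2 : (g * x * g⁻¹) * (g * x * g⁻¹) = 1 := by
      rw [conj_mul, mul_self_of_orderOf_two hx]; group
    rcases (mem_zpowers_of_orderOf_two hz).1 h1 with e | e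
    · rw [← inv_mul_eq_one.1 e, h2]
    · rw [← mul_inv_cancel_left (g * x * g⁻¹) h, e]
      calc g * x * g⁻¹ * z * (g * x * g⁻¹ * z) = g * x * g⁻¹ * (z * (g * x * g⁻¹)) * z := by group
        _ = (g * x * g⁻¹) * (g * x * g⁻¹) * (z * z) := by
          rw [← mem_center_iff.1 hzc (g * x * g⁻¹)]; group
        _ = 1 := by rw [h2, mul_self_of_orderOf_two hz, one_mul]
  have h4 : 4 ≤ n := by
    have h1 := cycleType_of_even_involution hn (σ := (π x : Perm (Fin n)))
      (by rwa [Subgroup.orderOf_coe]) (π x).2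
    have h2 := sum_cycleType (π x : Perm (Fin n))
    have h3 : (π x : Perm (Fin n)).support.card ≤ n := by
      simpa using Finset.card_le_univ (π x : Perm (Fin n)).support
    rw [h1] at h2
    simp at h2
    omega
  obtain ⟨a, b, ha, hb, hm, k, hk, hc⟩ := alt_dihedral_sylow h4 hn
  obtain ⟨L, hL, hzL⟩ := split_of_lifts π hπ hz hzc hker hl ha hb hm hk hc
  exact hns L (hZ ▸ isComplement'_of_index_two hz hL hzL)

theorem exists_two_involutions_of_cover {Γ : Type*} [Group Γ] [Finite Γ] {z : Γ}
    (hzc : z ∈ center Γ) (hz : orderOf z = 2) (hz' : z ∈ commutator Γ) [(zpowers z).Normal]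
    (e : Γ ⧸ zpowers z ≃* alternatingGroup (Fin 8)) :
    Cfsg.IsNonsplitDoubleCover Γ (alternatingGroup (Fin 8)) ∧
      ∃ x y : Γ, x ≠ y ∧ orderOf x = 2 ∧ orderOf y = 2 := by
  let π : Γ →* alternatingGroup (Fin 8) := e.toMonoidHom.comp (QuotientGroup.mk' (zpowers z))
  have hπ : Function.Surjective π := e.surjective.comp (QuotientGroup.mk'_surjective _)
  have hker : π.ker = zpowers z := by
    ext h
    simp [π]
  have hZ : center Γ = zpowers z := by
    refine le_antisymm (fun c hc => ?_) (zpowers_le.2 hzc)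
    rw [← hker, MonoidHom.mem_ker, ← mem_bot, ← alternatingGroup.center_eq_bot (by simp)]
    rw [mem_center_iff]
    intro g
    obtain ⟨g, rfl⟩ := hπ g
    rw [← map_mul, ← map_mul, mem_center_iff.1 hc g]
  refine ⟨⟨by rw [hZ, Nat.card_zpowers, hz], ⟨(QuotientGroup.quotientMulEquivOfEq hZ).trans e⟩,
    fun L hL => ?_⟩, ?_⟩
  · have h1 : L.index = 2 := by rw [hL.index_eq_card, hZ, Nat.card_zpowers, hz]
    have := normal_of_index_eq_two h1
    have h2 : commutator Γ ≤ L := by
      rw [← Subgroup.Normal.quotient_commutative_iff_commutator_le]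
      have : IsCyclic (Γ ⧸ L) := isCyclic_of_prime_card (p := 2) h1
      infer_instance
    have : z ∈ center Γ ⊓ L := ⟨hzc, h2 hz'⟩
    rw [disjoint_iff.1 hL.disjoint, mem_bot] at this
    exact ne_one_of_orderOf_two hz this
  · by_contra hcon
    push Not at hcon
    have hsq : ∀ h, π h * π h = 1 → π h ≠ 1 → h * h = z := by
      intro h h1 h2
      have h3 : h * h ∈ zpowers z := by rw [← hker, MonoidHom.mem_ker, map_mul, h1]
      refine ((mem_zpowers_of_orderOf_two hz).1 h3).resolve_left fun e => ?_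
      by_cases h4 : h = z
      · exact h2 (by rw [← MonoidHom.mem_ker, hker, h4]; exact mem_zpowers z)
      · exact hcon h z h4 (orderOf_eq_two_of e fun e' => h2 (by rw [e', map_one])) hz
    obtain ⟨a, ha⟩ := hπ (dt 0 1 2 3)
    obtain ⟨b, hb⟩ := hπ (dt 0 2 1 3)
    obtain ⟨c, hc⟩ := hπ (dt 4 5 6 7)
    have h1 := hsq a (by rw [ha]; decide) (by rw [ha]; decide)
    have h2 := hsq b (by rw [hb]; decide) (by rw [hb]; decide)
    have h3 := hsq c (by rw [hc]; decide) (by rw [hc]; decide)
    have h4 := hsq (a * b) (by rw [map_mul, ha, hb]; decide) (by rw [map_mul, ha, hb]; decide)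
    have h5 := hsq (a * c) (by rw [map_mul, ha, hc]; decide) (by rw [map_mul, ha, hc]; decide)
    have h6 := hsq (b * c) (by rw [map_mul, hb, hc]; decide) (by rw [map_mul, hb, hc]; decide)
    have h7 := hsq (a * (b * c)) (by rw [map_mul, map_mul, ha, hb, hc]; decide)
      (by rw [map_mul, map_mul, ha, hb, hc]; decide)
    have hzz := mul_self_of_orderOf_two hz
    have hcm : ∀ g, g * z = z * g := mem_center_iff.1 hzc
    have anti : ∀ u v : Γ, u * u = z → v * v = z → u * v * (u * v) = z → v * u = z * (u * v) := by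
      intro u v hu hv huv
      have : u * (v * u) * v = u * (z * (u * v)) * v := by
        calc u * (v * u) * v = u * v * (u * v) := by group
          _ = z * (z * z) := by rw [huv, hzz, mul_one]
          _ = z * ((u * u) * (v * v)) := by rw [hu, hv]
          _ = _ := by rw [← mul_assoc u z, hcm u]; group
      exact mul_left_cancel (mul_right_cancel this)
    have e1 := anti a b h1 h2 h4
    have e2 := anti a c h1 h3 h5
    have e3 : b * c * a = a * (b * c) := by
      calc b * c * a = b * (c * a) := by group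
        _ = (b * z) * a * c := by rw [e2]; group
        _ = z * (b * a) * c := by rw [hcm b]; group
        _ = (z * z) * (a * (b * c)) := by rw [e1]; group
        _ = _ := by rw [hzz, one_mul]
    have : a * (b * c) * (a * (b * c)) = 1 := by
      calc a * (b * c) * (a * (b * c)) = a * (b * c * a) * (b * c) := by group
        _ = (a * a) * ((b * c) * (b * c)) := by rw [e3]; group
        _ = 1 := by rw [h1, h6, hzz]
    exact ne_one_of_orderOf_two hz (h7.symm.trans this)

end H6
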