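import Mathlib
import Cfsg.Agent.H6.XDefs
import Cfsg.Agent.H6.Closed
import Cfsg.Agent.H6.ZMain
import Cfsg.Agent.H6.OneFix
import Cfsg.Agent.H17.ZStar
import Cfsg.Agent.H3.B71B

/-! Large extraspecial subgroups: basics -/

set_option autoImplicit false
set_option linter.unusedSectionVars false

namespace H6
namespace XS

open Subgroup H24 H15 H15.XP Module
open scoped commutatorElement

universe u

section
variable {G : Type u} [Group G] [Finite G] {D : Set G} {Q : G → Subgroup G} {w : ℕ}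

theorem Fr.π_eq₀ {z : G} {P : Subgroup G} {V : Type*} [AddCommGroup V] [Module (ZMod 2) V]
    (F : Fr z P V) {x y : G} (hx : x ∈ P) (hy : y ∈ P) (e : F.π x = F.π y) : x = y ∨ x = z * y := by
  have := F.π_mul _ (mul_mem hx (inv_mem hy)) y hy
  rw [inv_mul_cancel_right, e, eq_comm, add_eq_right,
    F.π_eq_zero _ (mul_mem hx (inv_mem hy))] at this
  exact this.imp mul_inv_eq_one.1 mul_inv_eq_iff_eq_mul.1

theorem Fr.card_sub₀ {z : G} {P : Subgroup G} {V : Type*} [AddCommGroup V] [Module (ZMod 2) V]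
    [Finite V] (F : Fr z P V) (hz : orderOf z = 2) (hP : z ∈ P) (W : Submodule (ZMod 2) V) :
    Nat.card (F.sub W) = 2 ^ (finrank (ZMod 2) W + 1) := by
  let f : F.sub W →* Multiplicative W := MonoidHom.mk' (fun x => .ofAdd ⟨F.π x, x.2.2⟩)
    fun x y => congrArg Multiplicative.ofAdd (Subtype.ext (F.π_mul _ x.2.1 _ y.2.1))
  have hs : f.range = ⊤ := eq_top_iff.2 fun v _ => by
    obtain ⟨x, hx, e⟩ := F.π_surj v.toAdd
    exact ⟨⟨x, hx, e ▸ v.toAdd.2⟩, congrArg Multiplicative.ofAdd (Subtype.ext e)⟩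
  have z0 : F.π z = 0 := (F.π_eq_zero z hP).2 (Or.inr rfl)
  have hk : f.ker = (zpowers z).subgroupOf _ := by
    ext x
    rw [mem_subgroupOf, H25.Sym.mem_zp (mul_self_of_orderOf_two hz), ← F.π_eq_zero _ x.2.1]
    exact ⟨fun e => congrArg (fun v : Multiplicative W => v.toAdd.1) e,
      fun e => congrArg Multiplicative.ofAdd (Subtype.ext e)⟩
  rw [← card_mul_index f.ker, index_ker, hs, hk, card_subgroupOf_of_le (zpowers_le.2
    (show z ∈ F.sub W from ⟨hP, z0 ▸ zero_mem W⟩)), Nat.card_zpowers, hz, card_top,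
    Nat.card_congr Multiplicative.toAdd, Module.natCard_eq_pow_finrank (K := ZMod 2),
    Nat.card_zmod, pow_succ']

theorem Fr.dim₀ {z : G} {P : Subgroup G} {V : Type*} [AddCommGroup V] [Module (ZMod 2) V]
    [Finite V] (F : Fr z P V) (hz : orderOf z = 2) (hP : z ∈ P) {n : ℕ}
    (hc : Nat.card P = 2 ^ (n + 1)) : finrank (ZMod 2) V = n := by
  have := F.card_sub₀ hz hP ⊤
  rw [show F.sub ⊤ = P by ext x; simp [Fr.mem_sub], hc, finrank_top] at this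
  have := Nat.pow_right_injective le_rfl this
  omega

theorem EA.inv {A : Subgroup G} (h : EA A) {x : G} (hx : x ∈ A) : x⁻¹ = x :=
  inv_eq_of_mul_eq_one_right (h x hx)

theorem EA.comm {A : Subgroup G} (h : EA A) {x y : G} (hx : x ∈ A) (hy : y ∈ A) : x * y = y * x := by
  rw [← h.inv (mul_mem hx hy), mul_inv_rev, h.inv hx, h.inv hy]

theorem EA.le_C {A : Subgroup G} (h : EA A) : A ≤ C[A] := fun _ hx =>
  mem_C.2 fun _ hy => h.comm hy hx

theorem EA.two {A : Subgroup G} (h : EA A) : IsPGroup 2 A := fun x =>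
  ⟨1, Subtype.ext (by simpa [pow_two] using h x x.2)⟩

theorem EA.mono {A B : Subgroup G} (h : EA B) (hle : A ≤ B) : EA A := fun x hx => h x (hle hx)

theorem EA.cj {A : Subgroup G} (h : EA A) (g : G) : EA (cj g A) := fun x hx => by
  obtain ⟨y, hy, rfl⟩ := mem_cj'.1 hx
  rw [show g * y * g⁻¹ * (g * y * g⁻¹) = g * (y * y) * g⁻¹ by group, h y hy]; group

theorem fs_cj (g : G) (H : Subgroup G) : H25.Bd.fs (cj g H) = cj g (H25.Bd.fs H) := by
  let e : H ≃* cj g H := (MulAut.conj g).subgroupMap H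
  rw [H25.Bd.fs, ← H23.map_fstar_equiv e, map_map, cj_def g (H25.Bd.fs H), map_map]
  rfl

theorem sit_of {z : G} (hz : orderOf z = 2)
    (hE : Cfsg.IsExtraspecial 2 (Cfsg.generalizedFittingSubgroup C{z})) (hw : 2 ≤ w)
    (hc : Nat.card (Cfsg.generalizedFittingSubgroup C{z}) = 2 ^ (2 * w + 1)) :
    Sit (conjugatesOf z) (fun d => H25.Bd.fs C{d}) w := by
  have e : ∀ d g : G, H25.Bd.fs C{g * d * g⁻¹} = cj g (H25.Bd.fs C{d}) := fun d g => by
    rw [← cj_C1, fs_cj]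
  have l : LX z (H25.Bd.fs C{z}) := lx_of hz _ H23.centralizer_fstar_le hE
  have ex : ∀ d ∈ conjugatesOf z, ∃ g : G, g * z * g⁻¹ = d := fun d hd => isConj_iff.1 hd
  have o : ∀ N : Subgroup G, N ≤ C{z} → C{z} ≤ N[N] → IsPGroup 2 N → N ≤ H25.Bd.fs C{z} :=
    fun N h1 h2 h3 => by
      rw [H25.Bd.fs_eq]
      exact (H25.Bd.le_fit h1 h2 h3.isNilpotent).trans le_sup_right
  refine ⟨fun d hd g => IsConj.trans hd (isConj_iff.2 ⟨g, rfl⟩), fun d hd e he =>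
    isConj_iff.1 (IsConj.trans (IsConj.symm hd) he), fun d hd => ?_, fun d _ g => e d g,
    fun d hd => ?_, fun d hd N h1 h2 h3 => ?_, hw⟩ <;> obtain ⟨g, rfl⟩ := ex d hd <;> simp only [e]
  · exact l.cj g
  · rw [card_cj, card_subtype, hc]
  · rw [← cj_C1] at h1 h2
    rw [le_cj_iff] at h1 ⊢
    refine o _ h1 ?_ (h3.map _)
    rw [← cj_N, ← cj_le_iff]; exact h2

namespace Sit

variable (h : Sit D Q w) {d e g t x y : G} {A : Subgroup G}
include h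

theorem sq (hd : d ∈ D) : d * d = 1 := (h.lx d hd).sq
theorem ne_one (hd : d ∈ D) : d ≠ 1 := (h.lx d hd).ne_one
theorem ord (hd : d ∈ D) : orderOf d = 2 := (h.lx d hd).xs.ord
theorem mem (hd : d ∈ D) : d ∈ Q d := (h.lx d hd).xs.mem
theorem le (hd : d ∈ D) : Q d ≤ C{d} := (h.lx d hd).le
theorem norm (hd : d ∈ D) : C{d} ≤ N[Q d] := (h.lx d hd).norm
theorem two (hd : d ∈ D) : IsPGroup 2 (Q d) := (h.lx d hd).xs.isPGroup
theorem mem_zp (hd : d ∈ D) : x ∈ zpowers d ↔ x = 1 ∨ x = d := H25.Sym.mem_zp (h.sq hd)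
theorem sq_or (hd : d ∈ D) (hx : x ∈ Q d) : x * x = 1 ∨ x * x = d := (h.lx d hd).sq_or hx
theorem cj_or (hd : d ∈ D) (hx : x ∈ Q d) (hy : y ∈ Q d) :
    x * y * x⁻¹ = y ∨ x * y * x⁻¹ = d * y := by
  by_cases e : x ∈ C{y}
  exacts [Or.inl (mem_C1_iff_conj.1 e), Or.inr ((h.lx d hd).conj_eq hx hy e)]
theorem eq_or (hd : d ∈ D) (hx : x ∈ C[Q d]) : x = 1 ∨ x = d := (h.lx d hd).eq_or hx
theorem exists_swap (hd : d ∈ D) (hx : x ∈ Q d) (h1 : x ≠ 1) (h2 : x ≠ d) :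
    ∃ y ∈ Q d, y * x * y⁻¹ = d * x := by
  by_contra hn
  refine (h.eq_or hd (mem_C_iff_le_C1.2 fun y hy => mem_C1_iff_conj.2 ?_)).elim h1 h2
  exact (h.cj_or hd hy hx).resolve_right fun e => hn ⟨y, hy, e⟩
theorem mul_mem_D (hd : d ∈ D) (hx : x ∈ Q d) (h1 : x ≠ 1) (h2 : x ≠ d) :
    d * x ∈ D ↔ x ∈ D := by
  obtain ⟨y, -, e⟩ := h.exists_swap hd hx h1 h2
  refine ⟨fun k => ?_, fun k => e ▸ h.conj x k y⟩
  have := h.conj _ k y⁻¹
  rwa [← e, show y⁻¹ * (y * x * y⁻¹) * y⁻¹⁻¹ = x by group] at this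
/-- an element acting trivially on `Q / d` lies in `Q` -/
theorem inner (hd : d ∈ D) (hg : g ∈ C{d}) (hq : ∀ x ∈ Q d, g * x * g⁻¹ * x⁻¹ ∈ zpowers d) :
    g ∈ Q d := by
  obtain ⟨e, he, k⟩ := (h.lx d hd).xs.exists_mul_mem_centralizer (g := g) (mem_C1.1 hg).symm hq
  have := (h.lx d hd).zle ((h.lx d hd).cent (mem_C.2 fun y hy => (k y hy).eq))
  simpa using mul_mem (inv_mem he) this
theorem dual (hd : d ∈ D) (hA : A ≤ Q d) (hdA : d ∈ A) :
    Nat.card A * Nat.card ↥(Q d ⊓ C[A]) = 2 ^ (2 * w + 2) := by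
  rw [xs_card_mul (h.lx d hd).xs hA hdA, h.card d hd, ← pow_succ]
theorem dual_dual (hd : d ∈ D) (hA : A ≤ Q d) (hdA : d ∈ A) : Q d ⊓ C[Q d ⊓ C[A]] = A :=
  xs_centralizer_centralizer (h.lx d hd).xs hA hdA
theorem card_le_of_abl (hd : d ∈ D) (hA : A ≤ Q d) (ha : A ≤ C[A]) :
    Nat.card A ≤ 2 ^ (w + 1) := by
  have hB : A ⊔ zpowers d ≤ Q d := sup_le hA (h.lx d hd).zle
  have h1 := h.dual hd hB (mem_sup_right (mem_zpowers d))
  have h2 : A ⊔ zpowers d ≤ Q d ⊓ C[A ⊔ zpowers d] := by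
    refine le_inf hB ?_
    rw [C_sup, C_zpowers]
    exact le_inf (sup_le ha (zpowers_le.2 (mem_C_iff_le_C1.2 (hA.trans (h.le hd)))))
      (hB.trans (h.le hd))
  have h3 := card_le h2
  have h4 := card_le (le_sup_left : A ≤ A ⊔ zpowers d)
  by_contra hn
  have : 2 ^ (w + 1) * 2 ^ (w + 1) < Nat.card ↥(A ⊔ zpowers d) * Nat.card ↥(Q d ⊓ C[A ⊔ zpowers d]) :=
    Nat.mul_lt_mul'' (by omega) (by omega)
  rw [h1, ← pow_add] at this
  exact absurd this (by rw [show w + 1 + (w + 1) = 2 * w + 2 by ring]; exact lt_irrefl _)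
theorem mem_of_index (hd : d ∈ D) (ht : t * t = 1) (htd : t ∈ C{d})
    (hi : C{t}.relIndex (Q d) ≤ 2) : t ∈ Q d := by
  by_cases h1 : t = 1
  · exact h1 ▸ one_mem _
  have l := h.lx d hd
  exact sup_le le_rfl (l.cent.trans l.zle) (mem_sup_centralizer_of_relIndex_le_two _ l.isX t
    (orderOf_eq_two_of ht h1) (l.norm htd) (by rwa [inf_relIndex_right]))
theorem card_cent (hd : d ∈ D) (ht : t * t = 1) (htd : t ∈ C{d}) :
    2 ^ w ≤ Nat.card ↥(Q d ⊓ C{t}) := by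
  have ti : t⁻¹ = t := inv_eq_of_mul_eq_one_right ht
  have e1 := card_inf_mul_relIndex C{t} (Q d)
  rw [H3.B71.relIndex_C1, inf_comm, h.card d hd] at e1
  let A := Q d ⊓ C{t}
  have k : ∀ y ∈ Q d, y * t * y⁻¹ * t ∈ Q d ∧ (y * t * y⁻¹ * t ∈ C{t} ∨
      t * (y * t * y⁻¹ * t) * t⁻¹ = d * (y * t * y⁻¹ * t)) := fun y hy => by
    have m : y * t * y⁻¹ * t ∈ Q d := by
      have := mul_mem hy (conj_mem (h.norm hd htd) (inv_mem hy))
      rwa [ti, ← mul_assoc, ← mul_assoc] at this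
    refine ⟨m, ?_⟩
    have i : t * (y * t * y⁻¹ * t) * t⁻¹ = (y * t * y⁻¹ * t)⁻¹ := by
      rw [mul_inv_rev, mul_inv_rev, mul_inv_rev, inv_inv, ti]
      simp only [mul_assoc, ht, mul_one]
    rcases h.sq_or hd m with e | e
    · exact Or.inl (mem_C1_comm.1 (mem_C1_iff_conj.2 (by rw [i, inv_eq_of_mul_eq_one_right e])))
    · refine Or.inr (i.trans (inv_eq_of_mul_eq_one_left ?_))
      rw [mul_assoc, e, h.sq hd]
  have e2 : {x | ∃ y ∈ Q d, y * t * y⁻¹ = x}.ncard ≤ 2 * Nat.card A := by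
    obtain ⟨u, hu⟩ : ∃ u : G, ∀ v ∈ Q d, t * v * t⁻¹ = d * v → u * v ∈ A := by
      by_cases e : ∃ v ∈ Q d, t * v * t⁻¹ = d * v
      · obtain ⟨u, hu, e⟩ := e
        refine ⟨u, fun v hv e' => ⟨mul_mem hu hv, mem_C1_comm.1 (mem_C1_iff_conj.2 ?_)⟩⟩
        rw [show t * (u * v) * t⁻¹ = (t * u * t⁻¹) * (t * v * t⁻¹) by group, e, e',
          ← mem_C1.1 (h.le hd hu), mul_assoc, ← mul_assoc d, h.sq hd, one_mul]
      · exact ⟨1, fun v hv e' => absurd ⟨v, hv, e'⟩ e⟩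
    have hs : {x | ∃ y ∈ Q d, y * t * y⁻¹ = x} ⊆ (· * t) '' A ∪ (fun a => u⁻¹ * a * t) '' A := by
      rintro _ ⟨y, hy, rfl⟩
      obtain ⟨m, e | e⟩ := k y hy
      · exact Or.inl ⟨_, ⟨m, e⟩, by simp [mul_assoc, ht]⟩
      · exact Or.inr ⟨_, hu _ m e, by simp [mul_assoc, ht]⟩
    refine (Set.ncard_le_ncard hs).trans ((Set.ncard_union_le _ _).trans ?_)
    have := Set.ncard_image_le (f := (· * t)) (s := (A : Set G))
    have := Set.ncard_image_le (f := fun a => u⁻¹ * a * t) (s := (A : Set G))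
    have : (A : Set G).ncard = Nat.card A := rfl
    omega
  by_contra hn
  have : Nat.card A * (2 * Nat.card A) < 2 ^ w * (2 * 2 ^ w) :=
    Nat.mul_lt_mul'' (not_le.1 hn) (Nat.mul_lt_mul_of_pos_left (not_le.1 hn) two_pos)
  have := Nat.mul_le_mul_left (Nat.card A) e2
  rw [e1] at this
  have : 2 ^ w * (2 * 2 ^ w) = 2 ^ (2 * w + 1) := by ring
  omega
theorem exists_sylow (hd : d ∈ D) : ∃ S : Sylow 2 G, d ∈ S ∧ ∀ s ∈ S, Commute s d := by
  have l := h.lx d hd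
  obtain ⟨S, hS⟩ := (large_extraspecial d (h.ord hd) (Q d) (h.le hd) (h.two hd) l.isX.2
    (l.cent.trans l.zle)).1
  exact ⟨S, mem_sylow_of_centralizes S ((h.two hd).to_le l.zle) fun x hx => mem_C1.1 (hS hx),
    fun s hs => mem_C1.1 (hS hs)⟩
theorem odd_index (hd : d ∈ D) : Odd C{d}.index := by
  obtain ⟨S, -, hS⟩ := h.exists_sylow hd
  exact (Nat.not_even_iff_odd.mp fun e => S.not_dvd_index (even_iff_two_dvd.mp e)).of_dvd_nat
    (index_dvd_of_le fun s hs => mem_C1.mpr (hS s hs).eq)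
theorem sy (hd : d ∈ D) : H25.Sym.Sy d (Q d) :=
  ⟨h.ord hd, ⟨h.le hd, h.norm hd⟩, isPi_of_isPGroup Nat.prime_two (h.two hd),
    inf_le_right.trans ((h.lx d hd).cent.trans (h.lx d hd).zle),
    fun X hX h2 => h.o2 d hd X hX.le hX.norm (h2.isPGroup Nat.prime_two),
    fun _ hx => h.sq_or hd hx, fun _ _ hc _ => h.eq_or hd hc⟩
theorem symm (hd : d ∈ D) (he : e ∈ D) (hm : e ∈ Q d) : d ∈ Q e := by
  obtain ⟨g, rfl⟩ := h.trans d hd e he
  by_cases k : g * d * g⁻¹ = d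
  · rw [k]; exact h.mem hd
  · rw [h.eqv d hd]; exact (h.sy hd).mem_conj k hm
theorem swap (hd : d ∈ D) (he : e ∈ D) (hm : e ∈ Q d) (hne : e ≠ d) :
    ∃ g ∈ Q d ⊔ Q e, g * d * g⁻¹ = e ∧ g * e * g⁻¹ = d := by
  obtain ⟨g, rfl⟩ := h.trans d hd e he
  rw [h.eqv d hd]
  exact ((h.sy hd).main hne hm).2 _ (subset_closure (by simp)) _ (subset_closure (by simp))
    (h.ne_one he) (h.ne_one hd) hne
/-- the centre of a `2`-group containing `Q d` -/
theorem mem_of_normal (hd : d ∈ D) {N S : Subgroup G} (hS : IsPGroup 2 S) (h1 : Q d ≤ S)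
    (h2 : S ≤ N[N]) (h3 : N ⊓ S ≠ ⊥) : d ∈ N := by
  have : ((N ⊓ S).subgroupOf S).Normal := (normal_subgroupOf_iff_le_normalizer inf_le_right).2
    (H23.le_normalizer_inf h2 le_normalizer)
  have := Fact.mk Nat.prime_two
  have h4 : (N ⊓ S).subgroupOf S ≠ ⊥ := fun e => h3 (by
    rw [← map_subgroupOf_eq_of_le (inf_le_right : N ⊓ S ≤ S), e, Subgroup.map_bot])
  have := hS.isNilpotent
  obtain ⟨x, hx, x1⟩ := exists_ne_one (H2.inf_center_ne_bot h4)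
  have := (h.eq_or hd (x := x) (mem_C.2 fun y hy => congrArg Subtype.val
    (mem_center_iff.1 hx.2 ⟨y, h1 hy⟩))).resolve_left fun e => x1 (Subtype.ext e)
  exact this ▸ hx.1.1
theorem minN (hO : NoOdd G) (hd : d ∈ D) {N : Subgroup G} (hN : N.Normal) (h1 : N ≠ ⊥) :
    d ∈ N := by
  obtain ⟨S, hS⟩ := (h.two hd).exists_le_sylow
  refine h.mem_of_normal hd S.2 hS le_normalizer_of_normal fun e => h1 (hO N hN ?_)
  have k := card_dvd (le_top : N ⊔ S.1 ≤ ⊤)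
  rw [card_sup_of_inf le_normalizer_of_normal e, card_top, ← S.1.index_mul_card] at k
  rw [← Nat.not_even_iff_odd, even_iff_two_dvd]
  exact fun k' => S.not_dvd_index (k'.trans (Nat.dvd_of_mul_dvd_mul_right (card_pos _) k))
theorem not_abl (hd : d ∈ D) : ∃ x ∈ Q d, ∃ y ∈ Q d, x * y ≠ y * x := by
  obtain ⟨x, hx, k⟩ := (h.lx d hd).xs.exists_not_mem (h.lx d hd).ne
  by_contra hn
  push Not at hn
  exact k ((h.lx d hd).cent (mem_C.2 fun y hy => hn y hy x hx))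
theorem noOdd [IsSimpleGroup G] (hd : d ∈ D) : NoOdd G := fun N hN ho =>
  hN.eq_bot_or_eq_top.resolve_right fun e => by
    have := orderOf_dvd_card' (e ▸ mem_top d : d ∈ N)
    rw [h.ord hd] at this
    exact Nat.not_even_iff_odd.2 ho (even_iff_two_dvd.2 this)
theorem index_ne_two [IsSimpleGroup G] (hd : d ∈ D) (K : Subgroup G) : K.index ≠ 2 := fun e => by
  rcases (normal_of_index_eq_two e).eq_bot_or_eq_top with rfl | rfl
  · have := card_le (le_top : Q d ≤ ⊤)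
    rw [index_bot] at e
    rw [card_top, e, h.card d hd, pow_succ] at this
    have := Nat.one_lt_two_pow (n := 2 * w) (by have := h.two_le; omega)
    omega
  · simp at e
theorem exists_col (hO : NoOdd G) (hd : d ∈ D) (hc : d ∉ center G) : ∃ b, Col D d b := by
  by_contra hn
  refine hc (mem_center_iff.2 fun g => (H17.zstar_central (hO _ inferInstance
    H17.odd_card_pPrimeCore) ⟨h.ord hd, fun g k => by_contra fun e => hn ⟨_, hd, h.conj d hd g,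
      fun e' => e e'.symm, k.eq⟩⟩ g).symm.eq)
theorem not_center [IsSimpleGroup G] (hd : d ∈ D) : d ∉ center G := fun e => by
  rcases (inferInstance : (center G).Normal).eq_bot_or_eq_top with k | k
  · exact h.ne_one hd (mem_bot.1 (k ▸ e))
  · obtain ⟨x, -, y, -, hn⟩ := h.not_abl hd
    exact hn (mem_center_iff.1 (k ▸ mem_top y) x)
/-- Aschbacher's criterion -/
theorem eq_top [IsSimpleGroup G] (hd : d ∈ D) {M : Subgroup G} (hM : d ∈ M)
    (h2 : ∀ g : G, g * d * g⁻¹ ∈ M → g ∈ M)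
    (h3 : ∀ e ∈ D, e ≠ d → d * e = e * d → C{d * e} ≤ M) (ht : t * t = 1) (h1 : t ≠ 1)
    (htD : t ∉ D) : M = ⊤ := by
  by_contra hn
  obtain ⟨g, e⟩ := isConj_iff.1 (isConj_of_isStronglyEmbedded (ZD.s1175 hn (h.ord hd) hM
    (h.exists_sylow hd) h2 fun g k k' => h3 _ (h.conj d hd g) k' k.eq) (h.ord hd)
    (orderOf_eq_two_of ht h1))
  exact htD (e ▸ h.conj d hd g)
theorem exists_fr (hd : d ∈ D) : ∃ (V : Type u) (_ : AddCommGroup V) (_ : Module (ZMod 2) V)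
    (_ : Finite V), finrank (ZMod 2) V = 2 * w ∧ Nonempty (Fr d (Q d) V) := by
  classical
  have l := h.lx d hd
  have cm : ∀ x ∈ Q d, ∀ y ∈ Q d, ⁅x, y⁆ ∈ zpowers d := l.xs.comm
  have cen : ∀ c ∈ zpowers d, ∀ x ∈ C{d}, x * c * x⁻¹ = c := fun c hc x hx =>
    mem_C1_iff_conj.1 (C1_le_C1_of_mem_zpowers hc hx)
  have ll : ∀ x ∈ Q d, ∀ y ∈ Q d, ∀ u ∈ Q d, lg ⁅x * y, u⁆ = lg ⁅x, u⁆ + lg ⁅y, u⁆ :=
    fun x hx y hy u hu => by
      rw [show ⁅x * y, u⁆ = x * ⁅y, u⁆ * x⁻¹ * ⁅x, u⁆ by simp [commutatorElement_def, mul_assoc],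
        cen _ (cm _ hy _ hu) _ (l.le hx), lg_mul (h.ord hd) (cm _ hy _ hu) (cm _ hx _ hu), add_comm]
  have ls : ∀ x y : G, lg ⁅x, y⁆ = lg ⁅y, x⁆ := fun x y => by
    by_cases e : ⁅x, y⁆ = 1
    · rw [e, ← commutatorElement_inv, e, inv_one]
    · rw [lg_ne e, lg_ne fun e' => e (by rw [← commutatorElement_inv, e', inv_one])]
  have sz : ∀ a ∈ Q d, a * a ∈ zpowers d := fun a ha => (h.mem_zp hd).2 (h.sq_or hd ha)
  have lq : ∀ x ∈ Q d, ∀ y ∈ Q d, lg (x * y * (x * y)) = lg (x * x) + lg (y * y) + lg ⁅x, y⁆ :=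
    fun x hx y hy => by
      rw [show x * y * (x * y) = x * ⁅y, x⁆ * x⁻¹ * (x * x * (y * y)) by
          simp [commutatorElement_def, mul_assoc], cen _ (cm _ hy _ hx) _ (l.le hx),
        lg_mul (h.ord hd) (cm _ hy _ hx) (mul_mem (sz x hx) (sz y hy)),
        lg_mul (h.ord hd) (sz x hx) (sz y hy), add_comm, ls]
  have lc : ∀ g c : G, lg (g * c * g⁻¹) = lg c := fun g c => lg_map (MulAut.conj g) c
  let κ : G → Q d → ZMod 2 := fun x y => lg ⁅x, (y : G)⁆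
  have km : ∀ x ∈ Q d, ∀ y ∈ Q d, κ (x * y) = κ x + κ y := fun x hx y hy =>
    funext fun u => ll x hx y hy u u.2
  have k0 : ∀ x ∈ Q d, κ x = 0 ↔ x = 1 ∨ x = d := fun x hx => by
    refine ⟨fun e => h.eq_or hd (mem_C'.2 fun y hy => commutatorElement_eq_one_iff_mul_comm.1
      (lg_eq_zero.1 (congrFun e ⟨y, hy⟩))), fun e => funext fun u => lg_eq_zero.2 ?_⟩
    rcases e with rfl | rfl
    · simp
    · exact commutatorElement_eq_one_iff_mul_comm.2 (mem_C1.1 (l.le u.2)).symm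
  have two : ∀ c : ZMod 2, c = 0 ∨ c = 1 := by decide
  let V : Submodule (ZMod 2) (Q d → ZMod 2) :=
    { carrier := {f | ∃ x ∈ Q d, κ x = f}
      zero_mem' := ⟨1, one_mem _, (k0 1 (one_mem _)).2 (Or.inl rfl)⟩
      add_mem' := by
        rintro _ _ ⟨x, hx, rfl⟩ ⟨y, hy, rfl⟩
        exact ⟨_, mul_mem hx hy, km x hx y hy⟩
      smul_mem' := by
        rintro c _ ⟨x, hx, rfl⟩
        rcases two c with rfl | rfl
        · exact ⟨1, one_mem _, by rw [zero_smul, (k0 1 (one_mem _)).2 (Or.inl rfl)]⟩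
        · exact ⟨x, hx, (one_smul _ _).symm⟩ }
  let π : G → V := fun x => if hx : x ∈ Q d then ⟨κ x, x, hx, rfl⟩ else 0
  have pk : ∀ x ∈ Q d, (π x : Q d → ZMod 2) = κ x := fun x hx => by simp only [π, dif_pos hx]
  have pm : ∀ x ∈ Q d, ∀ y ∈ Q d, π (x * y) = π x + π y := fun x hx y hy => Subtype.ext (by
    rw [pk _ (mul_mem hx hy), Submodule.coe_add, pk _ hx, pk _ hy, km x hx y hy])
  have p0 : ∀ x ∈ Q d, π x = 0 ↔ x = 1 ∨ x = d := fun x hx => by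
    rw [← k0 x hx, ← pk x hx, Submodule.coe_eq_zero]
  have ps : ∀ v, ∃ x ∈ Q d, π x = v := fun ⟨_, x, hx, e⟩ => ⟨x, hx, Subtype.ext (e ▸ pk x hx)⟩
  choose s s1 s2 using ps
  have pe : ∀ x ∈ Q d, ∀ y ∈ Q d, π x = π y → x = y ∨ x = d * y := fun x hx y hy e => by
    have := pm _ (mul_mem hx (inv_mem hy)) y hy
    rw [inv_mul_cancel_right, e, eq_comm, add_eq_right, p0 _ (mul_mem hx (inv_mem hy))] at this
    exact this.imp mul_inv_eq_one.1 mul_inv_eq_iff_eq_mul.1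
  have sq1 : ∀ x ∈ Q d, s (π x) * s (π x) = x * x := fun x hx => by
    rcases pe _ (s1 _) x hx (s2 _) with e | e <;> rw [e]
    rw [mul_assoc, ← mul_assoc x, mem_C1.1 (l.le hx), mul_assoc, ← mul_assoc, h.sq hd, one_mul]
  let B : V →ₗ[ZMod 2] V →ₗ[ZMod 2] ZMod 2 := LinearMap.mk₂ (ZMod 2) (fun u v => u.1 ⟨s v, s1 v⟩)
    (fun _ _ _ => rfl) (fun _ _ _ => rfl) (fun u v v' => by
      have k : ∀ a, ∀ ha : a ∈ Q d, u.1 ⟨a, ha⟩ = (π a).1 ⟨s u, s1 u⟩ := fun a ha => by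
        rw [pk a ha]
        conv_lhs => rw [← s2 u, pk _ (s1 u)]
        exact ls _ _
      simp only [k, s2]; rfl) (fun c u v => by
      have k : ∀ a, ∀ ha : a ∈ Q d, u.1 ⟨a, ha⟩ = (π a).1 ⟨s u, s1 u⟩ := fun a ha => by
        rw [pk a ha]
        conv_lhs => rw [← s2 u, pk _ (s1 u)]
        exact ls _ _
      simp only [k, s2]; rfl)
  have Bp : ∀ x ∈ Q d, ∀ y ∈ Q d, B (π x) (π y) = lg ⁅x, y⁆ := fun x hx y hy => by
    change (π x).1 ⟨s (π y), s1 _⟩ = _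
    rw [pk x hx]
    change lg ⁅x, s (π y)⁆ = _
    rw [ls, ls x]
    exact congrFun ((pk _ (s1 _)).symm.trans ((congrArg Subtype.val (s2 (π y))).trans (pk y hy)))
      ⟨x, hx⟩
  let q : QuadraticForm (ZMod 2) V :=
    { toFun := fun v => lg (s v * s v)
      toFun_smul := fun c v => by
        rcases two c with rfl | rfl
        · rw [zero_smul, ← (p0 1 (one_mem _)).2 (Or.inl rfl), sq1 _ (one_mem _)]; simp
        · simp
      exists_companion' := ⟨B, fun u v => by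
        conv_lhs => rw [← s2 u, ← s2 v, ← pm _ (s1 u) _ (s1 v), sq1 _ (mul_mem (s1 u) (s1 v)),
          lq _ (s1 u) _ (s1 v), ← Bp _ (s1 u) _ (s1 v), s2, s2]⟩ }
  have qp : ∀ x ∈ Q d, q (π x) = lg (x * x) := fun x hx => congrArg lg (sq1 x hx)
  have pp : ∀ x ∈ Q d, ∀ y ∈ Q d, pol q (π x) (π y) = lg ⁅x, y⁆ := fun x hx y hy => by
    rw [pol_eq, QuadraticMap.polar, ← pm x hx y hy, qp _ (mul_mem hx hy), qp x hx, qp y hy,
      lq x hx y hy]
    ring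
  have cq : ∀ g : C{d}, ∀ x ∈ Q d, g * x * (g : G)⁻¹ ∈ Q d := fun g x hx => conj_mem (l.norm g.2) hx
  have wd : ∀ g : C{d}, ∀ x ∈ Q d, π (g * s (π x) * (g : G)⁻¹) = π (g * x * (g : G)⁻¹) :=
    fun g x hx => by
      rcases pe _ (s1 _) x hx (s2 _) with e | e <;> rw [e]
      rw [show (g : G) * (d * x) * (g : G)⁻¹ = g * d * (g : G)⁻¹ * (g * x * (g : G)⁻¹) by group,
        mem_C1_iff_conj.1 g.2, pm _ l.xs.mem _ (cq g x hx), (p0 d l.xs.mem).2 (Or.inr rfl), zero_add]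
  let L : C{d} → V →ₗ[ZMod 2] V := fun g => (AddMonoidHom.mk' (fun v => π (g * s v * (g : G)⁻¹))
    fun u v => by
      conv_lhs => rw [← s2 u, ← s2 v, ← pm _ (s1 u) _ (s1 v), wd g _ (mul_mem (s1 u) (s1 v))]
      rw [← pm _ (cq g _ (s1 u)) _ (cq g _ (s1 v))]
      congr 1; group).toZModLinearMap 2
  have Lp : ∀ g : C{d}, ∀ x ∈ Q d, L g (π x) = π (g * x * (g : G)⁻¹) := wd
  have LL : ∀ g k v, L (g * k) v = L g (L k v) := fun g k v => by
    rw [← s2 v, Lp _ _ (s1 v), Lp _ _ (s1 v), Lp _ _ (cq k _ (s1 v))]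
    congr 1; simp [mul_assoc]
  have L1 : ∀ v, L 1 v = v := fun v => by rw [← s2 v, Lp _ _ (s1 v)]; simp
  let ρ : C{d} →* (ofQuad q).Isom := MonoidHom.mk' (fun g => ⟨LinearEquiv.ofLinearMap (L g) (L g⁻¹)
    (LinearMap.ext fun v => by simp [← LL, L1]) (LinearMap.ext fun v => by simp [← LL, L1]),
    fun u v => by
      change pol q (L g u) (L g v) = pol q u v
      rw [← s2 u, ← s2 v, Lp _ _ (s1 u), Lp _ _ (s1 v), pp _ (cq g _ (s1 u)) _ (cq g _ (s1 v)),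
        pp _ (s1 u) _ (s1 v), ← lc g ⁅s u, s v⁆]
      congr 1; simp [commutatorElement_def, mul_assoc],
    fun v => by
      change q (L g v) = q v
      rw [← s2 v, Lp _ _ (s1 v), qp _ (cq g _ (s1 v)), qp _ (s1 v), ← lc g (s v * s v)]
      congr 1; group⟩) fun g k => Subtype.ext (LinearEquiv.ext (LL g k))
  let F : Fr d (Q d) V :=
    { π := π
      q := q
      ρ := ρ
      nondeg := fun v hv => by
        rw [← s2 v, p0 _ (s1 v)]
        refine h.eq_or hd (mem_C'.2 fun y hy => commutatorElement_eq_one_iff_mul_comm.1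
          (lg_eq_zero.1 ?_))
        rw [← pp _ (s1 v) y hy, s2]; exact hv _
      π_mul := pm
      π_eq_zero := p0
      π_surj := fun v => ⟨s v, s1 v, s2 v⟩
      q_π := fun x hx => by rw [qp x hx, lg_eq_zero]
      pol_π := fun x hx y hy => by rw [pp x hx y hy, lg_eq_zero, commutatorElement_eq_one_iff_mul_comm]
      ρ_π := Lp
      ker := fun g => ⟨fun e => h.inner hd g.2 fun x hx => by
          have := Lp g x hx
          rw [show L g (π x) = (ρ g).1 (π x) from rfl, e] at this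
          rcases pe _ (cq g x hx) x hx this.symm with e | e <;> rw [e] <;> simp,
        fun e => Subtype.ext (LinearEquiv.ext fun v => by
          change L g v = v
          rw [← s2 v, Lp _ _ (s1 v)]
          rcases h.cj_or hd e (s1 v) with k | k <;> rw [k]
          rw [pm _ l.xs.mem _ (s1 v), (p0 d l.xs.mem).2 (Or.inr rfl), zero_add])⟩ }
  exact ⟨V, inferInstance, inferInstance, inferInstance, 
    Fr.dim₀ F (h.ord hd) l.xs.mem (h.card d hd), ⟨F⟩⟩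

end Sit

end

namespace Fr

variable {G : Type*} [Group G] [Finite G] {D : Set G} {Q : G → Subgroup G} {w : ℕ} {z : G}
  {V : Type*} [AddCommGroup V] [Module (ZMod 2) V] [Finite V] (F : Fr z (Q z) V)
  (h : Sit D Q w) (hz : z ∈ D) {W : Submodule (ZMod 2) V} {A : Subgroup G} {x y : G}
include h hz

theorem π_z : F.π z = 0 := (F.π_eq_zero z (h.mem hz)).2 (Or.inr rfl)
theorem π_eq (hx : x ∈ Q z) (hy : y ∈ Q z) : F.π x = F.π y ↔ x = y ∨ x = z * y := by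
  refine ⟨F.π_eq₀ hx hy, ?_⟩
  rintro (rfl | rfl)
  · rfl
  · rw [F.π_mul _ (h.mem hz) _ hy, F.π_z h hz, zero_add]
theorem q_one (hx : x ∈ Q z) : F.q (F.π x) = 1 ↔ x * x = z := by
  have : ∀ c : ZMod 2, c = 1 ↔ ¬ c = 0 := by decide
  rw [this, F.q_π x hx]
  exact ⟨(h.sq_or hz hx).resolve_left, fun e e' => h.ne_one hz (e.symm.trans e')⟩
theorem pol_one (hx : x ∈ Q z) (hy : y ∈ Q z) :
    pol F.q (F.π x) (F.π y) = 1 ↔ x * y * x⁻¹ = z * y := by
  have : ∀ c : ZMod 2, c = 1 ↔ ¬ c = 0 := by decide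
  rw [this, F.pol_π x hx y hy, ← mul_inv_eq_iff_eq_mul]
  exact ⟨(h.cj_or hz hx hy).resolve_left, fun e e' => h.ne_one hz (by simpa [e'] using e.symm)⟩
include F in
theorem dim : finrank (ZMod 2) V = 2 * w := F.dim₀ (h.ord hz) (h.mem hz) (h.card z hz)
theorem z_mem_sub : z ∈ F.sub W := ⟨h.mem hz, F.π_z h hz ▸ zero_mem W⟩
theorem card_sub : Nat.card (F.sub W) = 2 ^ (finrank (ZMod 2) W + 1) :=
  F.card_sub₀ (h.ord hz) (h.mem hz) W
theorem im_sub : F.im (F.sub W) = W := by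
  ext v
  refine ⟨fun ⟨x, h1, _, e⟩ => e ▸ h1.2, fun hv => ?_⟩
  obtain ⟨x, hx, rfl⟩ := F.π_surj v
  exact ⟨x, ⟨hx, hv⟩, hx, rfl⟩
theorem sub_im (hA : z ∈ A) : F.sub (F.im A) = A ⊓ Q z := by
  ext x
  refine ⟨fun ⟨hx, y, h1, h2, e⟩ => ⟨?_, hx⟩, fun hx => ⟨hx.2, x, hx.1, hx.2, rfl⟩⟩
  rcases F.π_eq₀ hx h2 e.symm with rfl | rfl
  exacts [h1, mul_mem hA h1]
theorem sub_perp : F.sub ((ofQuad F.q).perp W) = Q z ⊓ C[F.sub W] := by
  ext x
  refine and_congr_right fun hx => ⟨fun k => mem_C.2 fun y hy =>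
    (F.pol_π y hy.1 x hx).1 (k _ hy.2), fun k v hv => ?_⟩
  obtain ⟨y, hy, rfl⟩ := F.π_surj v
  exact (F.pol_π y hy x hx).2 (mem_C.1 k y ⟨hy, hv⟩)
theorem ea_sub : EA (F.sub W) ↔ TS F.q W := by
  refine ⟨fun k v hv => ?_, fun k x hx => (F.q_π x hx.1).1 (k _ hx.2)⟩
  obtain ⟨y, hy, rfl⟩ := F.π_surj v
  exact (F.q_π y hy).2 (k y ⟨hy, hv⟩)
theorem invS_iff : InvS F.ρ.range W ↔ C{z} ≤ N[F.sub W] := by
  refine ⟨fun k g hg => mem_N_of_finite fun x hx => ⟨conj_mem (h.norm hz hg) hx.1, ?_⟩, ?_⟩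
  · have := k _ ⟨⟨g, hg⟩, rfl⟩ _ hx.2
    rwa [F.ρ_π _ x hx.1] at this
  · rintro k _ ⟨g, rfl⟩ v hv
    obtain ⟨y, hy, rfl⟩ := F.π_surj v
    rw [F.ρ_π _ y hy]
    exact (conj_mem (k g.2) (show y ∈ F.sub W from ⟨hy, hv⟩)).2
theorem irrV_iff : IrrV F.ρ.range ↔ Irr z (Q z) := by
  have b : F.sub ⊥ = zpowers z := by
    ext x
    rw [h.mem_zp hz, mem_sub, Submodule.mem_bot]
    exact ⟨fun k => (F.π_eq_zero x k.1).1 k.2, fun k => by
      have : x ∈ Q z := by rcases k with rfl | rfl; exacts [one_mem _, h.mem hz]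
      exact ⟨this, (F.π_eq_zero x this).2 k⟩⟩
  have t : F.sub ⊤ = Q z := by ext x; simp [mem_sub]
  refine ⟨fun k A h1 h2 h3 => ?_, fun k B hB => ?_⟩
  · have e : F.sub (F.im A) = A := by rw [F.sub_im h hz h1, inf_eq_left.2 h2]
    rcases k (F.im A) ((F.invS_iff h hz).2 (by rwa [e])) with k | k <;> rw [← e, k]
    exacts [Or.inl b, Or.inr t]
  · rcases k _ (F.z_mem_sub h hz) (fun _ hx => hx.1) ((F.invS_iff h hz).1 hB) with k | k
    · left; rw [← F.im_sub h hz (W := B), k, ← b, F.im_sub h hz]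
    · right; rw [← F.im_sub h hz (W := B), k.trans t.symm, F.im_sub h hz]
theorem ker_eq : F.ρ.ker = (Q z).subgroupOf C{z} := by
  ext g; exact F.ker g
theorem o2V (N : Subgroup (ofQuad F.q).Isom) (h1 : N ≤ F.ρ.range) (h2 : F.ρ.range ≤ N[N])
    (h3 : IsPGroup 2 N) : N = ⊥ := by
  have hn : (N.comap F.ρ).Normal := ⟨fun n hn g => by
    rw [mem_comap, map_mul, map_mul, map_inv]; exact conj_mem (h2 ⟨g, rfl⟩) hn⟩
  have := h.o2 z hz _ (nml_map_subtype (N.comap F.ρ)).le (nml_map_subtype (N.comap F.ρ)).norm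
    ((h3.comap_of_ker_isPGroup F.ρ (F.ker_eq h hz ▸ (h.two hz).comap_subtype)).map _)
  refine eq_bot_iff.2 fun n hn => ?_
  obtain ⟨g, rfl⟩ := h1 hn
  exact (F.ker g).2 (this ⟨g, hn, rfl⟩)
theorem card_C : Nat.card C{z} = 2 ^ (2 * w + 1) * Nat.card F.ρ.range := by
  rw [← h.card z hz, ← card_subgroupOf_of_le (h.le hz), ← F.ker_eq h hz, ← index_ker,
    card_mul_index]
theorem mem_VV (hx : x ∈ Q z) : F.π x ∈ F.VV D ↔ x ∈ D ∧ x ≠ z := by
  refine ⟨fun ⟨d, h1, h2, h3, e⟩ => ?_, fun k => ⟨x, k.1, hx, k.2, rfl⟩⟩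
  rcases F.π_eq₀ hx h2 e.symm with rfl | rfl
  · exact ⟨h1, h3⟩
  · exact ⟨(h.mul_mem_D hz h2 (h.ne_one h1) h3).2 h1, fun k => h.ne_one h1 (by simpa using k)⟩

end Fr

end XS
end H6
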