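import Mathlib
import Cfsg.Agent.H0.BSL2

set_option autoImplicit false
set_option linter.all false

namespace H10.Mon.MG

namespace H6F

/-- The map `1 + h`. -/
noncomputable def N1 (h : G0) : C →+ C := AddMonoidHom.mk' (fun c => c + h • c) fun a b => by
  rw [smul_add, add_add_add_comm]

theorem N1_ker (h : G0) : (N1 h).ker = FixC h := by
  ext c
  change c + h • c = 0 ↔ h • c = c
  rw [add_eq_zero_C, eq_comm]

theorem card_idx (W : AddSubgroup C) : Nat.card W * W.index = 2 ^ 24 := by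
  rw [W.card_mul_index, card_C]

theorem card_range (h : G0) : Nat.card (N1 h).range = (FixC h).index := by
  rw [← N1_ker, AddSubgroup.index_ker]

theorem fix_le_range {h : G0} (k : ∀ c : C, h • c = c → ∃ d : C, c = d + h • d) :
    FixC h ≤ (N1 h).range := fun c hc => by
  obtain ⟨d, e⟩ := k c hc
  exact ⟨d, e.symm⟩

theorem fix12 {h : G0} (k : ∀ c : C, h • c = c → ∃ d : C, c = d + h • d) :
    Nat.card (FixC h) ≤ 2 ^ 12 := by
  have h1 := AddSubgroup.card_le_of_le (fix_le_range k)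
  rw [card_range] at h1
  have h2 := card_idx (FixC h)
  by_contra hn
  push Not at hn
  have : 2 ^ 12 * 2 ^ 12 < Nat.card (FixC h) * (FixC h).index :=
    Nat.mul_lt_mul'' hn (hn.trans_le h1)
  omega

theorem card_cj {h s : G0} (e : Cj h s) : Nat.card (FixC h) ≤ Nat.card (FixC s) := by
  obtain ⟨u, hu⟩ := e
  exact Nat.card_le_card_of_injective (fun c : FixC h => (⟨u • c.1, by
      change s • u • c.1 = u • c.1
      rw [← hu, mul_smul, mul_smul, inv_smul_smul, c.2]⟩ : FixC s))
      fun a b e => Subtype.ext (smul_left_cancel u (congrArg Subtype.val e))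

theorem idx6 {W : AddSubgroup C} (h : 2 ^ 17 < Nat.card W) : W.index ≤ 2 ^ 6 := by
  have h2 := card_idx W
  obtain ⟨j, -, hj⟩ := (Nat.dvd_prime_pow Nat.prime_two).1 (Dvd.intro_left _ h2)
  rw [hj] at h2 ⊢
  refine Nat.pow_le_pow_right two_pos ?_
  by_contra hn
  have : 2 ^ 7 ≤ 2 ^ j := Nat.pow_le_pow_right two_pos (by omega)
  have : 2 ^ 17 * 2 ^ 7 < Nat.card W * 2 ^ j := Nat.mul_lt_mul_of_lt_of_le h this (by positivity)
  omega

theorem sq_of_oP {h : G0} (k : ∀ d : C, pl d (h • d) = 0) (a : C) : h • h • a = a := by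
  by_contra hn
  obtain ⟨u, hu⟩ := exists_polar_one (c := h • h • a + a) fun e => hn (add_eq_zero_C.1 e)
  replace hu : pl (h • h • a + a) u = 1 := hu
  have h3 := k (a + h⁻¹ • u)
  rw [smul_add, pl_add', pl_add, pl_add, k, k] at h3
  have h4 : pl (h⁻¹ • u) (h • a) = pl u (h • h • a) := by
    rw [← pl_smul h, smul_inv_smul]
  rw [smul_inv_smul, h4, zero_add, add_zero] at h3
  rw [pl_add', add_comm, pl_comm (h • h • a), h3] at hu
  exact zero_ne_one hu

theorem fixO {eO eD s0 : G0} (L : LF eO eD s0) : Nat.card (FixC eO) ≤ 2 ^ 17 := by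
  by_contra hn
  push Not at hn
  obtain ⟨u, -, hu⟩ := L.dO
  have c1 : Cj eO (u * eO * u⁻¹) := ⟨u, fun _ => rfl⟩
  have i1 := idx6 hn
  have i2 := idx6 (hn.trans_le (card_cj c1))
  have i3 : (FixC eO ⊓ FixC (u * eO * u⁻¹)).index ≤ 2 ^ 6 * 2 ^ 6 :=
    AddSubgroup.index_inf_le.trans (Nat.mul_le_mul i1 i2)
  have i4 := card_idx (FixC eO ⊓ FixC (u * eO * u⁻¹))
  have i5 : 2 ^ 12 ≤ Nat.card ↥(FixC eO ⊓ FixC (u * eO * u⁻¹)) := by
    by_contra hn
    push Not at hn
    have := Nat.mul_lt_mul_of_lt_of_le hn i3 (by positivity)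
    omega
  have l1 : FixC eO ⊓ FixC (u * eO * u⁻¹) ≤ FixC eD := fun c hc => by
    change eD • c = c
    have a1 : eO • c = c := hc.1
    have a2 : (u * eO * u⁻¹) • c = c := hc.2
    rw [hu, mul_smul, a2, a1]
  have i6 : (FixC eD).index ≤ 2 ^ 12 := by
    have h2 := card_idx (FixC eD)
    have h3 := i5.trans (AddSubgroup.card_le_of_le l1)
    by_contra hn
    push Not at hn
    have := Nat.mul_lt_mul_of_le_of_lt h3 hn (by omega)
    omega
  have e := AddSubgroup.eq_of_le_of_card_ge (l1.trans (fix_le_range L.dF))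
    (by rw [card_range]; exact i6.trans i5)
  obtain ⟨d, hd⟩ := L.dP
  have m : N1 eD d ∈ FixC eO ⊓ FixC (u * eO * u⁻¹) := e ▸ ⟨d, rfl⟩
  have m1 : eO • (d + eD • d) = d + eD • d := m.1
  rw [hu, mul_smul eO, smul_add, sq_of_oP L.oP] at m1
  have p1 : pl d ((u * eO * u⁻¹) • d) = 0 := by
    rw [← pl_smul u⁻¹, mul_smul, mul_smul, inv_smul_smul]; exact L.oP _
  have p2 := congrArg (pl d) m1
  rw [pl_add, pl_add, L.oP, p1, pl_self, zero_add, zero_add, ← mul_smul, ← hu, hd] at p2
  exact zero_ne_one p2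

end H6F

open H6F

/-- An involution of `Co1` has rank at least 7. -/
theorem card_fix17 {eO eD s0 : G0} (L : LF eO eD s0) {h : G0} (h2 : ∀ c : C, h • h • c = c)
    (h1 : ¬ Ac h 1) : Nat.card (FixC h) ≤ 2 ^ 17 := by
  rcases L.cls h h2 with e | e | e | e
  · exact (h1 e).elim
  · exact (card_cj e).trans (fixO L)
  · exact (card_cj e).trans ((fix12 L.dF).trans (by norm_num))
  · exact (card_cj e).trans ((fix12 L.sF).trans (by norm_num))

theorem fix18 {eO eD s0 : G0} (L : LF eO eD s0) (n : ℕ) {h : G0} (h2 : Ac (h ^ 2 ^ n) 1)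
    (h1 : 2 ^ 17 < Nat.card (FixC h)) : Ac h 1 := by
  induction n generalizing h with
  | zero => simpa using h2
  | succ n ih =>
    have := ih (h := h * h) (by rwa [← pow_two, ← pow_mul, ← pow_succ'])
      (h1.trans_le (AddSubgroup.card_le_of_le fun c hc => by
        change (h * h) • c = c
        rw [mul_smul, hc, hc]))
    by_contra k
    exact (card_fix17 L (fun c => by rw [← mul_smul, this, one_smul]) k).not_gt h1

end H10.Mon.MG
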