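import Mathlib
import Cfsg.Agent.H6.XB

/-! The TI case, I -/

set_option autoImplicit false
set_option linter.unusedSectionVars false

namespace H6
namespace XS

open Subgroup H24 H15 H15.XP Module
open scoped commutatorElement

variable {G : Type*} [Group G] [Finite G] {D : Set G} {Q : G → Subgroup G} {w : ℕ} {z : G}

open Classical in
/-- transport of a `C(z)`-invariant subgroup to the class of `z` -/
noncomputable def trR1 (z : G) (U : Subgroup G) (d : G) : Subgroup G :=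
  if h : ∃ g : G, g * z * g⁻¹ = d then cj h.choose U else ⊥

theorem trR1_conj {U : Subgroup G} (hn : C{z} ≤ N[U]) (g : G) : trR1 z U (g * z * g⁻¹) = cj g U := by
  have h : ∃ k : G, k * z * k⁻¹ = g * z * g⁻¹ := ⟨g, rfl⟩
  rw [trR1, dif_pos h, cj_eq_cj_iff]
  apply hn
  rw [mem_C1_iff_conj]
  calc g⁻¹ * h.choose * z * (g⁻¹ * h.choose)⁻¹ = g⁻¹ * (h.choose * z * h.choose⁻¹) * g := by group
    _ = z := by rw [h.choose_spec]; group

theorem EA.cjR1 {U : Subgroup G} (h : EA U) (g : G) : EA (H24.cj g U) := by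
  intro x hx
  obtain ⟨y, hy, rfl⟩ := mem_cj'.1 hx
  calc g * y * g⁻¹ * (g * y * g⁻¹) = g * (y * y) * g⁻¹ := by group
    _ = 1 := by rw [h y hy]; group

theorem Sit.exists_ti (h : Sit D Q w) (hw : 3 ≤ w) (hz : z ∈ D) {U : Subgroup G} (hU : EA U)
    (hzU : z ∈ U) (hne : U ≠ zpowers z) (hn : ∀ u ∈ U, u ≠ 1 → u ∈ D ∧ U ≤ Q u ∧ C{u} ≤ N[U])
    (hD : ∀ d ∈ D, d ∈ Q z → d ∈ U) : ∃ U', TIs D Q U' w := by
  have z1 := h.ne_one hz
  obtain ⟨-, hUQ, hCz⟩ := hn z hzU z1
  have tr : ∀ u ∈ U, u ≠ 1 → ∃ g ∈ N[U], g * z * g⁻¹ = u := fun u hu u1 => by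
    by_cases e : u = z
    · exact ⟨1, one_mem _, by rw [e]; group⟩
    obtain ⟨h1, -, h3⟩ := hn u hu u1
    obtain ⟨g, hg, e1, -⟩ := h.swap hz h1 (hUQ hu) e
    exact ⟨g, sup_le ((h.le hz).trans hCz) ((h.le h1).trans h3) hg, e1⟩
  have hO : ∀ u ∈ U, u ≠ 1 → O[{2}, C[U]] ≤ Q u := fun u hu u1 => by
    obtain ⟨h1, -, h3⟩ := hn u hu u1
    exact h.o2 u h1 _ ((pcore_le _ _).trans (C_le_C1 hu)) (norm_pcore _ (norm_C h3))
      ((pcore_pi _ _).isPGroup Nat.prime_two)
  have hY : Q z ⊓ C[U] ≤ O[{2}, C[U]] :=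
    pcore_max' ((isPi_of_isPGroup Nat.prime_two (h.two hz)).inf_left _) inf_le_right
      (norm_inf ((C_le_C1 hzU).trans (h.norm hz)) (norm_self _))
  obtain ⟨u, hu, hu'⟩ : ∃ u ∈ U, u ∉ zpowers z := by
    by_contra hc
    exact hne (le_antisymm (fun u hu => by_contra fun e => hc ⟨u, hu, e⟩) (zpowers_le.2 hzU))
  rw [h.mem_zp hz, not_or] at hu'
  have hYU : Q z ⊓ C[U] = U := by
    refine le_antisymm ?_ (le_inf hUQ hU.le_C)
    refine le_trans (le_inf inf_le_left ?_) (h.dual_dual hz hUQ hzU).le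
    rw [le_C_iff]
    intro x hx y hy
    rcases h.cj_or hz hx.1 hy.1 with e | e
    · exact mul_inv_eq_iff_eq_mul.1 e
    rcases h.cj_or (hn u hu hu'.1).1 (hO u hu hu'.1 (hY hx)) (hO u hu hu'.1 (hY hy)) with e' | e'
    · exact mul_inv_eq_iff_eq_mul.1 e'
    · exact absurd (mul_right_cancel (e'.symm.trans e)) hu'.2
  have hcard : Nat.card U = 2 ^ (w + 1) := by
    have h1 := h.dual hz hUQ hzU
    rw [hYU, ← pow_two, show 2 * w + 2 = (w + 1) * 2 by ring, pow_mul] at h1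
    exact Nat.pow_left_injective (by norm_num) h1
  have hcent : C[U] ≤ U := by
    have h2 : IsPi {2} C[U] := by
      refine isPi_iff_piElt.2 fun c hc => piElt_of_pow_eq_one (n := 2 ^ 2) (piNat_self_pow Nat.prime_two 2) ?_
      have h3 : c * c ∈ C[Q z] := by
        rw [mem_C']
        intro x hx
        have h4 : c * x * c⁻¹ * x⁻¹ ∈ U := by
          rw [← hYU]
          refine mem_inf.2 ⟨mul_mem (conj_mem (h.norm hz (C_le_C1 hzU hc)) hx) (inv_mem hx),
            mem_C'.2 fun v hv => ?_⟩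
          have h5 : x⁻¹ * v * x ∈ U := conj_mem' (hCz (h.le hz hx)) hv
          have h6 := conj_eq_of_mem_C (inv_mem hc) h5
          have h7 := conj_eq_of_mem_C hc hv
          calc c * x * c⁻¹ * x⁻¹ * v = c * x * (c⁻¹ * (x⁻¹ * v * x) * c⁻¹⁻¹) * c⁻¹ * x⁻¹ := by group
            _ = (c * v * c⁻¹) * (c * x * c⁻¹ * x⁻¹) := by rw [h6]; group
            _ = _ := by rw [h7]
        have h5 := conj_eq_of_mem_C hc h4
        have h6 := hU _ h4
        calc c * c * x = c * (c * x * c⁻¹ * x⁻¹) * c⁻¹ * (c * x * c⁻¹ * x⁻¹) * x * (c * c) := by group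
          _ = x * (c * c) := by rw [h5, h6, one_mul]
      have e : c ^ 2 ^ 2 = (c * c) * (c * c) := by
        rw [show 2 ^ 2 = 4 from rfl, pow_succ, pow_succ, pow_two]; group
      rcases h.eq_or hz h3 with e' | e'
      · rw [e, e', one_mul]
      · rw [e, e', h.sq hz]
    exact le_trans (le_inf (h2.pcore_eq.ge.trans (hO z hzU z1)) le_rfl) hYU.le
  have key := trR1_conj hCz
  refine ⟨trR1 z U, { h with
    three := hw, self := ?_, le := ?_, ea := ?_, cardU := ?_, centU := ?_, eqvU := ?_, ti := ?_, mem := ?_ }⟩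
  all_goals intro d hd; obtain ⟨g, rfl⟩ := h.trans z hz d hd
  · rw [key]
    exact conj_mem_cj g hzU
  · rw [key, h.eqv z hz]
    exact cj_mono g hUQ
  · rw [key]
    exact hU.cjR1 g
  · rw [key, card_cj, hcard]
  · rw [key, ← cj_C]
    exact cj_mono g hcent
  · intro k
    rw [key, ← cj_mul, ← key]
    congr 1
    group
  · intro e he e1
    rw [key] at he ⊢
    obtain ⟨v, hv, rfl⟩ := mem_cj'.1 he
    have v1 : v ≠ 1 := fun e => e1 (by rw [e]; group)
    obtain ⟨k, hk, rfl⟩ := tr v hv v1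
    refine ⟨h.conj _ (h.conj z hz k) g, ?_⟩
    rw [show g * (k * z * k⁻¹) * g⁻¹ = g * k * z * (g * k)⁻¹ by group, key, cj_mul, cj_of_mem_N hk]
  · intro e he hq
    rw [key, mem_cj]
    rw [h.eqv z hz, mem_cj] at hq
    exact hD _ (by simpa using h.conj e he g⁻¹) hq

theorem TIs.normR1 {U : G → Subgroup G} (h : TIs D Q U w) (hz : z ∈ D) : C{z} ≤ N[U z] := fun g hg => by
  rw [mem_N_iff_cj, ← h.eqvU z hz, mem_C1_iff_conj.1 hg]

theorem TIs.exists_bad [IsSimpleGroup G] {U : G → Subgroup G} (h : TIs D Q U w) (hz : z ∈ D) :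
    ∃ d ∈ D, d ∈ N[U z] ∧ d ∉ U z := by
  by_contra hc
  have hb : ∀ d ∈ D, d ∈ N[U z] → d ∈ U z := fun d h1 h2 => by_contra fun h3 => hc ⟨d, h1, h2, h3⟩
  have s := h.toSit
  obtain ⟨t, ht, t2, tU⟩ : ∃ t ∈ Q z, t * t = 1 ∧ t ∉ U z := by
    obtain ⟨x, hx, hx'⟩ : ∃ x ∈ Q z, x ∉ U z := by
      by_contra hn
      have h1 := card_le (A := Q z) (B := U z) fun x hx => by_contra fun e => hn ⟨x, hx, e⟩
      rw [h.card z hz, h.cardU z hz, Nat.pow_le_pow_iff_right (by norm_num)] at h1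
      have := h.three
      omega
    rcases s.sq_or hz hx with e | e
    · exact ⟨x, hx, e, hx'⟩
    obtain ⟨u, hu, hu'⟩ : ∃ u ∈ U z, x * u * x⁻¹ ≠ u := by
      by_contra hn
      refine hx' (h.centU z hz (mem_C'.2 fun u hu => ?_))
      exact mul_inv_eq_iff_eq_mul.1 (by_contra fun e => hn ⟨u, hu, e⟩)
    have e1 := (s.cj_or hz hx (h.le z hz hu)).resolve_left hu'
    refine ⟨x * u, mul_mem hx (h.le z hz hu), ?_, fun e' => hx' ((mul_mem_cancel_right hu).1 e')⟩
    calc x * u * (x * u) = (x * u * x⁻¹) * (x * x) * u := by group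
      _ = (z * u) * (z * u) := by rw [e1, e]; group
      _ = 1 := h.ea z hz _ (mul_mem (h.self z hz) hu)
  have h1 : N[U z] = ⊤ := by
    refine s.eq_top hz (norm_self _ (h.self z hz)) (fun g hg => ?_) (fun e he hne hc => ?_) t2
      (fun e => tU (e ▸ one_mem _)) (fun e => tU (h.mem z hz t e ht))
    · have h2 := hb _ (h.conj z hz g) hg
      rw [mem_N_iff_cj, ← h.eqvU z hz, (h.ti z hz _ h2 (s.ne_one (h.conj z hz g))).2]
    · have h2 : z * e ∈ U z := mul_mem (h.self z hz) (hb e he (h.normR1 hz (mem_C1.2 hc.symm)))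
      have h3 : z * e ≠ 1 := fun e' => hne (mul_left_cancel (e'.trans (s.sq hz).symm))
      obtain ⟨h4, h5⟩ := h.ti z hz _ h2 h3
      exact h5 ▸ h.normR1 h4
  rcases (normalizer_eq_top_iff.1 h1).eq_bot_or_eq_top with e | e
  · have := h.self z hz
    rw [e, mem_bot] at this
    exact s.ne_one hz this
  · exact tU (e ▸ mem_top t)

end XS
end H6
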