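import Mathlib
import Cfsg.Agent.H6.XR1
import Cfsg.Agent.H6.XT

/-! The TI case, II -/

set_option autoImplicit false
set_option linter.unusedSectionVars false

namespace H6
namespace XS

open Subgroup H24 H15 H15.XP Module
open scoped commutatorElement

variable {G : Type*} [Group G] [Finite G] {D : Set G} {Q : G → Subgroup G} {w : ℕ} {z : G}

/-- `b` acts on `U` as the transvection with centre `u` and axis `K` -/
structure ActR (U K : Subgroup G) (u b : G) : Prop where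
  fix : ∀ x ∈ K, b * x * b⁻¹ = x
  mv : ∀ x ∈ U, x ∉ K → b * x * b⁻¹ = u * x

theorem card_idx2R {U K : Subgroup G} (hK : K ≤ U) (hi : K.relIndex U = 2) (hc : Nat.card U = 2 ^ (w + 1)) :
    Nat.card K = 2 ^ w := by
  have := card_mul_relIndex hK
  rw [hi, hc, pow_succ] at this
  omega

theorem mul_not_memR {K : Subgroup G} {x y : G} (hx : x ∈ K) (hy : y ∉ K) : x * y ∉ K :=
  fun e => hy ((mul_mem_cancel_left hx).1 e)

theorem mul_idx2R {U K : Subgroup G} (hi : K.relIndex U = 2) {x y : G} (hx : x ∈ U) (hy : y ∈ U)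
    (hx' : x ∉ K) (hy' : y ∉ K) : x * y ∈ K :=
  (mul_mem_iff_of_index_two (H := K.subgroupOf U) hi (a := ⟨x, hx⟩) (b := ⟨y, hy⟩)).2 (iff_of_false hx' hy')

theorem eq_of_idx2R {U K L : Subgroup G} (hi : K.relIndex U = 2) (h1 : K ≤ L) (h2 : L ≤ U) (h3 : ¬ U ≤ L) :
    L = K := by
  have c1 := relIndex_mul_relIndex K L U h1 h2
  have c2 : L.relIndex U ≠ 1 := fun e => h3 (relIndex_eq_one.1 e)
  rw [hi] at c1
  rcases (Nat.dvd_prime Nat.prime_two).1 (Dvd.intro_left _ c1) with e | e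
  · exact absurd e c2
  · rw [e] at c1
    exact le_antisymm (relIndex_eq_one.1 (by omega)) h1

/-- `Q u` induces on `U` all transvections with centre `u` -/
theorem Sit.tvR (h : Sit D Q w) {u : G} (hu : u ∈ D) {U K : Subgroup G} (hU : U ≤ Q u)
    (hc : Nat.card U = 2 ^ (w + 1)) (hC : C[U] ≤ U) (hK : K ≤ U) (hi : K.relIndex U = 2) (huK : u ∈ K) :
    ∃ b ∈ Q u, ActR U K u b := by
  have c1 := h.dual hu (hK.trans hU) huK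
  rw [card_idx2R hK hi hc, show 2 * w + 2 = w + (w + 2) by ring, pow_add] at c1
  have c2 := Nat.eq_of_mul_eq_mul_left (by positivity) c1
  obtain ⟨b, hb, hb'⟩ : ∃ b ∈ Q u ⊓ C[K], b ∉ U := by
    by_contra hn
    have h1 := card_le (A := Q u ⊓ C[K]) (B := U) fun x hx => by_contra fun e => hn ⟨x, hx, e⟩
    rw [c2, hc, Nat.pow_le_pow_iff_right (by norm_num)] at h1
    omega
  refine ⟨b, hb.1, fun x hx => conj_eq_of_mem_C hb.2 hx, fun x hx hx' => ?_⟩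
  refine (h.cj_or hu hb.1 (hU hx)).resolve_left fun e => hx' ?_
  have e1 : U ⊓ C{b} = K := eq_of_idx2R hi (le_inf hK (mem_C_iff_le_C1.1 hb.2)) inf_le_left
    fun e' => hb' (hC (mem_C_iff_le_C1.2 (e'.trans inf_le_right)))
  exact e1 ▸ mem_inf.2 ⟨hx, mem_C1_comm.1 (mem_C1_iff_conj.2 e)⟩

theorem mem_C_of_actR {U : Subgroup G} {a b : G} (h : ∀ x ∈ U, a * x * a⁻¹ = b * x * b⁻¹) :
    b⁻¹ * a ∈ C[U] := by
  rw [mem_C']
  intro x hx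
  calc b⁻¹ * a * x = b⁻¹ * (a * x * a⁻¹) * a := by group
    _ = _ := by rw [h x hx]; group

theorem cjmR (g x y : G) : g * (x * y) * g⁻¹ = g * x * g⁻¹ * (g * y * g⁻¹) := by group

/-- the commutator of an involution with an element of an elementary abelian group it normalizes -/
theorem EA.cm_fixR {U : Subgroup G} (hU : EA U) {d a : G} (hd : d * d = 1) (hn : d ∈ N[U]) (ha : a ∈ U) :
    d * a * d⁻¹ * a⁻¹ ∈ U ⊓ C{d} := by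
  have h1 : d * a * d⁻¹ * a⁻¹ ∈ U := mul_mem (conj_mem hn ha) (inv_mem ha)
  refine ⟨h1, mem_C1_comm.1 (mem_C1_iff_conj.2 ?_)⟩
  have h2 := hU _ h1
  have h3 : d⁻¹ = d := inv_eq_of_mul_eq_one_right hd
  have h4 : a⁻¹ = a := inv_eq_of_mul_eq_one_right (hU a ha)
  rw [← inv_eq_of_mul_eq_one_right h2]
  calc d * (d * a * d⁻¹ * a⁻¹)⁻¹ * d⁻¹ = d * a * d * a⁻¹ * (d * d)⁻¹ := by group
    _ = d * a * d⁻¹ * a⁻¹ := by rw [hd, h3]; group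
    _ = _ := (inv_eq_of_mul_eq_one_right h2).symm

namespace TIs

variable {U : G → Subgroup G} (h : TIs D Q U w) {d u x y a : G}
include h

theorem leQR (hz : z ∈ D) (hu : u ∈ U z) (u1 : u ≠ 1) : U z ≤ Q u :=
  (h.ti z hz u hu u1).2 ▸ h.le u (h.ti z hz u hu u1).1

theorem QNR (hz : z ∈ D) (hu : u ∈ U z) (u1 : u ≠ 1) : Q u ≤ N[U z] :=
  (h.ti z hz u hu u1).2 ▸ (h.toSit.le (h.ti z hz u hu u1).1).trans (h.normR1 (h.ti z hz u hu u1).1)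

theorem tvR (hz : z ∈ D) (hu : u ∈ U z) (u1 : u ≠ 1) {K : Subgroup G} (hK : K ≤ U z)
    (hi : K.relIndex (U z) = 2) (huK : u ∈ K) : ∃ b ∈ Q u, ActR (U z) K u b :=
  h.toSit.tvR (h.ti z hz u hu u1).1 (h.leQR hz hu u1) (h.cardU z hz) (h.centU z hz) hK hi huK

theorem disjR (hz : z ∈ D) (hd : d ∈ D) (hn : d ∉ U z) (hx : x ∈ U z) (hx' : x ∈ U d) : x = 1 := by
  by_contra x1
  exact hn ((h.ti z hz x hx x1).2 ▸ (h.ti d hd x hx' x1).2 ▸ h.self d hd)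

theorem disjQR (hz : z ∈ D) (hd : d ∈ D) (hn : d ∉ U z) (hu : u ∈ U z) (u1 : u ≠ 1) (hx : x ∈ Q u)
    (hx' : x ∈ U d) : x = 1 := by
  by_contra x1
  obtain ⟨h1, h2⟩ := h.ti z hz u hu u1
  exact x1 (h.disjR hz hd hn (h2 ▸ h.mem u h1 x (h.ti d hd x hx' x1).1 hx) hx')

theorem normR (hd : d ∈ D) (hy : y ∈ U d) (y1 : y ≠ 1) : C{y} ≤ N[U d] :=
  (h.ti d hd y hy y1).2 ▸ h.normR1 (h.ti d hd y hy y1).1

theorem commR (hz : z ∈ D) (hd : d ∈ D) (hn : d ∉ U z) (hx : x ∈ U z) (hx' : x ∈ N[U d]) (hy : y ∈ U d)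
    (hy' : y ∈ N[U z]) : x ∈ C{y} := by
  rw [mem_C1_iff_conj, ← mul_inv_eq_one]
  refine h.disjR hz hd hn ?_ (mul_mem (conj_mem hx' hy) (inv_mem hy))
  rw [show x * y * x⁻¹ * y⁻¹ = x * (y * x⁻¹ * y⁻¹) by group]
  exact mul_mem hx (conj_mem hy' (inv_mem hx))

/-- the commutator map `N_{U'}(U) → N_U(U')` -/
theorem injR (hz : z ∈ D) (hd : d ∈ D) (ha : a ∈ U z) (ha' : a ∉ N[U d]) :
    ∃ f : ↥(U d ⊓ N[U z]) → ↥(U z ⊓ N[U d]), Function.Injective f ∧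
      ∀ y, (f y : G) = y * a * (y : G)⁻¹ * a⁻¹ := by
  have m : ∀ y ∈ U d ⊓ N[U z], y * a * y⁻¹ * a⁻¹ ∈ U z ⊓ N[U d] := fun y hy => by
    by_cases y1 : y = 1
    · rw [y1]; simp
    have := (h.ea z hz).cm_fixR (h.ea d hd y hy.1) hy.2 ha
    exact ⟨this.1, h.normR hd hy.1 y1 this.2⟩
  refine ⟨fun y => ⟨_, m y y.2⟩, fun y y' e => ?_, fun _ => rfl⟩
  have e1 : (y : G) * a * (y : G)⁻¹ = y' * a * (y' : G)⁻¹ := mul_right_cancel (congrArg Subtype.val e)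
  by_contra hne
  have h1 : (y' : G)⁻¹ * y ≠ 1 := fun e => hne (Subtype.ext (inv_mul_eq_one.1 e).symm)
  refine ha' (h.normR hd (mul_mem (inv_mem y'.2.1) y.2.1) h1 (mem_C1_comm.1 (mem_C1_iff_conj.2 ?_)))
  calc (y' : G)⁻¹ * y * a * ((y' : G)⁻¹ * y)⁻¹ = (y' : G)⁻¹ * (y * a * (y : G)⁻¹) * y' := by group
    _ = a := by rw [e1]; group

section bad

variable (hz : z ∈ D) (hd : d ∈ D) (hN : d ∈ N[U z]) (hn : d ∉ U z)
include hz hd hN hn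

theorem XeqR : U z ⊓ N[U d] = U z ⊓ C{d} :=
  le_antisymm (fun _ hx => ⟨hx.1, h.commR hz hd hn hx.1 hx.2 (h.self d hd) hN⟩)
    (inf_le_inf_left _ (h.normR1 hd))

theorem notleR : ¬ U z ≤ C{d} := fun e => hn (h.centU z hz (mem_C_iff_le_C1.2 e))

theorem exXR : ∃ x ∈ U z, x ∈ C{d} ∧ x ≠ 1 := by
  obtain ⟨a, ha, ha'⟩ := SetLike.not_le_iff_exists.1 (h.notleR hz hd hN hn)
  have := (h.ea z hz).cm_fixR (h.toSit.sq hd) hN ha
  exact ⟨_, this.1, this.2, fun e => ha' (mem_C1_comm.1 (mem_C1_iff_conj.2 (mul_inv_eq_one.1 e)))⟩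

theorem surjR (ha : a ∈ U z) (ha' : a ∉ C{d}) (hx : x ∈ U z) (hx' : x ∈ C{d}) :
    ∃ y ∈ U d, y ∈ N[U z] ∧ y * a * y⁻¹ * a⁻¹ = x := by
  have e := h.XeqR hz hd hN hn
  obtain ⟨f, hf, hf'⟩ := h.injR hz hd ha (fun e' => ha' (e.le (mem_inf.2 ⟨ha, e'⟩)).2)
  obtain ⟨u, hu, hu', u1⟩ := h.exXR hz hd hN hn
  obtain ⟨h1, h2⟩ := h.ti z hz u hu u1
  have n1 : u ∉ U d := fun e => u1 (h.disjR hz hd hn hu e)
  obtain ⟨b, hb, hb'⟩ := SetLike.not_le_iff_exists.1 (h.notleR hd h1 (h.normR1 hd hu') n1)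
  have e' := h.XeqR hd h1 (h.normR1 hd hu') n1
  obtain ⟨f', hf1, -⟩ := h.injR hd h1 hb (fun e'' => hb' (e'.le (mem_inf.2 ⟨hb, e''⟩)).2)
  have c := Nat.card_le_card_of_injective f' hf1
  rw [h2] at c
  have hb := hf.bijective_of_nat_card_le c
  obtain ⟨y, hy⟩ := hb.2 ⟨x, e.ge (mem_inf.2 ⟨hx, hx'⟩)⟩
  exact ⟨y, y.2.1, y.2.2, (hf' y).symm.trans (congrArg Subtype.val hy)⟩

theorem cardXR : Nat.card ↥(U z ⊓ C{d}) < 2 ^ w := by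
  by_contra hc
  have ea := h.ea z hz
  have c1 := card_mul_relIndex (inf_le_left : U z ⊓ C{d} ≤ U z)
  have c2 : (U z ⊓ C{d}).relIndex (U z) ≠ 1 := fun e =>
    h.notleR hz hd hN hn ((relIndex_eq_one.1 e).trans inf_le_right)
  have c3 := relIndex_ne_zero' (U z ⊓ C{d}) (U z)
  have c4 : (U z ⊓ C{d}).relIndex (U z) = 2 := by
    rw [h.cardU z hz, pow_succ] at c1
    by_contra c4
    have c5 : 3 ≤ (U z ⊓ C{d}).relIndex (U z) := by omega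
    have := Nat.mul_le_mul (not_lt.1 hc) c5
    have : 0 < 2 ^ w := by positivity
    omega
  obtain ⟨a, ha, ha'⟩ := SetLike.not_le_iff_exists.1 (h.notleR hz hd hN hn)
  have hu := ea.cm_fixR (h.toSit.sq hd) hN ha
  have u1 : d * a * d⁻¹ * a⁻¹ ≠ 1 := fun e => ha' (mem_C1_comm.1 (mem_C1_iff_conj.2 (mul_inv_eq_one.1 e)))
  obtain ⟨b, hb, hb'⟩ := h.tvR hz hu.1 u1 inf_le_left c4 hu
  have h1 : b⁻¹ * d ∈ U z := by
    refine h.centU z hz (mem_C_of_actR fun x hx => ?_)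
    by_cases e : x ∈ U z ⊓ C{d}
    · rw [hb'.fix x e, mem_C1_iff_conj.1 (mem_C1_comm.1 e.2)]
    · have h2 : a⁻¹ * x ∈ U z ⊓ C{d} :=
        mul_idx2R c4 (inv_mem ha) hx (fun e => ha' (inv_mem_iff.1 e).2) e
      have h3 := mem_C1_iff_conj.1 (mem_C1_comm.1 h2.2)
      rw [hb'.mv x hx e]
      calc d * x * d⁻¹ = d * a * d⁻¹ * (d * (a⁻¹ * x) * d⁻¹) := by group
        _ = _ := by rw [h3]; group
  have h2 : d ∈ Q (d * a * d⁻¹ * a⁻¹) := (mul_mem_cancel_left (inv_mem hb)).1 (h.leQR hz hu.1 u1 h1)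
  obtain ⟨h3, h4⟩ := h.ti z hz _ hu.1 u1
  exact hn (h4 ▸ h.mem _ h3 d hd h2)

theorem centKR (hu : u ∈ U z) (hu' : u ∈ C{d}) (u1 : u ≠ 1) {k : G} (hk : k ∈ Q u) (hk' : k ∈ C{d})
    (hy : y ∈ U d) (hy' : y ∈ N[U z]) : k * y * k⁻¹ = y := by
  rw [← mul_inv_eq_one]
  refine h.disjQR hz hd hn hu u1 ?_ (mul_mem (conj_mem (h.normR1 hd hk') hy) (inv_mem hy))
  rw [show k * y * k⁻¹ * y⁻¹ = k * (y * k⁻¹ * y⁻¹) by group]
  exact mul_mem hk (conj_mem (h.toSit.norm (h.ti z hz u hu u1).1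
    (mem_C1_comm.1 (h.commR hz hd hn hu (h.normR1 hd hu') hy hy'))) (inv_mem hk))

theorem centXR (hu : u ∈ U z) (hu' : u ∈ C{d}) (u1 : u ≠ 1) {k : G} (hk : k ∈ Q u) (hk' : k ∈ C{d})
    (hx : x ∈ U z) (hx' : x ∈ C{d}) : k * x * k⁻¹ = x := by
  obtain ⟨a, ha, ha'⟩ := SetLike.not_le_iff_exists.1 (h.notleR hz hd hN hn)
  obtain ⟨y, hy, hy', rfl⟩ := h.surjR hz hd hN hn ha ha' hx hx'
  have e1 := h.centKR hz hd hN hn hu hu' u1 hk hk' hy hy'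
  have e2 : k * (y * a * y⁻¹ * a⁻¹) * k⁻¹ =
      (k * y * k⁻¹) * (k * a * k⁻¹) * (k * y * k⁻¹)⁻¹ * (k * a * k⁻¹)⁻¹ := by group
  rw [e2, e1]
  rcases h.toSit.cj_or (h.ti z hz u hu u1).1 hk (h.leQR hz hu u1 ha) with e | e
  · rw [e]
  · have e3 := mem_C1_iff_conj.1 (mem_C1_comm.1 (h.commR hz hd hn hu (h.normR1 hd hu') hy hy'))
    have e4 := (h.ea z hz).comm hu hx
    rw [e, cjmR, e3]
    calc u * (y * a * y⁻¹) * (u * a)⁻¹ = u * (y * a * y⁻¹ * a⁻¹) * u⁻¹ := by group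
      _ = _ := by rw [e4]; group

/-- `C_U(d) = [U, d]` -/
theorem fix_cmR (hx : x ∈ U z) (hx' : x ∈ C{d}) : ∃ a ∈ U z, d * a * d⁻¹ * a⁻¹ = x := by
  by_contra hc
  have ea := h.ea z hz
  have d2 := h.toSit.sq hd
  have cX := h.cardXR hz hd hN hn
  have cm : ∀ a ∈ U z, d * a * d⁻¹ * a⁻¹ ∈ U z ⊓ C{d} := fun a ha => ea.cm_fixR d2 hN ha
  have cmm : ∀ a ∈ U z, ∀ b ∈ U z, d * (a * b) * d⁻¹ * (a * b)⁻¹ = d * a * d⁻¹ * a⁻¹ * (d * b * d⁻¹ * b⁻¹) := by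
    intro a ha b hb
    have := ea.comm ha (cm b hb).1
    calc d * (a * b) * d⁻¹ * (a * b)⁻¹ = d * a * d⁻¹ * a⁻¹ * (a * (d * b * d⁻¹ * b⁻¹)) * a⁻¹ := by group
      _ = _ := by rw [this]; group
  have fx : ∀ a ∈ C{d}, d * a * d⁻¹ = a := fun a ha => mem_C1_iff_conj.1 (mem_C1_comm.1 ha)
  let δ : U z →* U z := MonoidHom.mk' (fun a => ⟨_, (cm a a.2).1⟩) fun a b => Subtype.ext (cmm a a.2 b b.2)
  have mZ : ∀ y, y ∈ δ.range.map (U z).subtype ↔ ∃ a ∈ U z, d * a * d⁻¹ * a⁻¹ = y := fun y =>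
    ⟨fun ⟨_, ⟨a, e⟩, e'⟩ => ⟨a, a.2, by rw [← e', ← e]; rfl⟩, fun ⟨a, ha, e⟩ => ⟨_, ⟨⟨a, ha⟩, rfl⟩, e⟩⟩
  generalize δ.range.map (U z).subtype = Z at mZ
  have hZ : Z ≤ U z ⊓ C{d} := fun y hy => by
    obtain ⟨a, ha, rfl⟩ := (mZ y).1 hy
    exact cm a ha
  obtain ⟨K, hZK, hK, hxK, iK⟩ := ea.exists_hyp (hZ.trans inf_le_left) hx (fun e => hc ((mZ x).1 e))
  obtain ⟨b3, hb3, hb3'⟩ : ∃ b ∈ K, b ∉ C{d} := by
    by_contra hn
    have h1 := card_le (A := K) (B := U z ⊓ C{d}) fun y hy => ⟨hK hy, by_contra fun e => hn ⟨y, hy, e⟩⟩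
    rw [card_idx2R hK iK (h.cardU z hz)] at h1
    omega
  have b3U := hK hb3
  have zp : ∀ y ∈ zpowers b3, y = 1 ∨ y = b3 := fun y hy =>
    (h.toSit.mem_zp (h.ti z hz b3 b3U (fun e => hb3' (e ▸ one_mem _))).1).1 hy
  obtain ⟨b1, hb1, hb1'⟩ : ∃ b ∈ U z, b ∉ C{d} ∧ b * b3 ∉ C{d} := by
    by_contra hn
    have h1 : (U z ⊓ C{d}).relIndex (U z) = 2 :=
      relIndex_eq_two_iff_exists_notMem_and.2 ⟨b3, b3U, fun e => hb3' e.2, fun b hb => by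
        by_contra e
        rw [not_or] at e
        exact hn ⟨b, hb, fun e' => e.2 ⟨hb, e'⟩, fun e' => e.1 ⟨mul_mem hb b3U, e'⟩⟩⟩
    rw [card_idx2R inf_le_left h1 (h.cardU z hz)] at cX
    omega
  have ne1 : ∀ a, a ∉ C{d} → d * a * d⁻¹ * a⁻¹ ≠ 1 := fun a ha e =>
    ha (mem_C1_comm.1 (mem_C1_iff_conj.2 (mul_inv_eq_one.1 e)))
  obtain ⟨u1, e1⟩ : ∃ u, d * b1 * d⁻¹ * b1⁻¹ = u := ⟨_, rfl⟩
  obtain ⟨u3, e3⟩ : ∃ u, d * b3 * d⁻¹ * b3⁻¹ = u := ⟨_, rfl⟩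
  have u1Z : u1 ∈ Z := (mZ _).2 ⟨b1, hb1, e1⟩
  have u3Z : u3 ∈ Z := (mZ _).2 ⟨b3, b3U, e3⟩
  have u11 : u1 ≠ 1 := e1 ▸ ne1 b1 hb1'.1
  have u31 : u3 ≠ 1 := e3 ▸ ne1 b3 hb3'
  have u1U := (hZ u1Z).1
  have u3U := (hZ u3Z).1
  obtain ⟨L, hL0, hL, hu1L, iL⟩ := ea.exists_hyp (X := zpowers u3 ⊔ zpowers b3)
    (sup_le (zpowers_le.2 u3U) (zpowers_le.2 b3U)) u1U (by
      intro e
      obtain ⟨p, hp, q, hq, e'⟩ := (mem_sup_of_norm (norm_of_cent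
        (cents_of_le ((zpowers_le.2 b3U).trans ea.le_C) (zpowers_le.2 u3U)))).1 e
      rcases zp q hq with rfl | rfl
      · rcases (h.toSit.mem_zp (h.ti z hz u3 u3U u31).1).1 hp with rfl | rfl
        · exact u11 (by simpa using e')
        · refine ne1 _ hb1'.2 ?_
          rw [cmm b1 hb1 b3 b3U, e1, e3, e', mul_one]
          exact ea _ u3U
      · exact hb3' ((mul_mem_cancel_left (zpowers_le.2 (hZ u3Z).2 hp)).1 (e' ▸ (hZ u1Z).2)))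
  have u3L : u3 ∈ L := hL0 (mem_sup_left (mem_zpowers _))
  have b3L : b3 ∈ L := hL0 (mem_sup_right (mem_zpowers _))
  have mL : ∀ y, y ∈ ((L.subgroupOf (U z)).comap δ).map (U z).subtype ↔ y ∈ U z ∧ d * y * d⁻¹ * y⁻¹ ∈ L :=
    fun y => ⟨fun ⟨a, ha, e⟩ => e ▸ ⟨a.2, ha⟩, fun ⟨h1, h2⟩ => ⟨⟨y, h1⟩, h2, rfl⟩⟩
  generalize ((L.subgroupOf (U z)).comap δ).map (U z).subtype = L' at mL
  have hL' : L' ≤ U z := fun y hy => ((mL y).1 hy).1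
  have XL' : ∀ y ∈ U z, y ∈ C{d} → y ∈ L' := fun y hy hy' => (mL y).2 ⟨hy, by rw [fx y hy']; simp⟩
  have iL' : L'.relIndex (U z) = 2 :=
    relIndex_eq_two_iff_exists_notMem_and.2 ⟨b1, hb1, fun e => hu1L (e1 ▸ ((mL _).1 e).2), fun b hb => by
      by_cases e : d * b * d⁻¹ * b⁻¹ ∈ L
      · exact Or.inr ((mL _).2 ⟨hb, e⟩)
      · refine Or.inl ((mL _).2 ⟨mul_mem hb hb1, ?_⟩)
        rw [cmm b hb b1 hb1, e1]
        exact mul_idx2R iL (cm b hb).1 u1U e hu1L⟩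
  have b31 : b3 ≠ 1 := fun e => hb3' (e ▸ one_mem _)
  obtain ⟨a1, ha1, A1⟩ := h.tvR hz u1U u11 hK iK (hZK u1Z)
  obtain ⟨a3, ha3, A3⟩ := h.tvR hz u3U u31 hK iK (hZK u3Z)
  obtain ⟨g1, hg1, G1⟩ := h.tvR hz u3U u31 hL iL u3L
  obtain ⟨g2, hg2, G2⟩ := h.tvR hz b3U b31 hL' iL' ((mL _).2 ⟨b3U, e3 ▸ u3L⟩)
  have dy : ∀ y, d * y * d⁻¹ = (d * y * d⁻¹ * y⁻¹) * y := fun y => by group
  -- elements commuting with `d` on `U`
  have lam : ∀ k ∈ N[U z], (∀ y ∈ U z, k * (d * y * d⁻¹) * k⁻¹ = d * (k * y * k⁻¹) * d⁻¹) →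
      ∃ x ∈ U z ⊓ C{d}, k * d * k⁻¹ = x * d := fun k hk hc => by
    have h1 : (d * k)⁻¹ * (k * d) ∈ U z := h.centU z hz (mem_C_of_actR fun y hy => by
      calc k * d * y * (k * d)⁻¹ = k * (d * y * d⁻¹) * k⁻¹ := by group
        _ = _ := by rw [hc y hy]; group)
    have h2 : k * d * k⁻¹ * d⁻¹ ∈ U z := by
      rw [show k * d * k⁻¹ * d⁻¹ = (d * k) * ((d * k)⁻¹ * (k * d)) * (d * k)⁻¹ by group]
      exact conj_mem (mul_mem hN hk) h1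
    refine ⟨_, ⟨h2, mem_C1_comm.1 (mem_C1_iff_conj.2 ?_)⟩, by group⟩
    have h3 := inv_eq_of_mul_eq_one_right (ea _ h2)
    have h4 := inv_eq_of_mul_eq_one_right d2
    calc d * (k * d * k⁻¹ * d⁻¹) * d⁻¹ = d * k * d * k⁻¹ * (d * d)⁻¹ := by group
      _ = d * k * d⁻¹ * k⁻¹ := by rw [d2, h4]; group
      _ = (k * d * k⁻¹ * d⁻¹)⁻¹ := by group
      _ = _ := h3
  have lamA : ∀ u ∈ Z, ∀ a, ActR (U z) K u a →
      ∀ y ∈ U z, a * (d * y * d⁻¹) * a⁻¹ = d * (a * y * a⁻¹) * d⁻¹ := fun u hu a A y hy => by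
    have h1 : d * y * d⁻¹ * y⁻¹ ∈ K := hZK ((mZ _).2 ⟨y, hy, rfl⟩)
    by_cases e : y ∈ K
    · rw [A.fix y e, A.fix _ (dy y ▸ mul_mem h1 e)]
    · rw [A.mv y hy e, A.mv _ (conj_mem hN hy) (dy y ▸ mul_not_memR h1 e), cjmR, fx u (hZ hu).2]
  have mvA : ∀ K u a, u ∈ Z → ActR (U z) K u a → ∀ y ∈ U z, ∃ s ∈ Z, a * y * a⁻¹ = s * y :=
    fun K u a hu A y hy => by
      by_cases e : y ∈ K
      · exact ⟨1, one_mem _, by rw [A.fix y e, one_mul]⟩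
      · exact ⟨u, hu, A.mv y hy e⟩
  have gg : ∀ y, g1 * g2 * y * (g1 * g2)⁻¹ = g1 * (g2 * y * g2⁻¹) * g1⁻¹ := fun y => by group
  have lamG : ∀ y ∈ U z, g1 * g2 * (d * y * d⁻¹) * (g1 * g2)⁻¹ = d * (g1 * g2 * y * (g1 * g2)⁻¹) * d⁻¹ := by
    intro y hy
    have h1 := cm y hy
    have h2 := XL' _ h1.1 h1.2
    have h3 : d * (g1 * y * g1⁻¹) * d⁻¹ = (d * y * d⁻¹ * y⁻¹) * (g1 * y * g1⁻¹) := by
      by_cases e : y ∈ L
      · rw [G1.fix y e, dy y]; group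
      · rw [G1.mv y hy e, cjmR, fx u3 (hZ u3Z).2, dy y, ← mul_assoc, ea.comm u3U h1.1]; group
    rw [gg, gg]
    by_cases e : y ∈ L'
    · rw [G2.fix y e, G2.fix _ (dy y ▸ mul_mem h2 e), h3, dy y, cjmR, G1.fix _ ((mL _).1 e).2]
      group
    · have k1 := G1.mv _ h1.1 (fun e' => e ((mL _).2 ⟨hy, e'⟩))
      have k2 : d * b3 * d⁻¹ = b3 * u3 := by rw [dy b3, e3, ea.comm u3U b3U]
      rw [G2.mv y hy e, G2.mv _ (conj_mem hN hy) (dy y ▸ mul_not_memR h2 e), cjmR g1 b3 y,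
        cjmR g1 b3 (d * y * d⁻¹), G1.fix _ b3L, cjmR d b3, h3, k2]
      calc b3 * (g1 * (d * y * d⁻¹) * g1⁻¹)
          = b3 * ((g1 * (d * y * d⁻¹ * y⁻¹) * g1⁻¹) * (g1 * y * g1⁻¹)) := by group
        _ = _ := by rw [k1]; group
  have gN : g1 * g2 ∈ N[U z] := mul_mem (h.QNR hz u3U u31 hg1) (h.QNR hz b3U b31 hg2)
  have a1N := h.QNR hz u1U u11 ha1
  have a3N := h.QNR hz u3U u31 ha3
  have gK : ∀ y ∈ U z, ∃ s ∈ K, g1 * g2 * y * (g1 * g2)⁻¹ = s * y := fun y hy => by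
    obtain ⟨s, hs, e⟩ := mvA _ _ _ u3Z G1 y hy
    rw [gg]
    by_cases e' : y ∈ L'
    · exact ⟨s, hZK hs, by rw [G2.fix y e', e]⟩
    · exact ⟨b3 * s, mul_mem hb3 (hZK hs), by rw [G2.mv y hy e', cjmR, G1.fix _ b3L, e, mul_assoc]⟩
  have hc1 : (a3 * a1 * (g1 * g2))⁻¹ * (g1 * g2 * a1) ∈ U z := by
    refine h.centU z hz (mem_C_of_actR fun y hy => ?_)
    obtain ⟨s, hs, e⟩ := gK y hy
    have e4 : g1 * g2 * a1 * y * (g1 * g2 * a1)⁻¹ = g1 * g2 * (a1 * y * a1⁻¹) * (g1 * g2)⁻¹ := by group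
    have e5 : a3 * a1 * (g1 * g2) * y * (a3 * a1 * (g1 * g2))⁻¹ =
      a3 * (a1 * (g1 * g2 * y * (g1 * g2)⁻¹) * a1⁻¹) * a3⁻¹ := by group
    rw [e4, e5]
    by_cases e' : y ∈ K
    · rw [A1.fix y e', e, A1.fix _ (mul_mem hs e'), A3.fix _ (mul_mem hs e')]
    · have h1 := mul_not_memR hs e'
      have h2 : s * y ∈ U z := mul_mem (hK hs) hy
      rw [A1.mv y hy e', cjmR, e, A1.mv _ h2 h1, A3.mv _ (mul_mem u1U h2) (mul_not_memR (hZK u1Z) h1), gg,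
        G2.fix _ (XL' _ u1U (hZ u1Z).2), G1.mv _ u1U hu1L, mul_assoc]
  obtain ⟨xg, hxg, eg⟩ := lam _ gN lamG
  obtain ⟨x1, hx1, ex1⟩ := lam _ a1N (lamA u1 u1Z a1 A1)
  obtain ⟨x3, hx3, ex3⟩ := lam _ a3N (lamA u3 u3Z a3 A3)
  obtain ⟨c, ec⟩ : ∃ c, (a3 * a1 * (g1 * g2))⁻¹ * (g1 * g2 * a1) = c := ⟨_, rfl⟩
  rw [ec] at hc1
  obtain ⟨s0, hs0, es0⟩ : ∃ s ∈ Z, c * d * c⁻¹ = s * d := by
    refine ⟨_, inv_mem ((mZ _).2 ⟨c, hc1, rfl⟩), ?_⟩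
    rw [show (d * c * d⁻¹ * c⁻¹)⁻¹ * d = c * d * c⁻¹ by group]
  have gX : ∀ y ∈ U z ⊓ C{d}, ∃ s ∈ Z, g1 * g2 * y * (g1 * g2)⁻¹ = s * y := fun y hy => by
    rw [gg, G2.fix _ (XL' y hy.1 hy.2)]
    exact mvA _ _ _ u3Z G1 y hy.1
  obtain ⟨sa, hsa, esa⟩ := gX x1 hx1
  obtain ⟨sb, hsb, esb⟩ := gX s0 (hZ hs0)
  have y1 : sb * s0 * xg ∈ U z := mul_mem (mul_mem (hZ hsb).1 (hZ hs0).1) hxg.1
  obtain ⟨sc, hsc, esc⟩ := mvA _ _ _ u1Z A1 _ y1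
  have y2 : sc * (sb * s0 * xg) * x1 ∈ U z := mul_mem (mul_mem (hZ hsc).1 y1) hx1.1
  obtain ⟨sd, hsd, esd⟩ := mvA _ _ _ u3Z A3 _ y2
  have key : sd * (sc * (sb * s0 * xg) * x1) * x3 * d = sa * x1 * xg * d := by
    calc sd * (sc * (sb * s0 * xg) * x1) * x3 * d
        = a3 * (sc * (sb * s0 * xg) * x1) * a3⁻¹ * (a3 * d * a3⁻¹) := by rw [esd, ex3]; group
      _ = a3 * (a1 * (sb * s0 * xg) * a1⁻¹ * (a1 * d * a1⁻¹)) * a3⁻¹ := by rw [esc, ex1]; group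
      _ = a3 * a1 * (g1 * g2 * s0 * (g1 * g2)⁻¹ * (g1 * g2 * d * (g1 * g2)⁻¹)) * (a3 * a1)⁻¹ := by
          rw [esb, eg]; group
      _ = a3 * a1 * (g1 * g2) * (c * d * c⁻¹) * (a3 * a1 * (g1 * g2))⁻¹ := by rw [es0]; group
      _ = g1 * g2 * (a1 * d * a1⁻¹) * (g1 * g2)⁻¹ := by rw [← ec]; group
      _ = g1 * g2 * x1 * (g1 * g2)⁻¹ * (g1 * g2 * d * (g1 * g2)⁻¹) := by rw [ex1]; group
      _ = _ := by rw [esa, eg]; group
  have x3Z : x3 ∈ Z := by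
    have e6 : x3 = (xg * x1)⁻¹ * ((sd * sc * sb * s0)⁻¹ * sa) * (xg * x1) := by
      have := mul_right_cancel key
      rw [mul_assoc sa, ea.comm hx1.1 hxg.1] at this
      calc x3 = (sd * (sc * (sb * s0 * xg) * x1))⁻¹ * (sd * (sc * (sb * s0 * xg) * x1) * x3) := by group
        _ = _ := by rw [this]; group
    rw [e6]
    exact conj_mem' (norm_of_cent (cents_of_le ea.le_C (hZ.trans inf_le_left)) (mul_mem hxg.1 hx1.1))
      (mul_mem (inv_mem (mul_mem (mul_mem (mul_mem hsd hsc) hsb) hs0)) hsa)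
  obtain ⟨a, ha, e7⟩ := (mZ _).1 (inv_mem x3Z)
  have h7 : a⁻¹ * a3 ∈ C{d} := by
    rw [mem_C1_iff_conj]
    calc a⁻¹ * a3 * d * (a⁻¹ * a3)⁻¹ = a⁻¹ * (a3 * d * a3⁻¹) * a := by group
      _ = a⁻¹ * ((x3⁻¹)⁻¹ * d) * a := by rw [ex3, inv_inv]
      _ = d := by rw [← e7]; group
  have h8 := h.centXR hz hd hN hn u3U (hZ u3Z).2 u31 (mul_mem (inv_mem (h.leQR hz u3U u31 ha)) ha3) h7 hx hx'
  have h9 : a⁻¹ * a3 * x * (a⁻¹ * a3)⁻¹ = a⁻¹ * (a3 * x * a3⁻¹) * a := by group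
  rw [h9, A3.mv x hx hxK, mul_assoc, ← ea.comm ha (mul_mem u3U hx), inv_mul_cancel_left] at h8
  exact u31 (mul_eq_right.1 h8)

end bad

theorem not_bad (hz : z ∈ D) {d : G} (hd : d ∈ D) (hN : d ∈ N[U z]) : d ∈ U z := by
  by_contra hn
  have s := h.toSit
  have ea := h.ea z hz
  have ea' := h.ea d hd
  have cX := h.cardXR hz hd hN hn
  obtain ⟨u, hu, hu', u1⟩ := h.exXR hz hd hN hn
  obtain ⟨uD, uU⟩ := h.ti z hz u hu u1
  have uN := h.normR1 hd hu'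
  have nu : u ∉ U d := fun e => u1 (h.disjR hz hd hn hu e)
  obtain ⟨t, ht, htU⟩ : ∃ t ∈ Q u ⊓ C{d}, t ∉ U z := by
    by_contra hc
    have h1 := card_le (A := Q u ⊓ C{d}) (B := U z ⊓ C{d}) fun y hy =>
      ⟨by_contra fun e => hc ⟨y, hy, e⟩, hy.2⟩
    have h2 := s.card_cent uD (s.sq hd) (mem_C1_comm.1 hu')
    omega
  have tQ : t ∈ Q u := ht.1
  have tN : t ∈ N[U z] := h.QNR hz hu u1 tQ
  have tN' : t ∈ N[U d] := h.normR1 hd ht.2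
  have tY : ∀ y ∈ U d, y ∈ N[U z] → t * y * t⁻¹ = y := fun y h1 h2 =>
    h.centKR hz hd hN hn hu hu' u1 tQ ht.2 h1 h2
  have tX : ∀ x ∈ U z, x ∈ C{d} → t * x * t⁻¹ = x := fun x h1 h2 =>
    h.centXR hz hd hN hn hu hu' u1 tQ ht.2 h1 h2
  have eY : U d ⊓ N[U z] = U d ⊓ C{u} := uU ▸ h.XeqR hd uD uN nu
  have mK : ∀ x, x ∈ U z ⊓ C{t} ↔ x ∈ U z ∧ t * x * t⁻¹ = x := fun x =>
    and_congr_right fun _ => mem_C1_comm.trans mem_C1_iff_conj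
  generalize U z ⊓ C{t} = K at mK
  have hK : K ≤ U z := fun x hx => ((mK x).1 hx).1
  have T : ActR (U z) K u t := ⟨fun x hx => ((mK x).1 hx).2, fun x hx hx' =>
    (s.cj_or uD tQ (h.leQR hz hu u1 hx)).resolve_left fun e => hx' ((mK x).2 ⟨hx, e⟩)⟩
  have XK : ∀ x ∈ U z, x ∈ C{d} → x ∈ K := fun x h1 h2 => (mK x).2 ⟨h1, tX x h1 h2⟩
  have iK : K.relIndex (U z) = 2 := by
    obtain ⟨a, ha, ha'⟩ : ∃ a ∈ U z, a ∉ K := by
      by_contra hc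
      refine htU (h.centU z hz (mem_C'.2 fun x hx => mul_inv_eq_iff_eq_mul.1 (T.fix x ?_)))
      exact by_contra fun e => hc ⟨x, hx, e⟩
    refine relIndex_eq_two_iff_exists_notMem_and.2 ⟨a, ha, ha', fun b hb => ?_⟩
    by_cases e : b ∈ K
    · exact Or.inr e
    · refine Or.inl ((mK _).2 ⟨mul_mem hb ha, ?_⟩)
      rw [cjmR, T.mv a ha ha', T.mv b hb e, ea.comm hu hb, mul_assoc, ← mul_assoc u, ea u hu, one_mul]
  have t2 : t * t = 1 := by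
    have h1 : t * t ∈ U d := by
      refine h.centU d hd (mem_C'.2 fun y hy => ?_)
      have h2 := ea'.cm_fixR (s.sq uD) uN hy
      have h3 := tY _ h2.1 (eY.ge h2).2
      have h4 := tX u hu hu'
      have h5 : y⁻¹ * (t * y * t⁻¹) ∈ U d ⊓ C{u} := by
        refine mem_inf.2 ⟨mul_mem (inv_mem hy) (conj_mem tN' hy), mem_C1_comm.1 (mem_C1_iff_conj.2 ?_)⟩
        have h6 := ea'.comm h2.1 hy
        calc u * (y⁻¹ * (t * y * t⁻¹)) * u⁻¹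
            = u * y⁻¹ * u⁻¹ * (u * (t * y * t⁻¹) * u⁻¹) := by group
          _ = u * y⁻¹ * u⁻¹ * ((t * u * t⁻¹) * (t * y * t⁻¹) * (t * u * t⁻¹)⁻¹) := by rw [h4]
          _ = u * y⁻¹ * u⁻¹ * (t * (u * y * u⁻¹ * y⁻¹) * t⁻¹) * (t * y * t⁻¹) := by group
          _ = y⁻¹ * (t * y * t⁻¹) := by rw [h3]; group
      have h6 := tY _ h5.1 (eY.ge h5).2
      have h7 := ea' _ h5.1
      calc t * t * y = t * y * t⁻¹ * (t * (y⁻¹ * (t * y * t⁻¹)) * t⁻¹) * (t * t) := by group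
        _ = y * ((y⁻¹ * (t * y * t⁻¹)) * (y⁻¹ * (t * y * t⁻¹))) * (t * t) := by rw [h6]; group
        _ = _ := by rw [h7, mul_one]
    exact (s.sq_or uD tQ).resolve_right fun e => nu (e ▸ h1)
  obtain ⟨b, hb, hb'⟩ : ∃ b ∈ K, b ∉ C{d} := by
    by_contra hc
    have h1 := card_le (A := K) (B := U z ⊓ C{d}) fun y hy => ⟨hK hy, by_contra fun e => hc ⟨y, hy, e⟩⟩
    rw [card_idx2R hK iK (h.cardU z hz)] at h1
    omega
  have bU := hK hb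
  have b1 : b ≠ 1 := fun e => hb' (e ▸ one_mem _)
  obtain ⟨y, hy, hy', ey⟩ := h.surjR hz hd hN hn bU hb' hu hu'
  have y1 : y ≠ 1 := fun e => u1 (by rw [← ey, e]; group)
  have yD := (h.ti d hd y hy y1).1
  have y2 := ea' y hy
  obtain ⟨g, hg, Gb⟩ := h.tvR hz bU b1 hK iK hb
  have gN := h.QNR hz bU b1 hg
  have dy : ∀ x, y * x * y⁻¹ = (y * x * y⁻¹ * x⁻¹) * x := fun x => by group
  have yu : y * u * y⁻¹ = u := mem_C1_iff_conj.1 (mem_C1_comm.1 (h.commR hz hd hn hu uN hy hy'))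
  have h1 : (y * t * g)⁻¹ * (g * y) ∈ U z := by
    refine h.centU z hz (mem_C_of_actR fun x hx => ?_)
    have h2 := ea.cm_fixR y2 hy' hx
    have h3 := XK _ h2.1 ((h.XeqR hz hd hN hn).le (mem_inf.2 ⟨h2.1, h.normR hd hy y1 h2.2⟩)).2
    have e4 : g * y * x * (g * y)⁻¹ = g * (y * x * y⁻¹) * g⁻¹ := by group
    have e5 : y * t * g * x * (y * t * g)⁻¹ = y * (t * (g * x * g⁻¹) * t⁻¹) * y⁻¹ := by group
    rw [e4, e5]
    by_cases e : x ∈ K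
    · rw [Gb.fix x e, T.fix x e, Gb.fix _ (dy x ▸ mul_mem h3 e)]
    · rw [Gb.mv x hx e, T.mv _ (mul_mem bU hx) (mul_not_memR hb e),
        Gb.mv _ (conj_mem hy' hx) (dy x ▸ mul_not_memR h3 e), cjmR y u, yu, cjmR y b, dy b, ey,
        ← mul_assoc u, ← mul_assoc u, ea u hu, one_mul]
  obtain ⟨a, ea1⟩ : ∃ a, g * ((y * t * g)⁻¹ * (g * y)) * g⁻¹ = a := ⟨_, rfl⟩
  have aU : a ∈ U z := ea1 ▸ conj_mem gN h1
  have e1 : g * y * g⁻¹ = y * t * a := by rw [← ea1]; group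
  have ty := tY y hy hy'
  have yt2 : y * t * (y * t) = 1 := by
    calc y * t * (y * t) = y * (t * y * t⁻¹) * (t * t) := by group
      _ = 1 := by rw [ty, y2, t2, one_mul]
  have d1D := h.conj y yD g
  have d1N : g * y * g⁻¹ ∈ N[U z] := mul_mem (mul_mem gN hy') (inv_mem gN)
  have d1n : g * y * g⁻¹ ∉ U z := fun e => y1 (h.disjR hz hd hn ((conj_mem_iff gN).1 e) hy)
  have d12 := s.sq d1D
  have a2 := ea a aU
  have aC : a ∈ C{g * y * g⁻¹} := by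
    rw [mem_C1, e1]
    rw [e1] at d12
    have k1 := inv_eq_of_mul_eq_one_right d12
    have k2 := inv_eq_of_mul_eq_one_right yt2
    have k3 := inv_eq_of_mul_eq_one_right a2
    rw [mul_inv_rev, k2, k3] at k1
    rw [← mul_assoc a, k1]
  obtain ⟨a', ha', e2⟩ := h.fix_cmR hz d1D d1N d1n aU aC
  have ytD : y * t ∈ D := by
    have := h.conj _ d1D a'
    have e3 : a' * (g * y * g⁻¹) * a'⁻¹ = y * t := by
      calc a' * (g * y * g⁻¹) * a'⁻¹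
          = (g * y * g⁻¹)⁻¹ * (g * y * g⁻¹ * a' * (g * y * g⁻¹)⁻¹ * a'⁻¹) *
            (a' * (g * y * g⁻¹ * (g * y * g⁻¹)) * a'⁻¹) := by group
        _ = g * y * g⁻¹ * a := by rw [e2, d12, inv_eq_of_mul_eq_one_right d12]; group
        _ = _ := by rw [e1, mul_assoc, a2, mul_one]
    exact e3 ▸ this
  have ytn : y * t ∉ U d := fun e =>
    htU (h.disjQR hz hd hn hu u1 tQ ((mul_mem_cancel_left hy).1 e) ▸ one_mem _)
  have yC : y ∈ C{y * t} := by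
    rw [mem_C1, mul_assoc y t, mul_inv_eq_iff_eq_mul.1 ty]
  obtain ⟨a'', -, e4⟩ := h.fix_cmR hd ytD (mul_mem (norm_self _ hy) tN') ytn hy yC
  have tD : t ∈ D := by
    have := h.conj _ ytD a''
    have e3 : a'' * (y * t) * a''⁻¹ = t := by
      calc a'' * (y * t) * a''⁻¹
          = (y * t)⁻¹ * (y * t * a'' * (y * t)⁻¹ * a''⁻¹) * (a'' * (y * t * (y * t)) * a''⁻¹) := by group
        _ = t⁻¹ := by rw [e4, yt2]; group
        _ = t := inv_eq_of_mul_eq_one_right t2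
    exact e3 ▸ this
  exact htU (uU ▸ h.mem u uD t tD tQ)

end TIs

theorem Sit.not_ti [IsSimpleGroup G] (h : Sit D Q w) (hw : 3 ≤ w) (hz : z ∈ D) {U : Subgroup G}
    (hU : EA U) (hzU : z ∈ U) (hne : U ≠ zpowers z)
    (hn : ∀ u ∈ U, u ≠ 1 → u ∈ D ∧ U ≤ Q u ∧ C{u} ≤ N[U]) (hD : ∀ d ∈ D, d ∈ Q z → d ∈ U) :
    False := by
  obtain ⟨U', h'⟩ := h.exists_ti hw hz hU hzU hne hn hD
  obtain ⟨d, h1, h2, h3⟩ := h'.exists_bad hz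
  exact h3 (h'.not_bad hz h1 h2)

end XS
end H6
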