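import Mathlib
import Cfsg.Agent.H6.XB

/-! The linear shadow -/

set_option autoImplicit false
set_option linter.unusedSectionVars false

namespace H6
namespace XS

open Subgroup H24 H15 H15.XP Module
open scoped commutatorElement

variable {G : Type*} [Group G] [Finite G] {D : Set G} {Q : G → Subgroup G} {w : ℕ} {z : G}
variable {V : Type*} [AddCommGroup V] [Module (ZMod 2) V] [Finite V]

theorem add_self₂ (v : V) : v + v = 0 := by rw [← two_smul (ZMod 2)]; exact zero_smul _ _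

open Classical in
/-- the conjugate of `B ⊴ C(z)` belonging to `d` -/
noncomputable def fam (z : G) (B : Subgroup G) (d : G) : Subgroup G :=
  if h : ∃ g : G, g * z * g⁻¹ = d then cj h.choose B else ⊥

theorem fam_eq {B : Subgroup G} (hN : C{z} ≤ N[B]) (g : G) : fam z B (g * z * g⁻¹) = cj g B := by
  have h : ∃ k : G, k * z * k⁻¹ = g * z * g⁻¹ := ⟨g, rfl⟩
  rw [fam, dif_pos h, cj_eq_cj_iff]
  refine hN (mem_C1_iff_conj.2 ?_)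
  rw [show g⁻¹ * h.choose * z * (g⁻¹ * h.choose)⁻¹ = g⁻¹ * (h.choose * z * h.choose⁻¹) * g by group,
    h.choose_spec]
  group

theorem fam_self {B : Subgroup G} (hN : C{z} ≤ N[B]) : fam z B z = B := by
  simpa using fam_eq hN 1

theorem fam_cj {B : Subgroup G} (hN : C{z} ≤ N[B]) {d : G} (hd : ∃ k : G, k * z * k⁻¹ = d) (g : G) :
    fam z B (g * d * g⁻¹) = cj g (fam z B d) := by
  obtain ⟨k, rfl⟩ := hd
  rw [fam_eq hN, ← cj_mul, ← fam_eq hN]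
  congr 1; group

namespace Sit

variable (h : Sit D Q w) {d v x y c : G} {A B : Subgroup G}
include h

theorem norm_of_le (hd : d ∈ D) (hA : A ≤ Q d) (hdA : d ∈ A) : Q d ≤ N[A] := fun x hx =>
  mem_N_of_finite fun a ha => by
    rcases h.cj_or hd hx (hA ha) with e | e <;> rw [e]
    exacts [ha, mul_mem hdA ha]

/-- `⟨Q z, Q v⟩` normalises everything between `⟨z, v⟩` and `Q z ⊓ Q v` -/
theorem norm_between (hz : z ∈ D) (hv : v ∈ D) (hA : A ≤ Q z ⊓ Q v) (h1 : z ∈ A) (h2 : v ∈ A) :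
    Q z ⊔ Q v ≤ N[A] :=
  sup_le (h.norm_of_le hz (hA.trans inf_le_left) h1) (h.norm_of_le hv (hA.trans inf_le_right) h2)

theorem cj_inv (hz : z ∈ D) (hm : v ∈ Q z) (hx : x ∈ Q z) (e : x * v * x⁻¹ = z * v) :
    x⁻¹ * v * x⁻¹⁻¹ = z * v := by
  refine (h.cj_or hz (inv_mem hx) hm).resolve_left fun k => h.ne_one hz ?_
  rw [mem_C1_iff_conj.1 (inv_mem_iff.1 (mem_C1_iff_conj.2 k))] at e
  simpa using e.symm

theorem mem_of_comm (hz : z ∈ D) (hv : v ∈ D) (hm : v ∈ Q z) (hne : v ≠ z) (hx : x ∈ Q z)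
    (e : x * v * x⁻¹ = z * v) (hy : y ∈ Q v) (k : y * x * y⁻¹ * x⁻¹ ∈ Q v) : y ∈ Q z := by
  have hzv := h.symm hz hv hm
  obtain ⟨x', hx', e'⟩ := h.exists_swap hv hzv (h.ne_one hz) hne.symm
  have e1 : cj x⁻¹ (Q v) = Q (z * v) := by rw [← h.eqv v hv, h.cj_inv hz hm hx e]
  have e2 : cj x' (Q z ⊓ Q v) = Q (z * v) ⊓ Q v := by
    rw [cj_inf, cj_of_mem hx', ← h.eqv z hz, e', mem_C1.1 (h.le hz hm)]
  have e3 : Q z ⊓ Q v = Q (z * v) ⊓ Q v := eq_of_card_eq (le_inf (by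
    rw [← e1, ← cj_of_mem_N (h.norm_of_le hz inf_le_left ⟨h.mem hz, hzv⟩ (inv_mem hx))]
    exact cj_mono _ inf_le_right) inf_le_right) (by rw [← e2, card_cj])
  refine (e3.ge (mem_inf.2 ⟨?_, hy⟩)).1
  rw [← e1, mem_cj, inv_inv]
  simpa [mul_assoc] using inv_mem (mul_mem (inv_mem hy) k)

theorem exists_comm (hz : z ∈ D) (hv : v ∈ D) (hm : v ∈ Q z) (hne : v ≠ z) (hx : x ∈ Q z)
    (e : x * v * x⁻¹ = z * v) (hB : B ≤ Q z) (hzB : z ∈ B) (hN : C{z} ≤ N[B]) (hc : c ∈ B)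
    (hcv : c ∈ C{v}) : ∃ y ∈ Q v, y ∈ C{z} ∧ y * x * y⁻¹ * x⁻¹ * c⁻¹ ∈ Q v ∧
      ∀ u ∈ Q z, u ∈ C{v} → y * u * y⁻¹ * u⁻¹ ∈ B ⊓ Q v ⊔ zpowers v := by
  have hzv := h.symm hz hv hm
  have cm := mem_C1.1 (h.le hz hm)
  obtain ⟨x', hx', e'⟩ := h.exists_swap hv hzv (h.ne_one hz) hne.symm
  have e1 : x⁻¹ * x' * z * (x⁻¹ * x')⁻¹ = v := by
    rw [show x⁻¹ * x' * z * (x⁻¹ * x')⁻¹ = x⁻¹ * (x' * z * x'⁻¹) * x⁻¹⁻¹ by group, e',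
      show x⁻¹ * (v * z) * x⁻¹⁻¹ = x⁻¹ * v * x⁻¹⁻¹ * (x⁻¹ * z * x⁻¹⁻¹) by group,
      h.cj_inv hz hm hx e, mem_C1_iff_conj.1 (h.le hz (inv_mem hx)), mul_assoc, cm, ← mul_assoc,
      h.sq hz, one_mul]
  have e2 : x⁻¹ * x' * (z * v) * (x⁻¹ * x')⁻¹ = z := by
    rw [show x⁻¹ * x' * (z * v) * (x⁻¹ * x')⁻¹ = x⁻¹ * x' * z * (x⁻¹ * x')⁻¹ *
      (x⁻¹ * (x' * v * x'⁻¹) * x⁻¹⁻¹) by group, e1, mem_C1_iff_conj.1 (h.le hv hx'),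
      h.cj_inv hz hm hx e, ← mul_assoc, cm, mul_assoc, h.sq hv, mul_one]
  have hk : x⁻¹ * x' ∈ Q z ⊔ Q v := mul_mem (mem_sup_left (inv_mem hx)) (mem_sup_right hx')
  generalize ek : x⁻¹ * x' = k at e1 e2 hk
  have q1 : cj k (Q z) = Q v := by rw [← h.eqv z hz, e1]
  have n1 : C{v} ≤ N[cj k B] := by rw [← e1, ← cj_C1]; exact norm_cj hN k
  have y1 : k * c⁻¹ * k⁻¹ ∈ cj k B := conj_mem_cj _ (inv_mem hc)
  have y2 : k * c⁻¹ * k⁻¹ ∈ Q v := q1 ▸ cj_mono k hB y1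
  have y3 : k * c⁻¹ * k⁻¹ ∈ C{z} := by
    rw [← e2, ← cj_C1, conj_mem_cj_iff, inv_mem_iff, mem_C1_comm]
    exact mul_mem (mem_C1_comm.1 (h.le hz (hB hc))) (mem_C1_comm.1 hcv)
  refine ⟨_, y2, y3, ?_, fun u hu huv => ?_⟩
  · have := mul_mem y2 (mul_mem hx' (conj_mem (h.norm hv hcv) (inv_mem hx')))
    convert this using 1
    rw [← ek]; group
  generalize k * c⁻¹ * k⁻¹ = y at y1 y2 y3
  have m1 : y * u * y⁻¹ * u⁻¹ ∈ cj k (B ⊓ (Q z ⊓ Q v)) := by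
    rw [cj_inf, cj_of_mem_N (h.norm_between hz hv le_rfl ⟨h.mem hz, hzv⟩ ⟨hm, h.mem hv⟩ hk)]
    refine mem_inf.2 ⟨?_, mem_inf.2 ⟨mul_mem (conj_mem (h.norm hz y3) hu) (inv_mem hu), ?_⟩⟩
    · simpa [mul_assoc] using mul_mem y1 (conj_mem (n1 huv) (inv_mem y1))
    · simpa [mul_assoc] using mul_mem y2 (conj_mem (h.norm hv huv) (inv_mem y2))
  rw [← cj_of_mem_N (h.norm_between hz hv (A := B ⊓ Q v ⊔ zpowers v) (sup_le
    (inf_le_inf_right _ hB) (zpowers_le.2 ⟨hm, h.mem hv⟩)) (mem_sup_left ⟨hzB, hzv⟩)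
    (mem_sup_right (mem_zpowers v)) hk)]
  exact cj_mono k ((inf_le_inf_left B inf_le_right).trans le_sup_left) m1

end Sit

namespace Fr

variable (F : Fr z (Q z) V) (h : Sit D Q w) (hz : z ∈ D) {A : Subgroup G} {x y d : G}
include h hz

theorem π_mem_im (hA : z ∈ A) (hx : x ∈ Q z) : F.π x ∈ F.im A ↔ x ∈ A :=
  ⟨fun k => ((F.sub_im h hz hA).le ⟨hx, k⟩).1, fun k => ⟨x, k, hx, rfl⟩⟩

theorem π_comm (g : C{z}) (hx : x ∈ Q z) :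
    F.π (g * x * (g : G)⁻¹ * x⁻¹) = (F.ρ g).1 (F.π x) + F.π x := by
  rw [F.π_mul _ (conj_mem (h.norm hz g.2) hx) _ (inv_mem hx), F.π_inv hx, F.ρ_π g x hx]

theorem im_cj (g : C{z}) (e : V) : (F.ρ g).1 e ∈ F.im (cj g A) ↔ e ∈ F.im A := by
  have k : ∀ (g : C{z}) (A : Subgroup G) e, e ∈ F.im A → (F.ρ g).1 e ∈ F.im (cj g A) := by
    rintro g A _ ⟨x, h1, h2, rfl⟩
    exact ⟨_, conj_mem_cj _ h1, conj_mem (h.norm hz g.2) h2, (F.ρ_π g x h2).symm⟩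
  refine ⟨fun k' => ?_, k g A e⟩
  have := k g⁻¹ _ _ k'
  rwa [coe_inv, cj_inv_cj, map_inv, coe_inv, LinearEquiv.coe_inv, LinearEquiv.symm_apply_apply]
    at this

omit h hz in
theorem img_cj (g : C{z}) (y : (ofQuad F.q).Isom) :
    F.ρ g * y * (F.ρ g)⁻¹ ∈ F.img (cj g A) ↔ y ∈ F.img A := by
  have k : ∀ (g : C{z}) (A : Subgroup G) y, y ∈ F.img A →
      F.ρ g * y * (F.ρ g)⁻¹ ∈ F.img (cj g A) := by
    rintro g A _ ⟨x, h1, rfl⟩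
    exact ⟨g * x * g⁻¹, conj_mem_cj _ h1, by simp⟩
  refine ⟨fun k' => ?_, k g A y⟩
  simpa [mul_assoc] using k g⁻¹ _ _ k'

theorem pol_zero (hx : x ∈ Q z) (hy : y ∈ Q z) : pol F.q (F.π x) (F.π y) = 0 ↔ y ∈ C{x} := by
  rw [F.pol_π x hx y hy, mem_C1, eq_comm]

theorem pol_one' (hx : x ∈ Q z) (hy : y ∈ Q z) :
    pol F.q (F.π x) (F.π y) = 1 ↔ y * x * y⁻¹ = z * x := by
  rw [pol_comm, F.pol_one h hz hy hx]

end Fr

theorem Sit.exists_vd (h : Sit D Q w) (hw : 3 ≤ w) (hz : z ∈ D) (F : Fr z (Q z) V)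
    (hv : ∃ d ∈ D, d ∈ Q z ∧ d ≠ z) :
    ∃ E R, VD F.ρ.range (F.VV D) E R w ∧ Lift D Q F E R := by
  classical
  have ex : ∀ v : V, ∃ d, v ∈ F.VV D → d ∈ D ∧ d ∈ Q z ∧ d ≠ z ∧ F.π d = v := fun v => by
    by_cases k : v ∈ F.VV D
    · obtain ⟨d, h1, h2⟩ := k
      exact ⟨d, fun _ => ⟨h1, h2⟩⟩
    · exact ⟨1, fun k' => absurd k' k⟩
  choose ch hch using ex
  have alt : ∀ d ∈ D, d ∈ Q z → d ≠ z → ∃ g : C{z}, F.ρ g = 1 ∧ Q (ch (F.π d)) = cj (g : G) (Q d) :=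
    fun d h1 h2 h3 => by
      obtain ⟨-, k2, -, k4⟩ := hch _ ⟨d, h1, h2, h3, rfl⟩
      rcases F.π_eq₀ k2 h2 k4 with e | e <;> rw [e]
      · exact ⟨1, map_one _, by simp⟩
      · obtain ⟨y, hy, e'⟩ := h.exists_swap hz h2 (h.ne_one h1) h3
        exact ⟨⟨y, h.le hz hy⟩, (F.ker _).2 hy, by rw [← e', h.eqv d h1]⟩
  have L : Lift D Q F (fun v => F.im (Q (ch v))) fun v => F.img (Q (ch v)) := by
    refine ⟨fun d h1 h2 h3 => ?_, fun d h1 h2 h3 => ?_⟩ <;> obtain ⟨g, e1, e2⟩ := alt d h1 h2 h3 <;>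
      ext e <;> simp only [e2]
    · simpa [e1] using F.im_cj h hz g e
    · simpa [e1] using F.img_cj g e
  refine ⟨_, _, ?_, L⟩
  generalize (fun v => F.im (Q (ch v))) = E at L
  generalize (fun v => F.img (Q (ch v))) = R at L
  have cd : ∀ g : C{z}, ∀ d ∈ D, d ∈ Q z → d ≠ z → g * d * (g : G)⁻¹ ∈ D ∧
      g * d * (g : G)⁻¹ ∈ Q z ∧ g * d * (g : G)⁻¹ ≠ z := fun g d h1 h2 h3 =>
    ⟨h.conj d h1 g, conj_mem (h.norm hz g.2) h2, fun e => h3 ((MulAut.conj (g : G)).injective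
      (e.trans (mem_C1_iff_conj.1 g.2).symm))⟩
  have inj : ∀ d ∈ D, d ∈ Q z → d ≠ z → ∀ g : C{z}, (g : G) ∈ Q d → ∀ x ∈ Q z,
      x * d * x⁻¹ = z * d → g * x * (g : G)⁻¹ * x⁻¹ ∈ Q d → F.ρ g = 1 :=
    fun d h1 h2 h3 g hg x hx e k => (F.ker g).2 (h.mem_of_comm hz h1 h2 h3 hx e hg k)
  refine ⟨F.nondeg, F.dim h hz, hw, F.o2V h hz, ?_, ?_, ?_, ?_, ?_, ?_, ?_, ?_, ?_, ?_, ?_, ?_, ?_,
    ?_, ?_, ?_⟩
  · obtain ⟨d, h1, h2, h3⟩ := hv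
    exact ⟨_, d, h1, h2, h3, rfl⟩
  · rintro _ ⟨d, h1, h2, h3, rfl⟩ e
    exact ((F.π_eq_zero d h2).1 e).elim (h.ne_one h1) h3
  · rintro _ ⟨g, rfl⟩ _ ⟨d, h1, h2, h3, rfl⟩
    obtain ⟨k1, k2, k3⟩ := cd g d h1 h2 h3
    exact ⟨_, k1, k2, k3, (F.ρ_π g d h2).symm⟩
  · rintro _ ⟨d, h1, h2, h3, rfl⟩
    rw [L.eqE d h1 h2 h3]
    exact ⟨d, h.mem h1, h2, rfl⟩
  · rintro _ ⟨d, h1, h2, h3, rfl⟩ e he
    rw [L.eqE d h1 h2 h3] at he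
    obtain ⟨x, k1, k2, rfl⟩ := he
    exact (F.q_π x k2).2 ((h.sq_or hz k2).resolve_right fun e => (h.sq_or h1 k1).elim
      (fun e' => h.ne_one hz (e.symm.trans e')) fun e' => h3 (e'.symm.trans e))
  · rintro _ ⟨g, rfl⟩ _ ⟨d, h1, h2, h3, rfl⟩ e
    obtain ⟨k1, k2, k3⟩ := cd g d h1 h2 h3
    rw [F.ρ_π g d h2, L.eqE d h1 h2 h3, L.eqE _ k1 k2 k3, h.eqv d h1, F.im_cj h hz]
  · rintro _ ⟨g, rfl⟩ _ ⟨d, h1, h2, h3, rfl⟩ e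
    obtain ⟨k1, k2, k3⟩ := cd g d h1 h2 h3
    rw [F.ρ_π g d h2, L.eqR d h1 h2 h3, L.eqR _ k1 k2 k3, h.eqv d h1, F.img_cj]
  · rintro _ ⟨d, h1, h2, h3, rfl⟩
    rw [L.eqR d h1 h2 h3]
    rintro _ ⟨g, -, rfl⟩
    exact ⟨g, rfl⟩
  · rintro _ ⟨d, h1, h2, h3, rfl⟩ y hy
    rw [L.eqR d h1 h2 h3] at hy
    obtain ⟨g, hg, rfl⟩ := F.mem_img.1 hy
    rw [F.ρ_π g d h2, mem_C1_iff_conj.1 (h.le h1 hg)]
  · rintro _ ⟨d, h1, h2, h3, rfl⟩ y hy u hu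
    rw [L.eqR d h1 h2 h3] at hy
    obtain ⟨g, hg, rfl⟩ := F.mem_img.1 hy
    obtain ⟨u, k, rfl⟩ := F.π_surj u
    rw [L.eqE d h1 h2 h3, ← F.π_comm h hz g k]
    refine ⟨_, ?_, mul_mem (conj_mem (h.norm hz g.2) k) (inv_mem k), rfl⟩
    simpa [mul_assoc] using mul_mem hg (conj_mem (h.norm h1 ((F.pol_zero h hz h2 k).1 hu))
      (inv_mem hg))
  · rintro _ ⟨d, h1, h2, h3, rfl⟩ y hy e he
    rw [L.eqR d h1 h2 h3] at hy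
    obtain ⟨g, hg, rfl⟩ := F.mem_img.1 hy
    rw [L.eqE d h1 h2 h3] at he
    obtain ⟨x, k1, k2, rfl⟩ := he
    rw [F.ρ_π g x k2]
    exact (h.cj_or h1 hg k1).imp (congrArg F.π) fun e => by rw [e, F.π_mul d h2 x k2, add_comm]
  · rintro _ ⟨d, h1, h2, h3, rfl⟩ y hy x hx k
    rw [L.eqR d h1 h2 h3] at hy
    obtain ⟨g, hg, rfl⟩ := F.mem_img.1 hy
    obtain ⟨x, k1, rfl⟩ := F.π_surj x
    rw [L.eqE d h1 h2 h3, ← F.π_comm h hz g k1, F.π_mem_im h hz (h.symm hz h1 h2)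
      (mul_mem (conj_mem (h.norm hz g.2) k1) (inv_mem k1))] at k
    exact inj d h1 h2 h3 g hg x k1 ((F.pol_one' h hz h2 k1).1 hx) k
  · rintro _ ⟨d, h1, h2, h3, rfl⟩ x s hx hs
    obtain ⟨x, k1, rfl⟩ := F.π_surj x
    obtain ⟨c, k2, rfl⟩ := F.π_surj s
    obtain ⟨y, y1, y2, y3, -⟩ := h.exists_comm hz h1 h2 h3 k1 ((F.pol_one' h hz h2 k1).1 hx) le_rfl
      (h.mem hz) (h.norm hz) k2 ((F.pol_zero h hz h2 k2).1 hs)
    have m := mul_mem (conj_mem (h.norm hz y2) k1) (inv_mem k1)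
    rw [L.eqE d h1 h2 h3, L.eqR d h1 h2 h3]
    exact ⟨_, ⟨⟨y, y2⟩, y1, rfl⟩, _, y3, mul_mem m (inv_mem k2), by
      rw [F.π_mul _ m _ (inv_mem k2), F.π_inv k2, F.π_comm h hz ⟨y, y2⟩ k1]⟩
  · rintro _ ⟨d, h1, h2, h3, rfl⟩ y hy
    rw [L.eqR d h1 h2 h3] at hy
    obtain ⟨g, hg, rfl⟩ := F.mem_img.1 hy
    rw [← map_mul, F.ker]
    rcases h.sq_or h1 hg with e | e <;> rw [coe_mul, e]
    exacts [one_mem _, h2]
  · rintro _ ⟨d, h1, h2, h3, rfl⟩ _ ⟨e, k1, k2, k3, rfl⟩ k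
    rw [L.eqE e k1 k2 k3, F.π_mem_im h hz (h.symm hz k1 k2) h2] at k
    rw [L.eqE d h1 h2 h3]
    exact ⟨e, h.symm k1 h1 k, k2, rfl⟩
  · rintro B hB _ ⟨d, h1, h2, h3, rfl⟩ y hy x b hb hx hs k u hu
    rw [L.eqR d h1 h2 h3] at hy
    obtain ⟨g, hg, rfl⟩ := F.mem_img.1 hy
    obtain ⟨x, k1, rfl⟩ := F.π_surj x
    obtain ⟨c, k2, rfl⟩ := F.π_surj b
    obtain ⟨u, k3, rfl⟩ := F.π_surj u
    have e := (F.pol_one' h hz h2 k1).1 hx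
    obtain ⟨y, y1, y2, y3, y4⟩ := h.exists_comm hz h1 h2 h3 k1 e (B := F.sub B) (fun _ k => k.1)
      (F.z_mem_sub h hz) ((F.invS_iff h hz).1 hB) ⟨k2, hb⟩ ((F.pol_zero h hz h2 k2).1 hs)
    have m := mul_mem (conj_mem (h.norm hz g.2) k1) (inv_mem k1)
    rw [L.eqE d h1 h2 h3] at k ⊢
    rw [← F.π_comm h hz g k1, ← F.π_inv k2, ← F.π_mul _ m _ (inv_mem k2),
      F.π_mem_im h hz (h.symm hz h1 h2) (mul_mem m (inv_mem k2))] at k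
    have e1 := inj d h1 h2 h3 ((⟨y, y2⟩ : C{z})⁻¹ * g) (mul_mem (inv_mem y1) hg) x k1 e (by
      have := mul_mem (mul_mem (inv_mem y1) (mul_mem k (inv_mem y3))) y1
      convert this using 1
      simp only [coe_mul, coe_inv]; group)
    rw [map_mul, map_inv, inv_mul_eq_one] at e1
    rw [← e1, ← F.π_comm h hz ⟨y, y2⟩ k3]
    obtain ⟨a, ha, b, hb, e2⟩ := H23.mem_sup_of_le_normalizer_left (H23.le_normalizer_inf
      ((zpowers_le.2 (h.le hz h2)).trans ((F.invS_iff h hz).1 hB))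
      ((zpowers_le.2 (h.mem h1)).trans le_normalizer)) (y4 u k3 ((F.pol_zero h hz h2 k3).1 hu))
    rw [← e2]
    rcases (h.mem_zp h1).1 hb with rfl | rfl
    · rw [mul_one]
      exact Submodule.mem_sup_left ⟨ha.1.2, a, ha.2, ha.1.1, rfl⟩
    · rw [F.π_mul a ha.1.1 b h2]
      exact Submodule.add_mem_sup ⟨ha.1.2, a, ha.2, ha.1.1, rfl⟩ (Submodule.mem_span_singleton_self _)

end XS
end H6
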