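import Mathlib
import Cfsg.Agent.H6.XDefs
import Cfsg.Agent.H6.BaerSuzuki
import Cfsg.Agent.H28.XL

/-! Linear algebra: basics and the good case -/

set_option autoImplicit false
set_option linter.unusedSectionVars false
set_option linter.unusedVariables false

namespace H6
namespace XS

open Subgroup H24 H15 H15.XP Module H28.XL
open scoped commutatorElement

variable {V : Type*} [AddCommGroup V] [Module (ZMod 2) V] [Finite V] {q : QuadraticForm (ZMod 2) V}
  {H : Subgroup (ofQuad q).Isom} {S : Set V} {E : V → Submodule (ZMod 2) V}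
  {R : V → Subgroup (ofQuad q).Isom} {w : ℕ}

theorem exists_ei {u s : V} (hu : q u = 0) (hs : pol q u s = 0) :
    ∃ y : (ofQuad q).Isom, Ei u s y :=
  ⟨eich q u s hu hs, fun x => by rw [eich_apply]; match_scalars <;> grind⟩

theorem Ei.unique {u s : V} {y y' : (ofQuad q).Isom} (h : Ei u s y) (h' : Ei u s y') : y = y' :=
  Form.Isom.ext fun x => (h x).trans (h' x).symm

theorem Ei.conj {u s : V} {y : (ofQuad q).Isom} (h : Ei u s y) (g : (ofQuad q).Isom) :
    Ei (g.1 u) (g.1 s) (g * y * g⁻¹) := fun x => by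
  rw [Form.Isom.mul_apply, Form.Isom.mul_apply, h]
  simp only [g_add, g_smul, Form.Isom.apply_inv_apply, g_q, g_pol_l]

theorem Ei.mul {u s s' : V} {y y' : (ofQuad q).Isom} (hu : q u = 0) (hs : pol q u s = 0)
    (hs' : pol q u s' = 0) (h : Ei u s y) (h' : Ei u s' y') : Ei u (s + s') (y * y') := fun x => by
  rw [Form.Isom.mul_apply, h, h']
  simp only [pl, pr, psr, pp, hs', pc hs, quad_add]
  match_scalars <;> grind

theorem Ei.add_self {u s : V} {y : (ofQuad q).Isom} (hu : q u = 0) (hs : pol q u s = 0)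
    (h : Ei u s y) : Ei u (s + u) y := fun x => by
  rw [h]
  simp only [pl, quad_add, hu, pc hs]
  match_scalars <;> grind

theorem Ei.swap {u s : V} {y : (ofQuad q).Isom} (hu : q u = 0) (hs : q s = 0) (h : Ei u s y) :
    Ei s u y := fun x => by
  rw [h]
  simp only [hu, hs]
  match_scalars <;> grind

/-- an isometry trivial on `v` and `v^⊥ / v` is an Eichler transformation -/
theorem ei_of_triv (hq : (ofQuad q).Nondeg) {v x : V} {y : (ofQuad q).Isom} (hv : q v = 0)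
    (hx : pol q v x = 1) (h1 : y.1 v = v) (h2 : ∀ u, pol q v u = 0 → y.1 u = u ∨ y.1 u = u + v) :
    pol q v (y.1 x + x) = 0 ∧ Ei v (y.1 x + x) y := by
  have e0 : pol q v (y.1 x) = 1 := by rw [← hx, ← g_pol y v x, h1]
  have e1 : pol q v (y.1 x + x) = 0 := by rw [pr, e0, hx, z11]
  refine ⟨e1, ?_⟩
  obtain ⟨s, hs⟩ : ∃ s, s = y.1 x + x := ⟨_, rfl⟩
  rw [← hs] at e1 ⊢
  have ex : y.1 x = s + x := by rw [hs, vv2]
  have e2 : q s = pol q s x := by
    have := g_q y x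
    rw [ex, quad_add] at this
    grind
  have e3 : ∀ u, pol q v u = 0 → y.1 u = u + pol q s u • v := fun u hu => by
    have := g_pol y u x
    rcases h2 u hu with h | h
    · rw [h, ex, pr] at this
      have h4 : pol q s u = 0 := by rw [pol_comm]; grind
      rw [h4, h, zero_smul, add_zero]
    · rw [h, ex, pl, pr, pr, e1, hx] at this
      have h4 : pol q s u = 1 := by rw [pol_comm]; grind
      rw [h4, h, one_smul]
  intro z
  have e4 := e3 (z + pol q v z • x) (by rw [pr, psr, hx, mul_one, z2add])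
  rw [g_add, g_smul, ex, pr, psr, ← e2] at e4
  linear_combination (norm := (match_scalars <;> grind)) e4

theorem InvS.perp {B : Submodule (ZMod 2) V} (h : InvS H B) : InvS H ((ofQuad q).perp B) :=
  fun g hg b hb x hx => by
    change pol q x (g.1 b) = 0
    rw [g_pol_r]
    exact hb _ (h _ (inv_mem hg) x hx)

/-- the stabiliser of an invariant chain is trivial -/
theorem chain (ho : ∀ N : Subgroup (ofQuad q).Isom, N ≤ H → H ≤ N[N] → IsPGroup 2 N → N = ⊥)
    {B1 B2 B3 : Submodule (ZMod 2) V} (i1 : InvS H B1) (i2 : InvS H B2) (i3 : InvS H B3)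
    {y : (ofQuad q).Isom} (hy : y ∈ H) (h1 : ∀ b ∈ B1, y.1 b = b)
    (h2 : ∀ b ∈ B2, y.1 b + b ∈ B1) (h3 : ∀ b ∈ B3, y.1 b + b ∈ B2)
    (h4 : ∀ b, y.1 b + b ∈ B3) : y = 1 := by
  have km : ∀ {A B : Submodule (ZMod 2) V} (a b : (ofQuad q).Isom), InvS H B → a ∈ H →
      (∀ x ∈ A, a.1 x + x ∈ B) → (∀ x ∈ A, b.1 x + x ∈ B) → ∀ x ∈ A, (a * b).1 x + x ∈ B :=
    fun a b iB ha p1 p2 x hx => by
      have := add_mem (iB a ha _ (p2 x hx)) (p1 x hx)
      rwa [g_add, add_assoc, vv1] at this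
  have ki : ∀ {A B : Submodule (ZMod 2) V} (a : (ofQuad q).Isom), InvS H B → a ∈ H →
      (∀ x ∈ A, a.1 x + x ∈ B) → ∀ x ∈ A, (a⁻¹).1 x + x ∈ B :=
    fun a iB ha p1 x hx => by
      have := iB _ (inv_mem ha) _ (p1 x hx)
      rwa [g_add, Form.Isom.inv_apply_apply, add_comm] at this
  have kc : ∀ {A B : Submodule (ZMod 2) V} (g a : (ofQuad q).Isom), InvS H A → InvS H B → g ∈ H →
      (∀ x ∈ A, a.1 x + x ∈ B) → ∀ x ∈ A, (g * a * g⁻¹).1 x + x ∈ B :=
    fun g a iA iB hg p1 x hx => by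
      have := iB _ hg _ (p1 _ (iA _ (inv_mem hg) x hx))
      rwa [g_add, Form.Isom.apply_inv_apply] at this
  let N : Subgroup (ofQuad q).Isom :=
    { carrier := {a | a ∈ H ∧ (∀ b ∈ B1, a.1 b + b ∈ (⊥ : Submodule (ZMod 2) V)) ∧
        (∀ b ∈ B2, a.1 b + b ∈ B1) ∧ (∀ b ∈ B3, a.1 b + b ∈ B2) ∧
        ∀ b ∈ (⊤ : Submodule (ZMod 2) V), a.1 b + b ∈ B3}
      one_mem' := by simp [vv]
      mul_mem' := fun {a b} ha hb => ⟨mul_mem ha.1 hb.1, km a b inv_bot ha.1 ha.2.1 hb.2.1,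
        km a b i1 ha.1 ha.2.2.1 hb.2.2.1, km a b i2 ha.1 ha.2.2.2.1 hb.2.2.2.1,
        km a b i3 ha.1 ha.2.2.2.2 hb.2.2.2.2⟩
      inv_mem' := fun {a} ha => ⟨inv_mem ha.1, ki a inv_bot ha.1 ha.2.1, ki a i1 ha.1 ha.2.2.1,
        ki a i2 ha.1 ha.2.2.2.1, ki a i3 ha.1 ha.2.2.2.2⟩ }
  have hN : N = ⊥ := by
    refine ho N (fun a ha => ha.1) (le_N_iff.2 fun g hg a ha =>
      ⟨mul_mem (mul_mem hg ha.1) (inv_mem hg), kc g a i1 inv_bot hg ha.2.1,
        kc g a i2 i1 hg ha.2.2.1, kc g a i3 i2 hg ha.2.2.2.1, kc g a inv_top i3 hg ha.2.2.2.2⟩) ?_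
    rintro ⟨a, ha⟩
    refine ⟨2, Subtype.ext (Form.Isom.ext fun x => ?_)⟩
    have p := ha.2.1 _ (ha.2.2.1 _ (ha.2.2.2.1 _ (ha.2.2.2.2 x trivial)))
    rw [Submodule.mem_bot] at p
    simp only [g_add] at p
    change a.1 (a.1 (a.1 (a.1 x))) = x
    linear_combination (norm := (match_scalars <;> grind)) (1 : ZMod 2) • p
  have : y ∈ N := ⟨hy, fun b hb => by rw [h1 b hb, vv]; exact zero_mem _, h2, h3, fun b _ => h4 b⟩
  rw [hN] at this
  exact this

/-- Baer-Suzuki -/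
theorem exists_conj_not_two
    (ho : ∀ N : Subgroup (ofQuad q).Isom, N ≤ H → H ≤ N[N] → IsPGroup 2 N → N = ⊥)
    {y : (ofQuad q).Isom} (hy : y ∈ H) (h2 : y * y = 1) (h1 : y ≠ 1) :
    ∃ g ∈ H, (y * (g * y * g⁻¹)) ^ 4 ≠ 1 := by
  by_contra hc
  push Not at hc
  have hx : (⟨y, hy⟩ : H) * ⟨y, hy⟩ = 1 := Subtype.ext h2
  obtain ⟨N, hN, hp, hm⟩ := H6.baer_suzuki_elem (p := 2) (⟨y, hy⟩ : H) fun g =>
    H6.isPGroup_closure_pair (k := 2) hx
      (by rw [show g * ⟨y, hy⟩ * g⁻¹ * (g * ⟨y, hy⟩ * g⁻¹) = g * (⟨y, hy⟩ * ⟨y, hy⟩) * g⁻¹ by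
        group, hx]; simp) (Subtype.ext (hc g g.2))
  have := ho (N.map H.subtype) (map_subtype_le N) (le_N_iff.2 fun g hg a ha => by
    obtain ⟨b, hb, rfl⟩ := ha
    exact ⟨_, hN.conj_mem b hb ⟨g, hg⟩, rfl⟩) (hp.map _)
  have h3 : y ∈ N.map H.subtype := ⟨_, hm, rfl⟩
  rw [this] at h3
  exact h1 h3

/-- one step in coordinates -/
def stF (m1 m2 m3 m4 p1 p2 p3 p4 : ZMod 2) (t : ZMod 2 × ZMod 2 × ZMod 2 × ZMod 2) :
    ZMod 2 × ZMod 2 × ZMod 2 × ZMod 2 :=
  (t.1 + p2 + (t.2.2.1 + p4 + t.1 * m2 + t.2.1 * m4) * m3 +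
      (t.2.2.2 + p3 + t.1 * m1 + t.2.1 * m3) * m4,
    t.2.1 + p1 + (t.2.2.1 + p4 + t.1 * m2 + t.2.1 * m4) * m1 +
      (t.2.2.2 + p3 + t.1 * m1 + t.2.1 * m3) * m2,
    t.2.2.1 + p4 + t.1 * m2 + t.2.1 * m4, t.2.2.2 + p3 + t.1 * m1 + t.2.1 * m3)

theorem stF_four : ∀ m1 m2 m3 m4 p1 p2 p3 p4 : ZMod 2, m1 * m4 + m2 * m3 = 0 →
    stF m1 m2 m3 m4 p1 p2 p3 p4 (stF m1 m2 m3 m4 p1 p2 p3 p4 (stF m1 m2 m3 m4 p1 p2 p3 p4
      (stF m1 m2 m3 m4 p1 p2 p3 p4 (0, 0, 0, 0)))) = (0, 0, 0, 0) := by decide +kernel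

/-- two Siegel transformations of non-opposite lines -/
theorem Ei.pow_four {u s u' s' : V} {y y' : (ofQuad q).Isom} (h : Ei u s y) (h' : Ei u' s' y')
    (hu : q u = 0) (hs : q s = 0) (hus : pol q u s = 0) (hu' : q u' = 0) (hs' : q s' = 0)
    (hus' : pol q u' s' = 0)
    (hdet : pol q u u' * pol q s s' + pol q u s' * pol q s u' = 0) : (y * y') ^ 4 = 1 := by
  refine Form.Isom.ext fun x => ?_
  let c : ZMod 2 × ZMod 2 × ZMod 2 × ZMod 2 → V := fun t =>
    x + t.1 • u + t.2.1 • s + t.2.2.1 • u' + t.2.2.2 • s'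
  have st : ∀ t, (y * y').1 (c t) = c (stF (pol q u u') (pol q u s') (pol q s u') (pol q s s')
      (pol q u x) (pol q s x) (pol q u' x) (pol q s' x) t) := fun t => by
    rw [Form.Isom.mul_apply, h, h']
    simp only [c, stF, pr, psr, pp, hs, hs', hus, hus', pc hus, pc hus', pol_comm q s' u,
      pol_comm q s' s, pol_comm q u' u, pol_comm q u' s]
    match_scalars <;> grind
  have e : c (0, 0, 0, 0) = x := by simp [c]
  generalize y * y' = z at st
  rw [show z ^ 4 = z * (z * (z * z)) by simp only [pow_succ, pow_zero, one_mul, mul_assoc],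
    Form.Isom.mul_apply, Form.Isom.mul_apply, Form.Isom.mul_apply, Form.Isom.one_apply, ← e,
    st, st, st, st, stF_four _ _ _ _ _ _ _ _ hdet]

theorem Ei.fix {u s x : V} {y : (ofQuad q).Isom} (h : Ei u s y) (h1 : pol q u x = 0)
    (h2 : pol q s x = 0) : y.1 x = x := by rw [h, h1, h2]; simp

theorem Ei.ap0 {u s x : V} {y : (ofQuad q).Isom} (h : Ei u s y) (h1 : pol q u x = 0) :
    y.1 x = x + pol q s x • u := by rw [h, h1]; simp

theorem Ei.ap01 {u s x : V} {y : (ofQuad q).Isom} (h : Ei u s y) (h1 : pol q u x = 0)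
    (h2 : pol q s x = 1) : y.1 x = x + u := by rw [h, h1, h2]; simp

theorem Ei.ap1 {u s x : V} {y : (ofQuad q).Isom} (h : Ei u s y) (h1 : pol q u x = 1) :
    y.1 x = x + s + (pol q s x + q s) • u := by
  rw [h, h1]; match_scalars <;> grind

theorem Ei.eq_of_one {u s x : V} (h : Ei u s (1 : (ofQuad q).Isom)) (h1 : pol q u x = 1) :
    s = 0 ∨ s = u := by
  have := h.ap1 h1
  rw [Form.Isom.one_apply] at this
  rcases z2 (pol q s x + q s) with e | e <;> rw [e] at this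
  · left; linear_combination (norm := (match_scalars <;> grind)) this
  · right; linear_combination (norm := (match_scalars <;> grind)) this

/-- an Eichler transformation with its vector in an invariant subspace of `v^⊥` -/
theorem Ei.one_of_inv
    (ho : ∀ N : Subgroup (ofQuad q).Isom, N ≤ H → H ≤ N[N] → IsPGroup 2 N → N = ⊥)
    {N : Submodule (ZMod 2) V} (hN : InvS H N) {v s : V} {y : (ofQuad q).Isom} (h : Ei v s y)
    (hy : y ∈ H) (hs : s ∈ N) (h0 : q s = 0) (hv : ∀ b ∈ N, pol q v b = 0)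
    (hp : ∀ b ∈ N, pol q s b = 0) : y = 1 := by
  refine chain ho hN hN.perp inv_top hy (fun b hb => h.fix (hv b hb) (hp b hb))
    (fun b hb => ?_) (fun b _ x hx => ?_) (fun _ => trivial)
  · rw [h, hb s hs, h0]
    convert N.smul_mem (pol q v b) hs using 1
    match_scalars <;> grind
  · change pol q x _ = 0
    rw [h]
    simp only [pr, psr, pc (hv x hx), pc (hp x hx)]
    grind

/-- faithfulness on an invariant isotropic subspace of half the dimension -/
theorem faith_of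
    (ho : ∀ N : Subgroup (ofQuad q).Isom, N ≤ H → H ≤ N[N] → IsPGroup 2 N → N = ⊥)
    (hq : (ofQuad q).Nondeg) {A : Submodule (ZMod 2) V} (hA : InvS H A)
    (h1 : ∀ a ∈ A, ∀ b ∈ A, pol q a b = 0) (h2 : finrank (ZMod 2) V = 2 * finrank (ZMod 2) A)
    {g : (ofQuad q).Isom} (hg : g ∈ H) (hf : ∀ a ∈ A, g.1 a = a) : g = 1 := by
  refine chain ho hA inv_top inv_top hg hf (fun b _ => perp_self hq h1 h2 fun a ha => ?_)
    (fun _ _ => trivial) (fun _ => trivial)
  rw [pr, ← g_pol g a b, hf a ha, z2add]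

namespace VD

variable (h : VD H S E R w) {v x e u : V} {y y' : (ofQuad q).Isom} {B : Submodule (ZMod 2) V}
include h

theorem sing (hv : v ∈ S) : q v = 0 := h.ts v hv v (h.memE v hv)
theorem perpE (hv : v ∈ S) (he : e ∈ E v) (hu : u ∈ E v) : pol q e u = 0 :=
  ts_pol (h.ts v hv) he hu
theorem comm (hv : v ∈ S) (hy : y ∈ R v) (hy' : y' ∈ R v) : y * y' = y' * y := by
  have h1 := h.sq v hv _ (mul_mem hy hy')
  have h2 := h.sq v hv _ hy
  have h3 := h.sq v hv _ hy'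
  calc y * y' = y * y' * (y * y) * (y' * y') * (y * y) := by rw [h2, h3]; simp
    _ = (y * y' * (y * y')) * (y' * y) := by
      rw [h1, h2, h3]
      calc y * y' * 1 * 1 * 1 = (y * y')⁻¹ := by
            rw [eq_inv_iff_mul_eq_one]; simpa using h1
        _ = 1 * (y' * y) := by
            rw [mul_inv_rev, inv_eq_of_mul_eq_one_left h2, inv_eq_of_mul_eq_one_left h3, one_mul]
    _ = y' * y := by rw [h1, one_mul]
theorem s_perp (hv : v ∈ S) (hy : y ∈ R v) (x : V) : pol q v (y.1 x + x) = 0 := by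
  rw [pr, ← g_pol y v x, h.fix v hv y hy, z2add]
theorem act_E (hv : v ∈ S) (hy : y ∈ R v) (hx : pol q v x = 1) (he : e ∈ E v) :
    y.1 e = e + pol q e (y.1 x + x) • v := by
  have h1 := g_pol y e x
  have h2 := h.s_perp hv hy x
  rw [pr] at h2
  rcases h.cE v hv y hy e he with e1 | e1
  · rw [e1] at h1
    rw [pr, h1, z2add, zero_smul, add_zero, e1]
  · rw [e1, pl] at h1
    have : pol q e (y.1 x + x) = 1 := by rw [pr]; grind
    rw [this, one_smul, e1]
theorem exists_x (hv : v ∈ S) : ∃ x, pol q v x = 1 := sep0 h.nondeg (h.ne0 v hv)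
theorem shift (hv : v ∈ S) (he : e ∈ E v) (h0 : e ≠ 0) (h1 : e ≠ v) :
    ∃ y ∈ R v, y.1 e = e + v := by
  obtain ⟨s, h2, h3⟩ := sep1 h.nondeg h0 h1
  obtain ⟨x, hx⟩ := h.exists_x hv
  obtain ⟨y, hy, h4⟩ := h.surj v hv x s hx h2
  refine ⟨y, hy, ?_⟩
  have h5 := h.perpE hv he h4
  rw [pr, h3] at h5
  rw [h.act_E hv hy hx he, z2eq h5, one_smul]
theorem finrank_E_le (hv : v ∈ S) : finrank (ZMod 2) (E v) ≤ w := by
  have := Form.TotSing.two_mul_finrank_le h.nondeg ((totSing_ofQuad q).2 (h.ts v hv))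
  rw [h.dim] at this
  omega
theorem invE (hv : v ∈ S) (hy : y ∈ R v) (he : e ∈ E v) : y.1 e ∈ E v := by
  rcases h.cE v hv y hy e he with e1 | e1 <;> rw [e1]
  · exact he
  · exact add_mem he (h.memE v hv)
theorem eq_of_s (hv : v ∈ S) (hy : y ∈ R v) (hy' : y' ∈ R v) (hx : pol q v x = 1)
    (he : y.1 x + y'.1 x ∈ E v) : y = y' := by
  have h1 := h.invE hv hy' he
  rw [g_add, g_sq (h.sq v hv _ hy')] at h1
  have h2 := h.inj v hv _ (mul_mem hy' hy) x hx h1
  rw [← inv_eq_of_mul_eq_one_right h2, inv_eq_of_mul_eq_one_right (h.sq v hv _ hy')]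
theorem card_R (hv : v ∈ S) : Nat.card (R v) * 2 ^ (finrank (ZMod 2) (E v) + 1) = 2 ^ (2 * w) := by
  obtain ⟨x, hx⟩ := h.exists_x hv
  let f : R v × E v × ZMod 2 → V := fun t => t.1.1.1 x + x + t.2.1 + t.2.2 • x
  have hf : ∀ t, pol q v (f t) = t.2.2 := fun t => by
    simp only [f]
    rw [pr, pr, h.s_perp hv t.1.2, h.perpE hv (h.memE v hv) t.2.1.2, psr, hx]
    simp
  have hb : Function.Bijective f := by
    constructor
    · rintro ⟨a, b, c⟩ ⟨a', b', c'⟩ he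
      have e1 : c = c' := by simpa [hf] using congrArg (pol q v) he
      subst e1
      simp only [f] at he
      have e2 : a = a' := Subtype.ext (h.eq_of_s hv a.2 a'.2 hx (by
        have : a.1.1 x + a'.1.1 x = b.1 + b'.1 := by
          linear_combination (norm := (match_scalars <;> grind)) he
        rw [this]; exact add_mem b.2 b'.2))
      subst e2
      have e3 : b = b' := Subtype.ext (by
        linear_combination (norm := (match_scalars <;> grind)) he)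
      rw [e3]
    · intro z
      obtain ⟨y, hy, h1⟩ := h.surj v hv x (z + pol q v z • x) hx
        (by rw [pr, psr, hx, mul_one, z2add])
      refine ⟨(⟨y, hy⟩, ⟨_, h1⟩, pol q v z), ?_⟩
      simp only [f]
      match_scalars <;> grind
  have := Nat.card_eq_of_bijective f hb
  rw [Nat.card_prod, Nat.card_prod, card_sub, Nat.card_zmod, card_V (V := V), h.dim] at this
  rw [pow_succ, this]
theorem step (hv : v ∈ S) (hB : InvS H B) : (∀ b ∈ B, pol q v b = 0) ∨ B ⊔ E v = ⊤ := by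
  by_cases hc : ∀ b ∈ B, pol q v b = 0
  · exact Or.inl hc
  right
  push Not at hc
  obtain ⟨b, hb, h1⟩ := hc
  have h1 := z2ne h1
  rw [eq_top_iff]
  intro z _
  obtain ⟨y, hy, h2⟩ := h.surj v hv b (z + pol q v z • b) h1 (by rw [pr, psr, h1, mul_one, z2add])
  have e1 : z = (y.1 b + b + pol q v z • b) + (y.1 b + b + (z + pol q v z • b)) := by
    match_scalars <;> grind
  rw [e1]
  exact add_mem (Submodule.mem_sup_left (add_mem (add_mem (hB y (h.le v hv hy) b hb) hb)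
    (B.smul_mem _ hb))) (Submodule.mem_sup_right h2)


section good

variable {A : Submodule (ZMod 2) V} {a0 s : V}

theorem g_dims (hv : v ∈ S) (hA : InvS H A) (h1 : v ∉ A) (ha : a0 ∈ A) (h2 : pol q v a0 = 1) :
    finrank (ZMod 2) A = w ∧ finrank (ZMod 2) (E v) = w ∧ A ⊓ E v = ⊥ := by
  have e1 : A ⊔ E v = ⊤ := (h.step hv hA).resolve_left fun hc => by
    rw [hc a0 ha] at h2; exact zero_ne_one h2
  obtain ⟨x, hx, hx'⟩ := sep h.nondeg h1
  have e2 : (ofQuad q).perp A ⊔ E v = ⊤ := (h.step hv hA.perp).resolve_left fun hc => by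
    rw [hc x hx] at hx'; exact zero_ne_one hx'
  have f1 := fr_si A (E v)
  have f2 := fr_si ((ofQuad q).perp A) (E v)
  rw [e1, finrank_top, h.dim] at f1
  rw [e2, finrank_top, h.dim] at f2
  have f3 := fr_perp h.nondeg A
  rw [h.dim] at f3
  have f4 := h.finrank_E_le hv
  exact ⟨by omega, by omega, bot_of_fr (by omega)⟩

theorem g_ei (hv : v ∈ S) (hA : InvS H A) (h1 : v ∉ A) (ha : a0 ∈ A) (h2 : pol q v a0 = 1)
    (hy : y ∈ R v) : y.1 a0 + a0 ∈ A ∧ Ei v (y.1 a0 + a0) y := by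
  have m : y.1 a0 + a0 ∈ A := add_mem (hA y (h.le v hv hy) a0 ha) ha
  refine ⟨m, (ei_of_triv h.nondeg (h.sing hv) h2 (h.fix v hv y hy) fun u hu => ?_).2⟩
  have := h.sub A hA v hv y hy a0 _ m h2 (h.s_perp hv hy a0) (by rw [vv]; exact zero_mem _) u hu
  rw [(h.g_dims hv hA h1 ha h2).2.2, bot_sup_eq, mem_sp] at this
  rcases this with e | e
  · exact Or.inl (veq.1 e)
  · right; rw [veq'.1 e, add_comm]

theorem g_ex (hv : v ∈ S) (hA : InvS H A) (h1 : v ∉ A) (ha : a0 ∈ A) (h2 : pol q v a0 = 1)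
    (hs : s ∈ A) (h3 : pol q v s = 0) : ∃ y ∈ R v, Ei v s y := by
  obtain ⟨y, hy, h4⟩ := h.surj v hv a0 s h2 h3
  obtain ⟨m, e⟩ := h.g_ei hv hA h1 ha h2 hy
  have : y.1 a0 + a0 + s ∈ A ⊓ E v := ⟨add_mem m hs, h4⟩
  rw [(h.g_dims hv hA h1 ha h2).2.2, Submodule.mem_bot, veq] at this
  exact ⟨y, hy, this ▸ e⟩

theorem g_iso (hv : v ∈ S) (hA : InvS H A) (h1 : v ∉ A) (ha : a0 ∈ A) (h2 : pol q v a0 = 1)
    (hs : s ∈ A) (h3 : pol q v s = 0) :
    (∀ t ∈ A, pol q v t = 0 → pol q s t = 0) ∧ q s = pol q s a0 := by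
  obtain ⟨y, hy, e⟩ := h.g_ex hv hA h1 ha h2 hs h3
  refine ⟨fun t ht h4 => z2ne' fun h5 => h1 ?_, ?_⟩
  · have := hA y (h.le v hv hy) t ht
    rw [e.ap01 h4 h5] at this
    exact mem_r this ht
  · have := hA y (h.le v hv hy) a0 ha
    rw [e.ap1 h2] at this
    have h5 := mem_r this (add_mem ha hs)
    rcases z2 (pol q s a0 + q s) with h6 | h6
    · exact (z2eq h6).symm
    · rw [h6, one_smul] at h5; exact absurd h5 h1

theorem g_irr0 (hv : v ∈ S) (hA : InvS H A) (h1 : v ∉ A) (ha : a0 ∈ A) (h2 : pol q v a0 = 1)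
    (hB : InvS H B) (hle : B ≤ A) (hp : ∀ b ∈ B, ∀ a ∈ A, pol q b a = 0) : B = ⊥ ∨ B = A := by
  obtain ⟨d1, d2, -⟩ := h.g_dims hv hA h1 ha h2
  rcases h.step hv hB with hc | hc
  · left
    rw [eq_bot_iff]
    intro s hs
    obtain ⟨y, hy, e⟩ := h.g_ex hv hA h1 ha h2 (hle hs) (hc s hs)
    have e1 := e.one_of_inv h.o2 hB (h.le v hv hy) hs
      (by rw [(h.g_iso hv hA h1 ha h2 (hle hs) (hc s hs)).2, hp s hs a0 ha]) hc
      (fun b hb => hp s hs b (hle hb))
    rw [e1] at e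
    rcases e.eq_of_one h2 with e2 | e2
    · exact e2
    · exact absurd (e2 ▸ hle hs) h1
  · right
    have f1 := fr_si B (E v)
    rw [hc, finrank_top, h.dim] at f1
    exact eq_of_fr hle (by omega)

theorem g_pp (hv : v ∈ S) (hA : InvS H A) (h1 : v ∉ A) (ha : a0 ∈ A) (h2 : pol q v a0 = 1) :
    ∀ a ∈ A, ∀ b ∈ A, pol q a b = 0 := by
  obtain ⟨d1, -, -⟩ := h.g_dims hv hA h1 ha h2
  have := h.three
  obtain ⟨s, hs, h0, h3⟩ := exists_perp0 (q := q) A [v, a0] (by simp; omega)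
  have h4 := h3 v (by simp)
  have h5 := h3 a0 (by simp)
  have m : s ∈ A ⊓ (ofQuad q).perp A := ⟨hs, fun a ha' => by
    change pol q a s = 0
    rcases z2 (pol q v a) with e | e
    · exact pc ((h.g_iso hv hA h1 ha h2 hs h4).1 a ha' e)
    · have := (h.g_iso hv hA h1 ha h2 hs h4).1 _ (add_mem ha' ha) (by rw [pr, e, h2, z11])
      rw [pr, pc h5, add_zero] at this
      exact pc this⟩
  rcases h.g_irr0 hv hA h1 ha h2 (inv_inf hA hA.perp) inf_le_left
    (fun b hb a ha' => pc (hb.2 a ha')) with e | e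
  · rw [e] at m; exact absurd m h0
  · intro a ha' b hb
    rw [← e] at hb
    exact hb.2 a ha'

theorem g_irr (hv : v ∈ S) (hA : InvS H A) (h1 : v ∉ A) (ha : a0 ∈ A) (h2 : pol q v a0 = 1)
    (hB : InvS H B) (hle : B ≤ A) : B = ⊥ ∨ B = A :=
  h.g_irr0 hv hA h1 ha h2 hB hle fun b hb a ha' => h.g_pp hv hA h1 ha h2 b (hle hb) a ha'

theorem g_ts (hv : v ∈ S) (hA : InvS H A) (h1 : v ∉ A) (ha : a0 ∈ A) (h2 : pol q v a0 = 1) :
    TS q A := by
  obtain ⟨d1, -, -⟩ := h.g_dims hv hA h1 ha h2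
  have := h.three
  have pA := h.g_pp hv hA h1 ha h2
  let K : Submodule (ZMod 2) V := mkSub {a | a ∈ A ∧ q a = 0} ⟨zero_mem _, by simp⟩
    fun x hx y hy => ⟨add_mem hx.1 hy.1, by rw [quad_add, hx.2, hy.2, pA x hx.1 y hy.1]; simp⟩
  obtain ⟨s, hs, h0, h3⟩ := exists_perp0 (q := q) A [v] (by simp; omega)
  have h4 := h3 v (by simp)
  have m : s ∈ K := ⟨hs, by rw [(h.g_iso hv hA h1 ha h2 hs h4).2, pA s hs a0 ha]⟩
  rcases h.g_irr hv hA h1 ha h2 (B := K)
    (fun g hg b hb => ⟨hA g hg b hb.1, by rw [g_q, hb.2]⟩) (fun b hb => hb.1) with e | e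
  · rw [e] at m; exact absurd m h0
  · intro a ha'
    rw [← e] at ha'
    exact ha'.2

end good

theorem good_of (hv : v ∈ S) (hB : InvS H B) (h1 : v ∉ B) (h2 : ∃ b ∈ B, pol q v b ≠ 0) :
    ∃ A', v ∈ A' ∧ GoodV H S E R w B A' := by
  obtain ⟨a0, ha, h2⟩ := h2
  have h2 := z2ne h2
  have h3 := h.three
  obtain ⟨d1, -, -⟩ := h.g_dims hv hB h1 ha h2
  have pA := h.g_pp hv hB h1 ha h2
  have tA := h.g_ts hv hB h1 ha h2
  have dV : finrank (ZMod 2) V = 2 * finrank (ZMod 2) B := by rw [h.dim, d1]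
  have ps : ∀ {x}, (∀ a ∈ B, pol q a x = 0) → x ∈ B := perp_self h.nondeg pA dV
  have fa : ∀ g ∈ H, (∀ a ∈ B, g.1 a = a) → g = 1 := fun g hg hf =>
    faith_of h.o2 h.nondeg hB pA dV hg hf
  have ex : ∀ u, u ∉ B → ∃ a ∈ B, pol q u a = 1 := fun u hu => by
    by_contra hc
    push Not at hc
    exact hu (ps fun a ha' => pc (z2ne' (hc a ha')))
  have exT : ∀ u ∈ S, u ∉ B → ∀ s ∈ B, pol q u s = 0 → ∃ y ∈ R u, Ei u s y :=
    fun u hu hu' s hs h4 => by
      obtain ⟨a, ha', h5⟩ := ex u hu'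
      exact h.g_ex hu hB hu' ha' h5 hs h4
  -- uniqueness
  have uq : ∀ u ∈ S, u ∉ B → ∀ u' ∈ S, u' ∉ B → u + u' ∈ B → u = u' :=
    fun u hu hu1 u' hu' hu1' hd => by
      obtain ⟨s, hs, s0, s1, s2⟩ := exists_perp1 (q := q) B (u + u') [u] (by simp; omega)
      have s2 := s2 u (by simp)
      have e : ∀ a ∈ B, pol q u' a = pol q u a := fun a ha' => by
        have := pA _ hd a ha'
        rw [pl] at this
        exact (z2eq this).symm
      obtain ⟨y, hy, ey⟩ := exT u hu hu1 s hs s2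
      obtain ⟨y', hy', ey'⟩ := exT u' hu' hu1' s hs ((e s hs).trans s2)
      have e1 : y⁻¹ * y' = 1 := fa _ (mul_mem (inv_mem (h.le u hu hy)) (h.le u' hu' hy'))
        fun a ha' => by
          rw [Form.Isom.mul_apply, Form.Isom.inv_apply_eq, ey, ey', pA s hs a ha', tA s hs,
            e a ha']
          simp
      have e2 : y = y' := inv_mul_eq_one.1 e1
      obtain ⟨x, x1, x2⟩ := sep1 h.nondeg s0 s1
      rw [pl] at x1
      have e3 := ey x
      rw [e2, ey' x, x2, tA s hs, z2eq x1] at e3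
      linear_combination (norm := (match_scalars <;> grind)) e3
  -- closure
  have cl : ∀ u ∈ S, u ∉ B → ∀ u' ∈ S, u' ∉ B → u ≠ u' → u + u' ∈ S ∧ u + u' ∉ B :=
    fun u hu hu1 u' hu' hu1' hne => by
      have hd : u + u' ∉ B := fun hd => hne (uq u hu hu1 u' hu' hu1' hd)
      refine ⟨?_, hd⟩
      have im : ∀ s ∈ B, pol q u' s = 0 → pol q u s = 1 →
          u + u' + pol q u' u • s ∈ S ∧ u + u' + pol q u' u • s ∉ B := fun s hs s1 s2 => by
        obtain ⟨y, hy, ey⟩ := exT u' hu' hu1' s hs s1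
        have e : y.1 u = u + u' + pol q u' u • s := by rw [ey, pc s2, tA s hs]; simp
        rw [← e]
        exact ⟨h.inv y (h.le u' hu' hy) u hu, by rwa [inv_mem_iff hB (h.le u' hu' hy)]⟩
      obtain ⟨s, hs, s1, s2⟩ : ∃ s ∈ B, pol q u' s = 0 ∧ pol q u s = 1 := by
        obtain ⟨a, ha', a1⟩ := ex u hu1
        obtain ⟨b, hb, b1⟩ := ex _ hd
        rw [pl] at b1
        rcases z2 (pol q u' a) with a2 | a2
        · exact ⟨a, ha', a2, a1⟩
        · rcases z2 (pol q u' b) with b2 | b2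
          · exact ⟨b, hb, b2, by rwa [b2, add_zero] at b1⟩
          · exact ⟨a + b, add_mem ha' hb, by rw [pr, a2, b2, z11], by rw [pr]; grind⟩
      rcases z2 (pol q u' u) with e | e
      · simpa [e] using (im s hs s1 s2).1
      · exfalso
        obtain ⟨t, ht, t0, t1⟩ := exists_perp0 (q := q) B [u, u'] (by simp; omega)
        have i1 := im s hs s1 s2
        have i2 := im _ (add_mem hs ht) (by rw [pr, s1, t1 u' (by simp), add_zero])
          (by rw [pr, s2, t1 u (by simp), add_zero])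
        rw [e, one_smul] at i1 i2
        have := uq _ i1.1 i1.2 _ i2.1 i2.2 (by
          convert ht using 1
          linear_combination (norm := (match_scalars <;> grind)) (1 : ZMod 2) • (rfl : t = t))
        exact t0 (by simpa using this)
  let A' : Submodule (ZMod 2) V := mkSub {u | u = 0 ∨ (u ∈ S ∧ u ∉ B)} (Or.inl rfl)
    fun x hx y hy => by
      rcases hx with rfl | hx
      · rwa [zero_add]
      rcases hy with rfl | hy
      · rw [add_zero]; exact Or.inr hx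
      by_cases e : x = y
      · left; rw [e, vv]
      · exact Or.inr (cl x hx.1 hx.2 y hy.1 hy.2 e)
  have mA : ∀ {u}, u ∈ A' → u ≠ 0 → u ∈ S ∧ u ∉ B := fun hu h0 => hu.resolve_left h0
  have iA : InvS H A' := fun g hg u hu => by
    rcases hu with rfl | hu
    · left; exact g_zero g
    · exact Or.inr ⟨h.inv g hg u hu.1, by rw [inv_mem_iff hB hg]; exact hu.2⟩
  have tA' : TS q A' := fun u hu => by
    rcases hu with rfl | hu
    · simp
    · exact h.sing hu.1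
  have vA : v ∈ A' := Or.inr ⟨hv, h1⟩
  have dj : B ⊓ A' = ⊥ := by
    rw [eq_bot_iff]
    intro u hu
    by_contra h0
    exact (mA hu.2 h0).2 hu.1
  have dj' : B ⊓ (ofQuad q).perp A' = ⊥ :=
    (h.g_irr hv hB h1 ha h2 (inv_inf hB iA.perp) inf_le_left).resolve_right fun e => by
      rw [← e] at ha
      have := ha.2 v vA
      rw [h2] at this
      exact one_ne_zero this
  have f1 := fr_si B A'
  have f2 := fr_si B ((ofQuad q).perp A')
  rw [dj, finrank_bot] at f1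
  rw [dj', finrank_bot] at f2
  have f3 := fr_le (B ⊔ A')
  have f4 := fr_le (B ⊔ (ofQuad q).perp A')
  have f5 := fr_perp h.nondeg A'
  have d2 : finrank (ZMod 2) A' = w := by omega
  have tp : B ⊔ A' = ⊤ := Submodule.eq_top_of_finrank_eq (by omega)
  have dE : ∀ u ∈ A', u ≠ 0 → finrank (ZMod 2) (E u) = w ∧ B ⊓ E u = ⊥ := fun u hu h0 => by
    obtain ⟨a, ha', a1⟩ := ex u (mA hu h0).2
    exact (h.g_dims (mA hu h0).1 hB (mA hu h0).2 ha' a1).2
  refine ⟨A', vA, hB, iA, tA, tA', ⟨disjoint_iff.2 dj, codisjoint_iff.2 tp⟩, d1, d2, fa,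
    fun g hg hf => faith_of h.o2 h.nondeg iA (fun a ha' b hb => ts_pol tA' ha' hb)
      (by rw [h.dim, d2]) hg hf,
    fun B' i1 i2 => h.g_irr hv hB h1 ha h2 i1 i2, fun u hu h0 => (mA hu h0).1, fun u hu => ?_,
    fun u hu h0 => by rw [inf_comm]; exact (dE u hu h0).2, fun u hu h0 y => ?_,
    fun h4 u hu h0 => ?_⟩
  · by_cases e : u ∈ B
    · exact Or.inl e
    · exact Or.inr (Or.inr ⟨hu, e⟩)
  · obtain ⟨m1, m2⟩ := mA hu h0
    constructor
    · intro hy
      obtain ⟨a, ha', a1⟩ := ex u m2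
      obtain ⟨e1, e2⟩ := h.g_ei m1 hB m2 ha' a1 hy
      exact ⟨_, e1, h.s_perp m1 hy a, e2⟩
    · rintro ⟨a, ha', a1, e⟩
      obtain ⟨y', hy', e'⟩ := exT u m1 m2 a ha' a1
      rwa [e.unique e']
  · obtain ⟨m1, m2⟩ := mA hu h0
    refine eq_of_fr (fun e he => ?_) (by rw [d2, (dE u hu h0).1])
    have : e ∈ B ⊔ A' := by rw [tp]; trivial
    obtain ⟨a, ha', a', ha'', rfl⟩ := Submodule.mem_sup.1 this
    by_cases a0' : a = 0
    · rwa [a0', zero_add]
    exfalso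
    obtain ⟨u', hu', e1⟩ : ∃ u' ∈ A', pol q u' a = 1 := by
      by_contra hc
      push Not at hc
      have : a ∈ B ⊓ (ofQuad q).perp A' := ⟨ha', fun x hx => z2ne' (hc x hx)⟩
      rw [dj'] at this
      exact a0' this
    obtain ⟨n1, n2⟩ := mA hu' (by rintro rfl; simp at e1)
    obtain ⟨s, hs, s0, s1⟩ := exists_perp0 (q := q) B [u, a', u'] (by simp; omega)
    obtain ⟨y, hy, ey⟩ := exT u' n1 n2 s hs (s1 u' (by simp))
    have e2 : y.1 u = u := ey.fix (ts_pol tA' hu' hu) (pc (s1 u (by simp)))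
    have e3 := (h.eqE y (h.le u' n1 hy) u m1 _).2 he
    rw [e2, ey, pr, pr, pA s hs a ha', pc (s1 a' (by simp)), e1, ts_pol tA' hu' ha'', tA s hs] at e3
    simp only [add_zero, zero_smul, one_smul, zero_mul] at e3
    have : s ∈ B ⊓ E u := ⟨hs, mem_r e3 he⟩
    rw [(dE u hu h0).2] at this
    exact s0 this

end VD

end XS
end H6
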