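import Mathlib
import Cfsg.Agent.H6.XV1

/-! Linear algebra: fused vectors perpendicular to a minimal subspace -/

set_option autoImplicit false
set_option linter.unusedSectionVars false
set_option linter.unusedVariables false
set_option linter.unusedSimpArgs false

namespace H28
namespace XV2

open Subgroup H24 H15 H15.XP Module H28.XL H6.XS

variable {V : Type*} [AddCommGroup V] [Module (ZMod 2) V] [Finite V] {q : QuadraticForm (ZMod 2) V}
  {H : Subgroup (ofQuad q).Isom} {S : Set V} {E : V → Submodule (ZMod 2) V}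
  {R : V → Subgroup (ofQuad q).Isom} {w : ℕ} {B : Submodule (ZMod 2) V}

variable (q) in
/-- a fused vector outside `B` and perpendicular to `B` -/
structure Pt (S : Set V) (B : Submodule (ZMod 2) V) (u : V) : Prop where
  mem : u ∈ S
  out : u ∉ B
  perp : ∀ b ∈ B, pol q u b = 0

/-- `s` lifts `b` -/
structure Lf (E : V → Submodule (ZMod 2) V) (R : V → Subgroup (ofQuad q).Isom)
    (B : Submodule (ZMod 2) V) (u b s : V) : Prop where
  inB : b ∈ B
  mem : s + b ∈ E u
  perp : pol q u s = 0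
  ex : ∃ y ∈ R u, Ei u s y

/-- the pointwise stabiliser of `B` -/
def HB (H : Subgroup (ofQuad q).Isom) (B : Submodule (ZMod 2) V) (g : (ofQuad q).Isom) : Prop :=
  g ∈ H ∧ ∀ b ∈ B, g.1 b = b

theorem HB.mul {g g' : (ofQuad q).Isom} (h1 : HB H B g) (h2 : HB H B g') : HB H B (g * g') :=
  ⟨mul_mem h1.1 h2.1, fun b hb => by rw [Form.Isom.mul_apply, h2.2 b hb, h1.2 b hb]⟩

section

variable (h : VD H S E R w) (hB : InvS H B) {u v b b' s s' : V} {g y : (ofQuad q).Isom}
include h hB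

theorem pt_conj (hu : Pt q S B u) (hg : g ∈ H) : Pt q S B (g.1 u) :=
  ⟨h.inv g hg u hu.mem, by rw [inv_mem_iff hB hg]; exact hu.out, fun b hb => by
    rw [g_pol_l]; exact hu.perp _ (hB _ (inv_mem hg) b hb)⟩

theorem pt_disj (hu : Pt q S B u) (hb : b ∈ B) (he : b ∈ E u) : b = 0 := by
  by_contra h0
  obtain ⟨y, hy, e⟩ := h.shift hu.mem he h0 (fun e => hu.out (e ▸ hb))
  have := hB y (h.le u hu.mem hy) b hb
  rw [e] at this
  exact hu.out (mem_r this hb)

theorem pt_hb (hu : Pt q S B u) (hy : y ∈ R u) : HB H B y :=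
  ⟨h.le u hu.mem hy, fun b hb => veq.1 (pt_disj h hB hu
    (add_mem (hB y (h.le u hu.mem hy) b hb) hb) (h.perp u hu.mem y hy b (hu.perp b hb)))⟩

theorem lf_ex (hu : Pt q S B u) (hb : b ∈ B) : ∃ s, Lf E R B u b s := by
  obtain ⟨x, hx⟩ := h.exists_x hu.mem
  obtain ⟨y, hy, h1⟩ := h.surj u hu.mem x b hx (hu.perp b hb)
  have := ei_of_triv h.nondeg (h.sing hu.mem) hx (h.fix u hu.mem y hy) fun z hz => by
    have := h.sub B hB u hu.mem y hy x b hb hx (hu.perp b hb) h1 z hz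
    rw [mem_sup_sp] at this
    rcases this with e | e
    · exact Or.inl (veq.1 (pt_disj h hB hu e.1 e.2))
    · right
      have := pt_disj h hB hu e.1 e.2
      rwa [add_assoc, veq] at this
  exact ⟨_, hb, h1, this.1, y, hy, this.2⟩

theorem lf_perp (hu : Pt q S B u) (hs : Lf E R B u b s) (hb : b' ∈ B) : pol q s b' = 0 := by
  obtain ⟨y, hy, e⟩ := hs.ex
  refine z2ne' fun h1 => h.ne0 u hu.mem ?_
  have := (pt_hb h hB hu hy).2 b' hb
  rw [e.ap01 (hu.perp b' hb) h1] at this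
  simpa using this

theorem lf_q (hu : Pt q S B u) (hs : Lf E R B u b s) : q s = q b := by
  have h1 := h.ts u hu.mem _ hs.mem
  rw [quad_add, lf_perp h hB hu hs hs.inB, add_zero] at h1
  exact z2eq h1

theorem lf_pol (hu : Pt q S B u) (hs : Lf E R B u b s) (hs' : Lf E R B u b' s') :
    pol q s s' = pol q b b' := by
  have h1 := h.perpE hu.mem hs.mem hs'.mem
  rw [pl, pr, pr, lf_perp h hB hu hs hs'.inB, pc (lf_perp h hB hu hs' hs.inB)] at h1
  exact z2eq (by simpa using h1)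

theorem lf_add (hu : Pt q S B u) (hs : Lf E R B u b s) (hs' : Lf E R B u b' s') :
    Lf E R B u (b + b') (s + s') := by
  obtain ⟨y, hy, e⟩ := hs.ex
  obtain ⟨y', hy', e'⟩ := hs'.ex
  refine ⟨add_mem hs.inB hs'.inB, ?_, by rw [pr, hs.perp, hs'.perp, add_zero], _, mul_mem hy hy',
    e.mul (h.sing hu.mem) hs.perp hs'.perp e'⟩
  rw [add_add_add_comm]
  exact add_mem hs.mem hs'.mem

theorem lf_zero (hu : Pt q S B u) : Lf E R B u 0 0 :=
  ⟨zero_mem _, by simp, by simp, 1, one_mem _, fun x => by simp⟩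

theorem lf_smul (hu : Pt q S B u) (hs : Lf E R B u b s) (c : ZMod 2) :
    Lf E R B u (c • b) (c • s) := by
  rcases z2 c with rfl | rfl
  · simpa using lf_zero h hB hu
  · simpa using hs

theorem lf_shift (hu : Pt q S B u) (hs : Lf E R B u b s) (c : ZMod 2) :
    Lf E R B u b (s + c • u) := by
  rcases z2 c with rfl | rfl
  · simpa using hs
  · obtain ⟨y, hy, e⟩ := hs.ex
    rw [one_smul]
    refine ⟨hs.inB, ?_, by rw [pr, hs.perp, pp, add_zero], y, hy,
      e.add_self (h.sing hu.mem) hs.perp⟩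
    rw [add_right_comm]
    exact add_mem hs.mem (h.memE u hu.mem)

theorem lf_ker (hu : Pt q S B u) (hs : Lf E R B u 0 s) : s = 0 ∨ s = u := by
  obtain ⟨y, hy, e⟩ := hs.ex
  obtain ⟨x, hx⟩ := h.exists_x hu.mem
  have := h.inj u hu.mem y hy x hx (by
    rw [e.ap1 hx, add_assoc x, vv3]
    exact add_mem (by simpa using hs.mem) (Submodule.smul_mem _ _ (h.memE u hu.mem)))
  rw [this] at e
  exact e.eq_of_one hx

theorem lf_ne (hu : Pt q S B u) (hs : Lf E R B u b s) (h0 : b ≠ 0) : s ≠ 0 ∧ s ≠ u :=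
  ⟨fun e => h0 (pt_disj h hB hu hs.inB (by simpa [e] using hs.mem)), fun e => h0
    (pt_disj h hB hu hs.inB (mem_r hs.mem (e ▸ h.memE u hu.mem)))⟩

theorem lf_conj (hu : Pt q S B u) (hg : g ∈ H) (hs : Lf E R B u b s) :
    Lf E R B (g.1 u) (g.1 b) (g.1 s) := by
  obtain ⟨y, hy, e⟩ := hs.ex
  refine ⟨hB g hg b hs.inB, ?_, by rw [g_pol, hs.perp], _, (h.eqR g hg u hu.mem y).2 hy, e.conj g⟩
  rw [← g_add]
  exact (h.eqE g hg u hu.mem _).2 hs.mem

theorem key (hu : Pt q S B u) (hg : HB H B g) (h1 : g.1 u = u) (hs : Lf E R B u b s) :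
    g.1 s = s ∨ g.1 s = s + u := by
  have h2 := lf_conj h hB hu hg.1 hs
  rw [h1, hg.2 b hs.inB] at h2
  have h3 := lf_add h hB hu h2 hs
  rw [vv] at h3
  rcases lf_ker h hB hu h3 with e | e
  · exact Or.inl (veq.1 e)
  · right; rw [veq'.1 e, add_comm]

theorem key' (hu : Pt q S B u) (hg : HB H B g) (h1 : g.1 u = u) (hs : Lf E R B u b s)
    {r : V} (hr : g.1 s = s + r) : r = 0 ∨ r = u := by
  rcases key h hB hu hg h1 hs with e | e <;> rw [hr] at e
  · left; simpa using e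
  · right; simpa using e

theorem lf_ex' (hu : Pt q S B u) (huv : pol q u v = 1) (hb : b ∈ B) :
    ∃ s, Lf E R B u b s ∧ pol q v s = 0 := by
  obtain ⟨s, hs⟩ := lf_ex h hB hu hb
  exact ⟨_, lf_shift h hB hu hs (pol q v s), by rw [pr, psr, pc huv, mul_one, z2add]⟩

theorem exists_bs (hv : Pt q S B v) (hs : Lf E R B v b s) (h0 : b ≠ 0) (hy : y ∈ R v)
    (e : Ei v s y) : ∃ g ∈ H, (y * (g * y * g⁻¹)) ^ 4 ≠ 1 := by
  refine exists_conj_not_two h.o2 (h.le v hv.mem hy) (h.sq v hv.mem y hy) fun e1 => ?_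
  obtain ⟨x, hx⟩ := h.exists_x hv.mem
  rw [e1] at e
  have := lf_ne h hB hv hs h0
  exact (e.eq_of_one hx).elim this.1 this.2

theorem ts_case (h2 : 2 ≤ finrank (ZMod 2) B) (ht : TS q B) (hv : Pt q S B v) : False := by
  have lq : ∀ {u b s}, Pt q S B u → Lf E R B u b s → q s = 0 := fun hu hs =>
    (lf_q h hB hu hs).trans (ht _ hs.inB)
  have lp : ∀ {u b s b' s'}, Pt q S B u → Lf E R B u b s → Lf E R B u b' s' → pol q s s' = 0 :=
    fun hu hs hs' => (lf_pol h hB hu hs hs').trans (ts_pol ht hs.inB hs'.inB)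
  have oth : ∀ {u b s}, Pt q S B u → Lf E R B u b s → ∀ c : V → ZMod 2,
      ∃ s2 b2, b2 ≠ 0 ∧ Lf E R B u b2 (s2 + c s2 • s) := fun {u b s} hu hs c => by
    obtain ⟨b2, m, n0, n1, -⟩ := exists_perp1 (q := q) B b [] (by simp; omega)
    obtain ⟨s2, hs2⟩ := lf_ex h hB hu m
    refine ⟨s2, _, ?_, lf_add h hB hu hs2 (lf_smul h hB hu hs (c s2))⟩
    rcases z2 (c s2) with e | e <;> rw [e]
    · simpa using n0
    · rw [one_smul, Ne, veq]; exact n1
  obtain ⟨b, hb, h0, -⟩ := exists_perp0 (q := q) B [] (by simp; omega)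
  obtain ⟨s, hs⟩ := lf_ex h hB hv hb
  obtain ⟨y, hy, e⟩ := hs.ex
  obtain ⟨g, hg, h4⟩ := exists_bs h hB hv hs h0 hy e
  have hu := pt_conj h hB hv hg
  have hs' := lf_conj h hB hv hg hs
  have det : pol q v (g.1 v) * pol q s (g.1 s) + pol q v (g.1 s) * pol q s (g.1 v) = 1 :=
    z2ne fun hd => h4 (e.pow_four (e.conj g) (h.sing hv.mem) (lq hv hs) hs.perp (h.sing hu.mem)
      (lq hu hs') hs'.perp hd)
  clear h4
  generalize g.1 v = u at hu hs' det
  generalize g.1 s = s' at hs' det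
  generalize g.1 b = b' at hs'
  clear e hy hg
  rcases z2 (pol q v u) with e0 | e0
  · rw [e0, zero_mul, zero_add] at det
    have e1 : pol q v s' = 1 := z2ne fun e => by rw [e, zero_mul] at det; exact zero_ne_one det
    have e2 : pol q s u = 1 := by rwa [e1, one_mul] at det
    obtain ⟨s2, b2, n2, l2⟩ := oth hu hs' (fun x => pol q v x)
    have e3 : pol q v (s2 + pol q v s2 • s') = 0 := by rw [pr, psr, e1, mul_one, z2add]
    generalize s2 + pol q v s2 • s' = t at l2 e3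
    obtain ⟨z, hz, ez⟩ := l2.ex
    have l3 := lf_shift h hB hu l2 (pol q t s + q t)
    rcases key' h hB hv (pt_hb h hB hu hz) (ez.fix (pc e0) (pc e3)) hs
      ((ez.ap1 (pc e2)).trans (add_assoc _ _ _)) with e4 | e4
    · exact (lf_ne h hB hu l3 n2).1 e4
    · rw [e4] at l3
      rw [lp hu l3 hs'] at e1
      exact zero_ne_one e1
  · have l1 := lf_shift h hB hv hs (pol q s u)
    have l1' := lf_shift h hB hu hs' (pol q v s')
    have e1 : pol q u (s + pol q s u • v) = 0 := by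
      rw [pr, psr, pc e0, pol_comm q u s, mul_one, z2add]
    have e2 : pol q v (s' + pol q v s' • u) = 0 := by rw [pr, psr, e0, mul_one, z2add]
    have e3 : pol q (s + pol q s u • v) (s' + pol q v s' • u) = 1 := by
      simp only [pl, pr, psl, psr, e0] at det ⊢
      grind
    generalize s + pol q s u • v = t at l1 e1 e3
    generalize s' + pol q v s' • u = t' at l1' e2 e3
    obtain ⟨y, hy, ey⟩ := l1.ex
    obtain ⟨y', hy', ey'⟩ := l1'.ex
    obtain ⟨s2, b2, n2, l2⟩ := oth hv l1 (fun x => pol q t' x)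
    have e4 : pol q t' (s2 + pol q t' s2 • t) = 0 := by rw [pr, psr, pc e3, mul_one, z2add]
    generalize s2 + pol q t' s2 • t = r at l2 e4
    have l3 := lf_shift h hB hv l2 (pol q u r)
    have e5 : pol q u (r + pol q u r • v) = 0 := by rw [pr, psr, pc e0, mul_one, z2add]
    have e6 : pol q t' (r + pol q u r • v) = 0 := by rw [pr, psr, pc e2, e4]; simp
    generalize r + pol q u r • v = r' at l3 e5 e6
    have hn : y * y' ∈ H := mul_mem (h.le v hv.mem hy) (h.le u hu.mem hy')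
    have n1 : (y * y').1 v = t' := by
      rw [Form.Isom.mul_apply, ey'.ap1 (pc e0), pc e2, lq hu l1', add_zero, zero_smul, add_zero,
        g_add, h.fix v hv.mem y hy, ey.ap01 e2 e3, vv4]
    have n2' : (y * y').1 r' = r' := by
      rw [Form.Isom.mul_apply, ey'.fix e5 e6, ey.fix l3.perp (lp hv l1 l3)]
    have p4 := pt_conj h hB hv hn
    have l4 := lf_conj h hB hv hn l3
    rw [n1] at p4 l4
    rw [n2'] at l4
    obtain ⟨z, hz, ez⟩ := l4.ex
    have := key' h hB hv (pt_hb h hB p4 hz) (ez.fix (pc e2) (pc l3.perp)) l1 (r := r') (by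
      rw [ez.ap1 (pc e3), lp hv l3 l1, lq hv l3]; simp)
    exact this.elim (lf_ne h hB hv l3 n2).1 (lf_ne h hB hv l3 n2).2

variable (hmin : ∀ B', InvS H B' → B' ≤ B → B' = ⊥ ∨ B' = B) (h2 : 2 ≤ finrank (ZMod 2) B)
  (hnd : ∀ b ∈ B, b ≠ 0 → ∃ c ∈ B, pol q c b = 1)
include hmin h2 hnd

theorem propP (hu : Pt q S B u) (hv : Pt q S B v) (huv : pol q u v = 0) (hs : Lf E R B v b s) :
    pol q u s = 0 := by
  refine z2ne' fun h1 => ?_
  have k : ∀ {b a}, Lf E R B u b a → pol q v a = 0 → b = 0 ∨ Lf E R B u b v :=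
    fun {b a} ha h3 => by
      obtain ⟨z, hz, ez⟩ := ha.ex
      have l3 := lf_shift h hB hu ha (pol q a s + q a)
      rcases key' h hB hv (pt_hb h hB hu hz) (ez.fix huv (pc h3)) hs
        ((ez.ap1 h1).trans (add_assoc _ _ _)) with e4 | e4
      · left
        by_contra h0
        exact (lf_ne h hB hu l3 h0).1 e4
      · right; rwa [e4] at l3
  obtain ⟨b0, n0, l0⟩ : ∃ b0, b0 ≠ 0 ∧ Lf E R B u b0 v := by
    obtain ⟨b1, m1, n1, -⟩ := exists_perp0 (q := q) B [] (by simp; omega)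
    obtain ⟨b2, m2, n2, n3, -⟩ := exists_perp1 (q := q) B b1 [] (by simp; omega)
    obtain ⟨a1, l1⟩ := lf_ex h hB hu m1
    obtain ⟨a2, l2⟩ := lf_ex h hB hu m2
    rcases z2 (pol q v a1) with e1 | e1
    · exact ⟨b1, n1, (k l1 e1).resolve_left n1⟩
    rcases z2 (pol q v a2) with e2 | e2
    · exact ⟨b2, n2, (k l2 e2).resolve_left n2⟩
    have n4 : b2 + b1 ≠ 0 := fun e => n3 (veq.1 e)
    exact ⟨_, n4, (k (lf_add h hB hu l2 l1) (by rw [pr, e1, e2, z11])).resolve_left n4⟩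
  have q0 : q b0 = 0 := (lf_q h hB hu l0).symm.trans (h.sing hv.mem)
  have k2 : ∀ c ∈ B, pol q b0 c = 0 → c = 0 ∨ c = b0 := fun c hc h3 => by
    obtain ⟨a, la⟩ := lf_ex h hB hu hc
    refine (k la ((lf_pol h hB hu l0 la).trans h3)).imp_right fun l => ?_
    have := lf_add h hB hu l l0
    rw [vv] at this
    exact veq.1 (pt_disj h hB hu this.inB (by simpa using this.mem))
  obtain ⟨b1, m1, p1, q1⟩ : ∃ b1 ∈ B, pol q b0 b1 = 1 ∧ q b1 = 1 := by
    obtain ⟨c, hc, e⟩ := hnd b0 l0.inB n0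
    rcases z2 (q c) with e1 | e1
    · exact ⟨c + b0, add_mem hc l0.inB, by rw [pr, pc e, pp, add_zero], by
        rw [quad_add, e1, q0, e]; simp⟩
    · exact ⟨c, hc, pc e, e1⟩
  have fx : ∀ g ∈ H, g.1 b1 = b1 := fun g hg => by
    have m := hB g hg b1 m1
    have qg := (g_q g b1).trans q1
    rcases z2 (pol q b0 (g.1 b1)) with e | e
    · rcases k2 _ m e with e1 | e1 <;> rw [e1] at qg
      · simp at qg
      · rw [q0] at qg; exact absurd qg zero_ne_one
    · rcases k2 _ (add_mem m m1) (by rw [pr, e, p1, z11]) with e1 | e1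
      · exact veq.1 e1
      · rw [veq'.1 e1, quad_add, q0, q1, p1, zero_add, z11] at qg
        exact absurd qg zero_ne_one
  rcases hmin (Submodule.span (ZMod 2) {b1}) (inv_span fun g hg x hx => by
      rw [hx, fx g hg]; rfl) ((Submodule.span_singleton_le_iff_mem _ _).2 m1) with e | e
  · have : b1 ∈ Submodule.span (ZMod 2) {b1} := mem_sp.2 (Or.inr rfl)
    rw [e, Submodule.mem_bot] at this
    rw [this] at q1; simp at q1
  · have := fr_sp b1
    rw [e] at this
    omega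

theorem exists_opp (hv : Pt q S B v) : ∃ u, Pt q S B u ∧ pol q u v = 1 := by
  obtain ⟨b, hb, h0, -⟩ := exists_perp0 (q := q) B [] (by simp; omega)
  obtain ⟨s, hs⟩ := lf_ex h hB hv hb
  obtain ⟨y, hy, e⟩ := hs.ex
  obtain ⟨g, hg, h4⟩ := exists_bs h hB hv hs h0 hy e
  have hu := pt_conj h hB hv hg
  have hs' := lf_conj h hB hv hg hs
  refine ⟨_, hu, z2ne fun h1 => h4 ?_⟩
  have e' := e.conj g
  have hy' := (h.eqR g hg v hv.mem y).2 hy
  generalize g * y * g⁻¹ = y' at e' hy'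
  have f1 : y.1 (g.1 v) = g.1 v := e.fix (pc h1) (pc (propP h hB hmin h2 hnd hu hv h1 hs))
  have e2 := e'.conj y
  rw [f1] at e2
  have c : y * y' * y⁻¹ = y' := by
    rcases key h hB hu (pt_hb h hB hv hy) f1 hs' with e3 | e3 <;> rw [e3] at e2
    · exact e2.unique e'
    · exact e2.unique (e'.add_self (h.sing hu.mem) hs'.perp)
  have c2 : Commute y y' := by rw [Commute, SemiconjBy, ← mul_inv_eq_iff_eq_mul, c]
  rw [c2.mul_pow, show 4 = 2 * 2 from rfl, pow_mul, pow_mul, pow_two y, pow_two y',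
    h.sq v hv.mem y hy, h.sq _ hu.mem y' hy']
  simp

theorem sing_perp (hu : Pt q S B u) (hv : Pt q S B v) (huv : pol q u v = 1)
    (hs : Lf E R B v b s) (h1 : pol q u s = 0) (h0 : q s = 0) (hs' : Lf E R B u b' s') :
    pol q s s' = 0 := by
  obtain ⟨y, hy, e⟩ := hs.ex
  have p := pt_conj h hB hu (h.le v hv.mem hy)
  rw [e.ap1 (pc huv), pc h1, h0, add_zero, zero_smul, add_zero] at p
  have := propP h hB hmin h2 hnd p hu (by rw [pl, pp, pc h1, add_zero]) hs'
  rwa [pl, hs'.perp, zero_add] at this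

theorem sing_case (hu : Pt q S B u) (hv : Pt q S B v) (huv : pol q u v = 1) (hb : b ∈ B)
    (h0 : b ≠ 0) (hq : q b = 0) : False := by
  obtain ⟨s, ls, s1⟩ := lf_ex' h hB hv (pc huv) hb
  obtain ⟨a, la, a1⟩ := lf_ex' h hB hu huv hb
  obtain ⟨b1, m1, p1⟩ := hnd b hb h0
  obtain ⟨c, lc, c1⟩ := lf_ex' h hB hv (pc huv) m1
  have qs := (lf_q h hB hv ls).trans hq
  have qa := (lf_q h hB hu la).trans hq
  have sa := sing_perp h hB hmin h2 hnd hu hv huv ls s1 qs la
  have ac := sing_perp h hB hmin h2 hnd hv hu (pc huv) la a1 qa lc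
  have cs := (lf_pol h hB hv lc ls).trans p1
  obtain ⟨y, hy, e⟩ := ls.ex
  have p := pt_conj h hB hu (h.le v hv.mem hy)
  have l := lf_conj h hB hu (h.le v hv.mem hy) la
  have e1 : y.1 u = u + s := by rw [e.ap1 (pc huv), pc s1, qs, add_zero, zero_smul, add_zero]
  rw [e1] at p l
  rw [e.fix a1 sa] at l
  obtain ⟨z, hz, ez⟩ := la.ex
  obtain ⟨z', hz', ez'⟩ := l.ex
  have := key' h hB hv ((pt_hb h hB p hz').mul (pt_hb h hB hu hz)) (by
    rw [Form.Isom.mul_apply, ez.ap1 huv, pc a1, qa, ez']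
    simp only [pl, pr, psr, huv, la.perp, pc ls.perp, sa, pc a1, pp, qa]
    match_scalars <;> grind) lc (r := a) (by
    rw [Form.Isom.mul_apply, ez.fix c1 ac, ez'.ap1 (by rw [pl, c1, pc cs, zero_add]), ac, qa]
    simp)
  rcases this with e2 | e2
  · exact (lf_ne h hB hu la h0).1 e2
  · have := la.perp
    rw [e2, huv] at this
    exact one_ne_zero this

theorem aniso_eq (hu : Pt q S B u) (hv : Pt q S B v) (huv : pol q u v = 1) {a c b1 : V}
    (la : Lf E R B u b a) (a1 : pol q v a = 0) (qa : q a = 1) (ls : Lf E R B v b' s)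
    (s1 : pol q u s = 0) (qs : q s = 1) (as : pol q a s = 0) (lc : Lf E R B v b1 c)
    (c1 : pol q u c = 0) (sc : pol q s c = 1) : a = s := by
  obtain ⟨y, hy, ey⟩ := ls.ex
  obtain ⟨z, hz, ez⟩ := la.ex
  have hy' := h.le v hv.mem hy
  have hz' := h.le u hu.mem hz
  have e1 : z.1 v = v + a + u := by rw [ez.ap1 huv, pc a1, qa]; simp
  have e2 : y.1 u = u + s + v := by rw [ey.ap1 (pc huv), pc s1, qs]; simp
  have ac : pol q a c = 1 := by
    have := propP h hB hmin h2 hnd (pt_conj h hB hu hy') (pt_conj h hB hv hz') (by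
      rw [e1, e2]
      simp only [pl, pr, pp, huv, pc huv, la.perp, pc ls.perp, pc as, s1, pc s1, a1]
      grind) (lf_conj h hB hv hz' lc)
    rw [e2, ez.ap0 c1] at this
    simp only [pl, pr, psr, pp, c1, sc, lc.perp, pc s1, pc huv] at this
    grind
  have p := pt_conj h hB hv (mul_mem hy' hz')
  have l := lf_conj h hB hv (mul_mem hy' hz') ls
  have e3 : (y * z).1 v = u + (a + s) := by
    rw [Form.Isom.mul_apply, e1, g_add, g_add, e2, h.fix v hv.mem y hy, ey.fix a1 (pc as)]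
    linear_combination (norm := (match_scalars <;> grind)) (1 : ZMod 2) • (rfl : v = v)
  have e4 : (y * z).1 s = s := by
    rw [Form.Isom.mul_apply, ez.fix s1 as, ey.fix ls.perp (pp s)]
  rw [e3] at p l
  rw [e4] at l
  obtain ⟨x, hx, ex⟩ := l.ex
  have := key' h hB hv ((pt_hb h hB p hx).mul (pt_hb h hB hu hz)) (by
    rw [Form.Isom.mul_apply, e1, ex]
    simp only [pl, pr, pp, huv, la.perp, pc la.perp, pc ls.perp, pc as, pc s1, pc a1, qs]
    match_scalars <;> grind) lc (r := a + s) (by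
    rw [Form.Isom.mul_apply, ez.ap01 c1 ac, ex]
    simp only [pl, pr, pp, c1, ac, sc, pc s1, pc la.perp, qs]
    match_scalars <;> grind)
  rcases this with e5 | e5
  · exact veq.1 e5
  · rw [← e5, pr, la.perp, s1, add_zero] at huv
    exact absurd huv zero_ne_one

theorem aniso_case (hu : Pt q S B u) (hv : Pt q S B v) (huv : pol q u v = 1)
    (hq : ∀ b ∈ B, b ≠ 0 → q b = 1) : False := by
  obtain ⟨b1, m1, n1, -⟩ := exists_perp0 (q := q) B [] (by simp; omega)
  obtain ⟨b2, m2, n2, n3, -⟩ := exists_perp1 (q := q) B b1 [] (by simp; omega)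
  have n4 : b1 + b2 ≠ 0 := fun e => n3 (veq.1 e).symm
  have q1 := hq b1 m1 n1
  have q2 := hq b2 m2 n2
  have q3 := hq _ (add_mem m1 m2) n4
  have p12 : pol q b1 b2 = 1 := by rw [quad_add, q1, q2, z11, zero_add] at q3; exact q3
  obtain ⟨s1, l1, t1⟩ := lf_ex' h hB hv (pc huv) m1
  obtain ⟨s2, l2, t2⟩ := lf_ex' h hB hv (pc huv) m2
  have l3 := lf_add h hB hv l1 l2
  have r12 := (lf_pol h hB hv l1 l2).trans p12
  have k : ∀ {b a}, Lf E R B u b a → pol q v a = 0 → q a = 1 → ∃ b', Lf E R B v b' a :=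
    fun {b a} la a1 qa => by
      rcases z2 (pol q a s1) with e1 | e1
      · exact ⟨b1, by
          rwa [aniso_eq h hB hmin h2 hnd hu hv huv la a1 qa l1 t1 ((lf_q h hB hv l1).trans q1) e1
            l2 t2 r12]⟩
      rcases z2 (pol q a s2) with e2 | e2
      · exact ⟨b2, by
          rwa [aniso_eq h hB hmin h2 hnd hu hv huv la a1 qa l2 t2 ((lf_q h hB hv l2).trans q2) e2
            l1 t1 (pc r12)]⟩
      · exact ⟨b1 + b2, by
          rwa [aniso_eq h hB hmin h2 hnd hu hv huv la a1 qa l3 (by rw [pr, t1, t2, add_zero])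
            ((lf_q h hB hv l3).trans q3) (by rw [pr, e1, e2, z11]) l1 t1
            (by rw [pl, pp, pc r12, zero_add])]⟩
  obtain ⟨a, la, ta⟩ := lf_ex' h hB hu huv m1
  obtain ⟨b, lb, tb⟩ := lf_ex' h hB hu huv m2
  have lc := lf_add h hB hu la lb
  have qa := (lf_q h hB hu la).trans q1
  have qb := (lf_q h hB hu lb).trans q2
  have qc := (lf_q h hB hu lc).trans q3
  have ab := (lf_pol h hB hu la lb).trans p12
  obtain ⟨_, lb'⟩ := k lb tb qb
  obtain ⟨_, lc'⟩ := k lc (by rw [pr, ta, tb, add_zero]) qc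
  obtain ⟨x, hx, ex⟩ := la.ex
  obtain ⟨y, hy, ey⟩ := lb'.ex
  obtain ⟨z, hz, ez⟩ := lc.ex
  have := key' h hB hv (((pt_hb h hB hu hx).mul (pt_hb h hB hv hy)).mul (pt_hb h hB hu hz)) (by
    rw [Form.Isom.mul_apply, Form.Isom.mul_apply, ez, ey, ex]
    simp only [pl, pr, psr, pp, huv, pc huv, la.perp, pc la.perp, lb.perp, pc lb.perp, ta, pc ta,
      tb, pc tb, ab, pc ab, qa, qb, qc]
    match_scalars <;> grind) lc' (r := a + v) (by
    rw [Form.Isom.mul_apply, Form.Isom.mul_apply, ez, ey, ex]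
    simp only [pl, pr, psr, pp, huv, pc huv, la.perp, pc la.perp, lb.perp, pc lb.perp, ta, pc ta,
      tb, pc tb, ab, pc ab, qa, qb, qc]
    match_scalars <;> grind)
  rcases this with e | e
  · rw [← veq.1 e, la.perp] at huv
    exact zero_ne_one huv
  · exact (lf_ne h hB hu la n1).1 (by simpa using e)

end

end XV2
end H28

namespace H6
namespace XS

open Subgroup H24 H15 H15.XP Module H28.XL
open scoped commutatorElement

variable {V : Type*} [AddCommGroup V] [Module (ZMod 2) V] [Finite V] {q : QuadraticForm (ZMod 2) V}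
  {H : Subgroup (ofQuad q).Isom} {S : Set V} {E : V → Submodule (ZMod 2) V}
  {R : V → Subgroup (ofQuad q).Isom} {w : ℕ}

/-- a minimal invariant subspace of dimension at least two is totally singular or nondegenerate -/
theorem ts_or_nd {B : Submodule (ZMod 2) V} (hB : InvS H B)
    (hmin : ∀ B', InvS H B' → B' ≤ B → B' = ⊥ ∨ B' = B) (h2 : 2 ≤ finrank (ZMod 2) B) :
    TS q B ∨ B ⊓ (ofQuad q).perp B = ⊥ := by
  rcases hmin _ (inv_inf hB hB.perp) inf_le_left with e | e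
  · exact Or.inr e
  left
  have pA : ∀ a ∈ B, ∀ b ∈ B, pol q a b = 0 := fun a ha b hb => by
    rw [← e] at hb
    exact hb.2 a ha
  let K : Submodule (ZMod 2) V := mkSub {a | a ∈ B ∧ q a = 0} ⟨zero_mem _, by simp⟩
    fun x hx y hy => ⟨add_mem hx.1 hy.1, by rw [quad_add, hx.2, hy.2, pA x hx.1 y hy.1]; simp⟩
  obtain ⟨s, hs, h0⟩ : ∃ s ∈ K, s ≠ 0 := by
    obtain ⟨b1, m1, n1, -⟩ := exists_perp0 (q := q) B [] (by simp; omega)
    obtain ⟨b2, m2, n2, n3, -⟩ := exists_perp1 (q := q) B b1 [] (by simp; omega)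
    rcases z2 (q b1) with e1 | e1
    · exact ⟨b1, ⟨m1, e1⟩, n1⟩
    rcases z2 (q b2) with e2 | e2
    · exact ⟨b2, ⟨m2, e2⟩, n2⟩
    exact ⟨b2 + b1, ⟨add_mem m2 m1, by rw [quad_add, e1, e2, pA _ m2 _ m1, z11, add_zero]⟩,
      fun e => n3 (veq.1 e)⟩
  rcases hmin K (fun g hg b hb => ⟨hB g hg b hb.1, by rw [g_q, hb.2]⟩) (fun b hb => hb.1)
    with e | e
  · rw [e] at hs; exact absurd hs h0
  · intro a ha'
    rw [← e] at ha'
    exact ha'.2

theorem VD.not_perp (h : VD H S E R w) {B : Submodule (ZMod 2) V} (hB : InvS H B)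
    (hmin : ∀ B', InvS H B' → B' ≤ B → B' = ⊥ ∨ B' = B) (h2 : 2 ≤ finrank (ZMod 2) B) {v : V}
    (hv : v ∈ S) (h1 : v ∉ B) (hp : ∀ b ∈ B, pol q v b = 0) : False := by
  have pv : H28.XV2.Pt q S B v := ⟨hv, h1, hp⟩
  rcases ts_or_nd hB hmin h2 with ht | hn
  · exact H28.XV2.ts_case h hB h2 ht pv
  have hnd : ∀ b ∈ B, b ≠ 0 → ∃ c ∈ B, pol q c b = 1 := fun b hb h0 => by
    by_contra hc
    push Not at hc
    have : b ∈ B ⊓ (ofQuad q).perp B := ⟨hb, fun x hx => z2ne' (hc x hx)⟩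
    rw [hn] at this
    exact h0 this
  obtain ⟨u, pu, huv⟩ := H28.XV2.exists_opp h hB hmin h2 hnd pv
  exact H28.XV2.aniso_case h hB hmin h2 hnd pu pv huv fun b hb h0 => z2ne fun hq =>
    H28.XV2.sing_case h hB hmin h2 hnd pu pv huv hb h0 hq

end XS
end H6
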