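import Mathlib
import Cfsg.Agent.H6.XV2

/-! Linear algebra: the reducible case -/

set_option autoImplicit false
set_option linter.unusedSectionVars false
set_option linter.unusedVariables false
set_option linter.unusedSimpArgs false

namespace H28
namespace XV3

open Subgroup H24 H15 H15.XP Module H28.XL H6.XS

variable {V : Type*} [AddCommGroup V] [Module (ZMod 2) V] [Finite V] {q : QuadraticForm (ZMod 2) V}
  {H : Subgroup (ofQuad q).Isom} {S : Set V} {E : V → Submodule (ZMod 2) V}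
  {R : V → Subgroup (ofQuad q).Isom} {w : ℕ} {B : Submodule (ZMod 2) V}

/-- `y` is the element of `R v` over `b` -/
structure Ub (E : V → Submodule (ZMod 2) V) (R : V → Subgroup (ofQuad q).Isom)
    (B : Submodule (ZMod 2) V) (v b : V) (y : (ofQuad q).Isom) : Prop where
  inB : b ∈ B
  mem : y ∈ R v
  s : ∀ x, pol q v x = 1 → y.1 x + x + b ∈ E v

/-- the standing hypotheses -/
structure Cx (H : Subgroup (ofQuad q).Isom) (S : Set V) (E : V → Submodule (ZMod 2) V)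
    (R : V → Subgroup (ofQuad q).Isom) (w : ℕ) (B : Submodule (ZMod 2) V) : Prop where
  vd : VD H S E R w
  inv : InvS H B
  min : ∀ B', InvS H B' → B' ≤ B → B' = ⊥ ∨ B' = B
  ts : TS q B
  sub : ∀ v ∈ S, v ∈ B
  nle : ∀ v ∈ S, ¬ B ≤ E v

theorem act_of (h : VD H S E R w) {v x c : V} {y : (ofQuad q).Isom} (hv : v ∈ S) (hy : y ∈ R v)
    (hx : pol q v x = 1) (hc : ∀ z, pol q v z = 0 → pol q c (y.1 z + z) = 0) :
    y.1 c = c + pol q c (y.1 x + x) • v := by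
  have e : ∀ z, pol q (y.1 c + c) z = pol q c (y.1 z + z) := fun z => by
    rw [pl, pr, ← g_pol y c (y.1 z), g_sq (h.sq v hv y hy)]
  by_cases h0 : y.1 c + c = 0
  · rw [← e, h0, p0l, zero_smul, add_zero]; exact veq.1 h0
  by_cases h1 : y.1 c + c = v
  · rw [← e, h1, hx, one_smul, veq'.1 h1, add_comm]
  obtain ⟨z, z1, z2⟩ := sep1 h.nondeg h0 h1
  rw [e, hc z z1] at z2
  exact absurd z2 zero_ne_one

theorem orb0 (hmin : ∀ B', InvS H B' → B' ≤ B → B' = ⊥ ∨ B' = B) {T : Set V}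
    (h1 : ∀ u ∈ T, u ∈ B ∧ u ≠ 0) (h2 : ∀ g ∈ H, ∀ u ∈ T, g.1 u ∈ T) (h3 : T.Nonempty)
    (h4 : ∀ u ∈ T, ∀ u' ∈ T, u' ≠ u → ∃ g ∈ H, g.1 u' = u' + u) : ∀ b ∈ B, b ≠ 0 → b ∈ T := by
  let K : Submodule (ZMod 2) V := mkSub {u | u = 0 ∨ u ∈ T} (Or.inl rfl) fun x hx y hy => by
    rcases hx with rfl | hx
    · rwa [zero_add]
    rcases hy with rfl | hy
    · rw [add_zero]; exact Or.inr hx
    by_cases e : x = y
    · left; rw [e, vv]
    · obtain ⟨g, hg, e1⟩ := h4 y hy x hx e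
      right; rw [← e1]; exact h2 g hg x hx
  rcases hmin K (fun g hg u hu => by
      rcases hu with rfl | hu
      · left; exact g_zero g
      · exact Or.inr (h2 g hg u hu)) (fun u hu => by
      rcases hu with rfl | hu
      · exact zero_mem _
      · exact (h1 u hu).1) with e | e
  · obtain ⟨u, hu⟩ := h3
    have : u ∈ K := Or.inr hu
    rw [e] at this
    exact absurd this (h1 u hu).2
  · intro b hb h0
    rw [← e] at hb
    exact hb.resolve_left h0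

namespace Cx

variable (h : Cx H S E R w B) {u v x b b' c t : V} {g y y' : (ofQuad q).Isom}
include h

theorem vB (hv : v ∈ S) (hb : b ∈ B) : pol q v b = 0 := ts_pol h.ts (h.sub v hv) hb

theorem ub_of (hv : v ∈ S) (hb : b ∈ B) (hy : y ∈ R v) (hx : pol q v x = 1)
    (h1 : y.1 x + x + b ∈ E v) : Ub E R B v b y :=
  ⟨hb, hy, fun x' hx' => by
    have := add_mem h1 (h.vd.perp v hv y hy (x' + x) (by rw [pr, hx, hx', z11]))
    rw [g_add] at this
    convert this using 1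
    linear_combination (norm := (match_scalars <;> grind)) (1 : ZMod 2) • (rfl : x = x)⟩

theorem ub_ex (hv : v ∈ S) (hb : b ∈ B) : ∃ y, Ub E R B v b y := by
  obtain ⟨x, hx⟩ := h.vd.exists_x hv
  obtain ⟨y, hy, h1⟩ := h.vd.surj v hv x b hx (h.vB hv hb)
  exact ⟨y, h.ub_of hv hb hy hx h1⟩

theorem ub_F (hv : v ∈ S) (hy : Ub E R B v b y) {z : V} (hz : pol q v z = 0) :
    y.1 z + z ∈ B ⊓ E v := by
  obtain ⟨x, hx⟩ := h.vd.exists_x hv
  have := h.vd.sub B h.inv v hv y hy.mem x b hy.inB hx (h.vB hv hy.inB) (hy.s x hx) z hz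
  rw [mem_sup_sp] at this
  exact this.elim id fun e => mem_l e ⟨h.sub v hv, h.vd.memE v hv⟩

theorem ub_act (hv : v ∈ S) (hy : Ub E R B v b y) (hx : pol q v x = 1) (hb : b' ∈ B) :
    y.1 b' = b' + pol q b' (y.1 x + x) • v :=
  act_of h.vd hv hy.mem hx fun z hz => ts_pol h.ts hb (h.ub_F hv hy hz).1

theorem ub_one (hv : v ∈ S) (hy : Ub E R B v b y) (hf : ∀ b ∈ B, y.1 b = b) : y = 1 :=
  chain h.vd.o2 h.inv h.inv.perp inv_top (h.vd.le v hv hy.mem) hf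
    (fun z hz => (h.ub_F hv hy (hz v (h.sub v hv))).1)
    (fun z _ a ha => by
      change pol q a _ = 0
      rw [pr, ← g_pol y a z, hf a ha, z2add]) fun _ => trivial

theorem ub_E (hv : v ∈ S) (hy : Ub E R B v b 1) : b ∈ E v := by
  obtain ⟨x, hx⟩ := h.vd.exists_x hv
  simpa [vv] using hy.s x hx

theorem ub_mul (hv : v ∈ S) (hy : Ub E R B v b y) (hy' : Ub E R B v b' y') :
    Ub E R B v (b + b') (y * y') :=
  ⟨add_mem hy.inB hy'.inB, mul_mem hy.mem hy'.mem, fun x hx => by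
    have := add_mem (add_mem (hy.s x hx) (hy'.s x hx))
      (h.vd.perp v hv y hy.mem _ (h.vd.s_perp hv hy'.mem x))
    rw [g_add] at this
    rw [Form.Isom.mul_apply]
    convert this using 1
    linear_combination (norm := (match_scalars <;> grind)) (1 : ZMod 2) • (rfl : x = x)⟩

theorem ub_conj (hv : v ∈ S) (hg : g ∈ H) (hy : Ub E R B v b y) :
    Ub E R B (g.1 v) (g.1 b) (g * y * g⁻¹) :=
  ⟨h.inv g hg b hy.inB, (h.vd.eqR g hg v hv y).2 hy.mem, fun x hx => by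
    have := (h.vd.eqE g hg v hv _).2 (hy.s ((g⁻¹).1 x) (by rw [← g_pol_l, hx]))
    rwa [g_add, g_add, Form.Isom.apply_inv_apply] at this⟩

theorem ub_uniq (hv : v ∈ S) (hy : Ub E R B v b y) (hy' : Ub E R B v b y') : y = y' := by
  obtain ⟨x, hx⟩ := h.vd.exists_x hv
  refine h.vd.eq_of_s hv hy.mem hy'.mem hx ?_
  convert add_mem (hy.s x hx) (hy'.s x hx) using 1
  linear_combination (norm := (match_scalars <;> grind)) (1 : ZMod 2) • (rfl : x = x)

theorem rn (hv : v ∈ S) (ht : ∀ f ∈ B ⊓ E v, pol q f t = 0) :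
    ∃ b y, Ub E R B v b y ∧ ∀ b' ∈ B, y.1 b' = b' + pol q b' t • v := by
  obtain ⟨x, hx⟩ := h.vd.exists_x hv
  let M : Submodule (ZMod 2) V :=
    mkSub {s | ∃ b y, Ub E R B v b y ∧ s + (y.1 x + x) ∈ B ⊓ E v}
      ⟨0, 1, ⟨zero_mem _, one_mem _, fun x _ => by simp [vv]⟩, by simp [vv]⟩ (by
        rintro s ⟨b, y, h1, h2⟩ s' ⟨b', y', h1', h2'⟩
        refine ⟨_, _, h.ub_mul hv h1 h1', ?_⟩
        have := add_mem (add_mem h2 h2') (h.ub_F hv h1 (h.vd.s_perp hv h1'.mem x))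
        rw [g_add] at this
        rw [Form.Isom.mul_apply]
        convert this using 1
        linear_combination (norm := (match_scalars <;> grind)) (1 : ZMod 2) • (rfl : x = x))
  have pl' : ∀ {s b y}, Ub E R B v b y → s + (y.1 x + x) ∈ B ⊓ E v → ∀ b' ∈ B,
      pol q b' (y.1 x + x) = pol q b' s := fun h1 h2 b' hb' => by
    have := ts_pol h.ts hb' h2.1
    rw [pr] at this
    exact (z2eq this).symm
  have m1 : B ⊓ E v ≤ M ⊓ E v := fun s hs =>
    ⟨⟨0, 1, ⟨zero_mem _, one_mem _, fun x _ => by simp [vv]⟩, by simpa [vv] using hs⟩, hs.2⟩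
  have m2 : M ⊓ (ofQuad q).perp B ≤ B ⊓ E v := by
    rintro s ⟨⟨b, y, h1, h2⟩, h3⟩
    rw [h.ub_one hv h1 fun b' hb' => by
      rw [h.ub_act hv h1 hx hb', pl' h1 h2 b' hb', show pol q b' s = 0 from h3 b' hb']; simp] at h2
    simpa [vv] using h2
  have m3 : B ⊔ E v ≤ M ⊔ E v := sup_le (fun b hb => by
    obtain ⟨y, hy⟩ := h.ub_ex hv hb
    have h1 : y.1 x + x ∈ M := ⟨b, y, hy, by rw [vv]; exact zero_mem _⟩
    exact mem_r (Submodule.mem_sup_right (hy.s x hx)) (Submodule.mem_sup_left h1)) le_sup_right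
  have m4 : M ⊔ (ofQuad q).perp B ≤ (ofQuad q).perp (B ⊓ E v) := sup_le (by
    rintro s ⟨b, y, h1, h2⟩ f hf
    change pol q f s = 0
    have := h.vd.perpE hv hf.2 (h1.s x hx)
    rw [pr, ts_pol h.ts hf.1 h1.inB, add_zero, pl' h1 h2 f hf.1] at this
    exact this) ((ofQuad q).perp_anti inf_le_left)
  have f1 := fr_si M (E v)
  have f2 := fr_si B (E v)
  have f3 := fr_si M ((ofQuad q).perp B)
  have f4 := Submodule.finrank_mono m1
  have f5 := Submodule.finrank_mono m2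
  have f6 := Submodule.finrank_mono m3
  have f7 := fr_perp h.vd.nondeg B
  have f8 := fr_perp h.vd.nondeg (B ⊓ E v)
  have e := eq_of_fr m4 (by omega)
  have : t ∈ M ⊔ (ofQuad q).perp B := by rw [e]; exact ht
  obtain ⟨s, ⟨b, y, h1, h2⟩, n, hn, rfl⟩ := Submodule.mem_sup.1 this
  refine ⟨b, y, h1, fun b' hb' => ?_⟩
  rw [h.ub_act hv h1 hx hb', pl' h1 h2 b' hb', pr, show pol q b' n = 0 from hn b' hb', add_zero]

theorem rn1 (hv : v ∈ S) (hb : b' ∈ B) (hn : b' ∉ E v) :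
    ∃ b y, Ub E R B v b y ∧ y.1 b' = b' + v := by
  obtain ⟨t, t1, t2⟩ := sep h.vd.nondeg (B := B ⊓ E v) (u := b') fun e => hn e.2
  obtain ⟨b, y, h1, h2⟩ := h.rn hv t1
  exact ⟨b, y, h1, by rw [h2 b' hb, t2, one_smul]⟩

theorem orb {T : Set V} (h1 : ∀ u ∈ T, u ∈ S) (h2 : ∀ g ∈ H, ∀ u ∈ T, g.1 u ∈ T)
    (h3 : T.Nonempty) : ∀ b ∈ B, b ≠ 0 → b ∈ T :=
  orb0 h.min (fun u hu => ⟨h.sub u (h1 u hu), h.vd.ne0 u (h1 u hu)⟩) h2 h3 fun u hu u' hu' hne => by
    by_cases e : u' ∈ E u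
    · obtain ⟨y, hy, e1⟩ := h.vd.shift (h1 u hu) e (h.vd.ne0 u' (h1 u' hu')) hne
      exact ⟨y, h.vd.le u (h1 u hu) hy, e1⟩
    · obtain ⟨b, y, hy, e1⟩ := h.rn1 (h1 u hu) (h.sub u' (h1 u' hu')) e
      exact ⟨y, h.vd.le u (h1 u hu) hy.mem, e1⟩

theorem memS (hb : b ∈ B) (h0 : b ≠ 0) : b ∈ S :=
  h.orb (fun _ hu => hu) h.vd.inv h.vd.nonempty b hb h0

theorem exists_out (hv : v ∈ S) : ∃ u ∈ S, u ∉ E v ∧ v ∉ E u := by
  obtain ⟨u, hu, hn⟩ := SetLike.not_le_iff_exists.1 (h.nle v hv)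
  have := h.memS hu (by rintro rfl; exact hn (zero_mem _))
  exact ⟨u, this, hn, fun e => hn (h.vd.symm v hv u this e)⟩

theorem cr (hv : v ∈ S) (hy : y ∈ R v) (hf : ∀ b ∈ B, y.1 b = b) : y = 1 := by
  by_contra h1
  let I : Submodule (ZMod 2) V := mkSub {s | ∃ z, s = y.1 z + z} ⟨0, by simp⟩ (by
    rintro _ ⟨z, rfl⟩ _ ⟨z', rfl⟩
    exact ⟨z + z', by rw [g_add, add_add_add_comm]⟩)
  have hI : v ∈ I := by
    by_contra hn
    obtain ⟨c, c1, c2⟩ := sep h.vd.nondeg hn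
    refine h1 (h.vd.inj v hv y hy c c2 ?_)
    have : y.1 c + c = 0 := h.vd.nondeg _ fun z => by
      have := c1 _ ⟨z, rfl⟩
      change pol q _ z = 0
      rw [pl, ← g_pol y (y.1 z) c, g_sq (h.vd.sq v hv y hy), ← pr] at this
      exact pc this
    rw [this]; exact zero_mem _
  obtain ⟨z, hz⟩ := hI
  obtain ⟨u, hu, n1, n2⟩ := h.exists_out hv
  obtain ⟨b, y', h2, h3⟩ := h.rn1 hu (h.sub v hv) n2
  have h4 := h.ub_conj hu (h.vd.le v hv hy) h2
  rw [hf u (h.sub u hu), hf b h2.inB] at h4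
  have h5 : y * y' = y' * y := by rw [← mul_inv_eq_iff_eq_mul, h.ub_uniq hu h4 h2]
  have h6 : u = y.1 (y'.1 z + z) + (y'.1 z + z) := by
    have e1 : y.1 (y'.1 z) = y'.1 (y.1 z) := by
      rw [← Form.Isom.mul_apply, h5, Form.Isom.mul_apply]
    have e2 := congrArg y'.1 hz
    rw [h3, g_add] at e2
    rw [g_add, e1]
    linear_combination (norm := (match_scalars <;> grind)) (1 : ZMod 2) • e2 + (1 : ZMod 2) • hz
  generalize y'.1 z + z = z' at h6
  rcases z2 (pol q v z') with e | e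
  · exact n1 (h6 ▸ h.vd.perp v hv y hy z' e)
  · exact h1 (h.ub_one hv (h.ub_of hv (h.sub u hu) hy e (by rw [← h6, vv]; exact zero_mem _)) hf)

theorem fixF (hv : v ∈ S) (hy : y ∈ R v) (hx : pol q v x = 1) :
    (∀ f ∈ B ⊓ E v, y.1 f = f) ↔ ∀ f ∈ B ⊓ E v, pol q f (y.1 x + x) = 0 := by
  refine forall₂_congr fun f hf => ?_
  rw [h.vd.act_E hv hy hx hf.2]
  rcases z2 (pol q f (y.1 x + x)) with e | e <;> simp [e, h.vd.ne0 v hv]

theorem tv (hv : v ∈ S) (hy : y ∈ R v) (hx : pol q v x = 1) (hf : ∀ f ∈ B ⊓ E v, y.1 f = f)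
    (hb : b ∈ B) : y.1 b = b + pol q b (y.1 x + x) • v := by
  obtain ⟨y', hy'⟩ := h.ub_ex hv hb
  have e1 := act_of h.vd hv hy'.mem hx (c := y.1 x + x) fun z hz =>
    pc ((h.fixF hv hy hx).1 hf _ (h.ub_F hv hy' hz))
  have e2 := h.vd.act_E hv hy hx (hy'.s x hx)
  have e3 : y.1 (y'.1 x) = y'.1 (y.1 x) := by
    rw [← Form.Isom.mul_apply, h.vd.comm hv hy hy'.mem, Form.Isom.mul_apply]
  rw [g_add] at e1
  rw [g_add, g_add, e3, pl, pol_comm q (y'.1 x + x)] at e2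
  linear_combination (norm := (match_scalars <;> grind)) e1 + e2

theorem r1 (hv : v ∈ S) (hy : y ∈ R v) (hf : ∀ f ∈ B ⊓ E v, y.1 f = f) :
    ∃ b, Ub E R B v b y := by
  obtain ⟨x, hx⟩ := h.vd.exists_x hv
  obtain ⟨b, y', h1, h2⟩ := h.rn hv ((h.fixF hv hy hx).1 hf)
  have := h.cr hv (mul_mem hy h1.mem) fun b' hb' => by
    rw [Form.Isom.mul_apply, h2 b' hb', g_add, g_smul, h.vd.fix v hv y hy, h.tv hv hy hx hf hb', vv2]
  rw [← inv_eq_of_mul_eq_one_left this, inv_eq_of_mul_eq_one_left (h.vd.sq v hv _ h1.mem)]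
  exact ⟨b, h1⟩

theorem dimB : finrank (ZMod 2) B = w := by
  obtain ⟨v, hv⟩ := h.vd.nonempty
  obtain ⟨x, hx⟩ := h.vd.exists_x hv
  have m : (ofQuad q).perp (B ⊓ E v) ≤ B ⊔ E v := fun s hs => by
    obtain ⟨y, hy, h1⟩ := h.vd.surj v hv x s hx (hs v ⟨h.sub v hv, h.vd.memE v hv⟩)
    obtain ⟨b, hb⟩ := h.r1 hv hy ((h.fixF hv hy hx).2 fun f hf => by
      have := h.vd.perpE hv hf.2 h1
      rwa [pr, show pol q f s = 0 from hs f hf, add_zero] at this)
    exact mem_r (Submodule.mem_sup_right h1)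
      (mem_l (Submodule.mem_sup_right (hb.s x hx)) (Submodule.mem_sup_left hb.inB))
  have f1 := Submodule.finrank_mono m
  have f2 := fr_si B (E v)
  have f3 := fr_perp h.vd.nondeg (B ⊓ E v)
  have f4 := h.vd.finrank_E_le hv
  have f5 := Form.TotSing.two_mul_finrank_le h.vd.nondeg ((totSing_ofQuad q).2 h.ts)
  have f6 := h.vd.dim
  omega

theorem ps (hx : ∀ a ∈ B, pol q a x = 0) : x ∈ B :=
  perp_self h.vd.nondeg (fun a ha b hb => ts_pol h.ts ha hb) (by rw [h.vd.dim, h.dimB]) hx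

theorem faith (hg : g ∈ H) (hf : ∀ b ∈ B, g.1 b = b) : g = 1 :=
  faith_of h.vd.o2 h.vd.nondeg h.inv (fun a ha b hb => ts_pol h.ts ha hb)
    (by rw [h.vd.dim, h.dimB]) hg hf

theorem frF (hv : v ∈ S) : finrank (ZMod 2) ↥(B ⊓ E v) < w := by
  rw [← h.dimB]
  exact Submodule.finrank_lt_finrank_of_lt (lt_of_le_of_ne inf_le_left fun e =>
    h.nle v hv (inf_eq_left.1 e))

theorem hyp (hv : v ∈ S) (h1 : finrank (ZMod 2) ↥(B ⊓ E v) + 1 = w) : HypV H S E R w B := by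
  refine ⟨h.inv, h.ts, h.dimB, fun b => ⟨fun hb => ⟨h.sub b hb, h.vd.ne0 b hb⟩,
    fun hb => h.memS hb.1 hb.2⟩, fun u hu => ?_, fun g => h.faith, fun u hu y hy hf b hb => ?_⟩
  · refine (h.orb (T := {u | u ∈ S ∧ finrank (ZMod 2) ↥(B ⊓ E u) + 1 = w}) (fun u hu => hu.1)
      (fun g hg u hu => ⟨h.vd.inv g hg u hu.1, ?_⟩) ⟨v, hv, h1⟩ u (h.sub u hu)
      (h.vd.ne0 u hu)).2
    have : B ⊓ E (g.1 u) = (B ⊓ E u).map (g.1 : V →ₗ[ZMod 2] V) := by
      ext x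
      constructor
      · intro hx
        refine ⟨(g⁻¹).1 x, ⟨h.inv _ (inv_mem hg) x hx.1, ?_⟩, by simp⟩
        refine (h.vd.eqE g hg u hu.1 _).1 ?_
        rw [Form.Isom.apply_inv_apply]
        exact hx.2
      · rintro ⟨x, hx, rfl⟩
        exact ⟨h.inv g hg x hx.1, (h.vd.eqE g hg u hu.1 x).2 hx.2⟩
    rw [this, LinearEquiv.finrank_map_eq]
    exact hu.2
  · obtain ⟨x, hx⟩ := h.vd.exists_x hu
    rw [h.tv hu hy hx hf hb]
    rcases z2 (pol q b (y.1 x + x)) with e | e <;> simp [e]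

theorem F_le (hv : v ∈ S) (hu : u ∈ S) (hn : u ∉ E v) {f : V} (hf : f ∈ B ⊓ E v) :
    f ∈ B ⊓ E u ∨ f + v ∈ B ⊓ E u := by
  rw [← mem_sup_sp]
  by_contra hc
  obtain ⟨t, t1, t2⟩ := sep h.vd.nondeg hc
  obtain ⟨b, y, h1, h2⟩ := h.rn hu fun f hf => t1 f (Submodule.mem_sup_left hf)
  have e1 : y.1 v = v := by
    rw [h2 v (h.sub v hv), t1 v (Submodule.mem_sup_right (mem_sp.2 (Or.inr rfl)))]; simp
  have := (h.vd.eqE y (h.vd.le u hu h1.mem) v hv f).2 hf.2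
  rw [e1, h2 f hf.1, t2, one_smul] at this
  exact hn (mem_r this hf.2)

theorem om (hv : v ∈ S) (hu : u ∈ S) (hn : u ∉ E v) (hy : Ub E R B v u y) (hx : pol q v x = 1)
    (t1 : ∀ f ∈ B ⊓ E u, pol q f t = 0) (t2 : pol q v t = 0) (t3 : t ∉ B) :
    t + (y.1 x + x) ∈ B := by
  obtain ⟨b0, z, h1, h2⟩ := h.rn hu t1
  have hz := h.vd.le u hu h1.mem
  have e1 : z.1 v = v := by rw [h2 v (h.sub v hv), t2]; simp
  obtain ⟨b, hb, e2⟩ : ∃ b ∈ B, pol q b t = 1 := by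
    by_contra hc
    push Not at hc
    exact t3 (h.ps fun a ha => z2ne' (hc a ha))
  obtain ⟨yb, hyb⟩ := h.ub_ex hv hb
  have h3 := h.ub_conj hv hz hyb
  rw [e1, h2 b hb, e2, one_smul] at h3
  have h4 := h.ub_uniq hv h3 (h.ub_mul hv hyb hy)
  have k : ∀ b' ∈ B, pol q b' t = 0 → pol q b' (y.1 x + x) = 0 := fun b' hb' e3 => by
    have e4 : z.1 b' = b' := by rw [h2 b' hb', e3]; simp
    have e5 : (z * yb * z⁻¹).1 b' = (yb * y).1 b' := by rw [h4]
    rw [Form.Isom.mul_apply, Form.Isom.mul_apply, Form.Isom.mul_apply,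
      (Form.Isom.inv_apply_eq z).2 e4, h.ub_act hv hy hx hb', h.ub_act hv hyb hx hb', g_add,
      g_add, g_smul, g_smul, e4, e1, h.vd.fix v hv yb hyb.mem, h.ub_act hv hyb hx hb'] at e5
    refine z2ne' fun e6 => h.vd.ne0 v hv ?_
    rw [e6] at e5
    simpa using e5
  have k2 : pol q b (y.1 x + x) = 1 := z2ne fun e3 => hn (h.ub_E hv (by
    rwa [h.ub_one hv hy fun b' hb' => by
      rw [h.ub_act hv hy hx hb']
      rcases z2 (pol q b' t) with e4 | e4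
      · rw [k b' hb' e4]; simp
      · have := k _ (add_mem hb' hb) (by rw [pl, e4, e2, z11])
        rw [pl, e3, add_zero] at this
        rw [this]; simp] at hy))
  refine h.ps fun a ha => ?_
  rw [pr]
  rcases z2 (pol q a t) with e4 | e4
  · rw [k a ha e4, e4, add_zero]
  · have := k _ (add_mem ha hb) (by rw [pl, e4, e2, z11])
    rw [pl, k2] at this
    rw [e4, z2eq this, z11]

variable (h2 : ∀ v ∈ S, finrank (ZMod 2) ↥(B ⊓ E v) + 2 ≤ w)
include h2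

theorem om1 (hv : v ∈ S) (hu : u ∈ B) (hy : Ub E R B v u y) (hx : pol q v x = 1) :
    q (y.1 x + x) = 0 := by
  have e : q (y.1 x + x) = pol q u (y.1 x + x) := by
    have := h.vd.ts v hv _ (hy.s x hx)
    rw [quad_add, h.ts u hu, add_zero, pol_comm] at this
    exact z2eq this
  rw [e]
  by_cases hn : u ∈ E v
  · have := h.vd.perpE hv hn (hy.s x hx)
    rwa [pr, pp, add_zero] at this
  have hu' := h.memS hu (by rintro rfl; exact hn (zero_mem _))
  have f1 := fr_perp h.vd.nondeg (B ⊓ E u)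
  have f2 := h2 u hu'
  have f3 := h.vd.dim
  have f4 := h.dimB
  obtain ⟨t, t1, t3, t2⟩ := exists_perp (q := q) ((ofQuad q).perp (B ⊓ E u)) B [v]
    (by simp only [List.length_singleton]; omega)
  have := ts_pol h.ts hu (h.om hv hu' hn hy hx t1 (t2 v (by simp)) t3)
  rwa [pr, show pol q u t = 0 from t1 u ⟨hu, h.vd.memE u hu'⟩, zero_add] at this

theorem frF2 (hu : u ∈ S) : finrank (ZMod 2) ↥(B ⊓ E u) + 2 = w := by
  obtain ⟨v, hv, -, hn⟩ := h.exists_out hu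
  obtain ⟨x, hx⟩ := h.vd.exists_x hv
  obtain ⟨y, hy⟩ := h.ub_ex hv (h.sub u hu)
  have f1 := fr_perp h.vd.nondeg (B ⊓ E u)
  have f2 := h2 u hu
  have f3 := h.vd.dim
  have f4 := h.dimB
  have f5 := fr_sup_sp B (y.1 x + x)
  by_contra hc
  obtain ⟨t, t1, t3, t2⟩ := exists_perp (q := q) ((ofQuad q).perp (B ⊓ E u))
    (B ⊔ Submodule.span (ZMod 2) {y.1 x + x}) [v] (by simp only [List.length_singleton]; omega)
  rw [mem_sup_sp, not_or] at t3
  exact t3.2 (h.om hv hu hn hy hx t1 (t2 v (by simp)) t3.1)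

theorem F_sp (hv : v ∈ S) {f : V} (hf : f ∈ B ⊓ E v) : f = 0 ∨ f = v := by
  obtain ⟨u, hu, n1, n2⟩ := h.exists_out hv
  have k : ∀ f ∈ B ⊓ E v, f ∈ B ⊓ E u → f = 0 := fun f f1 f2 => by
    by_contra h0
    have uF : u ∈ B ⊓ E u := ⟨h.sub u hu, h.vd.memE u hu⟩
    have a1 : u + f ∈ B ⊓ E u := add_mem uF f2
    have a2 : u + f ∉ E v := fun e => n1 (mem_l e f1.2)
    have a0 : u + f ≠ 0 := fun e => a2 (e ▸ zero_mem _)
    have a3 := h.memS a1.1 a0
    have m1 : ∀ c ∈ B ⊓ E u, c ∈ B ⊓ E v ⊔ Submodule.span (ZMod 2) {u} := fun c hc =>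
      mem_sup_sp.2 (h.F_le hu hv n2 hc)
    have m2 : ∀ c ∈ B ⊓ E (u + f), c ∈ B ⊓ E v ⊔ Submodule.span (ZMod 2) {u} := fun c hc => by
      rw [mem_sup_sp]
      refine (h.F_le a3 hv (fun e => a2 (h.vd.symm v hv _ a3 e)) hc).imp_right fun e => ?_
      rw [← add_assoc] at e
      exact mem_l e f1
    have m3 : B ≤ B ⊓ E v ⊔ Submodule.span (ZMod 2) {u} := fun c hc => by
      by_cases e : c ∈ E u
      · exact m1 c ⟨hc, e⟩
      have c1 := h.memS hc (by rintro rfl; exact e (zero_mem _))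
      rcases h.F_le hu c1 e a1 with e1 | e1
      · exact m2 c ⟨hc, h.vd.symm _ a3 c c1 e1.2⟩
      · obtain ⟨y, hy, e2⟩ := h.vd.shift hu a1.2 a0 (by simpa using h0)
        have hy' := h.vd.le u hu hy
        have e3 := (h.vd.eqE y hy' c c1 _).2 e1.2
        rw [g_add, e2, h.vd.fix u hu y hy, vv2] at e3
        have e4 := m2 _ ⟨h.inv y hy' c hc, h.vd.symm _ a3 _ (h.vd.inv y hy' c c1) e3⟩
        exact mem_r (m1 _ ⟨add_mem (h.inv y hy' c hc) hc, h.vd.perp u hu y hy c (h.vB hu hc)⟩) e4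
    have f1 := Submodule.finrank_mono m3
    have f2 := fr_sup_sp (B ⊓ E v) u
    have f3 := h2 v hv
    have f4 := h.dimB
    omega
  rcases h.F_le hv hu n1 hf with e | e
  · exact Or.inl (k f hf e)
  · exact Or.inr (veq.1 (k _ (add_mem hf ⟨h.sub v hv, h.vd.memE v hv⟩) e))

theorem w3 : w = 3 := by
  obtain ⟨v, hv⟩ := h.vd.nonempty
  have f1 := h.frF2 h2 hv
  have f2 := Submodule.finrank_mono (show B ⊓ E v ≤ Submodule.span (ZMod 2) {v} from
    fun f hf => mem_sp.2 (h.F_sp h2 hv hf))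
  have f3 := fr_sp v
  have := h.vd.three
  omega

theorem ei (hv : v ∈ S) (hy : y ∈ R v) (hx : pol q v x = 1) :
    Ei v (y.1 x + x) y ∧ q (y.1 x + x) = 0 := by
  obtain ⟨b, hb⟩ := h.r1 hv hy fun f hf => by
    rcases h.F_sp h2 hv hf with rfl | rfl
    · exact g_zero y
    · exact h.vd.fix _ hv y hy
  refine ⟨(ei_of_triv h.vd.nondeg (h.vd.sing hv) hx (h.vd.fix v hv y hy) fun z hz => ?_).2,
    h.om1 h2 hv hb.inB hb hx⟩
  rcases h.F_sp h2 hv (h.ub_F hv hb hz) with e | e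
  · exact Or.inl (veq.1 e)
  · right; rw [veq'.1 e, add_comm]

theorem ei_q (hv : v ∈ S) (hy : y ∈ R v) {s : V} (hs : pol q v s = 0) (e : Ei v s y) : q s = 0 := by
  obtain ⟨x, hx⟩ := h.vd.exists_x hv
  have := (h.ei h2 hv hy hx).2
  rwa [e.ap1 hx, add_assoc x, vv3, quad_add, qs, h.vd.sing hv, psr, pc hs, mul_zero, add_zero,
    add_zero] at this

theorem ei_B (hv : v ∈ S) (hy : y ∈ R v) {s : V} (hs : s ∈ B) (e : Ei v s y) : s = 0 ∨ s = v := by
  obtain ⟨x, hx⟩ := h.vd.exists_x hv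
  rw [h.cr hv hy fun b hb => e.fix (h.vB hv hb) (ts_pol h.ts hs hb)] at e
  exact e.eq_of_one hx

theorem ei_ex (hv : v ∈ S) (ht : pol q v t = 0) :
    ∃ s, pol q v s = 0 ∧ s + t ∈ B ∧ ∃ y ∈ R v, Ei v s y := by
  obtain ⟨x, hx⟩ := h.vd.exists_x hv
  obtain ⟨b, y, h3, h4⟩ := h.rn hv (t := t) fun f hf => by
    rcases h.F_sp h2 hv hf with rfl | rfl
    · exact p0l _
    · exact ht
  refine ⟨_, h.vd.s_perp hv h3.mem x, h.ps fun a ha => ?_, y, h3.mem, (h.ei h2 hv h3.mem hx).1⟩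
  have := h4 a ha
  rw [h.ub_act hv h3 hx ha, add_right_inj] at this
  rw [pr, smul_left_injective _ (h.vd.ne0 v hv) this, z2add]

theorem good : ∃ A A', GoodV H S E R w A A' := by
  have d3 : finrank (ZMod 2) B = 3 := h.dimB.trans (h.w3 h2)
  let T : Set V := {a | ∀ u ∈ B, u ≠ 0 → pol q u a = 0 → ∃ y ∈ R u, Ei u a y}
  have iT : ∀ g ∈ H, ∀ a ∈ T, g.1 a ∈ T := fun g hg a ha u hu h0 h1 => by
    have m := h.inv _ (inv_mem hg) u hu
    obtain ⟨y, hy, e⟩ := ha _ m (g_ne _ h0) (by rw [← g_pol_r, h1])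
    have e1 := e.conj g
    have e2 := (h.vd.eqR g hg _ (h.memS m (g_ne _ h0)) y).2 hy
    rw [Form.Isom.apply_inv_apply] at e1 e2
    exact ⟨_, e2, e1⟩
  have two : ∀ a ∈ T, ∀ a' ∈ T, ∀ u ∈ B, u ≠ 0 → pol q u a = 0 → pol q u a' = 0 →
      ∃ y ∈ R u, Ei u (a + a') y := fun a ha a' ha' u hu h0 e1 e2 => by
    obtain ⟨y, hy, e⟩ := ha u hu h0 e1
    obtain ⟨y', hy', e'⟩ := ha' u hu h0 e2
    exact ⟨_, mul_mem hy hy', e.mul (h.ts u hu) e1 e2 e'⟩
  have z0 : (0 : V) ∈ T := fun u _ _ _ => ⟨1, one_mem _, fun x => by simp⟩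
  have uq : ∀ a ∈ T, ∀ a' ∈ T, a + a' ∈ B → a = a' := fun a ha a' ha' hd => by
    obtain ⟨u, hu, u0, u1, u2⟩ := exists_perp1 (q := q) B (a + a') [a] (by simp; omega)
    have e1 := pc (u2 a (by simp))
    have e2 := ts_pol h.ts hu hd
    rw [pr, e1, zero_add] at e2
    obtain ⟨y, hy, e⟩ := two a ha a' ha' u hu u0 e1 e2
    exact veq.1 ((h.ei_B h2 (h.memS hu u0) hy hd e).resolve_right (Ne.symm u1))
  let A : Submodule (ZMod 2) V := mkSub T z0 fun a ha a' ha' => by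
    by_cases e0 : a = a'
    · rw [e0, vv]; exact z0
    by_cases e1 : a' = 0
    · rwa [e1, add_zero]
    have n1 : a' ∉ B := fun e => e1 (uq a' ha' 0 z0 (by simpa using e))
    have n2 : a + a' ∉ B := fun e => e0 (uq a ha a' ha' e)
    obtain ⟨u0, m0, n0, p0⟩ := exists_perp0 (q := q) B [a, a'] (by simp; omega)
    have p1 := pc (p0 a (by simp))
    have p2 := pc (p0 a' (by simp))
    have s0 := h.memS m0 n0
    have qa : q a = 0 := by
      obtain ⟨y, hy, e⟩ := ha u0 m0 n0 p1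
      exact h.ei_q h2 s0 hy p1 e
    have qa' : q a' = 0 := by
      obtain ⟨y, hy, e⟩ := ha' u0 m0 n0 p2
      exact h.ei_q h2 s0 hy p2 e
    have paa : pol q a a' = 0 := by
      obtain ⟨y, hy, e⟩ := two a ha a' ha' u0 m0 n0 p1 p2
      have := h.ei_q h2 s0 hy (by rw [pr, p1, p2, add_zero]) e
      rwa [quad_add, qa, qa', add_zero, zero_add] at this
    have ex : ∀ c, c ∉ B → ∃ b ∈ B, pol q b c = 1 := fun c hc => by
      by_contra hn
      push Not at hn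
      exact hc (h.ps fun b hb => z2ne' (hn b hb))
    obtain ⟨u, hu, e2, e3⟩ : ∃ u ∈ B, pol q u a = 0 ∧ pol q u a' = 1 := by
      obtain ⟨b1, m1, r1⟩ := ex _ n1
      obtain ⟨b2, m2, r2⟩ := ex _ n2
      rw [pr] at r2
      rcases z2 (pol q b1 a) with r3 | r3
      · exact ⟨b1, m1, r3, r1⟩
      · rcases z2 (pol q b2 a) with r4 | r4
        · exact ⟨b2, m2, r4, by rwa [r4, zero_add] at r2⟩
        · exact ⟨b1 + b2, add_mem m1 m2, by rw [pl, r3, r4, z11], by rw [pl]; grind⟩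
    have u0' : u ≠ 0 := by rintro rfl; simp at e3
    obtain ⟨y, hy, e⟩ := ha u hu u0' e2
    have := iT y (h.vd.le u (h.memS hu u0') hy) a' ha'
    rwa [e.ap1 e3, paa, qa, add_zero, zero_smul, add_zero, add_comm] at this
  obtain ⟨v, hv⟩ := h.vd.nonempty
  obtain ⟨t, ht⟩ := h.vd.exists_x hv
  obtain ⟨v1, m1, n1, p1⟩ := exists_perp0 (q := q) B [t] (by simp; omega)
  obtain ⟨v2, m2, n2, n3, p2⟩ := exists_perp1 (q := q) B v1 [t] (by simp; omega)
  have p1 := pc (p1 t (by simp))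
  have p2 := pc (p2 t (by simp))
  have ker : ∀ u ∈ B, pol q u t = 0 → u = 0 ∨ u = v1 ∨ u = v2 ∨ u = v1 + v2 := fun u hu e => by
    rw [← mem_sp2]
    by_contra hc
    have f1 := fr_sup_sp' (B := ⊥) (v := v1) (by simpa using n1)
    have f2 := fr_sup_sp' (B := ⊥ ⊔ Submodule.span (ZMod 2) {v1}) (v := v2)
      (by rw [bot_sup_eq, mem_sp]; tauto)
    rw [f1, bot_sup_eq, ← Submodule.span_insert] at f2
    have f3 := fr_sup_sp' hc
    have le : Submodule.span (ZMod 2) {v1, v2} ⊔ Submodule.span (ZMod 2) {u} ≤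
        B ⊓ (ofQuad q).perp (Submodule.span (ZMod 2) {t}) := by
      refine sup_le (Submodule.span_le.2 ?_) (Submodule.span_le.2 ?_)
      · rintro _ (rfl | rfl)
        · exact ⟨m1, (Form.mem_perp_singleton _).2 (pc p1)⟩
        · exact ⟨m2, (Form.mem_perp_singleton _).2 (pc p2)⟩
      · rintro _ rfl
        exact ⟨hu, (Form.mem_perp_singleton _).2 (pc e)⟩
    have f4 := Submodule.finrank_mono le
    have e1 := eq_of_fr (A := B ⊓ (ofQuad q).perp (Submodule.span (ZMod 2) {t})) inf_le_left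
      (by rw [finrank_bot] at f2; omega)
    have := h.sub v hv
    rw [← e1] at this
    have := (Form.mem_perp_singleton _).1 this.2
    rw [pc ht] at this
    exact one_ne_zero this
  have s1' := h.memS m1 n1
  have s2' := h.memS m2 n2
  obtain ⟨s1, r1, b1, y1, hy1, e1⟩ := h.ei_ex h2 s1' p1
  obtain ⟨s2, r2, b2, y2, hy2, e2⟩ := h.ei_ex h2 s2' p2
  obtain ⟨a, ra1, ra2, ba, ea1, ea2⟩ : ∃ a, pol q v1 a = 0 ∧ pol q v2 a = 0 ∧ a + t ∈ B ∧
      Ei v1 a y1 ∧ Ei v2 a y2 := by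
    have b3 : s1 + s2 ∈ B := by
      have := add_mem b1 b2
      rwa [add_add_add_comm, vv, add_zero] at this
    have q3 := h.ts _ b3
    rw [quad_add, h.ei_q h2 s1' hy1 r1 e1, h.ei_q h2 s2' hy2 r2 e2, add_zero, zero_add] at q3
    have p3 := ts_pol h.ts b3 b1
    rw [pr, pl, pp, pc q3, add_zero, zero_add] at p3
    have e1' := e1.add_self (h.ts v1 m1) r1
    have e2' := e2.add_self (h.ts v2 m2) r2
    have r1' : pol q v1 (s1 + v1) = 0 := by rw [pr, r1, pp, add_zero]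
    have r2' : pol q v2 (s2 + v2) = 0 := by rw [pr, r2, pp, add_zero]
    have b1' : s1 + v1 + t ∈ B := by rw [add_right_comm]; exact add_mem b1 m1
    rcases ker _ b3 p3 with e | e | e | e
    · rw [veq] at e
      subst e
      exact ⟨s1, r1, r2, b1, e1, e2⟩
    · have : s1 + v1 = s2 := by rw [← e, vv1]
      exact ⟨s1 + v1, r1', this ▸ r2, b1', e1', this ▸ e2⟩
    · have : s2 + v2 = s1 := by rw [← e, vv4]
      exact ⟨s1, r1, this ▸ r2', b1, e1, this ▸ e2'⟩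
    · have : s2 + v2 = s1 + v1 := by
        linear_combination (norm := (match_scalars <;> grind)) (1 : ZMod 2) • e
      exact ⟨s1 + v1, r1', this ▸ r2', b1', e1', this ▸ e2'⟩
  have pa : ∀ u ∈ B, pol q u a = pol q u t := fun u hu => by
    have := ts_pol h.ts hu ba
    rw [pr] at this
    exact z2eq this
  have aT : a ∈ T := fun u hu u0 e => by
    rcases ker u hu ((pa u hu).symm.trans e) with rfl | rfl | rfl | rfl
    · exact absurd rfl u0
    · exact ⟨y1, hy1, ea1⟩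
    · exact ⟨y2, hy2, ea2⟩
    · have qa := h.ei_q h2 s1' hy1 ra1 ea1
      have e3 := ((ea1.swap (h.ts v1 m1) qa).mul qa (pc ra1) (pc ra2)
        (ea2.swap (h.ts v2 m2) qa)).swap qa (h.ts _ hu)
      have s3' := h.memS hu u0
      obtain ⟨s3, r3, b3, y3, hy3, e4⟩ := h.ei_ex h2 s3' ((pa _ hu).symm.trans e)
      have : y3⁻¹ * (y1 * y2) = 1 := h.faith (mul_mem (inv_mem (h.vd.le _ s3' hy3))
        (mul_mem (h.vd.le _ s1' hy1) (h.vd.le _ s2' hy2))) fun b hb => by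
          have e5 := ts_pol h.ts hb b3
          rw [pr, ← pa b hb] at e5
          rw [Form.Isom.mul_apply, Form.Isom.inv_apply_eq, e3.ap0 (ts_pol h.ts hu hb),
            e4.ap0 (ts_pol h.ts hu hb), pc (z2eq e5), pol_comm q b a]
      rw [← inv_mul_eq_one.1 this] at e3
      exact ⟨y3, hy3, e3⟩
  obtain ⟨A', -, hA⟩ := h.vd.good_of hv (B := A) iT
    (fun e => h.vd.ne0 v hv (uq v e 0 z0 (by simpa using h.sub v hv)))
    ⟨a, aT, by rw [pa v (h.sub v hv), ht]; exact one_ne_zero⟩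
  exact ⟨A, A', hA⟩

end Cx

theorem exists_min {B0 : Submodule (ZMod 2) V} (h0 : InvS H B0) (h1 : B0 ≠ ⊥) :
    ∃ B, InvS H B ∧ B ≤ B0 ∧ B ≠ ⊥ ∧ ∀ B', InvS H B' → B' ≤ B → B' = ⊥ ∨ B' = B := by
  induction hn : finrank (ZMod 2) B0 using Nat.strong_induction_on generalizing B0 with
  | _ n ih =>
    by_cases hc : ∀ B', InvS H B' → B' ≤ B0 → B' = ⊥ ∨ B' = B0
    · exact ⟨B0, h0, le_rfl, h1, hc⟩
    push Not at hc
    obtain ⟨B1, i1, l1, n1, n2⟩ := hc
    obtain ⟨B, j1, j2, j3, j4⟩ := ih _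
      (hn ▸ Submodule.finrank_lt_finrank_of_lt (lt_of_le_of_ne l1 n2)) i1 n1 rfl
    exact ⟨B, j1, j2.trans l1, j3, j4⟩

theorem dim_one (h : VD H S E R w)
    (hT : ∀ n, n ≠ 0 → (∀ g ∈ H, g.1 n = n) → ∀ x, q x = 0 → pol q n x = 1 → x ∈ S)
    (hB : InvS H B) (h0 : B ≠ ⊥) (h1 : finrank (ZMod 2) B < 2) :
    ∃ A A', GoodV H S E R w A A' := by
  obtain ⟨n, hn, n0⟩ := (Submodule.ne_bot_iff B).1 h0
  have all : ∀ b ∈ B, b = 0 ∨ b = n := fun b hb => by
    have f1 := fr_sup_sp' (B := ⊥) (v := n) (by simpa using n0)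
    rw [bot_sup_eq, finrank_bot] at f1
    rw [← mem_sp, eq_of_fr ((Submodule.span_singleton_le_iff_mem _ _).2 hn) (by omega)]
    exact hb
  obtain ⟨x, x1, x2⟩ : ∃ x, q x = 0 ∧ pol q n x = 1 := by
    obtain ⟨x0, e⟩ := sep0 h.nondeg n0
    rcases z2 (q x0) with e1 | e1
    · exact ⟨x0, e1, e⟩
    obtain ⟨K, k1, k2⟩ := exists_sub_perp (q := q) ⊤ [n, x0]
    have : ¬ TS q K := fun ht => by
      have := Form.TotSing.two_mul_finrank_le h.nondeg ((totSing_ofQuad q).2 ht)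
      have := h.three
      have := h.dim
      simp at k2
      omega
    simp only [TS, not_forall] at this
    obtain ⟨z, hz, e2⟩ := this
    have hz := ((k1 z).1 hz).2
    exact ⟨x0 + z, by rw [quad_add, e1, z2ne e2, hz x0 (by simp), z11, add_zero], by
      rw [pr, e, hz n (by simp), add_zero]⟩
  have hx := hT n n0 (fun g hg => (all _ (hB g hg n hn)).resolve_left (g_ne g n0)) x x1 x2
  obtain ⟨A', -, hA⟩ := h.good_of hx hB (fun e => by
    rcases all x e with e1 | e1 <;> rw [e1] at x2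
    · simp at x2
    · rw [pp] at x2; exact zero_ne_one x2) ⟨n, hn, by rw [pc x2]; exact one_ne_zero⟩
  exact ⟨B, A', hA⟩

end XV3
end H28

namespace H6
namespace XS

open Subgroup H24 H15 H15.XP Module H28.XL
open scoped commutatorElement

variable {V : Type*} [AddCommGroup V] [Module (ZMod 2) V] [Finite V] {q : QuadraticForm (ZMod 2) V}
  {H : Subgroup (ofQuad q).Isom} {S : Set V} {E : V → Submodule (ZMod 2) V}
  {R : V → Subgroup (ofQuad q).Isom} {w : ℕ}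

theorem VD.inside (h : VD H S E R w) {B : Submodule (ZMod 2) V} (hB : InvS H B)
    (hmin : ∀ B', InvS H B' → B' ≤ B → B' = ⊥ ∨ B' = B) (ht : TS q B) (hS : ∀ v ∈ S, v ∈ B) :
    (∃ A A', GoodV H S E R w A A') ∨ ((∀ b ∈ B, b ≠ 0 → b ∈ S) ∧ ∀ v ∈ S, B ≤ E v) ∨
      HypV H S E R w B := by
  by_cases h1 : ∃ v ∈ S, B ≤ E v
  · have := H28.XV3.orb0 hmin (T := {u | u ∈ S ∧ B ≤ E u})
      (fun u hu => ⟨hS u hu.1, h.ne0 u hu.1⟩)
      (fun g hg u hu => ⟨h.inv g hg u hu.1, fun b hb => by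
        have := (h.eqE g hg u hu.1 _).2 (hu.2 (hB _ (inv_mem hg) b hb))
        rwa [Form.Isom.apply_inv_apply] at this⟩) h1
      fun u hu u' hu' hne => by
        obtain ⟨y, hy, e⟩ := h.shift hu.1 (hu.2 (hS u' hu'.1)) (h.ne0 u' hu'.1) hne
        exact ⟨y, h.le u hu.1 hy, e⟩
    exact Or.inr (Or.inl ⟨fun b hb h0 => (this b hb h0).1,
      fun v hv => (this v (hS v hv) (h.ne0 v hv)).2⟩)
  push Not at h1
  have hc : H28.XV3.Cx H S E R w B := ⟨h, hB, hmin, ht, hS, h1⟩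
  by_cases h2 : ∃ v ∈ S, finrank (ZMod 2) ↥(B ⊓ E v) + 1 = w
  · obtain ⟨v, hv, e⟩ := h2
    exact Or.inr (Or.inr (hc.hyp hv e))
  push Not at h2
  exact Or.inl (hc.good fun v hv => by
    have := h2 v hv
    have := hc.frF hv
    omega)

theorem VD.red (h : VD H S E R w)
    (hT : ∀ n, n ≠ 0 → (∀ g ∈ H, g.1 n = n) → ∀ x, q x = 0 → pol q n x = 1 → x ∈ S)
    (hr : ¬ IrrV H) : (∃ A A', GoodV H S E R w A A') ∨
      (∃ B, InvS H B ∧ TS q B ∧ (∀ b, b ∈ S ↔ b ∈ B ∧ b ≠ 0) ∧ ∀ v ∈ S, B ≤ E v) ∨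
      ∃ B, HypV H S E R w B := by
  simp only [IrrV, not_forall, not_or] at hr
  obtain ⟨B0, i0, n0, n1⟩ := hr
  obtain ⟨B, hB, l, n2, hmin⟩ := H28.XV3.exists_min i0 n0
  by_cases h2 : finrank (ZMod 2) B < 2
  · exact Or.inl (H28.XV3.dim_one h hT hB n2 h2)
  push Not at h2
  by_cases hS : ∀ v ∈ S, v ∈ B
  · rcases ts_or_nd hB hmin h2 with ht | hn
    · rcases h.inside hB hmin ht hS with e | e | e
      · exact Or.inl e
      · exact Or.inr (Or.inl ⟨B, hB, ht, fun b => ⟨fun hb => ⟨hS b hb, h.ne0 b hb⟩,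
          fun hb => e.1 b hb.1 hb.2⟩, e.2⟩)
      · exact Or.inr (Or.inr ⟨B, e⟩)
    · obtain ⟨B', hB', l', n3, hmin'⟩ := H28.XV3.exists_min hB.perp fun e => n1 (by
        rw [eq_top_iff, ← (ofQuad q).perp_bot, ← e, h.nondeg.perp_perp]
        exact l)
      by_cases h3 : finrank (ZMod 2) B' < 2
      · exact Or.inl (H28.XV3.dim_one h hT hB' n3 h3)
      obtain ⟨v, hv⟩ := h.nonempty
      refine (h.not_perp hB' hmin' (by omega) hv (fun e => h.ne0 v hv ?_)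
        fun b hb => l' hb v (hS v hv)).elim
      have : v ∈ B ⊓ (ofQuad q).perp B := ⟨hS v hv, l' e⟩
      rwa [hn] at this
  · push Not at hS
    obtain ⟨v, hv, n3⟩ := hS
    by_cases hp : ∀ b ∈ B, pol q v b = 0
    · exact (h.not_perp hB hmin h2 hv n3 hp).elim
    push Not at hp
    obtain ⟨A', -, hA⟩ := h.good_of hv hB n3 hp
    exact Or.inl ⟨B, A', hA⟩

end XS
end H6
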