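import Mathlib
import Cfsg.Agent.H6.XV3
import Cfsg.Agent.H6.XV0
import Cfsg.Agent.H6.XR2

/-! The reducible case: reduction to the good case -/

set_option autoImplicit false
set_option linter.unusedSectionVars false

namespace H6
namespace XS

open Subgroup H24 H15 H15.XP Module H28.XL
open scoped commutatorElement

variable {G : Type*} [Group G] [Finite G] {D : Set G} {Q : G → Subgroup G} {w : ℕ} {z : G}
variable {V : Type*} [AddCommGroup V] [Module (ZMod 2) V] [Finite V]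
variable {F : Fr z (Q z) V} {E : V → Submodule (ZMod 2) V} {R : V → Subgroup (ofQuad F.q).Isom}

theorem Sit.idx_two (h : Sit D Q w) (hz : z ∈ D) {t : G} (ht : t ∈ Q z) (h1 : t ≠ 1) (h2 : t ≠ z) :
    C{t}.relIndex (Q z) = 2 := by
  obtain ⟨y, hy, e⟩ := h.exists_swap hz ht h1 h2
  have k : ∀ x ∈ Q z, x ∉ C{t} ↔ x * t * x⁻¹ = z * t := fun x hx =>
    ⟨(h.lx z hz).conj_eq hx ht, fun e e' => h.ne_one hz (by
      rw [mem_C1_iff_conj.1 e'] at e; simpa using e.symm)⟩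
  refine relIndex_eq_two_iff.2 ⟨y, hy, fun x hx => ?_⟩
  by_cases e' : x ∈ C{t}
  · exact Or.inr ⟨e', fun k' => (k y hy).2 e ((mul_mem_cancel_left e').1 k')⟩
  · exact Or.inl ⟨(h.sy hz).mul_cent hx ((k x hx).1 e') e, e'⟩

theorem Sit.cent_cent (h : Sit D Q w) (hz : z ∈ D) {t d : G} (ht : t ∈ Q z) (h2 : t * t = 1)
    (hd : d ∈ Q z) (hc : d ∈ C[Q z ⊓ C{t}]) : d = 1 ∨ d = z ∨ d = t ∨ d = z * t := by
  have := h.dual_dual hz (A := zpowers z ⊔ zpowers t) (sup_le (h.lx z hz).zle (zpowers_le.2 ht))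
    (mem_sup_left (mem_zpowers z))
  rw [C_sup, C_zpowers, C_zpowers, ← inf_assoc, inf_eq_left.2 (h.le hz)] at this
  obtain ⟨a, ha, b, hb, rfl⟩ := H23.mem_sup_of_le_normalizer_left ((zpowers_le.2 (h.le hz ht)).trans
    ((C_zpowers z).ge.trans (C_le_N _))) (this.le ⟨hd, hc⟩)
  rcases (h.mem_zp hz).1 ha with rfl | rfl <;> rcases (H25.Sym.mem_zp h2).1 hb with rfl | rfl <;> simp

theorem Sit.fixed_vec [IsSimpleGroup G] (h : Sit D Q w) (hz : z ∈ D) (F : Fr z (Q z) V) {n x : V}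
    (hn : ∀ g ∈ F.ρ.range, g.1 n = n) (hx : F.q x = 0) (h1 : pol F.q n x = 1) :
    x ∈ F.VV D := by
  obtain ⟨t, ht, rfl⟩ := F.π_surj x
  obtain ⟨m, hm, rfl⟩ := F.π_surj n
  have tt := (F.q_π t ht).1 hx
  have nz : ∀ a ∈ Q z, ∀ b, pol F.q (F.π a) b = 1 → a ≠ 1 ∧ a ≠ z := fun a ha b e =>
    not_or.1 fun k => by rw [(F.π_eq_zero a ha).2 k] at e; simp at e
  obtain ⟨t1, t2⟩ := nz t ht _ (pc h1)
  have k : ∀ g ∈ C{z}, g * m * g⁻¹ = m ∨ g * m * g⁻¹ = z * m := fun g hg =>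
    F.π_eq₀ (conj_mem (h.norm hz hg) hm) hm ((F.ρ_π ⟨g, hg⟩ m hm).symm.trans (hn _ ⟨_, rfl⟩))
  have e := (F.pol_one' h hz hm ht).1 h1
  have tm : t ∉ C{m} := fun k => h.ne_one hz (by
    rw [mem_C1_iff_conj.1 k] at e; simpa using e.symm)
  have hi : (C{z} ⊓ C{m}).relIndex C{z} = 2 := by
    rw [inf_relIndex_left]
    refine relIndex_eq_two_iff.2 ⟨t, h.le hz ht, fun x hx => ?_⟩
    by_cases e' : x ∈ C{m}
    · exact Or.inr ⟨e', fun k' => tm ((mul_mem_cancel_left e').1 k')⟩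
    · refine Or.inl ⟨mem_C1_iff_conj.2 ?_, e'⟩
      rw [show x * t * m * (x * t)⁻¹ = x * (t * m * t⁻¹) * x⁻¹ by group, e,
        show x * (z * m) * x⁻¹ = x * z * x⁻¹ * (x * m * x⁻¹) by group, mem_C1_iff_conj.1 hx,
        (k x hx).resolve_left fun k' => e' (mem_C1_iff_conj.2 k'), ← mul_assoc, h.sq hz, one_mul]
  obtain ⟨g, h2, h3⟩ := transfer_fix (h.index_ne_two hz) (h.odd_index hz) inf_le_left hi
    (h.le hz ht) (fun k => tm k.2) (by rw [show t ^ 4 = t * t * (t * t) by simp [pow_succ, mul_assoc], tt, one_mul])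
    (fun g _ => by simp [tt]) ((h.two hz).to_le (inf_le_left : Q z ⊓ C{t} ≤ _)) inf_le_right
  have hd := h.conj z hz g⁻¹
  have dc : g⁻¹ * z * g⁻¹⁻¹ ∈ C[Q z ⊓ C{t}] := by
    rw [mem_C_iff_le_C1, ← cj_C1, ← cj_le_iff]; exact h3
  have dz := C_le_C1 (mem_inf.2 ⟨h.mem hz, mem_C1_comm.1 (h.le hz ht)⟩) dc
  have dq := h.mem_of_index hz (h.sq hd) dz (by
    rw [← h.idx_two hz ht t1 t2, ← inf_relIndex_left (Q z) C{t}]
    exact relIndex_le_of_le_left (mem_C_iff_le_C1.1 dc) (relIndex_ne_zero' _ _))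
  refine ⟨t, ?_, ht, t2, rfl⟩
  rcases h.cent_cent hz ht tt dq dc with e' | e' | e' | e'
  · exact absurd e' (h.ne_one hd)
  · have gz : g ∈ C{z} := inv_mem_iff.1 (mem_C1_iff_conj.2 e')
    have hn : ((C{z} ⊓ C{m}).subgroupOf C{z}).Normal := normal_of_index_eq_two hi
    have := hn.conj_mem' ⟨_, h2.1⟩ h2 ⟨g, gz⟩
    exact absurd (by simpa [mem_subgroupOf, mul_assoc] using this.2) tm
  · exact e' ▸ hd
  · exact (h.mul_mem_D hz ht t1 t2).1 (e' ▸ hd)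

/-- the members of the family meet in `B_d ⊓ Q v` -/
theorem Sit.fam_inf (h : Sit D Q w) (hz : z ∈ D) {B : Subgroup G} (h1 : B ≤ Q z) (h2 : z ∈ B)
    (hN : C{z} ≤ N[B]) {d v : G} (hd : d ∈ D) (hv : v ∈ D) (hm : v ∈ fam z B d) :
    d ∈ fam z B v ∧ fam z B d ⊓ fam z B v = fam z B d ⊓ Q v := by
  have k : ∀ d ∈ D, fam z B d ≤ Q d ∧ d ∈ fam z B d := fun d hd => by
    obtain ⟨g, rfl⟩ := h.trans z hz d hd
    rw [fam_eq hN, h.eqv z hz]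
    exact ⟨cj_mono g h1, conj_mem_cj g h2⟩
  by_cases hne : v = d
  · subst hne
    exact ⟨hm, by rw [inf_idem, inf_eq_left.2 (k v hv).1]⟩
  obtain ⟨g, hg, e1, e2⟩ := h.swap hd hv ((k d hd).1 hm) hne
  have e3 : fam z B v = cj g (fam z B d) := by rw [← e1, fam_cj hN (h.trans z hz d hd)]
  refine ⟨by rw [e3]; exact mem_cj'.2 ⟨v, hm, e2.symm⟩,
    le_antisymm (inf_le_inf_left _ (k v hv).1) (le_inf inf_le_left ?_)⟩
  rw [e3, ← cj_of_mem_N (h.norm_between hd hv (A := fam z B d ⊓ Q v) (inf_le_inf_right _ (k d hd).1)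
    ⟨(k d hd).2, h.symm hd hv ((k d hd).1 hm)⟩ ⟨hm, h.mem hv⟩ hg)]
  exact cj_mono g inf_le_left

theorem Sit.not_hyp (h : Sit D Q w) (hw : 3 ≤ w) (hz : z ∈ D) (hl : Lift D Q F E R)
    {B : Submodule (ZMod 2) V} (hB : HypV F.ρ.range (F.VV D) E R w B) : False := by
  have hN := (F.invS_iff h hz).1 hB.inv
  have h1 : F.sub B ≤ Q z := fun _ k => k.1
  have h2 : z ∈ F.sub B := F.z_mem_sub h hz
  have mD : ∀ x ∈ F.sub B, x ≠ 1 → x ∈ D := fun x hx x1 => by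
    by_cases e : x = z
    · exact e ▸ hz
    · exact ((F.mem_VV h hz hx.1).1 ((hB.mem _).2 ⟨hx.2, fun k =>
        ((F.π_eq_zero x hx.1).1 k).elim x1 e⟩)).1
  have sb : ∀ v ∈ F.sub B, v ≠ 1 → v ≠ z → F.sub (B ⊓ E (F.π v)) = F.sub B ⊓ Q v :=
    fun v hv v1 v2 => by
      ext x
      rw [hl.eqE v (mD v hv v1) hv.1 v2, mem_inf, F.mem_sub, F.mem_sub, Submodule.mem_inf]
      exact ⟨fun k => ⟨⟨k.1, k.2.1⟩, (F.π_mem_im h hz (h.symm hz (mD v hv v1) hv.1) k.1).1 k.2.2⟩,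
        fun k => ⟨k.1.1, k.1.2, x, k.2, k.1.1, rfl⟩⟩
  have P : ∀ d ∈ D, fam z (F.sub B) d ≤ Q d ∧ EA (fam z (F.sub B) d) ∧
      Nat.card (fam z (F.sub B) d) = 2 ^ (w + 1) ∧ ∀ v ∈ fam z (F.sub B) d, v ≠ 1 →
        v ∈ D ∧ (v ≠ d → Nat.card ↥(fam z (F.sub B) d ⊓ Q v) = 2 ^ w) := fun d hd => by
    obtain ⟨g, rfl⟩ := h.trans z hz d hd
    rw [fam_eq hN, h.eqv z hz, card_cj, F.card_sub h hz, hB.dim]
    refine ⟨cj_mono g h1, ((F.ea_sub h hz).2 hB.ts).cj g, rfl, fun v hv v1 => ?_⟩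
    obtain ⟨u, hu, rfl⟩ := mem_cj'.1 hv
    have u1 : u ≠ 1 := fun e => v1 (by simp [e])
    refine ⟨h.conj u (mD u hu u1) g, fun k => ?_⟩
    have u2 : u ≠ z := fun e => k (by rw [e])
    rw [h.eqv u (mD u hu u1), ← cj_inf, card_cj, ← sb u hu u1 u2, F.card_sub h hz,
      hB.codim _ ⟨u, mD u hu u1, hu.1, u2, rfl⟩]
  have fi := @Sit.fam_inf G _ _ D Q w z h hz _ h1 h2 hN
  have f0 := fam_self hN
  generalize fam z (F.sub B) = b at P fi f0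
  have c8 : 8 ≤ 2 ^ w := Nat.pow_le_pow_right two_pos hw
  have out : ∀ A X : Subgroup G, Nat.card X < Nat.card A → ∃ a ∈ A, a ∉ X := fun A X k =>
    SetLike.not_le_iff_exists.1 fun e => absurd (card_le e) (not_le.2 k)
  obtain ⟨v, hv, hv'⟩ := out (b z) (zpowers z) (by
    rw [Nat.card_zpowers, h.ord hz, (P z hz).2.2.1, pow_succ]; omega)
  obtain ⟨v1, v2⟩ := not_or.1 (mt (h.mem_zp hz).2 hv')
  obtain ⟨vD, cv⟩ := (P z hz).2.2.2 v hv v1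
  obtain ⟨y, hy, hy'⟩ := out (b v) (b z ⊓ b v) (by
    rw [(fi hz vD hv).2, cv v2, (P v vD).2.2.1, pow_succ]; omega)
  have y0 : y ∉ b z := fun k => hy' ⟨k, hy⟩
  have y1 : y ≠ 1 := fun e => y0 (e ▸ one_mem _)
  obtain ⟨yD, cy⟩ := (P v vD).2.2.2 y hy y1
  have yq : y ∉ Q z := fun k => y0 (((fi vD hz (fi hz vD hv).1).2.ge ⟨hy, k⟩).2)
  have yz : y ∈ C{z} := mem_C1.2 ((P v vD).2.1.comm hy (fi hz vD hv).1)
  obtain ⟨x, hx, hx'⟩ : ∃ x ∈ B, (F.ρ ⟨y, yz⟩).1 x ≠ x := by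
    by_contra! k
    exact yq ((F.ker _).1 (hB.faith _ ⟨_, rfl⟩ k))
  have ctr : ∀ u ∈ b z, u ≠ 1 → u ≠ z → y ∈ b u → (F.ρ ⟨y, yz⟩).1 x = x + F.π u :=
    fun u hu u1 u2 k => by
      have uD := ((P z hz).2.2.2 u hu u1).1
      have hu' : u ∈ F.sub B := f0 ▸ hu
      refine (hB.tv _ ⟨u, uD, hu'.1, u2, rfl⟩ _ (by
        rw [hl.eqR u uD hu'.1 u2]; exact ⟨_, (P u uD).1 k, rfl⟩) (fun f hf => ?_) x hx).resolve_left hx'
      obtain ⟨a, ha, rfl⟩ := F.π_surj f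
      have : a ∈ b z ⊓ b u := by
        rw [(fi hz uD hu).2, f0, ← sb u hu' u1 u2]; exact ⟨ha, hf⟩
      rw [F.ρ_π _ a ha]
      exact congrArg F.π (mul_inv_eq_iff_eq_mul.2 ((P u uD).2.1.comm k this.2))
  have sub : b z ⊓ b v ⊓ (b v ⊓ b y) ≤ zpowers v := fun u hu => by
    by_cases u1 : u = 1
    · exact u1 ▸ one_mem _
    have zy : z ∉ b y := fun k => yq (h.symm yD hz ((P y yD).1 k))
    have uD := ((P z hz).2.2.2 u hu.1.1 u1).1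
    have := (ctr u hu.1.1 u1 (fun e => zy (e ▸ hu.2.2)) (fi yD uD hu.2.2).1).symm.trans
      (ctr v hv v1 v2 hy)
    rcases F.π_eq₀ ((P z hz).1 hu.1.1) ((P z hz).1 hv) (add_left_cancel this) with e | e
    · exact e ▸ mem_zpowers _
    · exact absurd (by simpa [e] using mul_mem (mem_inf.1 hu.2).2 (inv_mem (fi vD yD hy).1)) zy
  have c1 := card_sup (A := b z ⊓ b v) (B := b v ⊓ b y) (inf_le_left.trans
    ((P v vD).2.1.le_C.trans ((C_anti inf_le_right).trans (C_le_N _))))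
  have c2 := card_le (sup_le inf_le_right inf_le_left : b z ⊓ b v ⊔ b v ⊓ b y ≤ b v)
  have c3 := card_le sub
  have c4 := Nat.mul_le_mul c2 c3
  rw [c1, (fi hz vD hv).2, cv v2, (fi vD yD hy).2, cy fun e => y0 (e ▸ hv), (P v vD).2.2.1,
    Nat.card_zpowers, h.ord vD, pow_succ] at c4
  nlinarith

theorem Sit.cent_le_of_le (h : Sit D Q w) (hz : z ∈ D) {U : Subgroup G} (h1 : U ≤ Q z) (h2 : z ∈ U)
    (hN : C{z} ≤ N[U]) {u : G} (hu : u ∈ U) (hD : u ∈ D) (h3 : U ≤ Q u) :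
    fam z U u = U ∧ C{u} ≤ N[U] := by
  by_cases e : u = z
  · subst e; exact ⟨fam_self hN, hN⟩
  obtain ⟨g, hg, e1, -⟩ := h.swap hz hD (h1 hu) e
  have := cj_of_mem_N (h.norm_between hz hD (le_inf h1 h3) h2 hu hg)
  rw [← e1, fam_eq hN, ← cj_C1, ← this]
  exact ⟨by rw [this, this], norm_cj hN g⟩

theorem Sit.not_all [IsSimpleGroup G] (h : Sit D Q w) (hw : 3 ≤ w) (hz : z ∈ D)
    (hv : ∃ d ∈ D, d ∈ Q z ∧ d ≠ z) (hl : Lift D Q F E R) {B : Submodule (ZMod 2) V}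
    (h1 : InvS F.ρ.range B) (h2 : TS F.q B) (h3 : ∀ b, b ∈ F.VV D ↔ b ∈ B ∧ b ≠ 0)
    (h4 : ∀ v ∈ F.VV D, B ≤ E v) : False := by
  have m : ∀ d ∈ D, d ∈ Q z → d ∈ F.sub B := fun d hd k => by
    by_cases e : d = z
    · rw [e]; exact F.z_mem_sub h hz
    · exact ⟨k, ((h3 _).1 ⟨d, hd, k, e, rfl⟩).1⟩
  refine h.not_ti hw hz ((F.ea_sub h hz).2 h2) (F.z_mem_sub h hz) (fun e => ?_) (fun u hu u1 => ?_) m
  · obtain ⟨d, k1, k2, k3⟩ := hv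
    exact ((h.mem_zp hz).1 (e ▸ m d k1 k2)).elim (h.ne_one k1) k3
  have k : u ∈ D ∧ F.sub B ≤ Q u := by
    by_cases e : u = z
    · rw [e]; exact ⟨hz, fun _ k => k.1⟩
    have := (h3 _).2 ⟨hu.2, fun k => ((F.π_eq_zero u hu.1).1 k).elim u1 e⟩
    have uD := ((F.mem_VV h hz hu.1).1 this).1
    refine ⟨uD, fun x hx => (F.π_mem_im h hz (h.symm hz uD hu.1) hx.1).1 ?_⟩
    rw [← hl.eqE u uD hu.1 e]; exact h4 _ this hx.2
  exact ⟨k.1, k.2, (h.cent_le_of_le hz (U := F.sub B) (fun _ k => k.1) (F.z_mem_sub h hz)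
    ((F.invS_iff h hz).1 h1) hu k.1 k.2).2⟩

theorem Sit.good [IsSimpleGroup G] (h : Sit D Q w) (hz : z ∈ D)
    (hv : VD F.ρ.range (F.VV D) E R w) (hl : Lift D Q F E R) (hr : ¬ Irr z (Q z)) :
    ∃ A A', GoodV F.ρ.range (F.VV D) E R w A A' := by
  rcases hv.red (fun n _ k x h1 h2 => h.fixed_vec hz F k h1 h2) (mt (F.irrV_iff h hz).1 hr) with
    k | ⟨B, h1, h2, h3, h4⟩ | ⟨B, k⟩
  · exact k
  · obtain ⟨_, d, k1, k2, k3, -⟩ := hv.nonempty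
    exact (h.not_all hv.three hz ⟨d, k1, k2, k3⟩ hl h1 h2 h3 h4).elim
  · exact (h.not_hyp hv.three hz hl k).elim

end XS
end H6
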