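import Mathlib
import Cfsg.Agent.H6.XV1
import Cfsg.Agent.H6.XV0
import Cfsg.Agent.H6.XR2
import Cfsg.Agent.H6.XM

/-! The good case, width at least four: points and hyperplanes -/

set_option autoImplicit false
set_option linter.unusedSectionVars false

namespace H6
namespace XS

open Subgroup H24 H15 H15.XP Module H28.XL
open scoped commutatorElement

variable {G : Type*} [Group G] [Finite G] {D : Set G} {Q : G → Subgroup G} {w : ℕ} {z : G}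
variable {V : Type*} [AddCommGroup V] [Module (ZMod 2) V] [Finite V]
variable {F : Fr z (Q z) V} {E : V → Submodule (ZMod 2) V} {R : V → Subgroup (ofQuad F.q).Isom}

theorem Sit.cent_sub (h : Sit D Q w) (hz : z ∈ D) {A : Submodule (ZMod 2) V} (h1 : TS F.q A)
    (h2 : finrank (ZMod 2) A = w) (h3 : ∀ g ∈ F.ρ.range, (∀ a ∈ A, g.1 a = a) → g = 1) :
    C[F.sub A] ≤ F.sub A := fun c hc => by
  have cz := C_le_C1 (F.z_mem_sub h hz) hc
  have cq : c ∈ Q z := (F.ker ⟨c, cz⟩).1 (h3 _ ⟨_, rfl⟩ fun a ha => by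
    obtain ⟨x, hx, rfl⟩ := F.π_surj a
    rw [F.ρ_π _ x hx]
    exact congrArg F.π (mul_inv_eq_iff_eq_mul.2 (mem_C'.1 hc x ⟨hx, ha⟩)))
  refine ⟨cq, perp_self F.nondeg (fun a ha b hb => ts_pol h1 ha hb) (by rw [F.dim h hz, h2])
    fun a ha => ?_⟩
  obtain ⟨x, hx, rfl⟩ := F.π_surj a
  exact (F.pol_π x hx c cq).2 (mem_C.1 hc x ⟨hx, ha⟩)

theorem Sit.fused (h : Sit D Q w) (hw : 4 ≤ w) (hz : z ∈ D) (hl : Lift D Q F E R)
    {A A' : Submodule (ZMod 2) V} (hg : GoodV F.ρ.range (F.VV D) E R w A A') {u : G}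
    (hu : u ∈ F.sub A') (u1 : u ≠ 1) : u ∈ D ∧ F.sub A' ≤ Q u ∧ fam z (F.sub A') u = F.sub A' ∧
      C{u} ≤ N[F.sub A'] := by
  have k : u ∈ D ∧ F.sub A' ≤ Q u := by
    by_cases e : u = z
    · rw [e]; exact ⟨hz, fun _ k => k.1⟩
    have n0 : F.π u ≠ 0 := fun k => ((F.π_eq_zero u hu.1).1 k).elim u1 e
    have uD := ((F.mem_VV h hz hu.1).1 (hg.memS _ hu.2 n0)).1
    refine ⟨uD, fun x hx => (F.π_mem_im h hz (h.symm hz uD hu.1) hx.1).1 ?_⟩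
    rw [← hl.eqE u uD hu.1 e, hg.eqE hw _ hu.2 n0]; exact hx.2
  exact ⟨k.1, k.2, h.cent_le_of_le hz (U := F.sub A') (fun _ k => k.1) (F.z_mem_sub h hz)
    ((F.invS_iff h hz).1 hg.invA') hu k.1 k.2⟩

theorem Sit.exists_gn [IsSimpleGroup G] (h : Sit D Q w) (hw : 4 ≤ w) (hz : z ∈ D)
    (hv : VD F.ρ.range (F.VV D) E R w) (hl : Lift D Q F E R) {A A' : Submodule (ZMod 2) V}
    (hg : GoodV F.ρ.range (F.VV D) E R w A A') : ∃ A U, GN D Q A U w := by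
  have fU := @Sit.fused G _ _ D Q w z V _ _ _ F E R h hw hz hl A A' hg
  have sp : ∀ d ∈ D, d ∈ Q z → d ∈ F.sub A ∧ d ≠ z ∨ d ∈ F.sub A' := fun d hd k => by
    by_cases e : d = z
    · rw [e]; exact Or.inr (F.z_mem_sub h hz)
    · exact (hg.subS _ ⟨d, hd, k, e, rfl⟩).imp (fun k' => ⟨⟨k, k'⟩, e⟩) fun k' => ⟨k, k'⟩
  have hi : F.sub A ⊓ F.sub A' = zpowers z := by
    refine le_antisymm (fun x hx => (h.mem_zp hz).2 ((F.π_eq_zero x hx.1.1).1 ?_))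
      (zpowers_le.2 ⟨F.z_mem_sub h hz, F.z_mem_sub h hz⟩)
    exact (Submodule.mem_bot _).1 (hg.compl.inf_eq_bot ▸ Submodule.mem_inf.2 ⟨hx.1.2, hx.2.2⟩)
  obtain ⟨v, hD, k1, k2⟩ : ∃ v ∈ D, v ∈ F.sub A ∧ v ≠ z := by
    by_contra hn
    refine h.not_ti hv.three hz ((F.ea_sub h hz).2 hg.tsA') (F.z_mem_sub h hz) (fun e => ?_)
      (fun u hu u1 => ⟨(fU hu u1).1, (fU hu u1).2.1, (fU hu u1).2.2.2⟩)
      fun d hd k => (sp d hd k).resolve_left fun k' => hn ⟨d, hd, k'⟩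
    have := F.card_sub h hz (W := A')
    rw [e, Nat.card_zpowers, h.ord hz, hg.dimA', pow_succ] at this
    have := Nat.one_lt_two_pow (n := w) (by omega)
    omega
  have v0 : F.π v ≠ 0 := fun k => ((F.π_eq_zero v k1.1).1 k).elim (h.ne_one hD) k2
  have v1 : F.π v ∉ A' := fun k =>
    v0 ((Submodule.mem_bot _).1 (hg.compl.inf_eq_bot ▸ Submodule.mem_inf.2 ⟨k1.2, k⟩))
  obtain ⟨A2, m, hg2⟩ := hv.good_of ⟨v, hD, k1.1, k2, rfl⟩ hg.invA' v1 (by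
    by_contra! k
    exact v1 (perp_self F.nondeg (fun a ha b hb => ts_pol hg.tsA' ha hb)
      (by rw [hv.dim, hg.dimA']) fun a ha => pc (k a ha)))
  obtain rfl : A = A2 := eq_of_fr (inf_eq_right.1 ((hg.irr _ (inv_inf hg2.invA' hg.invA)
    inf_le_right).resolve_left fun e => v0 ((Submodule.mem_bot _).1
      (e ▸ Submodule.mem_inf.2 ⟨m, k1.2⟩)))) (by rw [hg2.dimA', hg.dimA])
  have fA := @Sit.fused G _ _ D Q w z V _ _ _ F E R h hw hz hl A' A hg2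
  have nA := (F.invS_iff h hz).1 hg.invA
  have nU := (F.invS_iff h hz).1 hg.invA'
  have ti : ∀ B : Subgroup G, C{z} ≤ N[B] → (∀ {u}, u ∈ B → u ≠ 1 → u ∈ D ∧ B ≤ Q u ∧
      fam z B u = B ∧ C{u} ≤ N[B]) → ∀ g : G, ∀ e ∈ cj g B, e ≠ 1 → e ∈ D ∧ fam z B e = cj g B :=
    fun B hB k g e he e1 => by
      obtain ⟨u, hu, rfl⟩ := mem_cj'.1 he
      obtain ⟨k1, -, k2, -⟩ := k hu fun e => e1 (by simp [e])
      exact ⟨h.conj u k1 g, by rw [fam_cj hB (h.trans z hz u k1), k2]⟩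
  refine ⟨fam z (F.sub A), fam z (F.sub A'), h, hw, ?_, ?_, ?_, ?_, ?_, ?_, ?_, ?_, ?_,
    fun d hd => fam_cj nA (h.trans z hz d hd), fun d hd => fam_cj nU (h.trans z hz d hd), ?_, ?_,
    ?_⟩ <;> intro d hd <;> obtain ⟨g, rfl⟩ := h.trans z hz d hd <;>
    simp only [fam_eq nA, fam_eq nU, h.eqv z hz, card_cj, ← cj_C, ← cj_inf, ← cj_zpowers, cj_le_cj]
  · exact fun _ k => k.1
  · exact fun _ k => k.1
  · exact ((F.ea_sub h hz).2 hg.tsA).cj g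
  · exact ((F.ea_sub h hz).2 hg.tsA').cj g
  · rw [F.card_sub h hz, hg.dimA]
  · rw [F.card_sub h hz, hg.dimA']
  · rw [hi]
  · exact h.cent_sub hz hg.tsA hg.dimA hg.faith
  · exact h.cent_sub hz hg.tsA' hg.dimA' hg.faith'
  · exact ti _ nA fA g
  · exact ti _ nU fU g
  · intro e he k
    simp only [mem_cj] at k ⊢
    exact (sp _ (by simpa using h.conj e he g⁻¹) k).imp_left And.left

end XS
end H6
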