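import Mathlib
import Cfsg.Agent.H7.SL

/-!
# The centralizer of a transvection in `SL₅(2)`
-/

set_option autoImplicit false

namespace H6

open Matrix

/-- the shape of the matrices commuting with the transvection `1 + e₀₁` -/
def l52Mat (a : Fin 4 → ZMod 2) (b : Fin 3 → ZMod 2) (m : Matrix (Fin 3) (Fin 3) (ZMod 2)) :
    Matrix (Fin 5) (Fin 5) (ZMod 2) :=
  !![1, a 0, a 1, a 2, a 3; 0, 1, 0, 0, 0; 0, b 0, m 0 0, m 0 1, m 0 2;
    0, b 1, m 1 0, m 1 1, m 1 2; 0, b 2, m 2 0, m 2 1, m 2 2]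

theorem det_five (x y : ZMod 2) (a : Fin 4 → ZMod 2) (b : Fin 3 → ZMod 2)
    (m : Matrix (Fin 3) (Fin 3) (ZMod 2)) :
    det !![x, a 0, a 1, a 2, a 3; 0, y, 0, 0, 0; 0, b 0, m 0 0, m 0 1, m 0 2;
      0, b 1, m 1 0, m 1 1, m 1 2; 0, b 2, m 2 0, m 2 1, m 2 2] = x * y * det m := by
  rw [det_succ_column_zero]
  simp only [Fin.sum_univ_succ]
  simp
  rw [det_succ_row_zero]
  simp only [Fin.sum_univ_succ]
  simp
  rw [det_fin_three, det_fin_three]
  simp [Fin.succAbove]
  ring

theorem l52Mat_comm (a : Fin 4 → ZMod 2) (b : Fin 3 → ZMod 2)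
    (m : Matrix (Fin 3) (Fin 3) (ZMod 2)) :
    l52Mat a b m * transvection 0 1 1 = transvection 0 1 1 * l52Mat a b m := by
  ext i j
  fin_cases i <;> fin_cases j <;>
    simp [l52Mat, transvection, Matrix.mul_apply, Fin.sum_univ_succ, Matrix.one_apply,
      Matrix.single_apply, add_comm]

theorem card_centralizer_transvection (s : SpecialLinearGroup (Fin 5) (ZMod 2))
    (hs : (s : Matrix (Fin 5) (Fin 5) (ZMod 2)) = transvection 0 1 1) :
    Nat.card (Subgroup.centralizer ({s} : Set (SpecialLinearGroup (Fin 5) (ZMod 2)))) = 21504 := by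
  let f : (Fin 4 → ZMod 2) × (Fin 3 → ZMod 2) × SpecialLinearGroup (Fin 3) (ZMod 2) →
      Subgroup.centralizer ({s} : Set (SpecialLinearGroup (Fin 5) (ZMod 2))) := fun x =>
    ⟨⟨l52Mat x.1 x.2.1 x.2.2, by rw [l52Mat, det_five, x.2.2.2]; simp⟩,
      Subgroup.mem_centralizer_singleton_iff.2 (Subtype.ext (by
        change l52Mat _ _ _ * s.1 = s.1 * l52Mat _ _ _
        rw [hs]
        exact l52Mat_comm _ _ _))⟩
  have hf : Function.Bijective f := by
    constructor
    · rintro ⟨a, b, m⟩ ⟨a', b', m'⟩ e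
      have e' : l52Mat a b m = l52Mat a' b' m' := congrArg (fun x => x.1.1) e
      have h := fun i j => congrFun (congrFun e' i) j
      refine Prod.ext ?_ (Prod.ext ?_ ?_)
      · ext i
        fin_cases i
        exacts [h 0 1, h 0 2, h 0 3, h 0 4]
      · ext i
        fin_cases i
        exacts [h 2 1, h 3 1, h 4 1]
      · ext i j
        fin_cases i <;> fin_cases j
        exacts [h 2 2, h 2 3, h 2 4, h 3 2, h 3 3, h 3 4, h 4 2, h 4 3, h 4 4]
    · rintro ⟨g, hg⟩
      have e : (g : Matrix (Fin 5) (Fin 5) (ZMod 2)) * transvection 0 1 1 =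
          transvection 0 1 1 * (g : Matrix (Fin 5) (Fin 5) (ZMod 2)) := by
        have h0 : g * s = s * g := Subgroup.mem_centralizer_singleton_iff.1 hg
        have h1 : g.1 * s.1 = s.1 * g.1 := congrArg Subtype.val h0
        rwa [hs] at h1
      have h := fun i j => congrFun (congrFun e i) j
      have h01 := h 0 1
      have h00 := h 0 0
      have h02 := h 0 2
      have h03 := h 0 3
      have h04 := h 0 4
      have h21 := h 2 1
      have h31 := h 3 1
      have h41 := h 4 1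
      simp [transvection, Matrix.mul_apply, Fin.sum_univ_succ, Matrix.one_apply,
        Matrix.single_apply] at h01 h00 h02 h03 h04 h21 h31 h41
      have h01' : g 0 0 = g 1 1 := by
        rw [add_comm] at h01
        exact add_left_cancel h01
      let m : Matrix (Fin 3) (Fin 3) (ZMod 2) :=
        !![g 2 2, g 2 3, g 2 4; g 3 2, g 3 3, g 3 4; g 4 2, g 4 3, g 4 4]
      have eg : (g : Matrix (Fin 5) (Fin 5) (ZMod 2)) =
          !![g 0 0, ![g 0 1, g 0 2, g 0 3, g 0 4] 0, ![g 0 1, g 0 2, g 0 3, g 0 4] 1,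
            ![g 0 1, g 0 2, g 0 3, g 0 4] 2, ![g 0 1, g 0 2, g 0 3, g 0 4] 3; 0, g 1 1, 0, 0, 0;
            0, ![g 2 1, g 3 1, g 4 1] 0, m 0 0, m 0 1, m 0 2;
            0, ![g 2 1, g 3 1, g 4 1] 1, m 1 0, m 1 1, m 1 2;
            0, ![g 2 1, g 3 1, g 4 1] 2, m 2 0, m 2 1, m 2 2] := by
        ext i j
        fin_cases i <;> fin_cases j <;> simp [m, *]
      have hd := g.2
      rw [eg, det_five] at hd
      have hz : ∀ x y : ZMod 2, x * y = 1 → x = 1 ∧ y = 1 := by decide
      obtain ⟨h1, h2⟩ := hz _ _ hd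
      obtain ⟨h3, h4⟩ := hz _ _ h1
      refine ⟨⟨![g 0 1, g 0 2, g 0 3, g 0 4], ![g 2 1, g 3 1, g 4 1], ⟨m, h2⟩⟩, ?_⟩
      apply Subtype.ext
      apply Subtype.ext
      change l52Mat _ _ m = g
      rw [eg, h3, h4]
      rfl
  have h3 := H7.card_sl (F := ZMod 2) (q := 2) (by simp) 3 (by norm_num)
  rw [Fin.prod_univ_three] at h3
  norm_num at h3
  rw [← Nat.card_eq_of_bijective f hf, Nat.card_prod, Nat.card_prod, Nat.card_eq_fintype_card
    (α := SpecialLinearGroup (Fin 3) (ZMod 2)), h3]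
  simp

end H6
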