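import Mathlib
import Cfsg.Agent.H6.XV1
import Cfsg.Agent.H6.XV0
import Cfsg.Agent.H6.XT
import Cfsg.Agent.H6.L52Cent
import Cfsg.Agent.H1.Gaschutz
import Cfsg.Agent.H20.XA0
import Cfsg.Agent.H20.XA2

/-! The good case, width three -/

set_option autoImplicit false
set_option linter.unusedSectionVars false

namespace H6
namespace XS

open Subgroup H24 H15 H15.XP Module H20.XA
open scoped commutatorElement

variable {G : Type*} [Group G] [Finite G] {D : Set G} {Q : G → Subgroup G} {w : ℕ} {z : G}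
variable {V : Type*} [AddCommGroup V] [Module (ZMod 2) V] [Finite V]
variable {F : Fr z (Q z) V} {E : V → Submodule (ZMod 2) V} {R : V → Subgroup (ofQuad F.q).Isom}

theorem card_idx₂₀ {A K : Subgroup G} {a : G} (h1 : a ∈ A) (h2 : a ∉ K) (h3 : ∀ b ∈ A, b ∉ K → b * a ∈ K) :
    Nat.card ↥(K ⊓ A) * 2 = Nat.card A := by
  rw [← card_inf_mul_relIndex K A, relIndex_eq_two_iff.2 ⟨a, h1, fun b hb => ?_⟩]
  by_cases k : b ∈ K
  exacts [Or.inr ⟨k, fun e => h2 ((mul_mem_cancel_left k).1 e)⟩, Or.inl ⟨h3 b hb k, k⟩]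

section

variable (h : Sit D Q 3) (hz : z ∈ D) (hv : VD F.ρ.range (F.VV D) E R 3) (hl : Lift D Q F E R)
  {A A' : Submodule (ZMod 2) V} (hg : GoodV F.ρ.range (F.VV D) E R 3 A A')
include hg

theorem GoodV.pair₂₀ {u : V} (hu : u ∈ A') (h0 : u ≠ 0) : ∃ a ∈ A, pol F.q u a = 1 := by
  obtain ⟨x, hx⟩ := H28.XL.sep0 F.nondeg h0
  obtain ⟨a, a1, b, b1, rfl⟩ := Submodule.mem_sup.1 (hg.compl.sup_eq_top.ge (Submodule.mem_top (x := x)))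
  exact ⟨a, a1, by rwa [map_add, H28.XL.ts_pol hg.tsA' hu b1, add_zero] at hx⟩

include hv in
theorem GoodV.card₂₀ : Nat.card F.ρ.range = 168 := by
  let r : F.ρ.range →* (A' ≃ₗ[ZMod 2] A') := MonoidHom.mk' (fun g => LinearMap.linearEquivOfInjective
    (g.1.1.toLinearMap.restrict (hg.invA' g g.2)) (fun a b c =>
      Subtype.ext (g.1.1.injective (congrArg Subtype.val c))) rfl) fun _ _ => LinearEquiv.ext fun _ => rfl
  rw [← card_gl3 hg.dimA']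
  refine Nat.card_eq_of_bijective r ⟨(injective_iff_map_eq_one r).2 fun g e => Subtype.ext
    (hg.faith' g g.2 fun a ha => congrArg (fun t : A' ≃ₗ[ZMod 2] A' => (t ⟨a, ha⟩ : V)) e),
    MonoidHom.range_eq_top.1 (tv_top _ fun p φ p0 _ e => ?_)⟩
  obtain ⟨ψ, hψ⟩ := LinearMap.exists_extend φ
  obtain ⟨v, k⟩ := F.nondeg.exists_dual ψ
  obtain ⟨a, a1, u, u1, rfl⟩ := Submodule.mem_sup.1 (hg.compl.sup_eq_top.ge (Submodule.mem_top (x := v)))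
  have e1 : ∀ x : A', pol F.q a x = φ x := fun x => by
    have : pol F.q (a + u) x = ψ x := k x
    rw [map_add, LinearMap.add_apply, H28.XL.ts_pol hg.tsA' u1 x.2, add_zero] at this
    rw [this, ← hψ]; rfl
  have p1 : (p : V) ≠ 0 := fun c => p0 (Subtype.ext c)
  have p2 : pol F.q p a = 0 := by rw [pol_comm, e1, e]
  obtain ⟨y, y1⟩ := exists_ei (hg.tsA' p p.2) p2
  refine ⟨_, ⟨⟨y, hv.le _ (hg.memS p p.2 p1) ((hg.memR p p.2 p1 y).2 ⟨a, a1, p2, y1⟩)⟩, rfl⟩,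
    fun x => Subtype.ext ?_⟩
  exact (y1.ap0 (H28.XL.ts_pol hg.tsA' p.2 x.2)).trans (by rw [e1]; rfl)

include h hz

theorem GoodV.inf₂₀ {x : G} (h1 : x ∈ F.sub A) (h2 : x ∈ F.sub A') : x = 1 ∨ x = z :=
  (F.π_eq_zero x h1.1).1 (hg.compl.disjoint.le_bot ⟨h1.2, h2.2⟩)

include hl

theorem GoodV.exY₂₀ {A0 : Subgroup G} (l0 : A0 ≤ F.sub A) (z0 : z ∉ A0) (i0 : A0.relIndex (F.sub A) = 2)
    {v : G} (hU : v ∈ F.sub A') (v0 : F.π v ≠ 0) : ∃ Y : Subgroup G, Y ≤ C{z} ∧ Y ≤ N[A0] ∧ EA Y ∧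
      Nat.card Y = 4 ∧ (∀ y ∈ Y, y ∈ Q z → y = 1) ∧
      (∀ y ∈ Y, ∀ c ∈ Q z, c ∈ C{v} → y * c * y⁻¹ * c⁻¹ = 1 ∨ y * c * y⁻¹ * c⁻¹ = v) ∧
      (∀ y ∈ Y, ∀ c ∈ F.sub A, c ∈ C{v} → y * c = c * y) ∧ Y ≤ C{v} ∧ C{v} ⊓ C{z} ⊓ N[A0] ≤ N[Y] := by
  have eA := (F.ea_sub h hz).2 hg.tsA
  have nA := (F.invS_iff h hz).1 hg.invA
  have zA : z ∈ F.sub A := F.z_mem_sub h hz
  obtain ⟨vD, vz⟩ := (F.mem_VV h hz hU.1).1 (hg.memS _ hU.2 v0)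
  obtain ⟨g, -, g1, g2⟩ := h.swap hz vD hU.1 vz
  have b1 : C{v} ≤ N[cj g (F.sub A)] := by rw [← g1, ← cj_C1]; exact norm_cj nA g
  have b2 : v ∈ cj g (F.sub A) := g1 ▸ conj_mem_cj g zA
  have b3 : ∀ x ∈ cj g (F.sub A), x ∈ Q z → x = 1 ∨ x = v := fun x x1 x2 => by
    obtain ⟨a, a1, rfl⟩ := mem_cj'.1 x1
    rw [← g2, h.eqv v vD, conj_mem_cj_iff] at x2
    rcases (F.π_eq_zero a a1.1).1 ((hg.disj _ hU.2 v0).le
      ⟨hl.eqE v vD hU.1 vz ▸ ⟨a, x2, a1.1, rfl⟩, a1.2⟩) with rfl | rfl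
    exacts [Or.inl (by simp), Or.inr g1]
  have zi : ∀ a ∈ F.sub A, a ∉ A0 → z * a ∈ A0 := fun a a1 a2 => by
    have := (mul_mem_iff_of_index_two (H := A0.subgroupOf (F.sub A)) i0 (a := ⟨z, zA⟩) (b := ⟨a, a1⟩)).2
      (iff_of_false z0 a2)
    exact this
  obtain ⟨b, b4, b5⟩ : ∃ b ∈ A0, pol F.q (F.π v) (F.π b) = 1 := by
    obtain ⟨a, a1, a2⟩ := hg.pair₂₀ hU.2 v0
    obtain ⟨b, b1, rfl⟩ := F.π_surj a
    by_cases k : b ∈ A0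
    exacts [⟨b, k, a2⟩, ⟨_, zi b ⟨b1, a1⟩ k, by rwa [F.π_mul _ zA.1 _ b1, F.π_z h hz, zero_add]⟩]
  have b6 := (F.pol_one h hz hU.1 (l0 b4).1).1 b5
  have b7 : ∀ a ∈ F.sub A, a ∉ C{v} → a * b ∈ C{v} := fun a a1 a2 => by
    rw [← F.pol_zero h hz hU.1 a1.1] at a2
    rw [← F.pol_zero h hz hU.1 (mul_mem a1 (l0 b4)).1, F.π_mul _ a1.1 _ (l0 b4).1, map_add, b5, z1 a2]; rfl
  have b8 : Nat.card ↥(C{z} ⊓ cj g (F.sub A)) = 8 := by
    have := card_idx₂₀ (l0 b4) (fun e => zero_ne_one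
      (((F.pol_zero h hz hU.1 (l0 b4).1).2 e).symm.trans b5)) b7
    rw [F.card_sub h hz, hg.dimA] at this
    nth_rw 1 [← g2]
    rw [← cj_C1, ← cj_inf, card_cj]; omega
  have eB := eA.cj g
  generalize cj g (F.sub A) = B at b1 b2 b3 b8 eB
  have vN : v ∉ N[A0] := fun e => z0 ((mul_mem_cancel_right b4).1 (b6 ▸ conj_mem e b4))
  have c1 : ∀ y ∈ C{z} ⊓ B, ∀ c ∈ Q z, c ∈ C{v} → y * c * y⁻¹ * c⁻¹ = 1 ∨ y * c * y⁻¹ * c⁻¹ = v :=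
    fun y y1 c k1 k2 => b3 _ (by
      simpa [mul_assoc] using mul_mem (mem_inf.1 y1).2 (conj_mem (b1 k2) (inv_mem (mem_inf.1 y1).2)))
      (mul_mem (cQ h hz y1.1 k1) (inv_mem k1))
  have c2 : ∀ y ∈ C{z} ⊓ B, ∀ c ∈ F.sub A, c ∈ C{v} → y * c = c * y := fun y y1 c k1 k2 => by
    rcases c1 y y1 c k1.1 k2 with e | e
    · exact mul_inv_eq_iff_eq_mul.1 (mul_inv_eq_one.1 e)
    · rcases hg.inf₂₀ h hz (e ▸ mul_mem (conj_mem (nA y1.1) k1) (inv_mem k1)) hU with e | e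
      exacts [(h.ne_one vD e).elim, (vz e).elim]
  have c3 : ∀ y ∈ C{z} ⊓ B, y * b * y⁻¹ ∈ A0 → y ∈ N[A0] := fun y y1 y2 => mem_N_of_finite fun a a1 => by
    by_cases k : a ∈ C{v}
    · rwa [c2 y y1 a (l0 a1) k, mul_inv_cancel_right]
    · have := mul_mem (mul_mem a1 b4) (inv_mem y2)
      rw [← mul_inv_cancel_right (a * b) y, ← c2 y y1 _ (l0 (mul_mem a1 b4)) (b7 a (l0 a1) k)] at this
      simpa [mul_assoc] using this
  have vB : v ∈ C{z} ⊓ B := ⟨h.le hz hU.1, b2⟩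
  have c4 := card_idx₂₀ vB vN fun y y1 y2 => c3 _ (mul_mem y1 vB) (by
    rw [show y * v * b * (y * v)⁻¹ = y * (v * b * v⁻¹) * y⁻¹ by group, b6, zc h hz y1.1]
    exact zi _ (conj_mem (nA y1.1) (l0 b4)) fun e => y2 (c3 y y1 e))
  refine ⟨N[A0] ⊓ (C{z} ⊓ B), fun y k => k.2.1, inf_le_left, eB.mono fun y k => k.2.2, by omega,
    fun y k e => (b3 y k.2.2 e).resolve_right fun e => vN (e ▸ k.1), fun y k => c1 y k.2, fun y k => c2 y k.2,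
    fun y k => mem_C1.2 (eB.comm k.2.2 b2), norm_inf (norm_of_le inf_le_right)
      (norm_inf (norm_C1 fun y k => k.1.2) fun y k => b1 k.1.1)⟩

end

theorem Sit.good3 (h : Sit D Q 3) (hz : z ∈ D) (hv : VD F.ρ.range (F.VV D) E R 3)
    (hl : Lift D Q F E R) {A A' : Submodule (ZMod 2) V}
    (hg : GoodV F.ρ.range (F.VV D) E R 3 A A') (s : Matrix.SpecialLinearGroup (Fin 5) (ZMod 2))
    (hs : (s : Matrix (Fin 5) (Fin 5) (ZMod 2)) = Matrix.transvection 0 1 1) :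
    Nonempty (C{z} ≃* C{s}) := by
  have eA := (F.ea_sub h hz).2 hg.tsA
  have eU := (F.ea_sub h hz).2 hg.tsA'
  obtain ⟨A0, -, l0, z0, i0⟩ := eA.exists_hyp bot_le (F.z_mem_sub h hz) (h.ne_one hz)
  have c0 : Nat.card A0 = 8 := by
    have := card_mul_relIndex l0
    rw [F.card_sub h hz, hg.dimA, i0] at this; omega
  obtain ⟨u1, u1A, u10, -⟩ := H28.XL.exists_perp0 (q := F.q) A' [] (by rw [hg.dimA']; simp)
  obtain ⟨u2, u2A, u20, u21, -⟩ := H28.XL.exists_perp1 (q := F.q) A' u1 [] (by rw [hg.dimA']; simp)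
  obtain ⟨v1, v1Q, rfl⟩ := F.π_surj u1
  obtain ⟨v2, v2Q, rfl⟩ := F.π_surj u2
  obtain ⟨Y, p1, p2, p3, p4, p5, -, p7, -, p9⟩ := hg.exY₂₀ h hz hl l0 z0 i0 ⟨v1Q, u1A⟩ u10
  obtain ⟨Y', q1, q2, q3, q4, q5, q6, q7, q8, -⟩ := hg.exY₂₀ h hz hl l0 z0 i0 ⟨v2Q, u2A⟩ u20
  obtain ⟨y, y1, y2, y3⟩ : ∃ y ∈ Y', y ≠ 1 ∧ y ∈ C{v1} := by
    by_contra hc
    push Not at hc
    have k := fun t : Y' => q6 t t.2 v1 v1Q (mem_C1.2 (eU.comm ⟨v1Q, u1A⟩ ⟨v2Q, u2A⟩))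
    have : Nat.card Y' ≤ Nat.card Bool := by
      classical
      refine Nat.card_le_card_of_injective (fun t : Y' => decide ((t : G) * v1 * (t : G)⁻¹ * v1⁻¹ = 1))
        fun a b e => Subtype.ext (inv_mul_eq_one.1 (by_contra fun c =>
          hc _ (mul_mem (inv_mem a.2) b.2) c (mem_C1_iff_conj.2 ?_)))
      have e2 : (b : G) * v1 * (b : G)⁻¹ = a * v1 * (a : G)⁻¹ := mul_right_cancel (b := v1⁻¹) (by
        simp only [decide_eq_decide] at e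
        rcases k a with k1 | k1
        · rw [k1, e.1 k1]
        · rcases k b with k2 | k2
          · rw [k2, e.2 k2]
          · rw [k1, k2])
      rw [show (a : G)⁻¹ * b * v1 * ((a : G)⁻¹ * b)⁻¹ = (a : G)⁻¹ * (b * v1 * (b : G)⁻¹) * a by group, e2]
      group
    rw [q4] at this; simp at this
  have y4 : ∀ t ∈ Y, t * y ∉ Q z := fun t t1 e => y2 (q5 y y1 ((F.ker ⟨y, q1 y1⟩).1
    (hg.faith _ ⟨_, rfl⟩ fun a a1 => ?_)))
  swap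
  · have r1 : F.ρ ⟨y, q1 y1⟩ = F.ρ ⟨t, p1 t1⟩ := by
      have := (F.ker (⟨t, p1 t1⟩ * ⟨y, q1 y1⟩)).2 e
      rw [map_mul, mul_eq_one_iff_inv_eq, ← map_inv] at this
      rw [← this]; exact congrArg F.ρ (Subtype.ext (p3.inv t1))
    have r2 : ∀ a ∈ A, pol F.q (F.π v1) a = 0 ∨ pol F.q (F.π v2) a = 0 → (F.ρ ⟨y, q1 y1⟩).1 a = a :=
      fun a a1 k => by
        obtain ⟨c, c1, rfl⟩ := F.π_surj a
        rcases k with k | k
        · rw [r1]; exact ρ_fix F h hz _ c1 (p7 t t1 c ⟨c1, a1⟩ ((F.pol_zero h hz v1Q c1).1 k))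
        · exact ρ_fix F h hz _ c1 (q7 y y1 c ⟨c1, a1⟩ ((F.pol_zero h hz v2Q c1).1 k))
    obtain ⟨b, b1, b2⟩ := hg.pair₂₀ (add_mem u1A u2A) fun e => u21 (aez.1 e).symm
    rw [map_add, LinearMap.add_apply] at b2
    have := (by decide : ∀ a b c d : ZMod 2, c + d = 1 → (a = 0 ∨ b = 0) ∨
      ((a + c = 0 ∨ b + d = 0) ∧ (c = 0 ∨ d = 0))) (pol F.q (F.π v1) a) (pol F.q (F.π v2) a) _ _ b2
    rcases this with k | ⟨k1, k2⟩
    · exact r2 a a1 k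
    · rw [← map_add, ← map_add] at k1
      rw [← vv'' b a, map_add, r2 _ (add_mem a1 b1) k1, r2 b b1 k2]
  have y5 : zpowers y ≤ N[Y] := zpowers_le.2 (p9 ⟨⟨y3, q1 y1⟩, q2 y1⟩)
  have y6 : orderOf y = 2 := orderOf_eq_prime (by rw [pow_two, q3 y y1]) y2
  have y7 : ∀ x ∈ zpowers y, x = 1 ∨ x = y := fun x hx => by
    classical
    obtain ⟨n, hn, rfl⟩ := Finset.mem_image.1 (mem_zpowers_iff_mem_range_orderOf.1 hx)
    rw [y6] at hn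
    have := Finset.mem_range.1 hn
    interval_cases n <;> simp
  have y8 : ∀ x ∈ Y ⊔ zpowers y, x ∈ Q z → x = 1 := fun x hx e => by
    obtain ⟨t, t1, x, x1, rfl⟩ := (mem_sup_of_norm y5).1 hx
    rcases y7 x x1 with rfl | rfl
    · rw [mul_one] at e ⊢; exact p5 t t1 e
    · exact (y4 t t1 e).elim
  have y9 : Nat.card ↥(Y ⊔ zpowers y) = 8 := by
    rw [card_sup_of_inf y5 (eq_bot_iff.2 fun x hx => (y7 x hx.2).resolve_right fun e =>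
      y4 y (e ▸ hx.1) (by rw [q3 y y1]; exact one_mem _)), p4, card_zpowers', y6]
  have n1 : Y ⊔ zpowers y ≤ N[A0] := sup_le p2 (zpowers_le.2 (q2 y1))
  refine split5 (U := F.sub A') (K := A0 ⊔ (Y ⊔ zpowers y)) (fun x hx => h.le hz hx.1) ((F.invS_iff h hz).1 hg.invA') eU
    (by rw [F.card_sub h hz, hg.dimA']; rfl) (sup_le (fun x hx => h.le hz (l0 hx).1) (sup_le p1 (zpowers_le.2 (q1 y1))))
    (eq_bot_iff.2 fun x hx => ?_)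
    (by rw [card_sup_of_inf n1 (eq_bot_iff.2 fun x hx => y8 x hx.2 (l0 hx.1).1), c0, y9])
    (fun x hx => ?_) (F.z_mem_sub h hz) (h.ne_one hz) le_rfl (by rw [F.card_C h hz, hg.card₂₀ hv]; rfl) s hs
  · obtain ⟨a, a1, t, t1, rfl⟩ := (mem_sup_of_norm n1).1 hx.2
    obtain rfl := y8 t t1 ((mul_mem_cancel_left (l0 a1).1).1 hx.1.1)
    rw [mul_one] at hx ⊢
    exact (hg.inf₂₀ h hz (l0 a1) hx.1).resolve_right fun e => z0 (e ▸ a1)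
  · have xQ : x ∈ Q z := (F.ker ⟨x, hx.1⟩).1 (hg.faith' _ ⟨_, rfl⟩ fun a a1 => by
      obtain ⟨c, c1, rfl⟩ := F.π_surj a
      exact ρ_fix F h hz _ c1 (mem_C'.1 hx.2 c ⟨c1, a1⟩))
    refine ⟨xQ, H28.XL.perp_self F.nondeg (fun a a1 b b1 => H28.XL.ts_pol hg.tsA' a1 b1)
      (by rw [hv.dim, hg.dimA']) fun a a1 => ?_⟩
    obtain ⟨c, c1, rfl⟩ := F.π_surj a
    exact (F.pol_π c c1 x xQ).2 (mem_C.1 hx.2 c ⟨c1, a1⟩)

end XS
end H6
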