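import Mathlib
import Cfsg.Agent.H6.XB
import Cfsg.Agent.H6.XT
import Cfsg.Agent.H6.XR2

/-! The good case: the projective space -/

set_option autoImplicit false
set_option linter.unusedSectionVars false
set_option linter.unusedVariables false

namespace H6
namespace XS

open Subgroup H24 H15 H15.XP Module
open scoped commutatorElement

universe u

variable {G : Type u} [Group G] [Finite G] {D : Set G} {Q A U : G → Subgroup G} {w : ℕ} {z : G}

theorem GN.symm (h : GN D Q A U w) : GN D Q U A w :=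
  { h.toSit with
    four := h.four, leA := h.leU, leU := h.leA, eaA := h.eaU, eaU := h.eaA, cardA := h.cardU,
    cardU := h.cardA, inf := fun d hd => inf_comm (A d) (U d) ▸ h.inf d hd, centA := h.centU,
    centU := h.centA, eqvA := h.eqvU, eqvU := h.eqvA, tiA := h.tiU, tiU := h.tiA,
    mem := fun d hd e he hq => (h.mem d hd e he hq).symm }

theorem ne_botG {X Y : Subgroup G} : X ⊓ Y ≠ ⊥ ↔ ∃ x, x ∈ X ∧ x ∈ Y ∧ x ≠ 1 :=
  ⟨fun h => (exists_ne_one h).imp fun _ hx => ⟨hx.1.1, hx.1.2, hx.2⟩,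
    fun ⟨_, h1, h2, h3⟩ => ne_bot_of_mem (mem_inf.2 ⟨h1, h2⟩) h3⟩

namespace GN

variable (h : GN D Q A U w) {a b c d e f g x y : G}
include h

theorem selfA (hd : d ∈ D) : d ∈ A d := ((h.inf d hd).ge (mem_zpowers d)).1

theorem selfU (hd : d ∈ D) : d ∈ U d := h.symm.selfA hd

theorem eq_of_inf (hd : d ∈ D) (h1 : x ∈ A d) (h2 : x ∈ U d) (x1 : x ≠ 1) : x = d :=
  ((h.toSit.mem_zp hd).1 ((h.inf d hd).le ⟨h1, h2⟩)).resolve_left x1

theorem normA (hd : d ∈ D) : C{d} ≤ N[A d] := fun g hg => by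
  rw [mem_N_iff_cj, ← h.eqvA d hd, mem_C1_iff_conj.1 hg]

theorem sup_eq (hd : d ∈ D) : A d ⊔ U d = Q d := by
  refine eq_of_card_eq (sup_le (h.leA d hd) (h.leU d hd)) ?_
  have c := card_sup (A := A d) (B := U d) ((h.leU d hd).trans ((h.toSit.le hd).trans (h.normA hd)))
  rw [h.inf d hd, card_zpowers', h.toSit.ord hd, h.cardA d hd, h.cardU d hd, ← pow_add,
    show w + 1 + (w + 1) = 2 * w + 1 + 1 by ring, pow_succ] at c
  rw [h.card d hd]
  omega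

theorem decomp (hd : d ∈ D) (hx : x ∈ Q d) : ∃ a ∈ A d, ∃ u ∈ U d, x = a * u :=
  (mem_sup_of_norm ((h.leU d hd).trans ((h.toSit.le hd).trans (h.normA hd)))).1 ((h.sup_eq hd).ge hx)

/-- `A d` induces on `U d` all transvections with centre `d` -/
theorem tvA (hd : d ∈ D) {K : Subgroup G} (hK : K ≤ U d) (hi : K.relIndex (U d) = 2) (hdK : d ∈ K) :
    ∃ b ∈ A d, ActR (U d) K d b := by
  obtain ⟨b, hb, B⟩ := h.toSit.tvR hd (h.leU d hd) (h.cardU d hd) (h.centU d hd) hK hi hdK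
  obtain ⟨a, ha, u, hu, rfl⟩ := h.decomp hd hb
  have e : ∀ x ∈ U d, a * u * x * (a * u)⁻¹ = a * x * a⁻¹ := fun x hx => by
    rw [mul_assoc a, (h.eaU d hd).comm hu hx]; group
  exact ⟨a, ha, fun x hx => e x (hK hx) ▸ B.fix x hx, fun x hx hx' => e x hx ▸ B.mv x hx hx'⟩

/-- an element of `Q d` outside `U d` is a transvection on `U d` -/
theorem actU (hd : d ∈ D) (ha : a ∈ Q d) (ha' : a ∉ U d) :
    (U d ⊓ C{a}).relIndex (U d) = 2 ∧ ActR (U d) (U d ⊓ C{a}) d a := by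
  have T : ActR (U d) (U d ⊓ C{a}) d a := ⟨fun x hx => mem_C1_iff_conj.1 (mem_C1_comm.1 hx.2),
    fun x hx hx' => (h.toSit.cj_or hd ha (h.leU d hd hx)).resolve_left fun e =>
      hx' (mem_inf.2 ⟨hx, mem_C1_comm.1 (mem_C1_iff_conj.2 e)⟩)⟩
  refine ⟨?_, T⟩
  obtain ⟨u, hu, hu'⟩ := SetLike.not_le_iff_exists.1
    (fun e : U d ≤ C{a} => ha' (h.centU d hd (mem_C_iff_le_C1.2 e)))
  refine relIndex_eq_two_iff_exists_notMem_and.2 ⟨u, hu, fun e => hu' e.2, fun b hb => ?_⟩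
  by_cases e : b ∈ U d ⊓ C{a}
  · exact Or.inr e
  · refine Or.inl (mem_inf.2 ⟨mul_mem hb hu, mem_C1_comm.1 (mem_C1_iff_conj.2 ?_)⟩)
    rw [cjmR, T.mv u hu (fun e => hu' e.2), T.mv b hb e, (h.eaU d hd).comm (h.selfU hd) hb, mul_assoc,
      ← mul_assoc d, h.toSit.sq hd, one_mul]

theorem disjA (hd : d ∈ D) (he : e ∈ D) (hn : e ∉ A d) (hx : x ∈ A d) (hx' : x ∈ A e) : x = 1 := by
  by_contra x1
  exact hn ((h.tiA d hd x hx x1).2 ▸ (h.tiA e he x hx' x1).2 ▸ h.selfA he)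

end GN

theorem GN.flag (h : GN D Q A U w) (hz : z ∈ D) {a e : G} (ha : a ∈ A z) (he : e ∈ U z)
    (ha1 : a ≠ 1) (he1 : e ≠ 1) : A e ⊓ U a ≠ ⊥ ↔ a * e = e * a := by
  have s := h.toSit
  obtain ⟨aD, aA⟩ := h.tiA z hz a ha ha1
  obtain ⟨eD, eU⟩ := h.tiU z hz e he he1
  rw [ne_botG]
  constructor
  · rintro ⟨f, h1, h2, f1⟩
    obtain ⟨fD, fA⟩ := h.tiA e eD f h1 f1
    have fU := (h.tiU a aD f h2 f1).2
    refine mul_inv_eq_iff_eq_mul.1 ((s.cj_or hz (h.leA z hz ha) (h.leU z hz he)).elim id fun e1 => ?_)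
    refine (s.cj_or fD (h.leU f fD (fU ▸ h.selfU aD)) (h.leA f fD (fA ▸ h.selfA eD))).elim id fun e2 => ?_
    obtain rfl : f = z := mul_right_cancel (e2.symm.trans e1)
    rw [h.eq_of_inf hz (fA ▸ h.selfA eD) he he1, (h.eaA f hz).comm ha (h.selfA hz)]
    group
  intro hc
  by_cases e1 : a = z
  · exact ⟨e, h.selfA eD, e1 ▸ he, he1⟩
  by_cases e2 : e = z
  · exact ⟨a, e2 ▸ ha, h.selfU aD, ha1⟩
  have aU : a ∉ U z := fun e => e1 (h.eq_of_inf hz ha e ha1)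
  have eA : e ∉ A z := fun e' => e2 (h.eq_of_inf hz e' he he1)
  have eaA := h.eaA z hz
  have eaU := h.eaU z hz
  obtain ⟨iK, T⟩ := h.actU hz (h.leA z hz ha) aU
  obtain ⟨iL, T'⟩ := h.symm.actU hz (h.leU z hz he) eA
  have eK : e ∈ U z ⊓ C{a} := ⟨he, mem_C1.2 hc.symm⟩
  have zK : z ∈ U z ⊓ C{a} := ⟨h.selfU hz, mem_C1.2 (eaA.comm (h.selfA hz) ha)⟩
  obtain ⟨b, hb, B⟩ := h.tvA eD (K := U z ⊓ C{a}) (eU ▸ inf_le_left) (eU ▸ iK) eK
  rw [eU] at B
  have bz : b ∈ C{z} := mem_C1_iff_conj.2 (B.fix z zK)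
  have bN := h.normA hz bz
  have bfix : ∀ x ∈ A z ⊓ C{e}, b * x * b⁻¹ = x := fun x hx => by
    rw [← mul_inv_eq_one]
    refine h.disjA hz eD eA (mul_mem (conj_mem bN hx.1) (inv_mem hx.1)) ?_
    rw [show b * x * b⁻¹ * x⁻¹ = b * (x * b⁻¹ * x⁻¹) by group]
    exact mul_mem hb (conj_mem (h.normA eD hx.2) (inv_mem hb))
  obtain ⟨x, hx, hx'⟩ : ∃ x ∈ A z, x ∉ A z ⊓ C{e} := by
    obtain ⟨x, h1, h2, -⟩ := relIndex_eq_two_iff_exists_notMem_and.1 iL
    exact ⟨x, h1, h2⟩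
  have xe : x * e * x⁻¹ = z * e := (s.cj_or hz (h.leA z hz hx) (h.leU z hz he)).resolve_left fun e' =>
    hx' (mem_inf.2 ⟨hx, mem_C1_iff_conj.2 e'⟩)
  have xU : ∀ u ∈ U z, ∃ s, (s = 1 ∨ s = z) ∧ x * u * x⁻¹ = s * u := fun u hu =>
    (s.cj_or hz (h.leA z hz hx) (h.leU z hz hu)).elim (fun e => ⟨1, Or.inl rfl, by rw [e, one_mul]⟩)
      fun e => ⟨z, Or.inr rfl, e⟩
  have az := T.fix z zK
  have hy : (a * x * b)⁻¹ * (b * x) ∈ U z := by
    refine h.centU z hz (mem_C_of_actR fun u hu => ?_)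
    obtain ⟨s, hs, es⟩ := xU u hu
    have sK : s ∈ U z ⊓ C{a} := by
      rcases hs with rfl | rfl
      · exact one_mem _
      · exact zK
    have e4 : b * x * u * (b * x)⁻¹ = b * (x * u * x⁻¹) * b⁻¹ := by group
    have e5 : a * x * b * u * (a * x * b)⁻¹ = a * (x * (b * u * b⁻¹) * x⁻¹) * a⁻¹ := by group
    rw [e4, e5, es]
    by_cases e0 : u ∈ U z ⊓ C{a}
    · rw [B.fix u e0, es, B.fix _ (mul_mem sK e0), T.fix _ (mul_mem sK e0)]
    · have k1 := mul_not_memR sK e0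
      have k2 : s * u ∈ U z := mul_mem sK.1 hu
      rw [B.mv u hu e0, B.mv _ k2 k1, cjmR x, xe, es, cjmR a, T.fix _ (mul_mem zK eK), T.mv _ k2 k1,
        eaU.comm zK.1 he, mul_assoc e, ← mul_assoc z, h.toSit.sq hz, one_mul]
  have hy' : (a * x * b)⁻¹ * (b * x) ∈ A z := by
    rw [show (a * x * b)⁻¹ * (b * x) = b⁻¹ * (a * x)⁻¹ * b * x by group]
    exact mul_mem (conj_mem' bN (inv_mem (mul_mem ha hx))) hx
  have fin : ∀ b' ∈ A e, b' ≠ 1 → (∀ y ∈ A z ⊓ C{e}, b' * y * b'⁻¹ = y) → b' * x * b'⁻¹ = a * x →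
      ∃ x, x ∈ A e ∧ x ∈ U a ∧ x ≠ 1 := fun b' h1 h2 h3 h4 => by
    obtain ⟨k, hk, K⟩ := s.tvR aD (aA ▸ h.leA a aD) (h.cardA z hz) (h.centA z hz) inf_le_left iL
      (mem_inf.2 ⟨ha, mem_C1.2 hc⟩)
    have h5 : k⁻¹ * b' ∈ A z := by
      refine h.centA z hz (mem_C_of_actR fun y hy => ?_)
      by_cases e : y ∈ A z ⊓ C{e}
      · rw [h3 y e, K.fix y e]
      · have k1 := h3 _ (mul_idx2R iL (inv_mem hx) hy (fun e => hx' (inv_mem_iff.1 e)) e)
        rw [K.mv y hy e]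
        calc b' * y * b'⁻¹ = b' * x * b'⁻¹ * (b' * (x⁻¹ * y) * b'⁻¹) := by group
          _ = _ := by rw [k1, h4]; group
    have h6 : b' ∈ Q a := (mul_mem_cancel_left (inv_mem hk)).1 (h.leA a aD (aA ▸ h5))
    exact ⟨b', h1, (h.mem a aD b' (h.tiA e eD b' h1 h2).1 h6).resolve_left
      fun e' => h2 (h.disjA hz eD eA (aA ▸ e') h1), h2⟩
  have bU : b ∉ U z := fun e' => by
    obtain ⟨u, h1, h2, -⟩ := relIndex_eq_two_iff_exists_notMem_and.1 iK
    have := B.mv u h1 h2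
    rw [eaU.comm e' h1, mul_inv_cancel_right] at this
    exact he1 (mul_eq_right.1 this.symm)
  rcases (s.mem_zp hz).1 ((h.inf z hz).le ⟨hy', hy⟩) with e' | e'
  · refine fin b hb (fun e => bU (e ▸ one_mem _)) bfix ?_
    rw [← inv_mul_eq_one.1 e']
    group
  · refine fin (b * e) (mul_mem hb (h.selfA eD)) (fun e => bU ((mul_mem_cancel_right he).1 (e ▸ one_mem _)))
      (fun y hy => ?_) ?_
    · rw [show b * e * y * (b * e)⁻¹ = b * (e * y * e⁻¹) * b⁻¹ by group, T'.fix y hy, bfix y hy]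
    · have k1 : b * x = a * x * b * z := by rw [← e']; group
      rw [show b * e * x * (b * e)⁻¹ = b * (e * x * e⁻¹) * b⁻¹ by group, T'.mv x hx hx',
        eaA.comm (h.selfA hz) hx, ← mul_assoc, k1, mul_assoc _ z z, s.sq hz]
      group

theorem Rel.symm {d e : G} (h : Rel D A U d e) : Rel D A U e d :=
  ⟨h.2.1, h.1, h.2.2.imp fun _ hc => ⟨hc.1, hc.2.2, hc.2.1⟩⟩

namespace GN

variable (h : GN D Q A U w) {a b c d e f g x y : G}
include h

theorem incA (hd : d ∈ D) (hx : x ∈ A d) (hx' : x ∈ U c) (x1 : x ≠ 1) : A d ⊓ U c ≠ ⊥ :=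
  ne_botG.2 ⟨x, hx, hx', x1⟩

theorem rel_refl (hd : d ∈ D) : Rel D A U d d :=
  ⟨hd, hd, d, hd, h.incA hd (h.selfA hd) (h.selfU hd) (h.toSit.ne_one hd),
    h.incA hd (h.selfA hd) (h.selfU hd) (h.toSit.ne_one hd)⟩

theorem inc_cj (hd : d ∈ D) (hc : c ∈ D) (g : G) :
    A (g * d * g⁻¹) ⊓ U (g * c * g⁻¹) = ⊥ ↔ A d ⊓ U c = ⊥ := by
  rw [h.eqvA d hd, h.eqvU c hc, ← cj_inf, cj_eq_bot]

theorem rel_cj (r : Rel D A U d e) (g : G) : Rel D A U (g * d * g⁻¹) (g * e * g⁻¹) := by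
  obtain ⟨hd, he, c, hc, h1, h2⟩ := r
  exact ⟨h.conj d hd g, h.conj e he g, _, h.conj c hc g, (h.inc_cj hd hc g).not.2 h1,
    (h.inc_cj he hc g).not.2 h2⟩

theorem exists_cent (hd : d ∈ D) (he : e ∈ Q d) (hf : f ∈ Q c) (hc : c ∈ D) (hA : A c = A d) :
    ∃ b ∈ A d, b ≠ 1 ∧ b * e = e * b ∧ b * f = f * b := by
  have key : ∀ d ∈ D, ∀ e ∈ Q d, (A d ⊓ C{e}).relIndex (A d) ≤ 2 := fun d hd e he => by
    by_cases e1 : e ∈ A d
    · rw [inf_eq_left.2 ((h.eaA d hd).le_C.trans (C_le_C1 e1)), relIndex_self]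
      norm_num
    · exact (h.symm.actU hd he e1).1.le
  have k1 := key d hd e he
  have k2 := hA ▸ key c hc f hf
  have k3 := relIndex_inf_le (H := A d ⊓ C{e}) (K := A d ⊓ C{f}) (L := A d)
  have k4 := card_mul_relIndex (inf_le_left.trans inf_le_left : A d ⊓ C{e} ⊓ (A d ⊓ C{f}) ≤ A d)
  have : A d ⊓ C{e} ⊓ (A d ⊓ C{f}) ≠ ⊥ := fun e0 => by
    have k5 := k3.trans (Nat.mul_le_mul k1 k2)
    rw [e0] at k4 k5
    rw [card_bot, one_mul, h.cardA d hd] at k4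
    have : 2 ^ 3 ≤ 2 ^ (w + 1) := Nat.pow_le_pow_right (by norm_num) (by have := h.four; omega)
    omega
  obtain ⟨b, hb, b1⟩ := exists_ne_one this
  exact ⟨b, hb.1.1, b1, mem_C1.1 hb.1.2, mem_C1.1 hb.2.2⟩

theorem rel_trans (r : Rel D A U d e) (r' : Rel D A U e f) : Rel D A U d f := by
  obtain ⟨hd, he, c, hc, h1, h2⟩ := r
  obtain ⟨-, hf, c', hc', h3, h4⟩ := r'
  obtain ⟨x, x1, x2, x3⟩ := ne_botG.1 h1
  obtain ⟨y, y1, y2, y3⟩ := ne_botG.1 h2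
  obtain ⟨y', y1', y2', y3'⟩ := ne_botG.1 h3
  obtain ⟨x', x1', x2', x3'⟩ := ne_botG.1 h4
  obtain ⟨yD, yA⟩ := h.tiA e he y y1 y3
  obtain ⟨yD', yA'⟩ := h.tiA e he y' y1' y3'
  have k1 : x ∈ U y := (h.tiU c hc y y2 y3).2 ▸ x2
  have k2 : x' ∈ U y' := (h.tiU c' hc' y' y2' y3').2 ▸ x2'
  obtain ⟨b, hb, b1, e1, e2⟩ := h.exists_cent yD (h.leU y yD k1) (h.leU y' yD' k2) yD' (yA'.trans yA.symm)
  refine ⟨hd, hf, b, (h.tiA y yD b hb b1).1, ?_, ?_⟩
  · exact (h.tiA d hd x x1 x3).2 ▸ (h.flag yD hb k1 b1 x3).2 e1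
  · exact (h.tiA f hf x' x1' x3').2 ▸ (h.flag yD' (yA' ▸ yA ▸ hb) k2 b1 x3').2 e2

theorem rel_A (hd : d ∈ D) (he : e ∈ A d) (e1 : e ≠ 1) : Rel D A U d e := by
  obtain ⟨eD, eA⟩ := h.tiA d hd e he e1
  have := h.incA hd (h.selfA hd) (h.selfU hd) (h.toSit.ne_one hd)
  exact ⟨hd, eD, d, hd, this, eA ▸ this⟩

theorem rel_U (hd : d ∈ D) (he : e ∈ U d) (e1 : e ≠ 1) : Rel D A U d e := by
  have eD := (h.tiU d hd e he e1).1
  exact ⟨hd, eD, d, hd, h.incA hd (h.selfA hd) (h.selfU hd) (h.toSit.ne_one hd),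
    h.incA eD (h.selfA eD) he e1⟩

theorem rel_inc (hd : d ∈ D) (hc : c ∈ D) (i : A d ⊓ U c ≠ ⊥) : Rel D A U d c := by
  obtain ⟨x, x1, x2, x3⟩ := ne_botG.1 i
  exact h.rel_trans (h.rel_A hd x1 x3) (h.rel_U hc x2 x3).symm

theorem rel_dual (r : Rel D A U d e) : Rel D U A d e := by
  obtain ⟨hd, he, c, hc, h1, h2⟩ := r
  exact h.symm.rel_trans (h.symm.rel_inc hc hd (inf_comm (A d) (U c) ▸ h1)).symm
    (h.symm.rel_inc hc he (inf_comm (A e) (U c) ▸ h2))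

/-- two points are represented in a common hyperplane -/
theorem rep (r : Rel D A U d e) : ∃ c ∈ D, ∃ x ∈ U c, ∃ y ∈ U c, x ≠ 1 ∧ y ≠ 1 ∧ x ∈ A d ∧ y ∈ A e ∧
    A x = A d ∧ A y = A e := by
  obtain ⟨hd, he, c, hc, h1, h2⟩ := r
  obtain ⟨x, x1, x2, x3⟩ := ne_botG.1 h1
  obtain ⟨y, y1, y2, y3⟩ := ne_botG.1 h2
  exact ⟨c, hc, x, x2, y, y2, x3, y3, x1, y1, (h.tiA d hd x x1 x3).2, (h.tiA e he y y1 y3).2⟩

/-- the three points of a line -/
theorem line (hc : c ∈ D) (hx : x ∈ U c) (hy : y ∈ U c) (x1 : x ≠ 1) (y1 : y ≠ 1) (xy : x * y ≠ 1)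
    (r : Rel D A U c d) : A (x * y) ⊓ U d = ⊥ ↔ ¬ (A x ⊓ U d = ⊥ ↔ A y ⊓ U d = ⊥) := by
  obtain ⟨p, hp, k, k1, a, a1, k2, a2, k3, a3, k4, a4⟩ := h.symm.rep (h.rel_dual r)
  obtain ⟨kD, kA⟩ := h.tiA p hp k k1 k2
  have ha : a ∈ A k := kA ▸ a1
  have f1 := h.flag kD ha (k4 ▸ hx) a2 x1
  have f2 := h.flag kD ha (k4 ▸ hy) a2 y1
  have f3 := h.flag kD ha (k4 ▸ mul_mem hx hy) a2 xy
  rw [a4] at f1 f2 f3
  rw [← not_iff_not, not_not, ← not_iff_not (a := A x ⊓ U d = ⊥)]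
  change (A (x * y) ⊓ U d ≠ ⊥) ↔ ((A x ⊓ U d ≠ ⊥) ↔ (A y ⊓ U d ≠ ⊥))
  have g : ∀ t, a * t = t * a ↔ a * t * a⁻¹ = t := fun t => mul_inv_eq_iff_eq_mul.symm
  rw [f1, f2, f3, g, g, g, cjmR]
  have s := h.toSit
  have c1 := s.cj_or kD (h.leA k kD ha) (h.leU k kD (k4 ▸ hx))
  have c2 := s.cj_or kD (h.leA k kD ha) (h.leU k kD (k4 ▸ hy))
  have k1' := s.ne_one kD
  have kx : k * x = x * k := (h.eaU k kD).comm (h.selfU kD) (k4 ▸ hx)
  rcases c1 with c1 | c1 <;> rcases c2 with c2 | c2 <;> rw [c1, c2]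
  · simp
  · simp [k1']
  · simp [k1']
  · rw [kx, mul_assoc, ← mul_assoc k, s.sq kD, one_mul, ← kx]
    simp [k1']

theorem exists_out (hd : d ∈ D) : ∃ x ∈ U d, x ≠ 1 ∧ x ≠ d := by
  by_contra hc
  have h1 : U d ≤ zpowers d := fun x hx => (h.toSit.mem_zp hd).2 (by
    by_contra e
    rw [not_or] at e
    exact hc ⟨x, hx, e⟩)
  have h2 := card_le h1
  rw [card_zpowers', h.toSit.ord hd, h.cardU d hd] at h2
  have : 2 ^ 2 ≤ 2 ^ (w + 1) := Nat.pow_le_pow_right (by norm_num) (by have := h.four; omega)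
  omega

theorem exists_not_inc (hd : d ∈ D) : ∃ c, Rel D A U d c ∧ A d ⊓ U c = ⊥ := by
  obtain ⟨x, hx, x1, xd⟩ := h.exists_out hd
  obtain ⟨xD, xU⟩ := h.tiU d hd x hx x1
  have d1 := h.toSit.ne_one hd
  have h1 : d ∈ U x := xU ▸ h.selfU hd
  have h2 : ¬ A x ≤ C{d} := fun e =>
    xd (h.eq_of_inf xD (h.centA x xD (mem_C_iff_le_C1.2 e)) h1 d1).symm
  obtain ⟨a, ha, ha'⟩ := SetLike.not_le_iff_exists.1 h2
  have a1 : a ≠ 1 := fun e => ha' (e ▸ one_mem _)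
  refine ⟨a, h.rel_trans (h.rel_U hd hx x1) (h.rel_A xD ha a1), ?_⟩
  by_contra e
  exact ha' (mem_C1.2 ((h.flag xD ha h1 a1 d1).1 e))

theorem sep (r : Rel D A U d e) (hs : ∀ c, Rel D A U d c → (A d ⊓ U c = ⊥ ↔ A e ⊓ U c = ⊥)) : A d = A e := by
  obtain ⟨c, hc, x, x1, y, y1, x2, y2, x3, -, x4, y4⟩ := h.rep r
  by_cases e0 : x * y = 1
  · rw [← x4, ← y4, eq_inv_of_mul_eq_one_left e0, (h.eaU c hc).inv y1]
  obtain ⟨k, hk, hk'⟩ := h.exists_not_inc (h.tiU c hc _ (mul_mem x1 y1) e0).1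
  have r1 := h.rel_trans (h.rel_U hc (mul_mem x1 y1) e0) hk
  refine absurd ?_ ((h.line hc x1 y1 x2 y2 e0 r1).1 hk')
  rw [x4, y4]
  exact hs k (h.rel_trans (h.rel_trans (h.rel_A r.1 x3 x2) (h.rel_U hc x1 x2).symm) r1)

end GN

/-- the characteristic function of the hyperplanes not through the point of `e` -/
noncomputable def chiG (D : Set G) (A U : G → Subgroup G) (z e : G) : G → ZMod 2 :=
  fun c => @ite _ (Rel D A U z c ∧ A e ⊓ U c = ⊥) (Classical.propDecidable _) 1 0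

theorem chiG_eq_one {e c : G} : chiG D A U z e c = 1 ↔ Rel D A U z c ∧ A e ⊓ U c = ⊥ := by
  unfold chiG
  split_ifs with h <;> simp [h]

theorem chiG_eq_zero {e c : G} : chiG D A U z e c = 0 ↔ ¬ (Rel D A U z c ∧ A e ⊓ U c = ⊥) := by
  unfold chiG
  split_ifs with h <;> simp [h]

theorem chiG_congr {e c e' c' : G}
    (h : Rel D A U z c ∧ A e ⊓ U c = ⊥ ↔ Rel D A U z c' ∧ A e' ⊓ U c' = ⊥) :
    chiG D A U z e c = chiG D A U z e' c' := by
  unfold chiG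
  rw [propext h]

open Classical in
theorem chiG_add {p q r : Prop} (h : r ↔ ¬ (p ↔ q)) :
    ((if p then 1 else 0) + (if q then 1 else 0) : ZMod 2) = if r then 1 else 0 := by
  by_cases hp : p <;> by_cases hq : q <;> simp [h, hp, hq]
  rfl

namespace GN

variable (h : GN D Q A U w) {a b c d e f g x y : G}
include h

theorem chi_A (e0 : A d = A e) : chiG D A U z d = chiG D A U z e := funext fun _ => chiG_congr (by rw [e0])

theorem chi_add (r : Rel D A U z c) (hx : x ∈ U c) (hy : y ∈ U c) (x1 : x ≠ 1) (y1 : y ≠ 1)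
    (xy : x * y ≠ 1) : chiG D A U z x + chiG D A U z y = chiG D A U z (x * y) := by
  funext d
  rw [Pi.add_apply]
  unfold chiG
  apply chiG_add
  by_cases r' : Rel D A U z d
  · simp only [r', true_and]
    exact h.line r.2.1 hx hy x1 y1 xy (h.rel_trans r.symm r')
  · simp [r']

theorem chi_add' (r : Rel D A U z c) (hx : x ∈ A c) (hy : y ∈ A c) (x1 : x ≠ 1) (y1 : y ≠ 1)
    (xy : x * y ≠ 1) (r' : Rel D A U z d) :
    chiG D A U z d x + chiG D A U z d y = chiG D A U z d (x * y) := by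
  unfold chiG
  apply chiG_add
  simp only [h.rel_trans r (h.rel_A r.2.1 hx x1), h.rel_trans r (h.rel_A r.2.1 hy y1),
    h.rel_trans r (h.rel_A r.2.1 (mul_mem hx hy) xy), true_and, inf_comm (A d)]
  exact h.symm.line r.2.1 hx hy x1 y1 xy (h.rel_dual (h.rel_trans r.symm r'))

theorem chi_self (v : G → ZMod 2) : v + v = 0 := funext fun c => by
  rw [Pi.add_apply, ← two_mul]
  exact mul_eq_zero_of_left rfl _

/-- the vector space -/
def spG (z : G) : Submodule (ZMod 2) (G → ZMod 2) where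
  carrier := {v | v = 0 ∨ ∃ d, Rel D A U z d ∧ v = chiG D A U z d}
  zero_mem' := Or.inl rfl
  add_mem' := by
    rintro _ _ (rfl | ⟨d, r, rfl⟩) (rfl | ⟨e, r', rfl⟩)
    · exact Or.inl (add_zero _)
    · exact Or.inr ⟨e, r', zero_add _⟩
    · exact Or.inr ⟨d, r, add_zero _⟩
    obtain ⟨c, hc, x, x1, y, y1, x2, y2, x3, -, x4, y4⟩ := h.rep (h.rel_trans r.symm r')
    have r1 := h.rel_trans (h.rel_trans r (h.rel_A r.2.1 x3 x2)) (h.rel_U hc x1 x2).symm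
    rw [← h.chi_A x4, ← h.chi_A y4]
    by_cases e0 : x * y = 1
    · rw [eq_inv_of_mul_eq_one_left e0, (h.eaU c hc).inv y1]
      exact Or.inl (h.chi_self _)
    · exact Or.inr ⟨_, h.rel_trans r1 (h.rel_U hc (mul_mem x1 y1) e0), h.chi_add r1 x1 y1 x2 y2 e0⟩
  smul_mem' := by
    intro c v hv
    have : c = 0 ∨ c = 1 := by revert c; decide
    rcases this with rfl | rfl
    · exact Or.inl (zero_smul _ _)
    · rwa [one_smul]

/-- the stabiliser of the component -/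
def stG (hz : z ∈ D) : Subgroup G where
  carrier := {g | Rel D A U z (g * z * g⁻¹)}
  one_mem' := by simpa using h.rel_refl hz
  mul_mem' := fun {a b} ha hb => h.rel_trans ha (by
    have := h.rel_cj hb a
    rwa [show a * (b * z * b⁻¹) * a⁻¹ = a * b * z * (a * b)⁻¹ by group] at this)
  inv_mem' := fun {a} ha => by
    have := (h.rel_cj ha a⁻¹).symm
    rwa [show a⁻¹ * (a * z * a⁻¹) * a⁻¹⁻¹ = z by group] at this

theorem stG_iff (hz : z ∈ D) (r : Rel D A U z d) : g ∈ h.stG hz ↔ Rel D A U z (g * d * g⁻¹) :=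
  ⟨fun hg => h.rel_trans hg (h.rel_cj r g), fun hg => h.rel_trans hg (h.rel_cj r g).symm⟩

theorem stG_rel (hz : z ∈ D) (hg : g ∈ h.stG hz) : Rel D A U z (g * d * g⁻¹) ↔ Rel D A U z d :=
  ⟨fun r => by simpa [mul_assoc] using (h.stG_iff hz r).1 (inv_mem hg), fun r => (h.stG_iff hz r).1 hg⟩

theorem chi_cj (hz : z ∈ D) (hg : g ∈ h.stG hz) (hd : d ∈ D) (c : G) :
    chiG D A U z (g * d * g⁻¹) (g * c * g⁻¹) = chiG D A U z d c :=
  chiG_congr (by
    rw [h.stG_rel hz hg]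
    exact and_congr_right fun r => h.inc_cj hd r.2.1 g)

theorem chi_cj' (hz : z ∈ D) (hg : g ∈ h.stG hz) (hd : d ∈ D) :
    (fun c => chiG D A U z d (g⁻¹ * c * g)) = chiG D A U z (g * d * g⁻¹) := funext fun c => by
  rw [← h.chi_cj hz hg hd]
  congr 1
  group

/-- the action -/
noncomputable def rho0 (hz : z ∈ D) : h.stG hz →* Module.End (ZMod 2) (h.spG z) where
  toFun g :=
    { toFun := fun v => ⟨fun c => v.1 ((g : G)⁻¹ * c * g), by
        rcases v.2 with e | ⟨d, r, e⟩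
        · exact Or.inl (by rw [e]; rfl)
        · exact Or.inr ⟨_, (h.stG_iff hz r).1 g.2, by rw [e, h.chi_cj' hz g.2 r.2.1]⟩⟩
      map_add' := fun _ _ => rfl
      map_smul' := fun _ _ => rfl }
  map_one' := by
    ext v c
    simp
  map_mul' := fun a b => by
    ext v c
    simp [mul_assoc]

noncomputable def rhoG (hz : z ∈ D) : h.stG hz →* (h.spG z ≃ₗ[ZMod 2] h.spG z) :=
  (LinearMap.GeneralLinearGroup.generalLinearEquiv _ _).toMonoidHom.comp (h.rho0 hz).toHomUnits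

theorem rhoG_apply (hz : z ∈ D) (g : h.stG hz) (v : h.spG z) (c : G) :
    (h.rhoG hz g v).1 c = v.1 ((g : G)⁻¹ * c * g) := rfl

open Classical in
noncomputable def ptG (z d : G) : h.spG z :=
  if r : Rel D A U z d then ⟨chiG D A U z d, Or.inr ⟨d, r, rfl⟩⟩ else 0

theorem ptG_val (r : Rel D A U z d) : (h.ptG z d).1 = chiG D A U z d := by rw [ptG, dif_pos r]

def fnG (z d : G) : Dual (ZMod 2) (h.spG z) := (LinearMap.proj d).comp (h.spG z).subtype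

theorem fnG_apply (v : h.spG z) : h.fnG z d v = v.1 d := rfl

theorem sp_cases (v : h.spG z) : v = 0 ∨ ∃ d, Rel D A U z d ∧ v = h.ptG z d :=
  v.2.imp Subtype.ext fun ⟨d, r, e⟩ => ⟨d, r, Subtype.ext (e.trans (h.ptG_val r).symm)⟩

theorem rho_pt (hz : z ∈ D) (g : h.stG hz) (r : Rel D A U z d) :
    h.rhoG hz g (h.ptG z d) = h.ptG z (g * d * (g : G)⁻¹) := by
  apply Subtype.ext
  rw [h.ptG_val ((h.stG_iff hz r).1 g.2), ← h.chi_cj' hz g.2 r.2.1, ← h.ptG_val r]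
  rfl

theorem fn_pt (r : Rel D A U z d) : h.fnG z c (h.ptG z d) = chiG D A U z d c := by
  rw [fnG_apply, h.ptG_val r]

theorem pt_iff (r : Rel D A U z d) (r' : Rel D A U z e) : e ∈ A d ↔ h.ptG z e = h.ptG z d := by
  rw [Subtype.ext_iff, h.ptG_val r, h.ptG_val r']
  refine ⟨fun he => h.chi_A (h.tiA d r.2.1 e he (h.toSit.ne_one r'.2.1)).2, fun he => ?_⟩
  rw [h.sep (h.rel_trans r.symm r') fun c rc => ?_]
  · exact h.selfA r'.2.1
  · have := (chiG_eq_one (z := z) (e := d) (c := c)).symm.trans (he ▸ chiG_eq_one)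
    simpa only [h.rel_trans r rc, true_and] using this

theorem fn_iff (r : Rel D A U z d) (r' : Rel D A U z e) : e ∈ U d ↔ h.fnG z e = h.fnG z d := by
  refine ⟨fun he => LinearMap.ext fun v => ?_, fun he => ?_⟩
  · rcases h.sp_cases v with rfl | ⟨f, rf, rfl⟩
    · simp
    · rw [h.fn_pt rf, h.fn_pt rf]
      exact chiG_congr (by rw [(h.tiU d r.2.1 e he (h.toSit.ne_one r'.2.1)).2]; simp only [r, r'])
  rw [h.symm.sep (h.rel_dual (h.rel_trans r.symm r')) fun c rc => ?_]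
  · exact h.selfU r'.2.1
  · have rc' := h.rel_trans r (h.symm.rel_dual rc)
    have e1 : chiG D A U z c e = chiG D A U z c d := by rw [← h.fn_pt rc', ← h.fn_pt rc', he]
    have := (chiG_eq_one (z := z) (e := c) (c := d)).symm.trans (e1 ▸ chiG_eq_one)
    simpa only [r, r', true_and, inf_comm (A c)] using this

theorem pt_ne (r : Rel D A U z d) : ∃ c, Rel D A U z c ∧ h.fnG z c (h.ptG z d) = 1 := by
  obtain ⟨c, rc, e0⟩ := h.exists_not_inc r.2.1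
  exact ⟨c, h.rel_trans r rc, (h.fn_pt r).trans (chiG_eq_one.2 ⟨h.rel_trans r rc, e0⟩)⟩

theorem fn_ne (r : Rel D A U z d) : ∃ c, Rel D A U z c ∧ h.fnG z d (h.ptG z c) = 1 := by
  obtain ⟨c, rc, e0⟩ := h.symm.exists_not_inc r.2.1
  have rc' := h.rel_trans r (h.symm.rel_dual rc)
  exact ⟨c, rc', (h.fn_pt rc').trans (chiG_eq_one.2 ⟨r, inf_comm (U d) (A c) ▸ e0⟩)⟩

theorem fn_zero (r : Rel D A U z d) (r' : Rel D A U z c) (e0 : h.fnG z c (h.ptG z d) = 0) :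
    ∃ x, x ∈ A d ∧ x ∈ U c ∧ x ≠ 1 :=
  ne_botG.1 fun e1 => chiG_eq_zero.1 ((h.fn_pt r).symm.trans e0) ⟨r', e1⟩

theorem pt_add (r : Rel D A U z c) (hx : x ∈ U c) (hy : y ∈ U c) (x1 : x ≠ 1) (y1 : y ≠ 1)
    (xy : x * y ≠ 1) : h.ptG z x + h.ptG z y = h.ptG z (x * y) := by
  apply Subtype.ext
  rw [Submodule.coe_add, h.ptG_val (h.rel_trans r (h.rel_U r.2.1 hx x1)),
    h.ptG_val (h.rel_trans r (h.rel_U r.2.1 hy y1)),
    h.ptG_val (h.rel_trans r (h.rel_U r.2.1 (mul_mem hx hy) xy)), h.chi_add r hx hy x1 y1 xy]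

theorem actG (hz : z ∈ D) (d : h.stG hz) (r : Rel D A U z d) (v : h.spG z) :
    h.rhoG hz d v = v + h.fnG z d v • h.ptG z d := by
  rcases h.sp_cases v with rfl | ⟨f, rf, rfl⟩
  · simp
  have hd := r.2.1
  have : h.fnG z d (h.ptG z f) = 0 ∨ h.fnG z d (h.ptG z f) = 1 := by
    generalize h.fnG z d (h.ptG z f) = c
    revert c
    decide
  rcases this with e0 | e0
  · obtain ⟨x, x1, x2, x3⟩ := h.fn_zero rf r e0
    have rx := h.rel_trans rf (h.rel_A rf.2.1 x1 x3)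
    rw [e0, zero_smul, add_zero, ← (h.pt_iff rf rx).1 x1, h.rho_pt hz d rx,
      (h.eaU d hd).comm (h.selfU hd) x2, mul_inv_cancel_right]
  · obtain ⟨c, hc, x, x1, y, y1, x2, y2, x3, y3, x4, y4⟩ := h.rep (h.rel_trans r.symm rf)
    have rx := h.rel_trans r (h.rel_A hd x3 x2)
    have ry := h.rel_trans rf (h.rel_A rf.2.1 y3 y2)
    have xU := (h.tiU c hc x x1 x2).2
    have k1 : (d : G) ∈ A x := x4 ▸ h.selfA hd
    have k2 : ¬ (d : G) * y = y * d := fun e1 =>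
      (h.flag rx.2.1 k1 (xU ▸ y1) (h.toSit.ne_one hd) y2).2 e1
        (y4 ▸ (chiG_eq_one.1 ((h.fn_pt rf).symm.trans e0)).2)
    have k3 := (h.toSit.cj_or rx.2.1 (h.leA x rx.2.1 k1) (h.leU x rx.2.1 (xU ▸ y1))).resolve_left
      fun e1 => k2 (mul_inv_eq_iff_eq_mul.1 e1)
    rw [e0, one_smul, ← (h.pt_iff rf ry).1 y3, ← (h.pt_iff r rx).1 x3, h.rho_pt hz d ry, k3, add_comm]
    refine (h.pt_add rx (h.selfU rx.2.1) (xU ▸ y1) x2 y2 fun e1 => y2 ?_).symm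
    rwa [← k3, conj_eq_one_iff'] at e1

theorem exG (p : h.spG z) (φ : Dual (ZMod 2) (h.spG z)) (hp : p ≠ 0) (hφ : φ ≠ 0) (e0 : φ p = 0) :
    ∃ d, Rel D A U z d ∧ h.ptG z d = p ∧ h.fnG z d = φ := by
  let W : Submodule (ZMod 2) (Dual (ZMod 2) (h.spG z)) :=
    { carrier := {φ | φ = 0 ∨ ∃ c, Rel D A U z c ∧ φ = h.fnG z c}
      zero_mem' := Or.inl rfl
      add_mem' := by
        rintro _ _ (rfl | ⟨d, r, rfl⟩) (rfl | ⟨e, r', rfl⟩)
        · exact Or.inl (add_zero _)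
        · exact Or.inr ⟨e, r', zero_add _⟩
        · exact Or.inr ⟨d, r, add_zero _⟩
        obtain ⟨c, hc, x, x1, y, y1, x2, y2, x3, y3, -, -⟩ := h.symm.rep (h.rel_dual (h.rel_trans r.symm r'))
        have rx := h.rel_trans r (h.rel_U r.2.1 x3 x2)
        have ry := h.rel_trans r' (h.rel_U r'.2.1 y3 y2)
        have r1 := h.rel_trans rx (h.rel_A hc x1 x2).symm
        rw [← (h.fn_iff r rx).1 x3, ← (h.fn_iff r' ry).1 y3]
        by_cases e0 : x * y = 1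
        · rw [eq_inv_of_mul_eq_one_left e0, (h.eaA c hc).inv y1]
          refine Or.inl ?_
          rw [← two_smul (ZMod 2)]
          exact zero_smul _ _
        · refine Or.inr ⟨_, h.rel_trans r1 (h.rel_A hc (mul_mem x1 y1) e0), LinearMap.ext fun v => ?_⟩
          rcases h.sp_cases v with rfl | ⟨f, rf, rfl⟩
          · simp
          · rw [LinearMap.add_apply, h.fn_pt rf, h.fn_pt rf, h.fn_pt rf, h.chi_add' r1 x1 y1 x2 y2 e0 rf]
      smul_mem' := by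
        intro c v hv
        have : c = 0 ∨ c = 1 := by revert c; decide
        rcases this with rfl | rfl
        · exact Or.inl (zero_smul _ _)
        · rwa [one_smul] }
  have hW : Submodule.span (ZMod 2) (W : Set (Dual (ZMod 2) (h.spG z))) = ⊤ :=
    Submodule.span_eq_top_of_ne_zero fun v hv => by
      obtain ⟨d, r, rfl⟩ := (h.sp_cases v).resolve_left hv
      obtain ⟨c, rc, e1⟩ := h.pt_ne r
      exact ⟨_, Or.inr ⟨c, rc, rfl⟩, by rw [e1]; exact one_ne_zero⟩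
  rw [Submodule.span_eq] at hW
  obtain ⟨c, rc, rfl⟩ := (show φ ∈ W from hW ▸ Submodule.mem_top).resolve_left hφ
  obtain ⟨d, r, rfl⟩ := (h.sp_cases p).resolve_left hp
  obtain ⟨x, x1, x2, x3⟩ := h.fn_zero r rc e0
  have rx := h.rel_trans r (h.rel_A r.2.1 x1 x3)
  exact ⟨x, rx, (h.pt_iff r rx).1 x1, (h.fn_iff rc rx).1 x2⟩

theorem dimG (hz : z ∈ D) : finrank (ZMod 2) (h.spG z) = w + 2 := by
  classical
  have r := h.rel_refl hz
  obtain ⟨c, rc, e1⟩ := h.fn_ne r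
  have k1 := LinearMap.finrank_range_add_finrank_ker (h.fnG z z)
  have k2 : LinearMap.range (h.fnG z z) = ⊤ := by
    rw [eq_top_iff]
    intro t _
    exact ⟨t • h.ptG z c, by rw [map_smul, e1, smul_eq_mul, mul_one]⟩
  rw [k2, finrank_top, finrank_self] at k1
  have m : ∀ x ∈ U z, h.fnG z z (if x = 1 then 0 else h.ptG z x) = 0 := fun x hx => by
    split_ifs with e
    · exact map_zero _
    · have rx := h.rel_U hz hx e
      exact (h.fn_pt rx).trans (chiG_eq_zero.2 fun e' => h.incA rx.2.1 (h.selfA rx.2.1) hx e e'.2)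
  have ne : ∀ x ∈ U z, x ≠ 1 → h.ptG z x ≠ 0 := fun x hx x1 e => by
    obtain ⟨c, -, e2⟩ := h.pt_ne (h.rel_U hz hx x1)
    rw [e, map_zero] at e2
    exact zero_ne_one e2
  have k3 : Nat.card (U z) = Nat.card (LinearMap.ker (h.fnG z z)) := by
    refine Nat.card_eq_of_bijective (fun x => ⟨_, m x x.2⟩) ⟨fun x y e => ?_, fun v => ?_⟩
    · have e' := congrArg Subtype.val e
      simp only at e'
      apply Subtype.ext
      split_ifs at e' with e2 e3 e3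
      · rw [e2, e3]
      · exact absurd e'.symm (ne y y.2 e3)
      · exact absurd e' (ne x x.2 e2)
      · have ry := h.rel_U hz y.2 e3
        exact h.eq_of_inf ry.2.1 ((h.pt_iff ry (h.rel_U hz x.2 e2)).2 e')
          (by rw [(h.tiU z hz y y.2 e3).2]; exact x.2) e2
    · rcases h.sp_cases v.1 with e | ⟨d, rd, e⟩
      · exact ⟨1, Subtype.ext (by simp [e])⟩
      · obtain ⟨x, x1, x2, x3⟩ := h.fn_zero rd r (by rw [← e]; exact v.2)
        refine ⟨⟨x, x2⟩, Subtype.ext ?_⟩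
        simp only [x3, if_false, e]
        exact (h.pt_iff rd (h.rel_U hz x2 x3)).1 x1
  rw [h.cardU z hz, Module.natCard_eq_pow_finrank (K := ZMod 2), Nat.card_zmod] at k3
  have := Nat.pow_right_injective (le_refl 2) k3
  omega

theorem kerG (hz : z ∈ D) (g : h.stG hz) (e0 : h.rhoG hz g = 1) : g = 1 := by
  have k1 : ∀ d, Rel D A U z d → (g : G) * d * (g : G)⁻¹ = d := fun d r => by
    have r' := (h.stG_iff hz r).1 g.2
    refine h.eq_of_inf r.2.1 ((h.pt_iff r r').2 ?_) ((h.fn_iff r r').2 (LinearMap.ext fun v => ?_))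
      (h.toSit.ne_one r'.2.1)
    · rw [← h.rho_pt hz g r, e0]
      rfl
    · have : h.rhoG hz g v = v := by rw [e0]; rfl
      rw [fnG_apply, fnG_apply, ← this, rhoG_apply, this]
      group
  have k2 : ∀ d, Rel D A U z d → (g : G) ≠ 1 → (g : G) = d := fun d r g1 => by
    refine h.eq_of_inf r.2.1 (h.centA d r.2.1 (mem_C'.2 fun x hx => ?_))
      (h.centU d r.2.1 (mem_C'.2 fun x hx => ?_)) g1
    · by_cases x1 : x = 1
      · rw [x1, mul_one, one_mul]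
      · exact mul_inv_eq_iff_eq_mul.1 (k1 x (h.rel_trans r (h.rel_A r.2.1 hx x1)))
    · by_cases x1 : x = 1
      · rw [x1, mul_one, one_mul]
      · exact mul_inv_eq_iff_eq_mul.1 (k1 x (h.rel_trans r (h.rel_U r.2.1 hx x1)))
  obtain ⟨x, hx, x1, xz⟩ := h.exists_out hz
  by_contra g1
  have g1' : (g : G) ≠ 1 := fun e => g1 (Subtype.ext e)
  exact xz ((k2 x (h.rel_U hz hx x1) g1').symm.trans (k2 z (h.rel_refl hz) g1'))

theorem memDG (hz : z ∈ D) (r : Rel D A U z d) : d ∈ h.stG hz :=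
  (h.stG_iff hz r).2 (by rwa [mul_inv_cancel_right])

end GN

theorem GN.exists_gm (h : GN D Q A U w) (hz : z ∈ D) :
    ∃ (G0 : Subgroup G) (V : Type u) (_ : AddCommGroup V) (_ : Module (ZMod 2) V) (_ : Finite V)
      (ρ : G0 →* (V ≃ₗ[ZMod 2] V)) (pt : G → V) (fn : G → Dual (ZMod 2) V),
      GM D A U w z G0 ρ pt fn := by
  refine ⟨h.stG hz, h.spG z, inferInstance, inferInstance, inferInstance, h.rhoG hz, h.ptG z, h.fnG z,
    h.dimG hz, fun _ => Iff.rfl, fun d r => h.memDG hz r, fun d r g hg => (h.stG_iff hz r).2 ?_,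
    fun d r g => h.stG_iff hz r, ⟨(injective_iff_map_eq_one _).2 (h.kerG hz), ?_⟩, h.actG hz,
    fun d r e => ?_, fun d r e => ?_, fun d r => ?_, h.exG,
    fun d r e he e1 => h.rel_trans r (h.rel_A r.2.1 he e1),
    fun d r e he e1 => h.rel_trans r (h.rel_U r.2.1 he e1), fun d e r r' => h.pt_iff r r',
    fun d e r r' => h.fn_iff r r'⟩
  · rwa [mem_C1_iff_conj.1 hg]
  · rw [← MonoidHom.range_eq_top]
    refine tv_top _ fun p φ h1 h2 h3 => ?_
    obtain ⟨d, r, rfl, rfl⟩ := h.exG p φ h1 h2 h3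
    exact ⟨_, ⟨⟨d, h.memDG hz r⟩, rfl⟩, h.actG hz ⟨d, h.memDG hz r⟩ r⟩
  · obtain ⟨c, -, e2⟩ := h.pt_ne r
    rw [e, map_zero] at e2
    exact zero_ne_one e2
  · obtain ⟨c, -, e2⟩ := h.fn_ne r
    rw [e, LinearMap.zero_apply] at e2
    exact zero_ne_one e2
  · exact (h.fn_pt r).trans (chiG_eq_zero.2 fun e =>
      h.incA r.2.1 (h.selfA r.2.1) (h.selfU r.2.1) (h.toSit.ne_one r.2.1) e.2)

end XS
end H6
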