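import Mathlib
import Cfsg.Agent.H6.XG2
import Cfsg.Agent.H6.Dihedral

/-! The good case: identification with the linear group -/

set_option autoImplicit false
set_option linter.unusedSectionVars false
set_option linter.unusedSimpArgs false
set_option linter.unusedVariables false

namespace H6
namespace XS

open Subgroup H24 H15 H15.XP Module
open scoped commutatorElement

variable {G : Type*} [Group G] [Finite G] {D : Set G} {Q : G → Subgroup G} {w : ℕ} {A U : G → Subgroup G} {z : G}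
variable {V : Type*} [AddCommGroup V] [Module (ZMod 2) V] [Finite V]

namespace G4

theorem two : ∀ c : ZMod 2, c = 0 ∨ c = 1 := by decide

omit [Finite V] in
theorem add_self (v : V) : v + v = 0 := by
  rw [← two_smul (ZMod 2)]
  exact zero_smul _ _

omit [Finite V] in
theorem eq_of_add {v u : V} (e : v + u = 0) : v = u := by
  rw [← add_zero v, ← add_self u, ← add_assoc, e, zero_add]

theorem exists_one {φ : Dual (ZMod 2) V} (h : φ ≠ 0) : ∃ v, φ v = 1 := by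
  by_contra e
  exact h (LinearMap.ext fun v => (two _).resolve_right fun e' => e ⟨v, e'⟩)

theorem exists_sep {φ ψ : Dual (ZMod 2) V} (h : ψ ≠ 0) (h' : ψ ≠ φ) : ∃ v, ψ v = 1 ∧ φ v = 0 := by
  by_contra e
  have k : ∀ v, φ v = 0 → ψ v = 0 := fun v hv => (two _).resolve_right fun e' => e ⟨v, e', hv⟩
  obtain ⟨v0, h0⟩ := exists_one h
  have h1 : φ v0 = 1 := (two _).resolve_left fun e' => zero_ne_one ((k v0 e').symm.trans h0)
  refine h' (LinearMap.ext fun v => ?_)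
  rcases two (φ v) with e1 | e1
  · rw [e1, k v e1]
  · have := k (v + v0) (by rw [map_add, e1, h1]; rfl)
    rw [map_add, h0] at this
    rw [e1]
    revert this
    generalize ψ v = c
    revert c
    decide

theorem la0 {p x x' : V} {φ ψ φ' ψ' : Dual (ZMod 2) V} (x0 : x ≠ 0) (xp : x ≠ p) (x0' : x' ≠ 0)
    (xp' : x' ≠ p) (e : ∀ v, ψ v • p + φ v • x = ψ' v • p + φ' v • x') : φ' = φ := by
  have key : ∀ (y : V) (a b : ZMod 2), a • p + y = b • p → y = 0 ∨ y = p := fun y a b e => by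
    rcases two a with rfl | rfl <;> rcases two b with rfl | rfl
    · exact Or.inl (by simpa using e)
    · exact Or.inr (by simpa using e)
    · exact Or.inr (eq_of_add (by simpa using e)).symm
    · exact Or.inl (by simpa using e)
  refine LinearMap.ext fun v => ?_
  have e1 := e v
  rcases two (φ v) with e2 | e2 <;> rcases two (φ' v) with e3 | e3 <;> rw [e2, e3] at e1
  · rw [e2, e3]
  · rw [zero_smul, add_zero, one_smul] at e1
    exact ((key _ _ _ e1.symm).elim x0' xp').elim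
  · rw [zero_smul, add_zero, one_smul] at e1
    exact ((key _ _ _ e1).elim x0 xp).elim
  · rw [e2, e3]

theorem la {p x p' x' : V} {φ ψ φ' ψ' : Dual (ZMod 2) V} (p0 : p ≠ 0) (x0 : x ≠ 0) (xp : x ≠ p)
    (p0' : p' ≠ 0) (x0' : x' ≠ 0) (xp' : x' ≠ p') (h1 : ψ' ≠ 0) (h2 : ψ' ≠ φ')
    (e : ∀ v, ψ v • p + φ v • x = ψ' v • p' + φ' v • x') :
    (p' = p ∧ φ' = φ) ∨ (p' = x ∧ φ' = ψ) ∨ (p' = p + x ∧ φ' = φ + ψ) := by
  obtain ⟨v, h3, h4⟩ := exists_sep h1 h2
  have e1 := e v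
  rw [h3, h4, one_smul, zero_smul, add_zero] at e1
  rcases two (ψ v) with e2 | e2 <;> rcases two (φ v) with e3 | e3 <;> rw [e2, e3] at e1
  · exact (p0' (by simpa using e1.symm)).elim
  · rw [zero_smul, zero_add, one_smul] at e1
    subst e1
    exact Or.inr (Or.inl ⟨rfl, la0 p0 xp.symm x0' xp' fun v => (add_comm _ _).trans (e v)⟩)
  · rw [zero_smul, add_zero, one_smul] at e1
    subst e1
    exact Or.inl ⟨rfl, la0 x0 xp x0' xp' e⟩
  · rw [one_smul, one_smul] at e1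
    subst e1
    refine Or.inr (Or.inr ⟨rfl, la0 (ψ := ψ) (ψ' := ψ') x0 (fun e2 => p0 (by simpa using e2)) x0' xp' fun v => ?_⟩)
    rw [← e v, LinearMap.add_apply]
    linear_combination (norm := module) add_self (ψ v • x)

/-- an automorphism of order dividing four without orbits of length two is trivial -/
theorem four {Y : Subgroup G} (hY : EA Y) {k : G} (hk : k ∈ N[Y]) (h4 : k * k * (k * k) = 1)
    (h2 : ∀ y ∈ Y, k * k * y = y * (k * k) → k * y = y * k) : k * k ∈ C[Y] := by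
  refine mem_C'.2 fun a ha => ?_
  have m : ∀ y ∈ Y, k * y * k⁻¹ ∈ Y := fun y hy => conj_mem hk hy
  have c : ∀ {x y}, x ∈ Y → y ∈ Y → x * y = y * x := hY.comm
  have h2' : ∀ y ∈ Y, k * (k * y * k⁻¹) * k⁻¹ = y → k * y * k⁻¹ = y := fun y hy e =>
    mul_inv_eq_iff_eq_mul.2 (h2 y hy (by
      calc k * k * y = k * (k * y * k⁻¹) * k⁻¹ * (k * k) := by group
        _ = y * (k * k) := by rw [e]))
  obtain ⟨a1, e1⟩ : ∃ b, b = k * a * k⁻¹ := ⟨_, rfl⟩
  obtain ⟨a2, e2⟩ : ∃ b, b = k * a1 * k⁻¹ := ⟨_, rfl⟩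
  obtain ⟨a3, e3⟩ : ∃ b, b = k * a2 * k⁻¹ := ⟨_, rfl⟩
  have m1 : a1 ∈ Y := e1 ▸ m a ha
  have m2 : a2 ∈ Y := e2 ▸ m a1 m1
  have m3 : a3 ∈ Y := e3 ▸ m a2 m2
  have e4 : k * a3 * k⁻¹ = a := by
    calc k * a3 * k⁻¹ = k * k * (k * k) * a * (k * k * (k * k))⁻¹ := by rw [e3, e2, e1]; group
      _ = a := by rw [h4]; group
  have f1 := h2' _ (mul_mem ha m2) (by rw [cjmR k a, ← e1, ← e3, cjmR, ← e2, e4, c m2 ha])
  rw [cjmR, ← e1, ← e3] at f1
  have f2 := h2' _ (mul_mem ha m1) (by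
    rw [cjmR k a, ← e1, ← e2, cjmR, ← e2, ← e3]
    calc a2 * a3 = a2 * (a1 * a1) * a3 := by rw [hY a1 m1, mul_one]
      _ = a2 * a1 * (a1 * a3) := by group
      _ = a * a1 * (a2 * a2) := by rw [f1, c m2 m1, c ha m1, c ha m2, mul_assoc a1, ← mul_assoc a2,
            mul_assoc a1, c (mul_mem m2 m2) ha]
      _ = a * a1 := by rw [hY a2 m2, mul_one])
  rw [cjmR, ← e1, ← e2, c ha m1, mul_right_inj, e2, e1] at f2
  calc k * k * a = k * (k * a * k⁻¹) * k⁻¹ * (k * k) := by group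
    _ = a * (k * k) := by rw [f2]

/-- the dihedral trick -/
theorem dih {f a : G} (hf : f * f = 1) (ha : a * a = 1) {K : Subgroup G} (fK : f ∈ K) (aK : a ∈ K) :
    (∃ g ∈ K, g * f * g⁻¹ = a) ∨ ∃ t ∈ K, t ≠ 1 ∧ t * f = f * t ∧ t * a = a * t ∧
      ((∃ g ∈ K, g * f * g⁻¹ = f * t) ∨ ∃ g ∈ K, g * f * g⁻¹ = a * t) := by
  have le : closure ({f, a} : Set G) ≤ K := (closure_le _).2 (by
    rintro x (rfl | rfl)
    exacts [fK, aK])
  rcases Nat.even_or_odd (orderOf (f * a)) with e | e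
  · obtain ⟨h1, h2, h3⟩ := central_involution hf ha e
    refine Or.inr ⟨_, pow_mem (mul_mem fK aK) _, ne_one_of_orderOf_two h1, h2, h3, ?_⟩
    obtain ⟨n, e1 | e1⟩ := Nat.even_or_odd' (orderOf (f * a) / 2)
    · obtain ⟨g, g1, g2⟩ := (exists_conj_left_iff hf ha (z := f * (f * a) ^ (orderOf (f * a) / 2))).2
        ⟨n, by rw [e1, ← zpow_natCast]; push_cast; rfl⟩
      exact Or.inl ⟨g, le g1, g2⟩
    · obtain ⟨g, g1, g2⟩ := (exists_conj_left_iff hf ha (z := a * (f * a) ^ (orderOf (f * a) / 2))).2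
        ⟨n + 1, by
          rw [e1, ← zpow_natCast, show 2 * ((n : ℤ) + 1) = 1 + ((2 * n + 1 : ℕ) : ℤ) by push_cast; ring,
            zpow_add, zpow_one, ← mul_assoc, ← mul_assoc, hf, one_mul]⟩
      exact Or.inr ⟨g, le g1, g2⟩
  · obtain ⟨g, g1, g2⟩ := exists_conj_of_odd hf ha e
    exact Or.inl ⟨g, le g1, g2⟩

end G4

open G4

namespace GM

variable {G0 : Subgroup G} {ρ : G0 →* (V ≃ₗ[ZMod 2] V)} {pt : G → V} {fn : G → Dual (ZMod 2) V}
  (m : GM D A U w z G0 ρ pt fn)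
include m

theorem rho4 {d : G} (r : Rel D A U z d) (hd : d ∈ G0) (v : V) : ρ ⟨d, hd⟩ v = v + fn d v • pt d :=
  m.act ⟨d, hd⟩ r v

theorem ext4 {x y : G0} (e : ∀ v, ρ x v = ρ y v) : (x : G) = y :=
  congrArg Subtype.val (m.bij.1 (LinearEquiv.ext e))

theorem inj4 (h : GN D Q A U w) {d e : G} (r : Rel D A U z d) (r' : Rel D A U z e) (e1 : pt e = pt d)
    (e2 : fn e = fn d) : e = d :=
  h.eq_of_inf r.2.1 ((m.ptA d e r r').2 e1) ((m.fnU d e r r').2 e2) (h.toSit.ne_one r'.2.1)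

end GM

theorem GM.mem {G0 : Subgroup G} {ρ : G0 →* (V ≃ₗ[ZMod 2] V)} {pt : G → V}
    {fn : G → Dual (ZMod 2) V} (m : GM D A U w z G0 ρ pt fn) (h : GN D Q A U w) (hz : z ∈ D)
    {d : G} (hd : d ∈ D) (h0 : d ∈ G0) : Rel D A U z d := by
  have s := h.toSit
  obtain ⟨δ, hδ⟩ : ∃ δ : V →ₗ[ZMod 2] V, ∀ v, ρ ⟨d, h0⟩ v = v + δ v :=
    ⟨(ρ ⟨d, h0⟩ : V →ₗ[ZMod 2] V) - LinearMap.id, fun v => by simp⟩
  have d2 : ∀ v, δ (δ v) = 0 := fun v => by
    have e : ρ (⟨d, h0⟩ * ⟨d, h0⟩) v = v := by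
      rw [show (⟨d, h0⟩ * ⟨d, h0⟩ : G0) = 1 from Subtype.ext (s.sq hd), map_one]
      rfl
    rw [map_mul, LinearEquiv.mul_apply, hδ, hδ, map_add] at e
    linear_combination (norm := module) e - add_self (δ v)
  obtain ⟨x, hx⟩ : ∃ x, δ x ≠ 0 := by
    by_contra e
    refine s.ne_one hd (m.ext4 (x := ⟨d, h0⟩) (y := 1) fun v => ?_)
    rw [hδ, not_not.1 fun e' => e ⟨v, e'⟩, add_zero, map_one]
    rfl
  have x0 : x ≠ 0 := fun e => hx (by rw [e, map_zero])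
  have xp : x ≠ δ x := fun e => hx (by rw [e, d2])
  by_cases rk : ∃ y, δ y ≠ 0 ∧ δ y ≠ δ x
  swap
  · obtain ⟨ψ, hψ⟩ := Module.Projective.exists_dual_ne_zero (ZMod 2) hx
    replace hψ := (two _).resolve_left hψ
    obtain ⟨e, r, e1, e2⟩ := m.ex (δ x) (ψ ∘ₗ δ) hx
      (fun e => hx (by
        have := LinearMap.congr_fun e x
        rw [LinearMap.comp_apply, hψ] at this
        exact absurd this one_ne_zero))
      (by rw [LinearMap.comp_apply, d2, map_zero])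
    have : d = e := m.ext4 (x := ⟨d, h0⟩) (y := ⟨e, m.memD e r⟩) fun v => by
      rw [hδ, m.rho4 r, e1, e2, LinearMap.comp_apply]
      by_cases e3 : δ v = 0
      · rw [e3, map_zero, zero_smul]
      · rw [not_not.1 fun e' => rk ⟨v, e3, e'⟩, hψ, one_smul]
    exact this ▸ r
  obtain ⟨y, y0, yp⟩ := rk
  have nm : x ∉ Submodule.span (ZMod 2) {δ x, x + δ y} := fun e => by
    obtain ⟨a, b, e⟩ := Submodule.mem_span_pair.1 e
    rcases two a with rfl | rfl <;> rcases two b with rfl | rfl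
    · exact x0 (by simpa using e.symm)
    · exact y0 (by simpa using e)
    · exact xp (by simpa using e.symm)
    · refine yp (eq_of_add ?_)
      linear_combination (norm := module) e
  obtain ⟨ψ, h1, h2⟩ := Submodule.exists_dual_map_eq_bot_of_notMem nm inferInstance
  replace h1 := (two _).resolve_left h1
  have h3 : ∀ v ∈ Submodule.span (ZMod 2) {δ x, x + δ y}, ψ v = 0 := fun v hv =>
    (Submodule.mem_bot _).1 (h2 ▸ Submodule.mem_map_of_mem hv)
  have h4 : ψ (δ x) = 0 := h3 _ (Submodule.subset_span (by simp))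
  have h5 : ψ (δ y) ≠ 0 := fun e => by
    have := h3 (x + δ y) (Submodule.subset_span (by simp))
    rw [map_add, h1, e, add_zero] at this
    exact one_ne_zero this
  have φ0 : ψ ∘ₗ δ ≠ 0 := fun e => h5 (LinearMap.congr_fun e y)
  obtain ⟨e, re, e1, e2⟩ := m.ex (δ x) (ψ ∘ₗ δ) hx φ0 (by rw [LinearMap.comp_apply, d2, map_zero])
  obtain ⟨a, ra, a1, a2⟩ := m.ex (δ x) ψ hx (fun e => h5 (by rw [e]; rfl)) h4
  obtain ⟨u, ru, u1, u2⟩ := m.ex x (ψ ∘ₗ δ) x0 φ0 h4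
  have kQ : a * u ∈ Q e := mul_mem (h.leA e re.2.1 ((m.ptA e a re ra).2 (a1.trans e1.symm)))
    (h.leU e re.2.1 ((m.fnU e u re ru).2 (u2.trans e2.symm)))
  have k0 : a * u ∈ G0 := mul_mem (m.memD a ra) (m.memD u ru)
  have rk : ∀ v, ρ ⟨a * u, k0⟩ v = v + ψ (δ v) • x + (ψ v + ψ (δ v)) • δ x := fun v => by
    rw [show (⟨a * u, k0⟩ : G0) = ⟨a, m.memD a ra⟩ * ⟨u, m.memD u ru⟩ from rfl, map_mul,
      LinearEquiv.mul_apply, m.rho4 ra, m.rho4 ru, a1, a2, u1, u2]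
    simp [h1]
  have k2 : a * u * (a * u) = e := m.ext4 (x := ⟨a * u, k0⟩ * ⟨a * u, k0⟩) (y := ⟨e, m.memD e re⟩) fun v => by
    rw [map_mul, LinearEquiv.mul_apply, rk, rk, m.rho4 re, e1, e2]
    simp only [map_add, map_smul, h1, h4, d2, map_zero, smul_eq_mul, mul_zero, mul_one, add_zero,
      smul_zero, LinearMap.comp_apply]
    linear_combination (norm := module) add_self (ψ (δ v) • x) + add_self (ψ v • δ x) +
      add_self (ψ (δ v) • δ x)
  have kd : a * u * d = d * (a * u) :=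
    m.ext4 (x := ⟨a * u, k0⟩ * ⟨d, h0⟩) (y := ⟨d, h0⟩ * ⟨a * u, k0⟩) fun v => by
    rw [map_mul, map_mul, LinearEquiv.mul_apply, LinearEquiv.mul_apply, rk, rk, hδ, hδ]
    simp only [map_add, map_smul, h1, h4, d2, map_zero, smul_eq_mul, mul_zero, mul_one, add_zero,
      smul_zero]
    module
  by_contra nr
  have bot : ∀ t ∈ Q e, t ∈ A d → t = 1 := fun t t1 t2 => by
    by_contra t3
    have rt := h.rel_A hd t2 t3
    refine nr (h.rel_trans ?_ rt.symm)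
    exact (h.mem e re.2.1 t rt.2.1 t1).elim (fun t4 => m.relA e re t t4 t3) fun t4 => m.relU e re t t4 t3
  have kN : a * u ∈ N[A d] := h.normA hd (mem_C1.2 kd)
  have := four (h.eaA d hd) kN (by rw [k2, s.sq re.2.1]) fun t ht e3 => by
    rw [k2] at e3
    have e4 := bot (a * u * t * (a * u)⁻¹ * t⁻¹) (by
      rw [mul_assoc, mul_assoc, ← mul_assoc t]
      exact mul_mem kQ (conj_mem (s.norm re.2.1 (mem_C1.2 e3.symm)) (inv_mem kQ)))
      (mul_mem (conj_mem kN ht) (inv_mem ht))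
    rwa [mul_inv_eq_one, mul_inv_eq_iff_eq_mul] at e4
  rw [k2] at this
  exact s.ne_one re.2.1 (bot e (s.mem re.2.1) (h.centA d hd this))

namespace GM

variable {G0 : Subgroup G} {ρ : G0 →* (V ≃ₗ[ZMod 2] V)} {pt : G → V} {fn : G → Dual (ZMod 2) V}
  (m : GM D A U w z G0 ρ pt fn) (h : GN D Q A U w) (hz : z ∈ D) {e e' j : G}
include m h hz

theorem comm4 (r : Rel D A U z e) (he : e' ∈ D) (c : e' * e = e * e') : Rel D A U z e' :=
  m.mem h hz he (m.cent e r (mem_C1.2 c))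

theorem rep4 (r : Rel D A U z e) (hj : j ∈ Q e) (jD : j ∉ D) (j1 : j ≠ 1) (j0 : j ∈ G0) :
    ∃ (ψ : Dual (ZMod 2) V) (x : V), ψ ≠ 0 ∧ ψ ≠ fn e ∧ x ≠ 0 ∧ x ≠ pt e ∧ ψ (pt e) = 0 ∧ fn e x = 0 ∧
      ∀ v, ρ ⟨j, j0⟩ v = v + (ψ v • pt e + fn e v • x) := by
  have he := r.2.1
  obtain ⟨a, ha, u, hu, rfl⟩ := h.decomp he hj
  have aU : a ∉ U e := fun e1 => jD (h.tiU e he _ (mul_mem e1 hu) j1).1
  have uA : u ∉ A e := fun e1 => jD (h.tiA e he _ (mul_mem ha e1) j1).1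
  have ra := m.relA e r a ha fun e1 => aU (e1 ▸ one_mem _)
  have ru := m.relU e r u hu fun e1 => uA (e1 ▸ one_mem _)
  have a1 := (m.ptA e a r ra).1 ha
  have u1 := (m.fnU e u r ru).1 hu
  have a2 : fn a ≠ fn e := fun e1 => aU ((m.fnU e a r ra).2 e1)
  refine ⟨fn a + fn a (pt u) • fn e, pt u, ?_, ?_, m.pt_ne u ru, fun e1 => uA ((m.ptA e u r ru).2 e1),
    ?_, u1 ▸ m.fn_pt u ru, fun v => ?_⟩
  · rcases two (fn a (pt u)) with e1 | e1 <;> rw [e1]
    · simpa using m.fn_ne a ra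
    · exact fun e2 => a2 (eq_of_add (by simpa using e2))
  · rcases two (fn a (pt u)) with e1 | e1 <;> rw [e1]
    · simpa using a2
    · simpa using m.fn_ne a ra
  · rw [LinearMap.add_apply, LinearMap.smul_apply, m.fn_pt e r, ← a1, m.fn_pt a ra]
    simp
  · rw [show (⟨a * u, j0⟩ : G0) = ⟨a, m.memD a ra⟩ * ⟨u, m.memD u ru⟩ from rfl, map_mul,
      LinearEquiv.mul_apply, m.rho4 ra, m.rho4 ru, a1, u1]
    simp only [map_add, map_smul, smul_eq_mul, LinearMap.add_apply, LinearMap.smul_apply]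
    module

theorem tri4 (r : Rel D A U z e) (r' : Rel D A U z e') (ne : e' ≠ e) (hj : j ∈ Q e) (hj' : j ∈ Q e')
    (jD : j ∉ D) (j1 : j ≠ 1) : e * e' * j ∈ D := by
  have j0 : j ∈ G0 := m.cent e r (h.toSit.le r.2.1 hj)
  obtain ⟨ψ, x, h1, h2, h3, h4, h5, h6, h7⟩ := m.rep4 h hz r hj jD j1 j0
  obtain ⟨ψ', x', h1', h2', h3', h4', -, -, h7'⟩ := m.rep4 h hz r' hj' jD j1 j0
  have k := m.fn_pt e' r'
  have k0 := m.fn_pt e r
  have key : ∀ (p : V) (φ : Dual (ZMod 2) V), p ≠ 0 → φ ≠ 0 → φ p = 0 →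
      (∀ v, ρ ⟨e, m.memD e r⟩ (ρ ⟨e', m.memD e' r'⟩ (ρ ⟨j, j0⟩ v)) = v + φ v • p) → e * e' * j ∈ D :=
    fun p φ p0 φ0 e0 e1 => by
      obtain ⟨c, rc, rfl, rfl⟩ := m.ex p φ p0 φ0 e0
      have : e * e' * j = c := m.ext4 (x := ⟨e, m.memD e r⟩ * ⟨e', m.memD e' r'⟩ * ⟨j, j0⟩)
        (y := ⟨c, m.memD c rc⟩) fun v => by
          rw [map_mul, map_mul, LinearEquiv.mul_apply, LinearEquiv.mul_apply, e1, m.rho4 rc]
      exact this ▸ rc.2.1
  rcases la (m.pt_ne e r) h3 h4 (m.pt_ne e' r') h3' h4' h1' h2'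
    (fun v => add_left_cancel ((h7 v).symm.trans (h7' v))) with ⟨e1, e2⟩ | ⟨e1, e2⟩ | ⟨e1, e2⟩
  · exact absurd (m.inj4 h r r' e1 e2) ne
  · rw [e1, e2] at k
    refine key (pt e + x) (fn e + ψ) (fun e3 => h4 (eq_of_add e3).symm) (fun e3 => h2 (eq_of_add e3).symm)
      (by simp [k, k0, h5, h6]) fun v => ?_
    rw [m.rho4 r, m.rho4 r', h7, e1, e2]
    simp only [map_add, map_smul, k, k0, h5, h6, smul_eq_mul, mul_zero, add_zero, LinearMap.add_apply]
    module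
  · rw [e1, e2] at k
    replace k : ψ x = 0 := by simpa [k0, h5, h6] using k
    refine key x ψ h3 h1 k fun v => ?_
    rw [m.rho4 r, m.rho4 r', h7, e1, e2]
    simp only [map_add, map_smul, k, k0, h5, h6, smul_eq_mul, mul_zero, add_zero, LinearMap.add_apply]
    linear_combination (norm := module) add_self (ψ v • pt e) + add_self (fn e v • pt e) +
      add_self (fn e v • x)

theorem three4 (r : Rel D A U z e) (hj : j ∈ Q e) (jD : j ∉ D) (j1 : j ≠ 1) :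
    {c | Rel D A U z c ∧ j ∈ Q c}.ncard ≤ 3 := by
  have j0 : j ∈ G0 := m.cent e r (h.toSit.le r.2.1 hj)
  obtain ⟨ψ, x, -, -, h3, h4, -, -, h7⟩ := m.rep4 h hz r hj jD j1 j0
  refine (Set.ncard_le_ncard_of_injOn (t := {(pt e, fn e), (x, ψ), (pt e + x, fn e + ψ)})
    (fun c => (pt c, fn c)) (fun c hc => ?_) fun c hc c' hc' e1 => ?_).trans ?_
  · obtain ⟨ψ', x', h1', h2', h3', h4', -, -, h7'⟩ := m.rep4 h hz hc.1 hc.2 jD j1 j0
    simpa using la (m.pt_ne e r) h3 h4 (m.pt_ne c hc.1) h3' h4' h1' h2'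
      (fun v => add_left_cancel ((h7 v).symm.trans (h7' v)))
  · exact m.inj4 h hc'.1 hc.1 (congrArg Prod.fst e1) (congrArg Prod.snd e1)
  · exact (Set.ncard_insert_le _ _).trans (Nat.succ_le_succ ((Set.ncard_insert_le _ _).trans (by simp)))

/-- the product formula for arbitrary commuting pairs -/
theorem tri4' {f f' : G} (hf : f ∈ D) (hf' : f' ∈ D) (ne : f' ≠ f) (c : f' * f = f * f') (hj : j ∈ Q f)
    (hj' : j ∈ Q f') (jD : j ∉ D) (j1 : j ≠ 1) : f * f' * j ∈ D := by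
  obtain ⟨g, hg⟩ := h.trans f hf z hz
  have k := m.tri4 h hz (e' := g * f' * g⁻¹) (j := g * j * g⁻¹) (h.rel_refl hz)
    (m.comm4 h hz (h.rel_refl hz) (h.conj f' hf' g) (by rw [← hg, ← cjmR, ← cjmR, c]))
    (fun e1 => ne (by simpa [← hg] using e1))
    (by rw [← hg, h.eqv f hf]; exact conj_mem_cj g hj)
    (by rw [h.eqv f' hf']; exact conj_mem_cj g hj')
    (fun e1 => jD (by simpa [mul_assoc] using h.conj _ e1 g⁻¹))
    (fun e1 => j1 (by simpa using e1))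
  have := h.conj _ k g⁻¹
  rw [← hg] at this
  simpa [mul_assoc] using this

theorem zsub4 (r : Rel D A U z e) (hj : j ∈ Q e) (jD : j ∉ D) (j1 : j ≠ 1) {f : G} (hf : f ∈ D)
    (hj' : j ∈ Q f) : Rel D A U z f := by
  have s := h.toSit
  have he := r.2.1
  by_contra nr
  have cz : ∀ g ∈ C{j}, j ∈ Q (g * f * g⁻¹) := fun g hg => by
    rw [h.eqv f hf, ← mem_C1_iff_conj.1 hg]
    exact conj_mem_cj g hj'
  have key : ∀ a : G, ∃ c, a ∈ A e ⊓ C{j} →
      c ∈ insert 1 {c | Rel D A U z c ∧ j ∈ Q c} ∧ a * c ∈ C{f} := fun a => by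
    by_cases ha : a ∈ A e ⊓ C{j}
    swap
    · exact ⟨1, fun e1 => absurd e1 ha⟩
    by_cases a1 : a = 1
    · exact ⟨1, fun _ => ⟨Or.inl rfl, by rw [a1, one_mul]; exact one_mem _⟩⟩
    have ra := m.relA e r a ha.1 a1
    have a2 := s.sq ra.2.1
    rcases dih (s.sq hf) a2 (mem_C1_comm.1 (s.le hf hj')) ha.2 with
      ⟨g, g1, g2⟩ | ⟨t, t1, t2, t3, t4, ⟨g, g1, g2⟩ | ⟨g, g1, g2⟩⟩
    · exact ⟨a, fun _ => ⟨Or.inr ⟨ra, g2 ▸ cz g g1⟩, by rw [a2]; exact one_mem _⟩⟩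
    · have k := m.tri4' h hz hf (g2 ▸ h.conj f hf g : f * t ∈ D) (by simpa using t2)
        (by rw [mul_assoc, t3]) hj' (g2 ▸ cz g g1) jD j1
      rw [← mul_assoc, s.sq hf, one_mul] at k
      have rk := m.comm4 h hz ra k (by rw [mul_assoc, ← mem_C1.1 ha.2, ← mul_assoc, t4, mul_assoc])
      exact absurd (m.comm4 h hz rk hf (by
        rw [← mul_assoc, ← t3, mul_assoc, mul_assoc, mem_C1.1 (s.le hf hj')])) nr
    · refine ⟨a * t, fun _ => ⟨Or.inr ⟨m.comm4 h hz ra (g2 ▸ h.conj f hf g) (by rw [mul_assoc, t4]),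
        g2 ▸ cz g g1⟩, ?_⟩⟩
      rw [← mul_assoc, a2, one_mul]
      exact mem_C1.2 t3
  choose c hc using key
  have jA : j ∉ A e := fun e1 => jD (h.tiA e he j e1 j1).1
  have k1 := card_mul_relIndex (inf_le_left : A e ⊓ C{j} ≤ A e)
  rw [(h.symm.actU he hj jA).1, h.cardA e he, pow_succ] at k1
  have k2 : 2 ^ 3 ≤ 2 ^ w := Nat.pow_le_pow_right (by norm_num) (by have := h.four; omega)
  have k3 := (Set.ncard_insert_le (1 : G) _).trans (Nat.succ_le_succ (m.three4 h hz r hj jD j1))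
  obtain ⟨a, ha, a', ha', ne, e1⟩ := Set.exists_ne_map_eq_of_ncard_lt_of_maps_to
    (s := (A e ⊓ C{j} : Subgroup G)) (f := c)
    (k3.trans_lt (by rw [← Nat.card_coe_set_eq]; change _ < Nat.card ↥(A e ⊓ C{j}); omega))
    fun a ha => (hc a ha).1
  have k4 := mul_mem (hc a ha).2 (inv_mem (hc a' ha').2)
  rw [e1, mul_inv_rev, mul_assoc, mul_inv_cancel_left] at k4
  exact nr (m.comm4 h hz (m.relA e r _ (mul_mem ha.1 (inv_mem ha'.1)) fun e2 => ne (mul_inv_eq_one.1 e2))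
    hf (mem_C1.1 k4).symm)

end GM

theorem GM.cent_mul {G0 : Subgroup G} {ρ : G0 →* (V ≃ₗ[ZMod 2] V)} {pt : G → V}
    {fn : G → Dual (ZMod 2) V} (m : GM D A U w z G0 ρ pt fn) (h : GN D Q A U w) (hz : z ∈ D)
    {d : G} (hd : d ∈ D) (hne : d ≠ z) (hc : z * d = d * z) : C{z * d} ≤ G0 := by
  have s := h.toSit
  have rz := h.rel_refl hz
  have r := m.comm4 h hz rz hd hc.symm
  by_cases jD : z * d ∈ D
  · exact m.cent _ (m.comm4 h hz rz jD (by rw [mul_assoc, hc]))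
  have j1 : z * d ≠ 1 := fun e => hne (by
    rw [eq_inv_of_mul_eq_one_right e, inv_eq_of_mul_self (s.sq hz)])
  have k : fn d (pt z) = 0 := by
    by_contra e
    replace e := (two _).resolve_left e
    have e1 := congrArg (fun g => ρ g (pt z)) (show (⟨z, m.memD z rz⟩ * ⟨d, m.memD d r⟩ : G0) =
      ⟨d, m.memD d r⟩ * ⟨z, m.memD z rz⟩ from Subtype.ext hc)
    simp only [map_mul, LinearEquiv.mul_apply, m.rho4 rz, m.rho4 r, m.fn_pt z rz, e, map_add, zero_smul,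
      add_zero, one_smul, zero_add] at e1
    have e2 : fn z (pt d) = 0 := (two _).resolve_right fun e2 => m.pt_ne z rz (by simpa [e2] using e1)
    obtain ⟨v, hv⟩ := exists_one (m.fn_ne z rz)
    have e3 := congrArg (fun g => ρ g v) (show (⟨z, m.memD z rz⟩ * ⟨d, m.memD d r⟩ : G0) =
      ⟨d, m.memD d r⟩ * ⟨z, m.memD z rz⟩ from Subtype.ext hc)
    simp only [map_mul, LinearEquiv.mul_apply, m.rho4 rz, m.rho4 r, hv, e, e2, map_add, map_smul,
      smul_eq_mul, mul_zero, add_zero, one_smul] at e3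
    refine m.pt_ne d r ?_
    linear_combination (norm := module) -e3
  obtain ⟨e, re, e1, e2⟩ := m.ex (pt z) (fn d) (m.pt_ne z rz) (m.fn_ne d r) k
  have hj : z * d ∈ Q e := mul_mem (h.leA e re.2.1 ((m.ptA e z re rz).2 e1.symm))
    (h.leU e re.2.1 ((m.fnU e d re r).2 e2.symm))
  intro g hg
  refine (m.stab e re g).2 (m.zsub4 h hz re hj jD j1 (h.conj e re.2.1 g) ?_)
  rw [h.eqv e re.2.1, ← mem_C1_iff_conj.1 hg]
  exact conj_mem_cj g hj

theorem GN.iso [IsSimpleGroup G] (h : GN D Q A U w) (hz : z ∈ D) :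
    Nonempty (G ≃* Matrix.ProjectiveSpecialLinearGroup (Fin (w + 2)) (ZMod 2)) := by
  have s := h.toSit
  obtain ⟨G0, V, _, _, _, ρ, pt, fn, m⟩ := h.exists_gm hz
  obtain ⟨a, ha, a1, az⟩ := h.symm.exists_out hz
  have aU : a ∉ U z := fun e => az (h.eq_of_inf hz ha e a1)
  have k1 := card_mul_relIndex (inf_le_left : U z ⊓ C{a} ≤ U z)
  rw [(h.actU hz (h.leA z hz ha) aU).1, h.cardU z hz, pow_succ] at k1
  have k2 : 2 ^ 2 ≤ 2 ^ w := Nat.pow_le_pow_right (by norm_num) s.two_le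
  obtain ⟨u, hu, uA⟩ := SetLike.not_le_iff_exists.1 fun e : U z ⊓ C{a} ≤ A z => by
    have := card_le ((le_inf e inf_le_left).trans (h.inf z hz).le)
    rw [card_zpowers', s.ord hz] at this
    omega
  have n1 : a * u ∉ A z := fun e => uA ((mul_mem_cancel_left ha).1 e)
  have top : G0 = ⊤ := s.eq_top hz (t := a * u) (m.memD z (h.rel_refl hz))
    (fun g hg => (m.memG g).2 (m.mem h hz (h.conj z hz g) hg))
    (fun e he ne c => m.cent_mul h hz he ne c)
    (by rw [mul_assoc, ← mul_assoc u, mem_C1.1 hu.2, mul_assoc, h.eaU z hz u hu.1, mul_one,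
      h.eaA z hz a ha])
    (fun e => n1 (e ▸ one_mem _))
    fun e => (h.mem z hz _ e (mul_mem (h.leA z hz ha) (h.leU z hz hu.1))).elim n1
      fun e => aU ((mul_mem_cancel_right (mem_inf.1 hu).1).1 e)
  subst top
  obtain ⟨e⟩ := gl_iso_psl m.dim
  exact ⟨(topEquiv.symm.trans (MulEquiv.ofBijective ρ m.bij)).trans e⟩

end XS
end H6
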