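import Mathlib
import Cfsg.Agent.H6.XB
import Cfsg.Agent.H3.XPb

/-! Commuting pairs, I -/

set_option autoImplicit false
set_option linter.unusedSectionVars false

namespace H6
namespace XS

open Subgroup H24 H15 H15.XP Module
open scoped commutatorElement

variable {G : Type*} [Group G] [Finite G] {D : Set G} {Q : G → Subgroup G} {w : ℕ} {a b x : G}

theorem Sit.star (h : Sit D Q w) (wc : WC D Q) (hb : b ∈ D) (hx : x * b * x⁻¹ * b⁻¹ ∈ Q b) :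
    x ∈ C{b} := H3.XP.star' h wc hb hx

theorem Sit.ea_inf (h : Sit D Q w) (wc : WC D Q) (c : Col D a b) : EA (Q a ⊓ Q b) := H3.XP.ea_I h c wc

theorem Sit.inf_cent (h : Sit D Q w) (wc : WC D Q) (c : Col D a b) :
    Q a ⊓ Q b ≤ C[Q a ⊓ C{b}] := H3.XP.I_cent h c wc

theorem Sit.comm_le (h : Sit D Q w) (c : Col D a b) :
    ⁅Q a ⊓ C{b}, Q b ⊓ C{a}⁆ ≤ Q a ⊓ Q b := commutator_le.2 fun _ hx _ hy => H3.XP.k_I h c hx hy

theorem Sit.al (h : Sit D Q w) (wc : WC D Q) (c : Col D a b)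
    (hα : ∀ x ∈ Q a, x * b * x⁻¹ ≠ a * b) : Al Q a b := H3.XP.al' h c wc hα

theorem Sit.beta (h : Sit D Q w) (wc : WC D Q) (c : Col D a b)
    (hβ : ∃ x ∈ Q a, x * b * x⁻¹ = a * b) : w = 2 ∧ TL Q a b := let ⟨_, ht, e⟩ := hβ; H3.XP.beta' h c wc ht e

end XS
end H6
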