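import Mathlib
import Cfsg.Agent.H6.XP1
import Cfsg.Agent.H3.XPc

/-! Commuting pairs, II -/

set_option autoImplicit false
set_option linter.unusedSectionVars false

namespace H6
namespace XS

open Subgroup H24 H15 H15.XP Module
open scoped commutatorElement

variable {G : Type*} [Group G] [Finite G] {D : Set G} {Q : G → Subgroup G} {w : ℕ} {a b : G}

theorem Sit.pair (h : Sit D Q w) (wc : WC D Q) (c : Col D a b) :
    TU Q a b ∨ (w = 4 ∧ TO Q a b) ∨ (w = 2 ∧ TL Q a b) := H3.XP.pair' h wc c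

theorem Sit.cases (h : Sit D Q w) (wc : WC D Q) (ha : a ∈ D) :
    US D Q w ∨ (w = 4 ∧ ∃ b, Col D a b ∧ TO Q a b) ∨ (w = 2 ∧ ∃ b, Col D a b ∧ TL Q a b) := by
  by_cases hU : AllU D Q
  · exact Or.inl ⟨h, wc, hU⟩
  simp only [AllU, not_forall] at hU
  obtain ⟨a', ha', b', hb', ne, cm, n⟩ := hU
  obtain ⟨g, rfl⟩ := h.trans a' ha' a ha
  have c : Col D a' b' := ⟨ha', hb', ne, cm⟩
  have c' := H3.XP.ccj h c g
  refine ((h.pair wc c').resolve_left fun t => n ?_).elim (fun t => Or.inr (Or.inl ⟨t.1, _, c', t.2⟩))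
    fun t => Or.inr (Or.inr ⟨t.1, _, c', t.2⟩)
  obtain ⟨t1, t2, t3⟩ := t
  rw [h.eqv a' ha', h.eqv b' hb', ← cj_inf] at t1 t2 t3
  refine ⟨card_cj g _ ▸ t1, fun x hx => ?_, fun i hi i1 x hx n xi => ?_⟩
  · have := t2 _ (conj_mem_cj g hx)
    rwa [← cj_C1, ← cj_C, conj_mem_cj_iff, conj_mem_cj_iff] at this
  · have := t3 _ (conj_mem_cj g hi) (H3.XP.cjne g i1) _ (conj_mem_cj g hx)
      (by rwa [← cj_C1, conj_mem_cj_iff]) (by rwa [← cj_C1, conj_mem_cj_iff])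
    calc _ = g⁻¹ * (g * x * g⁻¹ * (g * b' * g⁻¹) * (g * x * g⁻¹)⁻¹) * g := by group
      _ = _ := by rw [this]; group

end XS
end H6
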