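import Mathlib
import Cfsg.Agent.H6.XP1
import Cfsg.Agent.H18.XU0

/-! Unitary case: lines -/

set_option autoImplicit false
set_option linter.unusedSectionVars false

namespace H6
namespace XS

open Subgroup H24 H15 H15.XP Module H18.XU
open scoped commutatorElement

variable {G : Type*} [Group G] [Finite G] {D : Set G} {Q : G → Subgroup G} {w : ℕ}

theorem Col.symm {a b : G} (c : Col D a b) : Col D b a := ⟨c.r, c.l, c.ne.symm, c.comm.symm⟩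

theorem UU_symm (a b : G) : UU Q a b = UU Q b a := by
  rw [UU, UU, sup_comm (zpowers a), inf_comm]

theorem left_mem_UU (a b : G) : a ∈ UU Q a b := mem_sup_left (mem_sup_left (mem_zpowers a))

theorem right_mem_UU (a b : G) : b ∈ UU Q a b := mem_sup_left (mem_sup_right (mem_zpowers b))

theorem WW_le_UU (a b : G) : WW Q a b ≤ UU Q a b := sup_le_sup_right le_sup_left _

theorem I_le_WW (a b : G) : Q a ⊓ Q b ≤ WW Q a b := le_sup_right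

theorem I_le_UU (a b : G) : Q a ⊓ Q b ≤ UU Q a b := le_sup_right

theorem left_mem_WW (a b : G) : a ∈ WW Q a b := mem_sup_left (mem_zpowers a)

theorem UU_eq_sup (a b : G) : UU Q a b = WW Q a b ⊔ zpowers b := by
  rw [UU, WW, sup_right_comm]

namespace US

variable (h : US D Q w) {a b c d e e' p r s x i g : G}
include h

theorem col_cj (c : Col D a b) (g : G) : Col D (g * a * g⁻¹) (g * b * g⁻¹) :=
  ⟨h.conj a c.l g, h.conj b c.r g, fun e => c.ne (cjinj e), cjcomm g c.comm⟩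

theorem tu (c : Col D a b) : TU Q a b := h.allU a c.l b c.r c.ne c.comm

theorem notQ (c : Col D a b) : b ∉ Q a := fun e => c.ne (h.wc a c.l b c.r e).symm

theorem alpha (c : Col D a b) (hx : x ∈ Q a) : x * b * x⁻¹ ≠ a * b := fun e => by
  have h1 := (h.toSit.beta h.wc c ⟨x, hx, e⟩).2.bot
  have h2 := (h.tu c).card
  rw [h1] at h2
  simp at h2

theorem al (c : Col D a b) : Al Q a b := h.toSit.al h.wc c fun _ => h.alpha c

theorem eaI (c : Col D a b) : EA (Q a ⊓ Q b) := h.toSit.ea_inf h.wc c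

theorem cI (c : Col D a b) (hi : i ∈ Q a ⊓ Q b) : a * i = i * a := (mem_C1.1 (h.le c.l (mem_inf.1 hi).1)).symm

theorem cI' (c : Col D a b) (hi : i ∈ Q a ⊓ Q b) : b * i = i * b := (mem_C1.1 (h.le c.r (mem_inf.1 hi).2)).symm

theorem cj_UU (c : Col D a b) (g : G) :
    cj g (UU Q a b) = UU Q (g * a * g⁻¹) (g * b * g⁻¹) := by
  rw [UU, UU, cj_sup, cj_sup, cj_inf, cj_zpowers, cj_zpowers, h.eqv a c.l, h.eqv b c.r]

theorem cj_WW (c : Col D a b) (g : G) :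
    cj g (WW Q a b) = WW Q (g * a * g⁻¹) (g * b * g⁻¹) := by
  rw [WW, WW, cj_sup, cj_inf, cj_zpowers, h.eqv a c.l, h.eqv b c.r]

theorem WW_le (c : Col D a b) : WW Q a b ≤ Q a := sup_le (zpowers_le.2 (h.mem c.l)) inf_le_left

theorem mem_WW (c : Col D a b) : x ∈ WW Q a b ↔ ∃ i ∈ Q a ⊓ Q b, x = i ∨ x = a * i := by
  rw [WW, sup_comm, mem_sup_zp (h.sq c.l) (C_le_N _ (mem_C'.2 fun i hi => h.cI c hi))]
  constructor
  · rintro (e | e)
    · exact ⟨x, e, Or.inl rfl⟩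
    · exact ⟨_, e, Or.inr (by rw [h.cI c e, mmr (h.sq c.l)])⟩
  · rintro ⟨i, hi, rfl | rfl⟩
    · exact Or.inl hi
    · exact Or.inr (by rwa [h.cI c hi, mmr (h.sq c.l)])

theorem b_cent (c : Col D a b) : b ∈ C[WW Q a b] := mem_C'.2 fun x hx => by
  obtain ⟨i, hi, rfl | rfl⟩ := (h.mem_WW c).1 hx
  · exact h.cI' c hi
  · rw [← mul_assoc, ← c.comm, mul_assoc, h.cI' c hi, mul_assoc]

theorem mem_UU (c : Col D a b) :
    x ∈ UU Q a b ↔ ∃ i ∈ Q a ⊓ Q b, x = i ∨ x = a * i ∨ x = b * i ∨ x = a * b * i := by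
  rw [UU_eq_sup, mem_sup_zp (h.sq c.r) (C_le_N _ (h.b_cent c)), h.mem_WW c, h.mem_WW c]
  constructor
  · rintro (⟨i, hi, e | e⟩ | ⟨i, hi, e | e⟩)
    · exact ⟨i, hi, Or.inl e⟩
    · exact ⟨i, hi, Or.inr (Or.inl e)⟩
    · exact ⟨i, hi, Or.inr (Or.inr (Or.inl (by rw [h.cI' c hi, ← e, mmr (h.sq c.r)])))⟩
    · exact ⟨i, hi, Or.inr (Or.inr (Or.inr (by rw [mul_assoc, h.cI' c hi, ← mul_assoc, ← e, mmr (h.sq c.r)])))⟩
  · rintro ⟨i, hi, rfl | rfl | rfl | rfl⟩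
    · exact Or.inl ⟨_, hi, Or.inl rfl⟩
    · exact Or.inl ⟨_, hi, Or.inr rfl⟩
    · exact Or.inr ⟨_, hi, Or.inl (by rw [h.cI' c hi, mmr (h.sq c.r)])⟩
    · exact Or.inr ⟨_, hi, Or.inr (by rw [mul_assoc a, h.cI' c hi, mul_assoc, mmr (h.sq c.r)])⟩

theorem ea_WW (c : Col D a b) : EA (WW Q a b) := fun x hx => by
  obtain ⟨i, hi, rfl | rfl⟩ := (h.mem_WW c).1 hx
  · exact h.eaI c _ hi
  · rw [mul_assoc, ← mul_assoc i, ← h.cI c hi, mul_assoc, h.eaI c i hi, mul_one, h.sq c.l]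

theorem ea_UU (c : Col D a b) : EA (UU Q a b) := fun x hx => by
  rw [UU_eq_sup, mem_sup_zp (h.sq c.r) (C_le_N _ (h.b_cent c))] at hx
  rcases hx with e | e
  · exact h.ea_WW c x e
  · have e1 := mem_C'.1 (h.b_cent c) _ e
    rw [← mul_assoc, mul_left_inj, ← mul_right_inj x, ← mul_left_inj b] at e1
    rw [← h.ea_WW c _ e, ← mul_assoc, mul_assoc x b x]
    calc x * x = x * (x * b * b) := by rw [mmr (h.sq c.r)]
      _ = x * (x * b) * b := by group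
      _ = _ := by rw [← mul_right_cancel e1]

theorem card_WW (c : Col D a b) : Nat.card (WW Q a b) = 8 := by
  rw [WW, sup_comm, card_sup_zp (h.sq c.l) (C_le_N _ (mem_C'.2 fun i hi => h.cI c hi))
    fun e => h.notQ c.symm (mem_inf.1 e).2, (h.tu c).card]

theorem card_UU (c : Col D a b) : Nat.card (UU Q a b) = 16 := by
  rw [UU_eq_sup, card_sup_zp (h.sq c.r) (C_le_N _ (h.b_cent c)) fun e => h.notQ c (h.WW_le c e), h.card_WW c]

theorem UU_inf (c : Col D a b) : UU Q a b ⊓ Q a = WW Q a b := by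
  refine le_antisymm (fun x hx => ?_) (le_inf (WW_le_UU a b) (h.WW_le c))
  obtain ⟨h1, h2⟩ := mem_inf.1 hx
  rw [UU_eq_sup, mem_sup_zp (h.sq c.r) (C_le_N _ (h.b_cent c))] at h1
  exact h1.resolve_right fun e => h.notQ c (by simpa using mul_mem (inv_mem h2) (h.WW_le c e))

theorem cent_WW (c : Col D a b) : Q a ⊓ C[WW Q a b] = Q a ⊓ C{b} := by
  ext x
  rw [mem_inf, mem_inf, WW, C_sup, C_zpowers, mem_inf]
  exact and_congr_right fun hx => ⟨fun e => ((h.tu c).cent x hx).2 e.2,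
    fun e => ⟨h.le c.l hx, ((h.tu c).cent x hx).1 e⟩⟩

theorem card_A (c : Col D a b) : Nat.card ↥(Q a ⊓ C{b}) * 4 = 2 ^ (2 * w + 1) := by
  have := h.dual c.l (h.WW_le c) (left_mem_WW a b)
  rw [h.card_WW c, h.cent_WW c, pow_succ] at this
  omega

theorem index_four (c : Col D a b) : C{b}.relIndex (Q a) = 4 := by
  have h1 := card_inf_mul_relIndex C{b} (Q a)
  rw [h.card a c.l, ← h.card_A c, inf_comm] at h1
  exact Nat.eq_of_mul_eq_mul_left (card_pos _) h1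

theorem cent_A (c : Col D a b) : Q a ⊓ C[Q a ⊓ C{b}] = WW Q a b := by
  rw [← h.cent_WW c, h.dual_dual c.l (h.WW_le c) (left_mem_WW a b)]

theorem A_cent (c : Col D a b) (hx : x ∈ Q a) (hb : x ∈ C{b}) : x ∈ C[WW Q a b] :=
  (mem_inf.1 ((h.cent_WW c).ge (mem_inf.2 ⟨hx, hb⟩))).2

theorem B_cent (c : Col D a b) (hx : x ∈ Q b) (ha : x ∈ C{a}) : x ∈ C[WW Q a b] := by
  rw [WW, C_sup, C_zpowers, inf_comm (Q a)]
  exact mem_inf.2 ⟨ha, ((h.tu c.symm).cent x hx).1 ha⟩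

theorem comm_mem (c : Col D a b) (hx : x ∈ Q a) : x * b * x⁻¹ * b⁻¹ ∈ WW Q a b :=
  h.cent_A c ▸ (h.al c).comm x hx

theorem cent_of_zp (c : Col D a b) (hx : x ∈ Q a) (hz : x * b * x⁻¹ * b⁻¹ ∈ zpowers a) :
    x ∈ C{b} := (h.al c).cent x hx hz

theorem norm_WW (c : Col D a b) : Q a ≤ N[WW Q a b] := le_N_iff.2 fun x hx y hy => by
  rcases h.cj_or c.l hx (h.WW_le c hy) with e | e <;> rw [e]
  exacts [hy, mul_mem (left_mem_WW a b) hy]

theorem norm_UU (c : Col D a b) : Q a ≤ N[UU Q a b] := fun x hx => mem_N_of_cj_le (by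
  conv_lhs => rw [UU_eq_sup, cj_sup, cj_of_mem_N (h.norm_WW c hx), cj_zpowers]
  refine sup_le (WW_le_UU a b) (zpowers_le.2 ?_)
  simpa using mul_mem (WW_le_UU a b (h.comm_mem c hx)) (right_mem_UU a b))

theorem exists_cnj (c : Col D a b) (hi : i ∈ Q a ⊓ Q b) (h1 : i ≠ 1) :
    ∃ x ∈ Q a, x * b * x⁻¹ = a * b * i ∧ x ∈ C{i} ∧ x ∉ C{b} := by
  obtain ⟨x, hx, e⟩ := (h.al c).cnj i hi h1
  have h2 := (h.al c).alt x hx
  rw [e, mul_assoc a, h.cI' c hi, ← mul_assoc, mul_inv_cancel_right] at h2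
  refine ⟨x, hx, e, ?_, fun e' => ?_⟩
  · simpa using mem_C1_comm.1 (mul_mem (inv_mem (mem_C1_comm.1 (h.le c.l hx))) (mem_C1_comm.1 h2))
  · rw [mem_C1_iff_conj.1 e', mul_assoc, h.cI' c hi, ← mul_assoc, eq_comm, mul_eq_right] at e
    exact h.notQ c.symm (by rw [eq_inv_of_mul_eq_one_left e]; exact inv_mem (mem_inf.1 hi).2)

theorem third_mem (c : Col D a b) (hi : i ∈ Q a ⊓ Q b) (h1 : i ≠ 1) : a * b * i ∈ D := by
  obtain ⟨x, -, e, -⟩ := h.exists_cnj c hi h1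
  exact e ▸ h.conj b c.r x

theorem aux_Q (c : Col D a b) (hi : i ∈ Q a ⊓ Q b) (h1 : i ≠ 1) {j : G} (hj : j ∈ Q a ⊓ Q b) (j1 : j ≠ 1)
    (ji : i ≠ j) : a * j ∈ Q (a * b * i) := by
  obtain ⟨x, hx, e, x1, x2⟩ := h.exists_cnj c hi h1
  have e1 : x * j * x⁻¹ = a * j := (h.cj_or c.l hx (mem_inf.1 hj).1).resolve_left fun e' =>
    x2 (((h.tu c).cent x hx).2 (mem_C_iff_le_C1.2 fun k hk => by
      have i' := mem_C1_comm.1 x1
      have j' := mem_C1_comm.1 (mem_C1_iff_conj.2 e')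
      rcases four (h.tu c).card.le hi hj (h.eaI c i hi) h1 j1 ji hk with rfl | rfl | rfl | rfl
      exacts [one_mem _, i', j', mul_mem i' j']))
  rw [← e, ← e1, h.eqv b c.r]
  exact conj_mem_cj x (mem_inf.1 hj).2

theorem mul_mem_Q' (c : Col D a b) (hi : i ∈ Q a ⊓ Q b) (h1 : i ≠ 1) : a * b ∈ Q (a * b * i) := by
  obtain ⟨j, hj, j1, ji⟩ := four_ex (by rw [(h.tu c).card]; norm_num) (h.eaI c i hi)
  have e1 := h.aux_Q c hi h1 hj j1 ji.symm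
  have e2 := h.aux_Q c.symm (inf_comm (Q a) _ ▸ hi) h1 (inf_comm (Q a) _ ▸ hj) j1 ji.symm
  rw [← c.comm] at e2
  have := mul_mem e1 (inv_mem e2)
  rwa [mul_inv_rev, ← mul_assoc, mul_inv_cancel_right, inv_sq (h.sq c.r)] at this

theorem exists_I (c : Col D a b) : ∃ i ∈ Q a ⊓ Q b, i ≠ 1 := exists_ne_one fun e => by
  have := (h.tu c).card
  rw [e] at this
  simp at this

theorem mul_not_mem (c : Col D a b) : a * b ∉ D := fun e => by
  obtain ⟨i, hi, h1⟩ := h.exists_I c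
  exact h1 (by simpa using h.wc _ (h.third_mem c hi h1) _ e (h.mul_mem_Q' c hi h1))

theorem mem_ln (c : Col D a b) : (d ∈ D ∧ d ∈ UU Q a b) ↔
    d = a ∨ d = b ∨ ∃ i ∈ Q a ⊓ Q b, i ≠ 1 ∧ d = a * b * i := by
  constructor
  · rintro ⟨hd, hU⟩
    obtain ⟨i, hi, rfl | rfl | rfl | rfl⟩ := (h.mem_UU c).1 hU
    · exact Or.inl (h.wc a c.l _ hd (mem_inf.1 hi).1)
    · exact Or.inl (h.wc a c.l _ hd (mul_mem (h.mem c.l) (mem_inf.1 hi).1))
    · exact Or.inr (Or.inl (h.wc b c.r _ hd (mul_mem (h.mem c.r) (mem_inf.1 hi).2)))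
    · exact Or.inr (Or.inr ⟨i, hi, by rintro rfl; exact h.mul_not_mem c (by simpa using hd), rfl⟩)
  · rintro (rfl | rfl | ⟨i, hi, h1, rfl⟩)
    · exact ⟨c.l, left_mem_UU _ _⟩
    · exact ⟨c.r, right_mem_UU _ _⟩
    · exact ⟨h.third_mem c hi h1, (h.mem_UU c).2 ⟨i, hi, Or.inr (Or.inr (Or.inr rfl))⟩⟩

theorem third_ne (c : Col D a b) (hi : i ∈ Q a ⊓ Q b) : a * b * i ≠ a := fun e => by
  rw [mul_assoc, mul_eq_left] at e
  exact h.notQ c (by rw [eq_inv_of_mul_eq_one_left e]; exact inv_mem (mem_inf.1 hi).1)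

theorem third_ne' (c : Col D a b) (hi : i ∈ Q a ⊓ Q b) : a * b * i ≠ b :=
  c.comm ▸ h.third_ne c.symm (inf_comm (Q a) _ ▸ hi)

theorem ncard_ln (c : Col D a b) : {d | d ∈ D ∧ d ∈ UU Q a b}.ncard = 5 := by
  have e : {d | d ∈ D ∧ d ∈ UU Q a b} =
      insert a (insert b ((fun i => a * b * i) '' (((Q a ⊓ Q b : Subgroup G) : Set G) \ {1}))) := by
    ext d
    rw [Set.mem_ofPred_eq, h.mem_ln c]
    refine or_congr_right (or_congr_right ⟨?_, ?_⟩)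
    · rintro ⟨i, hi, h1, rfl⟩; exact ⟨i, ⟨hi, h1⟩, rfl⟩
    · rintro ⟨i, hi, rfl⟩; exact ⟨i, hi.1, hi.2, rfl⟩
  rw [e, Set.ncard_insert_of_notMem, Set.ncard_insert_of_notMem,
    Set.ncard_image_of_injective _ (mul_right_injective _), Set.ncard_sdiff_singleton_of_mem (one_mem _),
    ← Nat.card_coe_set_eq]
  · have := (h.tu c).card
    rw [SetLike.coe_sort_coe, this]
  · rintro ⟨i, hi, e⟩
    exact h.third_ne' c hi.1 e
  · rintro (e | ⟨i, hi, e⟩)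
    exacts [c.ne e, h.third_ne c hi.1 e]

theorem exists_conj (c : Col D a b) (hd : d ∈ D) (hU : d ∈ UU Q a b) (hne : d ≠ a) :
    ∃ x ∈ Q a, x * b * x⁻¹ = d := by
  rcases (h.mem_ln c).1 ⟨hd, hU⟩ with rfl | rfl | ⟨i, hi, h1, rfl⟩
  · exact absurd rfl hne
  · exact ⟨1, one_mem _, by simp⟩
  · exact (h.al c).cnj i hi h1

theorem col_ln (c : Col D a b) (hp : p ∈ D) (hr : r ∈ D) (h1 : p ∈ UU Q a b) (h2 : r ∈ UU Q a b)
    (hne : p ≠ r) : Col D p r := ⟨hp, hr, hne, (h.ea_UU c).comm h1 h2⟩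

theorem UU_step (c : Col D a b) (hd : d ∈ D) (hU : d ∈ UU Q a b) (hne : d ≠ a) : UU Q a d = UU Q a b := by
  obtain ⟨x, hx, rfl⟩ := h.exists_conj c hd hU hne
  rw [← cj_of_mem_N (h.norm_UU c hx), h.cj_UU c, mem_C1_iff_conj.1 (h.le c.l hx)]

theorem UU_eq (c : Col D a b) (hp : p ∈ D) (hr : r ∈ D) (h1 : p ∈ UU Q a b) (h2 : r ∈ UU Q a b)
    (hne : p ≠ r) : UU Q p r = UU Q a b := by
  by_cases e : p = a
  · subst e
    exact h.UU_step c hr h2 hne.symm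
  have e1 := h.UU_step c hp h1 e
  rw [UU_symm] at e1
  rw [← e1] at h2 ⊢
  exact h.UU_step (h.col_ln c hp c.l h1 (left_mem_UU a b) e) hr h2 hne.symm

theorem WW_eq (c : Col D a b) (hd : d ∈ D) (hU : d ∈ UU Q a b) (hne : d ≠ a) : WW Q a d = WW Q a b := by
  rw [← h.UU_inf c, ← h.UU_step c hd hU hne, h.UU_inf (h.col_ln c c.l hd (left_mem_UU a b) hU hne.symm)]

theorem mul_mem_Q (c : Col D a b) (he : e ∈ D) (hU : e ∈ UU Q a b) (h1 : e ≠ a) (h2 : e ≠ b) :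
    a * b ∈ Q e := by
  obtain ⟨i, hi, i1, rfl⟩ := (((h.mem_ln c).1 ⟨he, hU⟩).resolve_left h1).resolve_left h2
  exact h.mul_mem_Q' c hi i1

theorem third_mul (c : Col D a b) (hi : i ∈ Q a ⊓ Q b) (j : G) : a * b * i * (a * b * j) = i * j := by
  have h1 := mul_mem (left_mem_UU (Q := Q) a b) (right_mem_UU a b)
  rw [(h.ea_UU c).comm h1 (I_le_UU a b hi), mul_assoc, mml (h.ea_UU c _ h1)]

theorem fifth (c : Col D a b) (he : e ∈ D) (hU : e ∈ UU Q a b) (h1 : e ≠ a) (h2 : e ≠ b)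
    (he' : e' ∈ D) (hU' : e' ∈ UU Q a b) (h1' : e' ≠ a) (h2' : e' ≠ b) (hne : e ≠ e') :
    a * b * e * e' ∈ D ∧ a * b * e * e' ≠ a ∧ a * b * e * e' ≠ b ∧ a * b * e * e' ≠ e ∧
      a * b * e * e' ≠ e' := by
  obtain ⟨i, hi, i1, rfl⟩ := (((h.mem_ln c).1 ⟨he, hU⟩).resolve_left h1).resolve_left h2
  obtain ⟨j, hj, j1, rfl⟩ := (((h.mem_ln c).1 ⟨he', hU'⟩).resolve_left h1').resolve_left h2'
  rw [mul_assoc, h.third_mul c hi]
  refine ⟨h.third_mem c (mul_mem hi hj) fun e => hne ?_, h.third_ne c (mul_mem hi hj),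
    h.third_ne' c (mul_mem hi hj), by simpa using j1, by simpa using i1⟩
  rw [eq_inv_of_mul_eq_one_left e, inv_sq (h.eaI c j hj)]

theorem prod_two (c : Col D a b) (hs : s ∈ UU Q a b) (h1 : s ≠ 1) (hD : s ∉ D) :
    ∃ p r, Col D p r ∧ p ∈ UU Q a b ∧ r ∈ UU Q a b ∧ s = p * r := by
  have t : ∀ {i}, i ∈ Q a ⊓ Q b → i ≠ 1 → a * b * i ∈ D ∧ a * b * i ∈ UU Q a b := fun hi i1 =>
    (h.mem_ln c).2 (Or.inr (Or.inr ⟨_, hi, i1, rfl⟩))
  obtain ⟨i, hi, rfl | rfl | rfl | rfl⟩ := (h.mem_UU c).1 hs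
  · obtain ⟨j, hj, j1, ji⟩ := four_ex (by rw [(h.tu c).card]; norm_num) (h.eaI c s hi)
    have k1 := t hj j1
    have k2 := t (mul_mem hj hi) fun e => ji (by rw [eq_inv_of_mul_eq_one_left e, inv_sq (h.eaI c s hi)])
    exact ⟨_, _, h.col_ln c k1.1 k2.1 k1.2 k2.2 (by simpa using h1), k1.2, k2.2, by
      rw [h.third_mul c hj, mml (h.eaI c j hj)]⟩
  · have k1 := t hi (by rintro rfl; exact hD (by simpa using c.l))
    exact ⟨_, _, h.col_ln c c.r k1.1 (right_mem_UU a b) k1.2 (h.third_ne' c hi).symm, right_mem_UU a b, k1.2, by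
      rw [c.comm, mul_assoc, mml (h.sq c.r)]⟩
  · have k1 := t hi (by rintro rfl; exact hD (by simpa using c.r))
    exact ⟨_, _, h.col_ln c c.l k1.1 (left_mem_UU a b) k1.2 (h.third_ne c hi).symm, left_mem_UU a b, k1.2, by
      rw [mul_assoc, mml (h.sq c.l)]⟩
  · have : i = 1 := by_contra fun e => hD (t hi e).1
    exact ⟨a, b, c, left_mem_UU a b, right_mem_UU a b, by rw [this, mul_one]⟩

theorem cm_I (c : Col D a b) (hx : x ∈ Q a ⊓ C{b}) {y : G} (hy : y ∈ Q b ⊓ C{a}) :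
    x * y * x⁻¹ * y⁻¹ ∈ Q a ⊓ Q b := h.comm_le c (commutator_mem_commutator hx hy)

theorem nondeg (c : Col D a b) (hi : i ∈ Q a ⊓ Q b) (h1 : i ≠ 1) {y : G} (hy : y ∈ Q b ⊓ C{a})
    (hc : ∀ x ∈ Q a ⊓ C{b}, y * x * y⁻¹ * x⁻¹ ∈ zpowers i) : y ∈ WW Q b a := by
  obtain ⟨t, ht, e, t1, -⟩ := h.exists_cnj c hi h1
  have pA : ∀ y ∈ Q b ⊓ C{a}, y * t * y⁻¹ * t⁻¹ ∈ Q a ⊓ C{b} := fun y hy => by
    rw [← h.cent_WW c]
    have y1 := h.B_cent c (mem_inf.1 hy).1 (mem_inf.1 hy).2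
    refine mem_inf.2 ⟨mul_mem (conj_mem (h.norm c.l (mem_inf.1 hy).2) ht) (inv_mem ht), ?_⟩
    have := mul_mem y1 (conj_mem (N_le_NC _ (h.norm_WW c ht)) (inv_mem y1))
    convert this using 1
    group
  have y1 := (mem_inf.1 hy).2
  have p1 : y * t * y⁻¹ * t⁻¹ ∈ WW Q a b := by
    rw [← h.cent_A c]
    refine mem_inf.2 ⟨(mem_inf.1 (pA y hy)).1, mem_C'.2 fun x hx => ccj ?_⟩
    have x1 := (mem_inf.1 hx).1
    have yi : y ∈ C{i} := C_le_C1 (I_le_WW a b hi) (h.B_cent c (mem_inf.1 hy).1 y1)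
    obtain ⟨k, hk⟩ : ∃ k, k = y * x * y⁻¹ * x⁻¹ := ⟨_, rfl⟩
    have k1 : k⁻¹ ∈ C[C{i}] := by rw [← C_zpowers]; exact le_CC _ (inv_mem (hk ▸ hc x hx))
    obtain ⟨ε, e1, e2⟩ : ∃ ε ∈ zpowers a, t⁻¹ * x * t = ε * x := by
      rcases h.cj_or c.l (inv_mem ht) x1 with e' | e'
      · exact ⟨1, one_mem _, by simpa using e'⟩
      · exact ⟨a, mem_zpowers a, by simpa using e'⟩
    have e3 : y⁻¹ * ε * y = ε := by
      simpa using conj_eq_of_mem_C (g := y⁻¹) (by rw [C_zpowers]; exact inv_mem y1) e1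
    have e4 : y⁻¹ * x * y = k⁻¹ * x := by
      calc _ = y⁻¹ * (k⁻¹ * y) * x * y⁻¹ * y := by rw [hk]; group
        _ = _ := by rw [mem_C'.1 k1 y yi]; group
    have e5 : ε * k⁻¹ = k⁻¹ * ε := mem_C.1 k1 ε (zpowers_le.2 (mem_C1.2 (h.cI c hi)) e1)
    calc _ = y * t * (y⁻¹ * (t⁻¹ * x * t) * y) * t⁻¹ * y⁻¹ := by group
      _ = y * t * ((y⁻¹ * ε * y) * (y⁻¹ * x * y)) * t⁻¹ * y⁻¹ := by rw [e2]; group
      _ = y * (t * k⁻¹ * t⁻¹) * (t * (ε * x) * t⁻¹) * y⁻¹ := by rw [e3, e4, ← mul_assoc ε, e5]; group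
      _ = y * (k⁻¹ * x) * y⁻¹ := by rw [cjc (mem_C.1 k1 t t1), ← e2]; group
      _ = x := by rw [← e4]; group
  rw [← h.cent_A c.symm]
  refine mem_inf.2 ⟨(mem_inf.1 hy).1, mem_C'.2 fun y' hy' => ccj ?_⟩
  refine (h.cj_or c.r (mem_inf.1 hy).1 (mem_inf.1 hy').1).resolve_right fun e1 => ?_
  have p2 := pA y' hy'
  have p3 := hc _ p2
  have c1 := h.A_cent c (mem_inf.1 p2).1 (mem_inf.1 p2).2
  have c2 := conj_eq_of_mem_C (h.B_cent c (mem_inf.1 hy').1 (mem_inf.1 hy').2) p1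
  have c3 := mem_C1_iff_conj.1 (mem_C1_comm.1 (mul_mem (mem_inf.1 (pA y hy)).2 (mem_inf.1 p2).2))
  have m1 : b * t * b⁻¹ * t⁻¹ = i⁻¹ * a⁻¹ := by
    calc _ = b * (t * b * t⁻¹)⁻¹ := by group
      _ = b * (b * i)⁻¹ * a⁻¹ := by rw [e]; group
      _ = (b * i * b⁻¹)⁻¹ * a⁻¹ := by group
      _ = _ := by rw [cjc (h.cI' c hi)]
  have m2 : i⁻¹ * a⁻¹ ∈ WW Q a b := mul_mem (inv_mem (I_le_WW a b hi)) (inv_mem (left_mem_WW a b))
  obtain ⟨u, hu⟩ : ∃ u, u = y * t * y⁻¹ * t⁻¹ := ⟨_, rfl⟩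
  obtain ⟨u', hu'⟩ : ∃ u', u' = y' * t * y'⁻¹ * t⁻¹ := ⟨_, rfl⟩
  have e2 : y * u' * y⁻¹ * u = b * (y' * u * y'⁻¹ * u') * b⁻¹ * (b * t * b⁻¹ * t⁻¹) := by
    calc _ = (y * y' * y⁻¹ * y) * t * (y * y' * y⁻¹ * y)⁻¹ * t⁻¹ := by rw [hu, hu']; group
      _ = _ := by rw [e1, hu, hu']; group
  rw [← hu, ← hu'] at c3
  rw [← hu'] at p3 c1
  rw [← hu] at c2 p1
  rw [c2, c3, m1, mul_assoc u, mem_C'.1 c1 _ m2, ← mul_assoc, (h.ea_WW c).comm p1 m2, mul_assoc _ u,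
    mem_C.1 c1 u p1, ← mul_assoc, mul_left_inj] at e2
  rw [e2, mul_inv_cancel_right] at p3
  refine h.notQ c.symm ?_
  simpa using inv_mem (mul_mem (mem_inf.1 hi).2 (zpowers_le.2 (mem_inf.1 hi).2 p3))

theorem f4 (c : Col D a b) (hx : x ∈ Q a) (hb : x ∈ C{b}) (hW : x ∉ WW Q a b)
    (hi : i ∈ Q a ⊓ Q b) : ∃ y ∈ Q b ⊓ C{a}, x * y * x⁻¹ * y⁻¹ = i := by
  have hA := mem_inf.2 ⟨hx, hb⟩
  have k : ∀ j ∈ Q a ⊓ Q b, j ≠ 1 → ∃ y ∈ Q b ⊓ C{a}, x * y * x⁻¹ * y⁻¹ ≠ 1 ∧ x * y * x⁻¹ * y⁻¹ ≠ j := by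
    intro j hj j1
    by_contra e
    push Not at e
    exact hW (h.nondeg c.symm (inf_comm (Q a) _ ▸ hj) j1 hA fun y hy =>
      (mem_zp2 (h.eaI c j hj)).2 (or_iff_not_imp_left.2 (e y hy)))
  obtain ⟨j, hj, j1⟩ := h.exists_I c
  obtain ⟨y, hy, y1, -⟩ := k j hj j1
  obtain ⟨y', hy', y2, y3⟩ := k _ (h.cm_I c hA hy) y1
  rcases four (h.tu c).card.le (h.cm_I c hA hy) (h.cm_I c hA hy') (h.eaI c _ (h.cm_I c hA hy)) y1 y2 y3.symm hi
    with rfl | rfl | rfl | rfl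
  · exact ⟨1, one_mem _, by simp⟩
  · exact ⟨y, hy, rfl⟩
  · exact ⟨y', hy', rfl⟩
  · refine ⟨y * y', mul_mem hy hy', ?_⟩
    rw [← conj_eq_of_mem_C (h.B_cent c (mem_inf.1 hy).1 (mem_inf.1 hy).2) (I_le_WW a b (h.cm_I c hA hy'))]
    group

theorem coset (c : Col D a b) (hd : d ∈ D) (hq : b * d ∈ Q a) : d ∈ UU Q a b := by
  have e0 : b * d * b * (b * d) = b := by
    rw [mul_assoc (b * d), mml (h.sq c.r), mmr (h.sq hd)]
  have y2 : b * d * (b * d) = 1 := (h.sq_or c.l hq).resolve_right fun e => h.alpha c hq (by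
    calc b * d * b * (b * d)⁻¹ = b * d * b * (b * d) * (b * d * (b * d))⁻¹ := by group
      _ = a * b := by rw [e0, e, inv_sq (h.sq c.l), c.comm])
  have y1 : b * d ∈ C{b} := mem_C1_iff_conj.2 (by rw [inv_sq y2, e0])
  by_cases hW : b * d ∈ WW Q a b
  · have := mul_mem (right_mem_UU a b) (WW_le_UU a b hW)
    rwa [mml (h.sq c.r)] at this
  exfalso
  have c' : Col D b d := ⟨c.r, hd, fun e => hW (by rw [← e, h.sq c.r]; exact one_mem _), by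
    have := mem_C1.1 y1
    rw [mul_assoc] at this
    exact (mul_left_cancel this).symm⟩
  have e1 : WW Q b a = WW Q b d := by
    refine eq_of_card_eq (sup_le (zpowers_le.2 (left_mem_WW b d)) fun k hk => ?_)
      ((h.card_WW c.symm).trans (h.card_WW c').symm)
    obtain ⟨y, hy, e⟩ := h.f4 c hq y1 hW (inf_comm (Q b) _ ▸ hk)
    have := conj_mem (h.norm_WW c' (h.mem c.r)) (inv_mem (h.comm_mem c' (mem_inf.1 hy).1))
    rw [← e]
    convert this using 1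
    calc _ = b * d * y * d⁻¹ * (b⁻¹ * y⁻¹) := by group
      _ = _ := by rw [← mul_inv_rev, mem_C1.1 (h.le c.r (mem_inf.1 hy).1)]; group
  obtain ⟨k, hk, k1⟩ := h.exists_I c
  obtain ⟨y, hy, e⟩ := h.f4 c hq y1 hW hk
  have y3 : y ∈ C{d} := by
    rw [← h.cent_WW c.symm, e1, h.cent_WW c'] at hy
    exact (mem_inf.1 hy).2
  refine k1 ?_
  rw [← e, mem_C1_iff_conj.1 (mul_mem (mem_C1_comm.1 (h.le c.r (mem_inf.1 hy).1)) (mem_C1_comm.1 y3)),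
    mul_inv_cancel]

theorem card_CW (c : Col D a b) (hx : x ∈ Q a) (hb : x ∉ C{b}) : Nat.card ↥(WW Q a b ⊓ C{x}) ≤ 4 := by
  have := card_le_half (lt_of_le_of_ne (inf_le_left : WW Q a b ⊓ C{x} ≤ _) fun e => hb (mem_inf.1
    ((h.cent_WW c).le (mem_inf.2 ⟨hx, mem_C_iff_le_C1.2 (e.ge.trans inf_le_right)⟩))).2)
  rw [h.card_WW c] at this
  omega

theorem comm_CW (c : Col D a b) (hx : x ∈ Q a) : x * b * x⁻¹ * b⁻¹ ∈ WW Q a b ⊓ C{x} :=
  mem_inf.2 ⟨h.comm_mem c hx, mem_C1_comm.1 ((h.al c).alt x hx)⟩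

/-- two elements of `C_W(x)` outside `⟨a⟩` agree modulo `⟨a⟩` -/
theorem mul_zp (c : Col D a b) (hx : x ∈ Q a) (hb : x ∉ C{b}) {u v : G} (hu : u ∈ WW Q a b ⊓ C{x})
    (hv : v ∈ WW Q a b ⊓ C{x}) (u1 : u ∉ zpowers a) (v1 : v ∉ zpowers a) : u * v ∈ zpowers a := by
  rcases four (h.card_CW c hx hb) (mem_inf.2 ⟨left_mem_WW a b, mem_C1_comm.1 (h.le c.l hx)⟩) hv (h.sq c.l)
    (h.ne_one c.l) (fun e => v1 (e ▸ one_mem _)) (fun e => v1 (e ▸ mem_zpowers a)) hu with rfl | rfl | rfl | rfl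
  · exact absurd (one_mem _) u1
  · exact absurd (mem_zpowers _) u1
  · rw [h.ea_WW c _ (mem_inf.1 hv).1]; exact one_mem _
  · rw [mmr (h.ea_WW c _ (mem_inf.1 hv).1)]; exact mem_zpowers a

theorem same_W (c : Col D a b) (c' : Col D a d) (hW : WW Q a b = WW Q a d) : d ∈ UU Q a b := by
  refine h.coset c c'.r (h.inner c.l (mul_mem (mem_C1.2 c.comm.symm) (mem_C1.2 c'.comm.symm)) fun x hx => ?_)
  have e : ∀ x ∈ Q a, x ∈ C{b} ↔ x ∈ C{d} := fun x hx => by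
    have := h.cent_WW c
    rw [hW, h.cent_WW c'] at this
    exact ⟨fun e => (mem_inf.1 (this.ge (mem_inf.2 ⟨hx, e⟩))).2, fun e => (mem_inf.1 (this.le (mem_inf.2 ⟨hx, e⟩))).2⟩
  by_cases hb : x ∈ C{b}
  · rw [mem_C1_iff_conj.1 (mul_mem (mem_C1_comm.1 hb) (mem_C1_comm.1 ((e x hx).1 hb))), mul_inv_cancel]
    exact one_mem _
  have u := h.comm_CW c' hx
  rw [← hW] at u
  have := inv_mem (h.mul_zp c hx hb (h.comm_CW c hx) u (fun e => hb (h.cent_of_zp c hx e))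
    fun e' => hb ((e x hx).2 (h.cent_of_zp c' hx e')))
  rw [← conj_eq_of_mem_C (h.b_cent c) (mem_inf.1 u).1] at this
  convert this using 1
  group

end US

end XS
end H6
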