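import Mathlib
import Cfsg.Agent.H6.XU1

/-! Unitary case: lines through a point -/

set_option autoImplicit false
set_option linter.unusedSectionVars false

namespace H6
namespace XS

open Subgroup H24 H15 H15.XP Module H18.XU
open scoped commutatorElement

variable {G : Type*} [Group G] [Finite G] {D : Set G} {Q : G → Subgroup G} {w : ℕ}

theorem ea_closure₂ {S : Set G} (h1 : ∀ x ∈ S, x * x = 1) (h2 : ∀ x ∈ S, ∀ y ∈ S, x * y = y * x) :
    EA (closure S) := by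
  have h3 : ∀ x ∈ S, closure S ≤ C{x} := fun x hx => (closure_le _).2 fun y hy => mem_C1.2 (h2 y hy x hx)
  have h4 : closure S ≤ C[closure S] := (closure_le _).2 fun x hx => mem_C_iff_le_C1.2 (h3 x hx)
  intro x hx
  induction hx using closure_induction with
  | mem x hx => exact h1 x hx
  | one => exact mul_one 1
  | mul x y hx hy e1 e2 => rw [mul_assoc, ← mul_assoc y, ← comm_of_cent h4 hx hy, mul_assoc, e2, mul_one, e1]
  | inv x _ e => rw [← mul_inv_rev, e, inv_one]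

theorem pack₂ {P : Set G} {W : G → Subgroup G} {Z K M : Subgroup G} {n : ℕ} (h1 : ∀ d ∈ P, W d ≤ M)
    (h2 : ∀ d ∈ P, Nat.card (W d) = n + Nat.card Z) (h3 : ∀ d ∈ P, W d ⊓ K = Z)
    (h4 : ∀ d ∈ P, ∀ e ∈ P, d ≠ e → W d ⊓ W e = Z) (hK : K ≤ M) :
    P.ncard * n + Nat.card K ≤ Nat.card M := by
  classical
  have := Fintype.ofFinite G
  have cs : ∀ X : Subgroup G, (Finset.univ.filter (· ∈ X)).card = Nat.card X := fun X => by
    rw [Nat.card_eq_fintype_card, Fintype.card_subtype]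
  have e1 : ((Finset.univ.filter (· ∈ P)).biUnion fun d => Finset.univ.filter (· ∈ W d) \
      Finset.univ.filter (· ∈ K)).card = P.ncard * n := by
    rw [Finset.card_biUnion, Finset.sum_congr rfl (g := fun _ => n), Finset.sum_const, smul_eq_mul,
      Set.ncard_eq_toFinset_card', Set.toFinset]
    · congr 2
      ext d
      simp
    · intro d hd
      have hd := (Finset.mem_filter.1 hd).2
      have e : Finset.univ.filter (· ∈ K) ∩ Finset.univ.filter (· ∈ W d) = Finset.univ.filter (· ∈ Z) := by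
        ext x
        simp [← h3 d hd, and_comm]
      rw [Finset.card_sdiff, e, cs, cs, h2 d hd, Nat.add_sub_cancel]
    · intro d hd e he hne
      have hd := (Finset.mem_filter.1 hd).2
      have he := (Finset.mem_filter.1 he).2
      refine Finset.disjoint_left.2 fun x x1 x2 => ?_
      simp only [Finset.mem_sdiff, Finset.mem_filter, Finset.mem_univ, true_and] at x1 x2
      exact x1.2 (mem_inf.1 ((h3 d hd).ge ((h4 d hd e he hne).le (mem_inf.2 ⟨x1.1, x2.1⟩)))).2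
  rw [← e1, ← cs K, ← cs M, ← Finset.card_union_of_disjoint]
  · refine Finset.card_le_card fun x hx => ?_
    simp only [Finset.mem_union, Finset.mem_biUnion, Finset.mem_sdiff, Finset.mem_filter, Finset.mem_univ,
      true_and] at hx ⊢
    rcases hx with ⟨d, hd, hx, -⟩ | hx
    exacts [h1 d hd hx, hK hx]
  · refine Finset.disjoint_left.2 fun x x1 x2 => ?_
    simp only [Finset.mem_biUnion, Finset.mem_sdiff] at x1
    obtain ⟨d, -, -, x3⟩ := x1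
    exact x3 x2

namespace US

variable (h : US D Q w) {a b c d p r s : G}
include h

theorem cent_pts (k : Col D a b) (hc : ∀ d ∈ D, d ∈ UU Q a b → c ∈ C{d}) : c ∈ C[UU Q a b] := by
  have ha := mem_C1_comm.1 (hc a k.l (left_mem_UU a b))
  have hb := mem_C1_comm.1 (hc b k.r (right_mem_UU a b))
  refine mem_C_iff_le_C1.2 (sup_le (sup_le (zpowers_le.2 ha) (zpowers_le.2 hb)) fun i hi => ?_)
  by_cases i1 : i = 1
  · rw [i1]; exact one_mem _
  have := (h.mem_ln k).2 (Or.inr (Or.inr ⟨i, hi, i1, rfl⟩))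
  simpa only [inv_mul_cancel_left] using mul_mem (inv_mem (mul_mem ha hb)) (mem_C1_comm.1 (hc _ this.1 this.2))

theorem cent_of_norm (k : Col D a b) (hc : c ∈ D) (hN : c ∈ N[UU Q a b]) : c ∈ C[UU Q a b] := by
  by_cases hU : c ∈ UU Q a b
  · exact (h.ea_UU k).le_C hU
  refine h.cent_pts k fun p hp pU => by_contra fun hn => ?_
  have c2 := h.sq hc
  have cc : ∀ x, c * (c * x * c⁻¹) * c⁻¹ = x := fun x => by
    rw [inv_sq c2, ← mul_assoc, ← mul_assoc, c2, one_mul, mmr c2]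
  have mv : ∀ x, c * (c * x * c⁻¹ * x) = x * c * x := fun x => by
    rw [inv_sq c2, ← mul_assoc, ← mul_assoc, ← mul_assoc, c2, one_mul]
  have mD : ∀ x ∈ D, c * (c * x * c⁻¹ * x) ∈ D := fun x hx => by
    rw [mv]; simpa [inv_sq (h.sq hx)] using h.conj c hc x
  have k' := h.col_ln k (h.conj p hp c) hp (conj_mem hN pU) pU fun e => hn (mem_C1_iff_conj.2 e)
  rw [← h.UU_eq k (h.conj p hp c) hp (conj_mem hN pU) pU k'.ne] at hU
  obtain ⟨p', hp'⟩ : ∃ p', p' = c * p * c⁻¹ := ⟨_, rfl⟩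
  have s1 := mD p hp
  rw [← hp'] at k' hU s1
  have s2 : c * (p' * p) * c⁻¹ = p' * p := by rw [cjm, ← hp', k'.comm, hp', cc]
  have t : ∀ {i}, i ∈ Q p' ⊓ Q p → i ≠ 1 → p' * p * i ∈ D ∧ p' * p * i ∈ UU Q p' p := fun hi i1 =>
    (h.mem_ln k').2 (Or.inr (Or.inr ⟨_, hi, i1, rfl⟩))
  have s3 : c * (p' * p) ≠ c := fun e => k'.ne (by
    rw [eq_inv_of_mul_eq_one_left (mul_eq_left.1 e), inv_sq (h.sq hp)])
  by_cases hI : ∀ i ∈ Q p' ⊓ Q p, c * i * c⁻¹ = i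
  · have key : ∀ i ∈ Q p' ⊓ Q p, i ≠ 1 → UU Q (c * (p' * p)) c = UU Q (p' * p * i) c := fun i hi i1 => by
      have k1 : Col D (p' * p * i) c := ⟨(t hi i1).1, hc, fun e => hU (e ▸ (t hi i1).2),
        (ccj (by rw [cjm, s2, hI i hi])).symm⟩
      exact h.UU_eq k1 s1 hc (h.coset k1 s1 (by rw [mml c2]; exact h.mul_mem_Q' k' hi i1)) (right_mem_UU _ _) s3
    obtain ⟨i, hi, i1⟩ := h.exists_I k'
    obtain ⟨j, hj, j1, ji⟩ := four_ex (by rw [(h.tu k').card]; norm_num) (h.eaI k' i hi)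
    have ne : p' * p * i ≠ p' * p * j := fun e => ji (mul_left_cancel e).symm
    have k0 : Col D (c * (p' * p)) c := ⟨s1, hc, s3, by rw [mul_assoc, ← ccj s2]⟩
    refine hU ?_
    rw [← h.UU_eq k' (t hi i1).1 (t hj j1).1 (t hi i1).2 (t hj j1).2 ne,
      h.UU_eq k0 (t hi i1).1 (t hj j1).1 (key i hi i1 ▸ left_mem_UU _ _) (key j hj j1 ▸ left_mem_UU _ _) ne]
    exact right_mem_UU _ _
  push Not at hI
  obtain ⟨j, hj, j1⟩ := hI
  have hj' : c * j * c⁻¹ ∈ Q p' ⊓ Q p := by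
    refine mem_inf.2 ⟨?_, ?_⟩
    · rw [hp', h.eqv p hp]; exact conj_mem_cj c (mem_inf.1 hj).2
    · rw [← cc p, ← hp', h.eqv p' k'.l]; exact conj_mem_cj c (mem_inf.1 hj).1
  have j2 : c * j * c⁻¹ * j ≠ 1 := fun e => j1 (by rw [eq_inv_of_mul_eq_one_left e, inv_sq (h.eaI k' j hj)])
  have s4 := mD _ (t hj (by rintro rfl; simp at j1)).1
  rw [cjm, s2, h.third_mul k' hj'] at s4
  have s5 : c * (c * j * c⁻¹ * j) * c⁻¹ = c * j * c⁻¹ * j := by rw [cjm, cc, (h.eaI k').comm hj hj']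
  have e1 : c * (p' * p) * (c * (c * j * c⁻¹ * j)) = p' * p * (c * j * c⁻¹ * j) := by
    rw [ccj s2, mul_assoc, mml c2]
  have e2 : c * (c * j * c⁻¹ * j) * (c * (p' * p)) = p' * p * (c * j * c⁻¹ * j) := by
    rw [ccj s5, mul_assoc, mml c2]
    exact (h.ea_UU k').comm (I_le_UU _ _ (mul_mem hj' hj)) (mul_mem (left_mem_UU _ _) (right_mem_UU _ _))
  have e3 := (t (mul_mem hj' hj) j2).1
  refine h.mul_not_mem ⟨s1, s4, fun e => h.ne_one e3 ?_, e1.trans e2.symm⟩ (e1 ▸ e3)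
  rw [← e1, ← e, h.sq s1]

theorem cent_of_comm (k : Col D a b) (hc : c ∈ D) (h1 : a * c = c * a) (h2 : b * c = c * b) :
    c ∈ C[UU Q a b] :=
  h.cent_of_norm k hc (by rw [mem_N_iff_cj, h.cj_UU k, cjc h1.symm, cjc h2.symm])

theorem lemL (k : Col D a b) (hc : c ∈ D) (hU : c ∉ UU Q a b) (hC : c ∈ C[UU Q a b]) :
    UU Q a b ⊓ Q c = ⊥ := by
  refine inf_eq_bot_of fun s hs hq => by_contra fun s1 => ?_
  obtain ⟨d, d', k1, d1, d2, rfl⟩ := h.prod_two k hs s1 fun e => hU (h.wc c hc s e hq ▸ hs)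
  have k2 : Col D c d := ⟨hc, k1.l, fun e => hU (e ▸ d1), mem_C'.1 hC d d1⟩
  refine hU ?_
  rw [← h.UU_eq k k1.l k1.r d1 d2 k1.ne, h.UU_eq k2 k1.l k1.r (right_mem_UU _ _) (h.coset k2 k1.r hq) k1.ne]
  exact left_mem_UU _ _

theorem disj_comm (k : Col D a b) (k' : Col D a c) (hc : c ∉ UU Q a b) (hb : b * c = c * b) :
    WW Q a b ⊓ WW Q a c = zpowers a := by
  refine le_antisymm (fun x hx => ?_) (zpowers_le.2 (mem_inf.2 ⟨left_mem_WW _ _, left_mem_WW _ _⟩))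
  have h1 := h.lemL k k'.r hc (h.cent_of_comm k k'.r k'.comm hb)
  have h2 := WW_le_UU a b (mem_inf.1 hx).1
  obtain ⟨i, hi, rfl | rfl⟩ := (h.mem_WW k').1 (mem_inf.1 hx).2
  · rw [eq_one_of_inf h1 h2 (mem_inf.1 hi).2]; exact one_mem _
  · rw [eq_one_of_inf h1 (by simpa using mul_mem (inv_mem (left_mem_UU a b)) h2) (mem_inf.1 hi).2, mul_one]
    exact mem_zpowers a

theorem col_cj' (k : Col D a b) {g : G} (hg : a * g = g * a) : Col D a (g * b * g⁻¹) := by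
  simpa [cjc hg.symm] using h.col_cj k g

theorem cj_WW' (k : Col D a b) {g : G} (hg : a * g = g * a) : cj g (WW Q a b) = WW Q a (g * b * g⁻¹) := by
  rw [h.cj_WW k, cjc hg.symm]

theorem comm_of_mem (k : Col D a b) (k' : Col D a c) (hU : c * b * c⁻¹ ∈ UU Q a b) : b * c = c * b := by
  have k1 := h.col_cj' k k'.comm
  refine mem_C.1 (h.cent_of_norm k k'.r ?_) b (right_mem_UU a b)
  rw [mem_N_iff_cj, h.cj_UU k, cjc k'.comm.symm, h.UU_step k k1.r hU k1.ne.symm]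

theorem comm_of_normW (k : Col D a b) (k' : Col D a c) (hN : c ∈ N[WW Q a b]) : b * c = c * b :=
  h.comm_of_mem k k' (h.same_W k (h.col_cj' k k'.comm) (by rw [← h.cj_WW' k k'.comm, cj_of_mem_N hN]))

theorem opp1 (k : Col D a b) (k' : Col D a c) (hn : b * c ≠ c * b) :
    WW Q a b ⊓ C[WW Q a c] = zpowers a := by
  have aK : zpowers a ≤ WW Q a b ⊓ C[WW Q a c] :=
    zpowers_le.2 (mem_inf.2 ⟨left_mem_WW _ _, (h.ea_WW k').le_C (left_mem_WW _ _)⟩)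
  by_contra hne
  have c1 := card_le_half (lt_of_le_of_ne aK (Ne.symm hne))
  rw [card_zp2 (h.sq k.l) (h.ne_one k.l)] at c1
  have Kc : ∀ x ∈ WW Q a b, x ∈ C[WW Q a c] ↔ x ∈ C{c} := fun x hx =>
    ⟨fun e => (mem_inf.1 ((h.cent_WW k').le (mem_inf.2 ⟨h.WW_le k hx, e⟩))).2, h.A_cent k' (h.WW_le k hx)⟩
  have k1 := h.col_cj' k k'.comm
  have h1 : WW Q a (c * b * c⁻¹) ≤ C[WW Q a b] := by
    rw [← h.cj_WW' k k'.comm]
    intro y hy
    obtain ⟨x, hx, rfl⟩ := mem_cj'.1 hy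
    have x1 := (h.ea_WW k).le_C hx
    by_cases e : x ∈ C{c}
    · rwa [mem_C1_iff_conj.1 (mem_C1_comm.1 e)]
    obtain ⟨u1, u2⟩ := mem_inf.1 (h.comm_CW k' (h.WW_le k hx))
    have c2 := card_le_half (lt_of_le_of_ne (inf_le_inf_left (WW Q a b) (C_le_C1 u1)) fun e' =>
      e ((Kc x hx).1 (mem_inf.1 (e'.ge (mem_inf.2 ⟨hx, mem_C1_comm.1 u2⟩))).2))
    have e1 := eq_of_card_ge (inf_le_left : WW Q a b ⊓ C{x * c * x⁻¹ * c⁻¹} ≤ _) (by rw [h.card_WW k]; omega)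
    have := mul_mem (inv_mem (mem_C_iff_le_C1.2 (e1.ge.trans inf_le_right))) x1
    convert this using 1
    group
  have h2 : b ∈ C[WW Q a (c * b * c⁻¹)] :=
    mem_C_iff_le_C1.2 (((le_inf (h.WW_le k1) h1).trans (h.cent_WW k).le).trans inf_le_right)
  have h3 := h.comm_of_normW k1 k (C_le_N _ h2)
  refine hn (h.comm_of_mem k k' (by_contra fun e => hne (le_antisymm (fun x hx => ?_) aK)))
  rw [← h.disj_comm k k1 e h3.symm, ← h.cj_WW' k k'.comm]
  have := conj_mem_cj c (mem_inf.1 hx).1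
  rw [mem_C1_iff_conj.1 (mem_C1_comm.1 ((Kc x (mem_inf.1 hx).1).1 (mem_inf.1 hx).2))] at this
  exact mem_inf.2 ⟨(mem_inf.1 hx).1, this⟩

theorem opp1' (k : Col D a b) (k' : Col D a c) (hn : b * c ≠ c * b) {x : G} (hx : x ∈ WW Q a b)
    (hc : x ∈ C{c}) : x ∈ zpowers a :=
  (h.opp1 k k' hn).le (mem_inf.2 ⟨hx, h.A_cent k' (h.WW_le k hx) hc⟩)

theorem disj (k : Col D a b) (k' : Col D a c) (hc : c ∉ UU Q a b) :
    WW Q a b ⊓ WW Q a c = zpowers a := by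
  by_cases hb : b * c = c * b
  · exact h.disj_comm k k' hc hb
  · exact le_antisymm ((inf_le_inf_left _ (h.ea_WW k').le_C).trans (h.opp1 k k' hb).le)
      (zpowers_le.2 (mem_inf.2 ⟨left_mem_WW _ _, left_mem_WW _ _⟩))

theorem opp (k : Col D a b) (k' : Col D a c) (hn : b * c ≠ c * b) :
    WW Q a b ⊓ C[WW Q a c] = zpowers a ∧ (b * c) ^ 3 = 1 := by
  refine ⟨h.opp1 k k' hn, ?_⟩
  have k1 := h.col_cj' k k'.comm
  have k2 := h.col_cj' k' k.comm
  have b2 := h.sq k.r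
  have c2 := h.sq k'.r
  have e1 : WW Q a (b * c * b⁻¹) = WW Q a (c * b * c⁻¹) := by
    refine eq_of_card_eq ?_ ((h.card_WW k2).trans (h.card_WW k1).symm)
    have aW : zpowers a ≤ WW Q a (c * b * c⁻¹) := le_sup_left
    rw [← h.cj_WW' k' k.comm]
    intro y hy
    obtain ⟨x, hx, rfl⟩ := mem_cj'.1 hy
    by_cases x1 : x ∈ zpowers a
    · exact aW (conj_mem (norm_zpowers_of_cent le_rfl (mem_C1.2 k.comm.symm)) x1)
    have x2 : x ∉ C{b} := fun e => x1 (h.opp1' k' k (Ne.symm hn) hx e)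
    obtain ⟨l1, l2⟩ := mem_inf.1 (h.comm_CW k (h.WW_le k' hx))
    obtain ⟨l, hl⟩ : ∃ l, l = x * b * x⁻¹ * b⁻¹ := ⟨_, rfl⟩
    have l3 : l ∉ zpowers a := fun e => x2 (h.cent_of_zp k (h.WW_le k' hx) (hl ▸ e))
    rw [← hl] at l1 l2
    have l4 : l ∉ C{c} := fun e => l3 (h.opp1' k k' hn l1 e)
    have m := h.mul_zp k' (h.WW_le k l1) l4 (h.comm_CW k' (h.WW_le k l1)) (mem_inf.2 ⟨hx, mem_C1_comm.1 l2⟩)
      (fun e => l4 (h.cent_of_zp k' (h.WW_le k l1) e)) x1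
    have l5 : c * l * c⁻¹ ∈ WW Q a (c * b * c⁻¹) := h.cj_WW' k k'.comm ▸ conj_mem_cj c l1
    rw [← inv_sq (h.ea_WW k' _ (h.comm_mem k' (h.WW_le k l1)))] at m
    have := mul_mem (inv_mem l5) (aW m)
    convert this using 1
    calc b * x * b⁻¹ = l⁻¹ * x := by rw [hl]; group
      _ = _ := by group
  have e2 : (b * c) ^ 3 = b * c * b⁻¹ * (c * b * c⁻¹) := by rw [inv_sq b2, inv_sq c2, pow_three]; group
  rcases (h.mem_ln k2).1 ⟨k1.r, h.same_W k2 k1 e1⟩ with e | e | ⟨i, hi, i1, e⟩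
  · exact absurd e k1.ne.symm
  · rw [e2, e, h.sq k2.r]
  exfalso
  have e3 : (b * c) ^ 3 = a * i := by rw [e2, e, k2.comm, mul_assoc _ a, mml (h.sq k2.r)]
  have y1 : a * i ∈ WW Q a (b * c * b⁻¹) := (h.mem_WW k2).2 ⟨i, hi, Or.inr rfl⟩
  have y2 : b * (a * i) * b⁻¹ = a * i := by
    conv_rhs => rw [← inv_sq (h.ea_WW k2 _ y1)]
    rw [← e3, ← conj_pow, mml b2, ← inv_pow, mul_inv_rev, inv_sq c2]
  rw [← h.cj_WW' k' k.comm, ← y2, conj_mem_cj_iff] at y1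
  rcases (h.mem_zp k.l).1 (h.opp1' k' k (Ne.symm hn) y1 (mem_C1_comm.1 (mem_C1_iff_conj.2 y2))) with e | e
  · exact h.notQ k2.symm (by rw [eq_inv_of_mul_eq_one_left e]; exact inv_mem (mem_inf.1 hi).2)
  · exact i1 (mul_eq_left.1 e)

theorem exists_opp (k : Col D a b) : ∃ c d, Col D a c ∧ Col D a d ∧ c * d ≠ d * c := by
  by_contra e
  push Not at e
  refine h.notQ k (h.o2 a k.l (closure {c | Col D a c}) ((closure_le _).2 fun c hc => mem_C1.2 hc.comm.symm)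
    (norm_closure fun g hg c hc => subset_closure (h.col_cj' hc (mem_C1.1 hg).symm))
    (ea_closure₂ (fun c hc => h.sq hc.r) fun c hc d hd => e c d hc hd).two (subset_closure k))

section plane

variable (k1 : Col D c p) (k2 : Col D c r) (k3 : Col D p r) (hr : r ∉ UU Q c p)
include k1 k2 k3 hr

theorem pl_not : c ∉ UU Q p r := fun e =>
  hr (h.UU_eq k3 k1.l k1.r e (left_mem_UU _ _) k1.ne ▸ right_mem_UU _ _)

theorem pl_cent : c ∈ C[UU Q p r] := h.cent_of_comm k3 k1.l k1.comm.symm k2.comm.symm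

theorem pl_col (hd : d ∈ D) (hU : d ∈ UU Q p r) : Col D c d :=
  ⟨k1.l, hd, fun e => h.pl_not k1 k2 k3 hr (e ▸ hU), mem_C'.1 (h.pl_cent k1 k2 k3 hr) d hU⟩

theorem pl_comm : WW Q c r ≤ C[WW Q c p] := fun _ hx => h.A_cent k1 (h.WW_le k2 hx)
  (mem_C_iff_le_C1.1 (h.cent_of_comm k2 k1.r k1.comm k3.comm.symm) (WW_le_UU _ _ hx))

theorem pl_card : Nat.card ↥(WW Q c p ⊔ WW Q c r) = 32 := by
  have := card_sup (norm_of_cent (h.pl_comm k1 k2 k3 hr))
  rw [h.disj k1 k2 hr, card_zp2 (h.sq k1.l) (h.ne_one k1.l), h.card_WW k1, h.card_WW k2] at this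
  omega

theorem pl_le (hd : d ∈ D) (hU : d ∈ UU Q p r) : WW Q c d ≤ WW Q c p ⊔ WW Q c r := by
  have k4 := h.pl_col k1 k2 k3 hr hd hU
  rw [← h.dual_dual k1.l (sup_le (h.WW_le k1) (h.WW_le k2)) (mem_sup_left (left_mem_WW _ _))]
  refine le_inf (h.WW_le k4) (cents_symm fun y hy => ?_)
  obtain ⟨y1, y2⟩ := mem_inf.1 hy
  rw [C_sup] at y2
  have y3 := (mem_inf.1 ((h.cent_WW k1).le (mem_inf.2 ⟨y1, (mem_inf.1 y2).1⟩))).2
  have y4 := (mem_inf.1 ((h.cent_WW k2).le (mem_inf.2 ⟨y1, (mem_inf.1 y2).2⟩))).2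
  have y5 : y ∈ N[UU Q p r] := by rw [mem_N_iff_cj, h.cj_UU k3, mem_C1_iff_conj.1 y3, mem_C1_iff_conj.1 y4]
  refine h.A_cent k4 y1 (mem_C1_iff_conj.2 (mul_inv_eq_one.1 (eq_one_of_inf (h.lemL k3 k1.l
    (h.pl_not k1 k2 k3 hr) (h.pl_cent k1 k2 k3 hr)) (mul_mem (conj_mem y5 hU) (inv_mem hU)) ?_)))
  have := mul_mem y1 (conj_mem (h.norm k1.l (mem_C1.2 k4.comm.symm)) (inv_mem y1))
  convert this using 1
  group

end plane

theorem part (k1 : Col D c p) (k2 : Col D c r) (k3 : Col D p r) (hr : r ∉ UU Q c p)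
    (k4 : Col D c s) : ∃ d ∈ D, d ∈ UU Q p r ∧ d * s = s * d := by
  by_contra e
  push Not at e
  have z2 := card_zp2 (h.sq k1.l) (h.ne_one k1.l)
  have c1 := pack₂ (P := {d | d ∈ D ∧ d ∈ UU Q p r}) (W := fun d => WW Q c d) (Z := zpowers c) (n := 6)
    (K := (WW Q c p ⊔ WW Q c r) ⊓ C{s}) (fun d hd => h.pl_le k1 k2 k3 hr hd.1 hd.2)
    (fun d hd => by rw [h.card_WW (h.pl_col k1 k2 k3 hr hd.1 hd.2), z2])
    (fun d hd => le_antisymm (fun x hx => h.opp1' (h.pl_col k1 k2 k3 hr hd.1 hd.2) k4 (e d hd.1 hd.2)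
      (mem_inf.1 hx).1 (mem_inf.1 (mem_inf.1 hx).2).2) (zpowers_le.2 (mem_inf.2 ⟨left_mem_WW _ _,
        mem_inf.2 ⟨mem_sup_left (left_mem_WW _ _), mem_C1.2 k4.comm⟩⟩)))
    (fun d hd d' hd' ne => h.disj (h.pl_col k1 k2 k3 hr hd.1 hd.2) (h.pl_col k1 k2 k3 hr hd'.1 hd'.2) fun e' =>
      h.pl_not k1 k2 k3 hr (by
        rw [← h.UU_eq k3 hd.1 hd'.1 hd.2 hd'.2 ne, h.UU_eq (h.pl_col k1 k2 k3 hr hd.1 hd.2) hd.1 hd'.1
          (right_mem_UU _ _) e' ne]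
        exact left_mem_UU _ _)) inf_le_left
  have c2 := card_inf_mul_relIndex C{s} (WW Q c p ⊔ WW Q c r)
  have c3 := relIndex_le_of_le_right (H := C{s}) (sup_le (h.WW_le k1) (h.WW_le k2)) (relIndex_ne_zero' _ _)
  rw [h.ncard_ln k3, h.pl_card k1 k2 k3 hr] at c1
  rw [h.pl_card k1 k2 k3 hr, inf_comm] at c2
  rw [h.index_four k4] at c3
  nlinarith

theorem four_le (k1 : Col D c p) (k2 : Col D c r) (k3 : Col D p r) (hr : r ∉ UU Q c p) : 4 ≤ w := by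
  have c1 := h.pl_comm k1 k2 k3 hr
  have := h.card_le_of_abl k1.l (sup_le (h.WW_le k1) (h.WW_le k2)) (sup_le
    (cents_sup (h.ea_WW k1).le_C (cents_symm c1)) (cents_sup c1 (h.ea_WW k2).le_C))
  rw [h.pl_card k1 k2 k3 hr] at this
  have := (Nat.pow_le_pow_iff_right (by norm_num : 1 < 2)).1 (show 2 ^ 5 ≤ 2 ^ (w + 1) from this)
  omega

end US

end XS
end H6
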