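import Mathlib
import Cfsg.Agent.H6.XU2
import Cfsg.Agent.H6.XP2
import Cfsg.Agent.H6.XV1

/-! Weak closure implies irreducibility -/

set_option autoImplicit false
set_option linter.unusedSectionVars false
set_option linter.unusedVariables false

namespace H3.XP

open Subgroup H24 H6.XS
open scoped commutatorElement

variable {G : Type*} [Group G] [Finite G] {D : Set G} {Q : G → Subgroup G} {w : ℕ} {A N M X Y : Subgroup G}
  {z b u v x y : G}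

theorem chain_mem (h : Sit D Q w) (hz : z ∈ D) (hN : N ≤ Q z) (hM : M ≤ Q z) (zN : z ∈ N) (nN : C{z} ≤ N[N])
    (nM : C{z} ≤ N[M]) (hy : y ∈ C{z}) (h1 : ∀ x ∈ Q z, κ[y, x] ∈ M) (h2 : ∀ x ∈ M, κ[y, x] ∈ N)
    (h3 : ∀ x ∈ N, κ[y, x] ∈ zpowers z) : y ∈ Q z := by
  have l := h.le hz
  have nz : C{z} ≤ N[zpowers z] := norm_zpowers_of_cent le_rfl
  have m1 := fun g => mem_centQ (x := g) (l.trans nM)
  have m2 := fun g => mem_centQ (x := g) (hM.trans (l.trans nN))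
  have m3 := fun g => mem_centQ (x := g) (hN.trans (l.trans nz))
  refine h.o2 z hz (C{z} ⊓ (centQ (Q z) M ⊓ (centQ M N ⊓ centQ N (zpowers z)))) inf_le_left
    (norm_inf (norm_self _) (norm_inf (norm_centQ (h.norm hz) nM) (norm_inf (norm_centQ nM nN) (norm_centQ nN nz))))
    (fun g => ⟨4, Subtype.ext ?_⟩) ⟨hy, (m1 y).2 ⟨nM hy, h1⟩, (m2 y).2 ⟨nN hy, h2⟩, (m3 y).2 ⟨nz hy, h3⟩⟩
  obtain ⟨g, hg, a1, a2, a3⟩ := g
  have k : ∀ g x : G, κ[g * g, x] = κ[g, κ[g, x]] * (κ[g, x] * κ[g, x]) := fun g x => by group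
  have b1 : ∀ x ∈ Q z, κ[g * g, x] ∈ N := fun x hx => k g x ▸ mul_mem (((m2 g).1 a2).2 _ (((m1 g).1 a1).2 x hx))
    (zpowers_le.2 zN (sq_zp h hz (k_mem h hz hg hx)))
  have b2 : ∀ x ∈ N, κ[g * g, x] ∈ zpowers z := fun x hx => by
    have := ((m3 g).1 a3).2 x hx
    rw [k_mul]
    exact mul_mem (conj_mem (nz hg) this) this
  have b3 := h.inner hz (mul_mem (mul_mem hg hg) (mul_mem hg hg)) fun x hx => k (g * g) x ▸
    mul_mem (b2 _ (b1 x hx)) (sq_zp h hz (k_mem h hz (mul_mem hg hg) hx))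
  show g ^ 16 = 1
  rw [show g ^ 16 = (g * g * (g * g) * (g * g * (g * g))) * (g * g * (g * g) * (g * g * (g * g))) by
    simp only [pow_succ, pow_zero, one_mul, mul_assoc]]
  rcases h.sq_or hz b3 with e | e <;> simp [e, h.sq hz]

theorem step (hX : X ≤ Y) {m : ℕ} (h1 : m ≤ ♯X) (h2 : 2 * m ≤ ♯Y) : ∃ x ∈ Y, 2 * m ≤ ♯(X ⊔ zpowers x) := by
  by_cases e : Y ≤ X
  · exact ⟨1, one_mem _, h2.trans (card_le (e.trans le_sup_left))⟩
  obtain ⟨x, hx, n⟩ := SetLike.not_le_iff_exists.1 e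
  exact ⟨x, hx, (Nat.mul_le_mul_left 2 h1).trans (two_le le_sup_left (mem_sup_right (mem_zpowers x)) n)⟩

theorem sup_zp (h1 : X ≤ Y) (h2 : x ∈ Y) : X ⊔ zpowers x ≤ Y := sup_le h1 (zpowers_le.2 h2)

section
variable (h : US D Q w) (hA : A ≤ Q z) (zA : z ∈ A) (nA : C{z} ≤ N[A])
include h hA zA nA

theorem us_le (k : Col D z b) (n : ¬ WW Q z b ≤ A) : A ⊓ C{b} ≤ WW Q z b := fun x hx => by
  by_contra e
  refine n (sup_le (zpowers_le.2 zA) fun i hi => ?_)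
  obtain ⟨y, hy, rfl⟩ := h.f4 k (hA hx.1) hx.2 e hi
  exact k_symm (mul_mem (conj_mem (nA hy.2) hx.1) (inv_mem hx.1))

theorem us_card (k : Col D z b) (n : ¬ WW Q z b ≤ A) : ♯A ≤ 8 := by
  obtain ⟨u, hu, n1⟩ := SetLike.not_le_iff_exists.1 n
  have h1 := two_le (inf_le_right : A ⊓ WW Q z b ≤ _) hu fun e => n1 e.1
  have h2 := card_le (le_inf inf_le_left (us_le h hA zA nA k n) : A ⊓ C{b} ≤ _)
  rw [h.card_WW k] at h1
  have m : ∀ x ∈ A, κ[x, b] ∈ A ⊓ WW Q z b := fun x hx =>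
    ⟨k_symm (mul_mem (conj_mem (nA (cC k)) hx) (inv_mem hx)), h.comm_mem k (hA hx)⟩
  have zl : zpowers z ≤ A ⊓ WW Q z b := le_inf (zpowers_le.2 zA) le_sup_left
  have h3 := idx_le (X := A) (N := C{b}) fun x hx y hy nx ny => h.cent_of_zp k (hA (mul_mem hx hy)) (by
    have n2 : κ[x, b] ∉ zpowers z := fun e => nx (h.cent_of_zp k (hA hx) e)
    have n3 : κ[y, b] ∉ zpowers z := fun e => ny (h.cent_of_zp k (hA hy) e)
    have h4 := two_le zl (m x hx) n2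
    rw [card_zp (h.sq k.l) (h.ne_one k.l)] at h4
    have h5 : (zpowers z).relIndex (A ⊓ WW Q z b) = 2 := by
      have := card_mul_relIndex zl
      rw [card_zp (h.sq k.l) (h.ne_one k.l)] at this
      omega
    rw [k_mul, show x * κ[y, b] * x⁻¹ = κ[x, κ[y, b]] * κ[y, b] by group, mul_assoc]
    exact mul_mem (k_zp h.toSit k.l (hA hx) (hA (m y hy).1)) ((mul_mem_iff_of_index_two (H := (zpowers z).subgroupOf _)
      h5 (a := ⟨_, m y hy⟩) (b := ⟨_, m x hx⟩)).2 (iff_of_false n3 n2)))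
  omega

theorem us_both (k : Col D z b) (h1 : WW Q z b ≤ A) (h2 : WW Q z b ≤ C[A]) : False := by
  have n : C{z} ≤ N[A ⊓ C[A]] := norm_inf nA (norm_C nA)
  have l : A ⊓ C[A] ≤ Q z := inf_le_left.trans hA
  have c : ∀ x ∈ A ⊓ C[A], κ[b, x] = 1 := fun x hx =>
    k_one.2 (mem_C1_comm.1 ((h.cent_WW k).le ⟨l hx, C_anti h1 hx.2⟩).2)
  exact nR h.toSit (csymm k) h.wc (chain_mem h.toSit k.l l l ⟨zA, (a_W h.toSit k hA).2⟩ n n (cC k)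
    (fun x hx => k_symm (le_inf h1 h2 (h.comm_mem k hx))) (fun x hx => c x hx ▸ one_mem _)
    fun x hx => c x hx ▸ one_mem _)

theorem us_zp (hw : 3 ≤ w) (k : Col D z b) (n : ¬ WW Q z b ≤ A) : A = zpowers z := by
  have h1 := us_card h hA zA nA k n
  have h2 := h.dual k.l hA zA
  have l : ∀ c, Col D z c → WW Q z c ≤ C[A] := fun c k => by
    by_contra e
    have h3 := Nat.mul_le_mul h1 (us_card h inf_le_left (a_W h.toSit k hA) (norm_inf (h.norm k.l) (norm_C nA)) k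
      fun e' => e (e'.trans inf_le_right))
    have := Nat.pow_le_pow_right two_pos (show 8 ≤ 2 * w + 2 by omega)
    omega
  obtain ⟨c, d, k1, k2, ne⟩ := h.exists_opp k
  refine le_antisymm ((h.opp k1 k2 ne).1.symm ▸ le_inf (fun x hx => ?_) (cents_symm (l d k2))) (zpowers_le.2 zA)
  exact us_le h hA zA nA k1 (fun e => us_both h hA zA nA k1 e (l c k1))
    ⟨hx, ((h.cent_WW k1).le ⟨hA hx, cents_symm (l c k1) hx⟩).2⟩

end

section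
variable (h : Sit D Q 4) (wc : WC D Q) (k : Col D z b) (t : TO Q z b)
include h wc k t

theorem to_W (hy : y ∈ Q b ⊓ C{z}) (hv : v ∈ Q z) : κ[y, v] ∈ Q z ⊓ C{b} :=
  (abl_eq h k wc t.nea t.ea.le_C).le (k_CA h k inf_le_left hy.2 (B_CA h k wc t.bot hy) hv)

theorem to_le (hy : y ∈ Q b ⊓ C{z}) (hv : v ∈ Q z) : Q z ⊓ C{b} ≤ C{κ[y, v]} :=
  mem_C_iff_le_C1.1 (t.ea.le_C (to_W h wc k t hy hv))

theorem to_symm (hy : y ∈ Q b ⊓ C{z}) (hu : u ∈ Q z) (hv : v ∈ Q z) (e : u ∈ C{κ[y, v]}) : v ∈ C{κ[y, u]} := by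
  have := (k_cent h k.l hy.2 hv hu).1 (mem_C1_comm.1 e)
  rw [show κ[y⁻¹, u] = κ[y, u] by simp only [inv_sq (t.eb y hy)]] at this
  exact mem_C1_comm.1 this

theorem to_alt (hy : y ∈ Q b ⊓ C{z}) (hv : v ∈ Q z) : v ∈ C{κ[y, v]} :=
  mem_C1_comm.1 ((k_sq h k.l hy.2 hv).1 (t.ea _ (to_W h wc k t hy hv)))

theorem to_half (hX : X ≤ Q b ⊓ C{z}) (hu : u ∈ Q z) (hv : v ∈ Q z) :
    ∃ Y ≤ X, ♯X ≤ 2 * ♯Y ∧ ∀ y ∈ Y, u ∈ C{κ[y, v]} := by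
  have e : ∀ x ∈ X, ∀ y ∈ X, κ[x * y, v] = κ[y, v] * κ[x, v] := fun x hx y hy => by
    rw [k_mul, conj_eq_of_mem_C (B_CA h k wc t.bot (hX hx)) (to_W h wc k t (hX hy) hv)]
  let Y : Subgroup G :=
    { carrier := {y | y ∈ X ∧ κ[y, v] ∈ C{u}}
      one_mem' := ⟨one_mem _, by simp⟩
      mul_mem' := fun {x y} hx hy => ⟨mul_mem hx.1 hy.1, e x hx.1 y hy.1 ▸ mul_mem hy.2 hx.2⟩
      inv_mem' := fun {x} hx => by rwa [inv_sq (t.eb x (hX hx.1))] }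
  refine ⟨X ⊓ Y, inf_le_left, idx_le fun x hx y hy nx ny => ⟨mul_mem hx hy, ?_⟩, fun y hy => mem_C1_comm.1 hy.2.2⟩
  exact e x hx y hy ▸ mul_cent h k.l (to_W h wc k t (hX hy) hv).1 (to_W h wc k t (hX hx) hv).1 hu
    (fun e => ny ⟨hy, e⟩) fun e => nx ⟨hx, e⟩

theorem to_four {u1 v1 u2 v2 u3 v3 u4 v4 : G} (a1 : u1 ∈ Q z) (b1 : v1 ∈ Q z) (a2 : u2 ∈ Q z) (b2 : v2 ∈ Q z)
    (a3 : u3 ∈ Q z) (b3 : v3 ∈ Q z) (a4 : u4 ∈ Q z) (b4 : v4 ∈ Q z) : ∃ y ∈ Q b ⊓ C{z}, y ∉ Q z ∧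
      u1 ∈ C{κ[y, v1]} ∧ u2 ∈ C{κ[y, v2]} ∧ u3 ∈ C{κ[y, v3]} ∧ u4 ∈ C{κ[y, v4]} := by
  obtain ⟨Y1, l1, c1, p1⟩ := to_half h wc k t le_rfl a1 b1
  obtain ⟨Y2, l2, c2, p2⟩ := to_half h wc k t l1 a2 b2
  obtain ⟨Y3, l3, c3, p3⟩ := to_half h wc k t (l2.trans l1) a3 b3
  obtain ⟨Y4, l4, c4, p4⟩ := to_half h wc k t (l3.trans (l2.trans l1)) a4 b4
  obtain ⟨y, hy, y1⟩ := exists_ne_one (H := Y4) fun e => by
    rw [e, card_bot] at c4; have := t.cardb; omega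
  have := l1 (l2 (l3 (l4 hy)))
  exact ⟨y, this, fun e => y1 (mem_bot.1 (t.bot.le ⟨e, this.1⟩)), p1 y (l2 (l3 (l4 hy))), p2 y (l3 (l4 hy)),
    p3 y (l4 hy), p4 y hy⟩

/-- an isotropic subspace grows -/
theorem to_ext (hy : y ∈ Q b ⊓ C{z}) (hX : X ≤ Q z) (hx : x ∈ Q z) (h1 : ∀ v ∈ X, X ≤ C{κ[y, v]})
    (h2 : X ≤ C{κ[y, x]}) : ∀ v ∈ X ⊔ zpowers x, X ⊔ zpowers x ≤ C{κ[y, v]} := fun v hv u hu => by
  have l := sup_zp hX hx
  have s := fun {u v} => to_symm h wc k t hy (u := u) (v := v)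
  exact s (l hv) (l hu) (sup_zp (fun a ha => s (l hu) (hX ha) (sup_zp (h1 a ha) (s (hX ha) hx (h2 ha)) hu))
    (s (l hu) hx (sup_zp h2 (to_alt h wc k t hy hx) hu)) hv)

theorem to_base (hy : y ∈ Q b ⊓ C{z}) : ∀ v ∈ Q z ⊓ C{b}, Q z ⊓ C{b} ≤ C{κ[y, v]} :=
  fun v hv => to_le h wc k t hy hv.1

theorem to_Z (hx : x ∈ Q z) (n : x ∉ C{b}) (hY : Y ≤ Q z) (h1 : Q z ⊓ C{b} ⊔ zpowers x ≤ Y)
    (h2 : ∀ y ∈ Q b ⊓ C{z}, Y ≤ C{κ[y, x]}) : ♯Y ≤ 128 := by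
  by_contra c
  obtain ⟨j, hj, e⟩ := (Nat.dvd_prime_pow Nat.prime_two).1 (h.card z k.l ▸ card_dvd hY)
  have c0 : 256 ≤ ♯Y := by
    rw [e] at c ⊢
    interval_cases j <;> simp_all
  have c1 := two_le (le_sup_left : _ ≤ Q z ⊓ C{b} ⊔ zpowers x) (mem_sup_right (mem_zpowers x)) fun e => n e.2
  rw [t.carda] at c1
  obtain ⟨x2, m2, c2⟩ := step h1 c1 (by omega)
  obtain ⟨x3, m3, c3⟩ := step (sup_zp h1 m2) c2 (by omega)
  have l3 := (sup_zp (sup_zp h1 m2) m3).trans hY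
  obtain ⟨x4, m4, c4⟩ := step l3 c3 (h.card z k.l).ge
  obtain ⟨y, hy, ny, p1, p2, p3, p4⟩ := to_four h wc k t hx m4 (hY m2) (hY m3) (hY m2) m4 (hY m3) m4
  have W := fun {v} => to_le h wc k t hy (v := v)
  have s := fun {u v} => to_symm h wc k t hy (u := u) (v := v)
  have := to_ext h wc k t hy l3 m4 (to_ext h wc k t hy ((sup_zp h1 m2).trans hY) (hY m3)
    (to_ext h wc k t hy (h1.trans hY) (hY m2) (to_ext h wc k t hy inf_le_left hx (to_base h wc k t hy) (W hx))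
      (sup_zp (W (hY m2)) (s (hY m2) hx (h2 y hy m2))))
    (sup_zp (sup_zp (W (hY m3)) (s (hY m3) hx (h2 y hy m3))) p2)) (sup_zp (sup_zp (sup_zp (W m4) p1) p3) p4)
  rw [eq_of_card_ge (sup_zp l3 m4) ((h.card z k.l).le.trans c4)] at this
  exact ny (h.inner k.l hy.2 fun v hv => (h.mem_zp k.l).2 (h.eq_or k.l (mem_C_iff_le_C1.2 (this v hv))))

theorem to_inv (nN : C{z} ≤ N[N]) (hy : y ∈ Q b ⊓ C{z}) (hx : x ∈ N) : Q z ⊓ C[N] ≤ C{κ[y, x]} :=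
  inf_le_right.trans (C_le_C1 (mul_mem (conj_mem (nN hy.2) hx) (inv_mem hx)))

theorem to_abl (hN : N ≤ Q z) (zN : z ∈ N) (nN : C{z} ≤ N[N]) (ab : N ≤ C[N]) : N = zpowers z := by
  refine le_antisymm ?_ (zpowers_le.2 zN)
  by_contra ne
  have cQ := h.card z k.l
  have fin : ∀ y ∈ Q b ⊓ C{z}, (∀ v ∈ N, Q z ≤ C{κ[y, v]}) → (∀ v ∈ Q z ⊓ C[N], Q z ⊓ C[N] ≤ C{κ[y, v]}) →
      y ∈ Q z := fun y hy h1 h2 => chain_mem h k.l hN inf_le_left zN nN (norm_inf (h.norm k.l) (norm_C nN)) hy.2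
    (fun x hx => ⟨k_mem h k.l hy.2 hx, mem_C_iff_le_C1.2 fun u hu => to_symm h wc k t hy hx (hN hu) (h1 u hu hx)⟩)
    (fun x hx => (h.dual_dual k.l hN zN).le ⟨k_mem h k.l hy.2 hx.1, mem_C_iff_le_C1.2 (h2 x hx)⟩)
    fun x hx => (h.mem_zp k.l).2 (h.eq_or k.l (mem_C_iff_le_C1.2 (h1 x hx)))
  have W := fun {y v} => to_le h wc k t (y := y) (v := v)
  have s := fun {y u v} => to_symm h wc k t (y := y) (u := u) (v := v)
  by_cases e : N ≤ C{b}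
  · obtain ⟨n, hn, n1⟩ := SetLike.not_le_iff_exists.1 ne
    have l : Q z ⊓ C{b} ≤ Q z ⊓ C[N] := le_inf inf_le_left (t.ea.le_C.trans (C_anti (le_inf hN e)))
    have c0 : ♯(Q z ⊓ C[N]) ≤ 256 := by
      obtain ⟨x, hx, n2⟩ := SetLike.not_le_iff_exists.1 fun e : Q z ≤ C{n} =>
        n1 ((h.mem_zp k.l).2 (h.eq_or k.l (mem_C_iff_le_C1.2 e)))
      have := two_le (inf_le_left : Q z ⊓ C[N] ≤ _) hx fun e => n2 (C_le_C1 hn e.2)
      omega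
    obtain ⟨x1, x2, x3, m1, m2, m3, e1⟩ : ∃ x1 x2 x3, x1 ∈ Q z ∧ x2 ∈ Q z ∧ x3 ∈ Q z ∧
        Q z ⊓ C[N] ≤ Q z ⊓ C{b} ⊔ zpowers x1 ⊔ zpowers x2 ⊔ zpowers x3 := by
      obtain ⟨j, hj⟩ : 32 ∣ ♯(Q z ⊓ C[N]) := t.carda ▸ card_dvd l
      by_cases c : j ≤ 1
      · exact ⟨1, 1, 1, one_mem _, one_mem _, one_mem _, (eq_of_card_ge l (by rw [t.carda]; omega)).ge.trans
          (le_sup_left.trans (le_sup_left.trans le_sup_left))⟩
      obtain ⟨x1, m1, c1⟩ := step l t.carda.ge (by omega)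
      obtain ⟨j, hj⟩ : ∃ j, ♯(Q z ⊓ C[N]) = ♯(Q z ⊓ C{b} ⊔ zpowers x1) * j := card_dvd (sup_zp l m1)
      by_cases c : j ≤ 1
      · exact ⟨x1, 1, 1, m1.1, one_mem _, one_mem _, (eq_of_card_ge (sup_zp l m1) (by nlinarith)).ge.trans
          (le_sup_left.trans le_sup_left)⟩
      obtain ⟨x2, m2, c2⟩ := step (sup_zp l m1) c1 (by nlinarith)
      by_cases c : Q z ⊓ C[N] ≤ Q z ⊓ C{b} ⊔ zpowers x1 ⊔ zpowers x2
      · exact ⟨x1, x2, 1, m1.1, m2.1, one_mem _, c.trans le_sup_left⟩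
      obtain ⟨x3, m3, n3⟩ := SetLike.not_le_iff_exists.1 c
      have := two_le le_sup_left (mem_sup_right (mem_zpowers x3)) n3
      exact ⟨x1, x2, x3, m1.1, m2.1, m3.1, (eq_of_card_ge (sup_zp (sup_zp (sup_zp l m1) m2) m3) (by omega)).ge⟩
    obtain ⟨y, hy, ny, p1, p2, p3, -⟩ := to_four h wc k t m1 m2 m1 m3 m2 m3 m1 m1
    have := to_ext h wc k t hy (sup_zp (sup_zp inf_le_left m1) m2) m3 (to_ext h wc k t hy (sup_zp inf_le_left m1) m2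
      (to_ext h wc k t hy inf_le_left m1 (to_base h wc k t hy) (W hy m1)) (sup_zp (W hy m2) p1))
      (sup_zp (sup_zp (W hy m3) p2) p3)
    exact ny (fin y hy (fun v hv u hu => s hy (hN hv) hu (W hy hu ⟨hN hv, e hv⟩)) fun v hv => e1.trans (this v (e1 hv)))
  obtain ⟨x, hx, n⟩ := SetLike.not_le_iff_exists.1 e
  have xQ := hN hx
  have lY : Q z ⊓ C{b} ⊔ Q z ⊓ C[N] ≤ Q z := sup_le inf_le_left inf_le_left
  have l1 : Q z ⊓ C{b} ⊔ zpowers x ≤ Q z ⊓ C{b} ⊔ Q z ⊓ C[N] := sup_zp le_sup_left (mem_sup_right ⟨xQ, ab hx⟩)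
  have p0 : ∀ y ∈ Q b ⊓ C{z}, Q z ⊓ C{b} ⊔ Q z ⊓ C[N] ≤ C{κ[y, x]} := fun y hy =>
    sup_le (W hy xQ) (to_inv h wc k t nN hy hx)
  have c0 := to_Z h wc k t xQ n lY l1 p0
  have c1 := two_le (le_sup_left : _ ≤ Q z ⊓ C{b} ⊔ zpowers x) (mem_sup_right (mem_zpowers x)) fun e => n e.2
  rw [t.carda] at c1
  have iso : ∀ x' ∈ Q z ⊓ C{b} ⊔ Q z ⊓ C[N], Q z ⊓ C[N] ≤ Q z ⊓ C{b} ⊔ zpowers x ⊔ zpowers x' →
      ∀ y ∈ Q b ⊓ C{z}, ∀ v ∈ Q z ⊓ C[N], Q z ⊓ C[N] ≤ C{κ[y, v]} := fun x' m e y hy v hv => e.trans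
    (to_ext h wc k t hy (l1.trans lY) (lY m) (to_ext h wc k t hy inf_le_left xQ (to_base h wc k t hy) (W hy xQ))
      (sup_zp (W hy (lY m)) (s hy (lY m) xQ (p0 y hy m))) v (e hv))
  have big : ∀ x' ∈ Q z ⊓ C{b} ⊔ Q z ⊓ C[N], x' ∉ Q z ⊓ C{b} ⊔ zpowers x →
      128 ≤ ♯(Q z ⊓ C{b} ⊔ zpowers x ⊔ zpowers x') ∧ Q z ⊓ C[N] ≤ Q z ⊓ C{b} ⊔ zpowers x ⊔ zpowers x' :=
    fun x' m n => by
      have := two_le le_sup_left (mem_sup_right (mem_zpowers x')) n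
      exact ⟨by omega, le_sup_right.trans (eq_of_card_ge (sup_zp l1 m) (by omega)).ge⟩
  by_cases e1 : N ≤ Q z ⊓ C{b} ⊔ zpowers x
  · obtain ⟨x2, m2, c2⟩ := step (l1.trans lY) c1 (by omega)
    obtain ⟨x3, m3, c3⟩ := step (sup_zp (l1.trans lY) m2) c2 (by omega)
    obtain ⟨x4, m4, c4⟩ := step (sup_zp (sup_zp (l1.trans lY) m2) m3) c3 (by omega)
    obtain ⟨y, hy, ny, p1, p2, p3, -⟩ := to_four h wc k t m2 xQ m3 xQ m4 xQ xQ xQ
    have := sup_zp (sup_zp (sup_zp (sup_zp (W hy xQ) (to_alt h wc k t hy xQ)) p1) p2) p3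
    rw [eq_of_card_ge (sup_zp (sup_zp (sup_zp (l1.trans lY) m2) m3) m4) (by omega)] at this
    refine ny (fin y hy (fun v hv u hu => s hy (hN hv) hu (sup_zp (W hy hu) (s hy hu xQ (this hu)) (e1 hv))) ?_)
    by_cases e2 : Q z ⊓ C[N] ≤ Q z ⊓ C{b} ⊔ zpowers x
    · exact iso 1 (one_mem _) (e2.trans le_sup_left) y hy
    · obtain ⟨x', m, n⟩ := SetLike.not_le_iff_exists.1 e2
      exact iso x' (mem_sup_right m) (big x' (mem_sup_right m) n).2 y hy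
  · obtain ⟨x', m, n⟩ := SetLike.not_le_iff_exists.1 e1
    have m' : x' ∈ Q z ⊓ C{b} ⊔ Q z ⊓ C[N] := mem_sup_right ⟨hN m, ab m⟩
    obtain ⟨c2, e2⟩ := big x' m' n
    have l2 := (sup_zp l1 m').trans lY
    obtain ⟨x3, m3, c3⟩ := step l2 c2 (by omega)
    obtain ⟨x4, m4, c4⟩ := step (sup_zp l2 m3) c3 (by omega)
    obtain ⟨y, hy, ny, p1, p2, p3, p4⟩ := to_four h wc k t m3 xQ m4 xQ m3 (hN m) m4 (hN m)
    have q1 := sup_zp (sup_zp ((sup_zp l1 m').trans (p0 y hy)) p1) p2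
    have q2 := sup_zp (sup_zp ((sup_zp l1 m').trans (sup_le (W hy (hN m)) (to_inv h wc k t nN hy m))) p3) p4
    rw [eq_of_card_ge (sup_zp (sup_zp l2 m3) m4) (by omega)] at q1 q2
    exact ny (fin y hy (fun v hv u hu => s hy (hN hv) hu (sup_zp (sup_zp (W hy hu) (s hy hu xQ (q1 hu)))
      (s hy hu (hN m) (q2 hu)) (e2 ⟨hN hv, ab hv⟩))) (iso x' m' e2 y hy))

theorem to_irr : Irr z (Q z) := fun A zA hA nA => by
  by_contra ne
  push Not at ne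
  have dd := h.dual_dual k.l hA zA
  have nA' : C{z} ≤ N[Q z ⊓ C[A]] := norm_inf (h.norm k.l) (norm_C nA)
  have zA' := a_W h k hA
  have e0 := to_abl h wc k t (N := A ⊓ (Q z ⊓ C[A])) (inf_le_left.trans hA) ⟨zA, zA'⟩ (norm_inf nA nA')
    (inf_le_right.trans (inf_le_right.trans (C_anti inf_le_left)))
  obtain ⟨x, hx, n⟩ := SetLike.not_le_iff_exists.1 fun e : A ≤ C{b} =>
    ne.1 (to_abl h wc k t hA zA nA ((le_inf hA e).trans (t.ea.le_C.trans (C_anti (le_inf hA e)))))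
  obtain ⟨x', hx', n'⟩ := SetLike.not_le_iff_exists.1 fun e : Q z ⊓ C[A] ≤ C{b} => ne.2 (by
    have l := le_inf inf_le_left e
    rw [← dd, to_abl h wc k t inf_le_left zA' nA' (l.trans (t.ea.le_C.trans (C_anti l))), C_zpowers,
      inf_eq_left.2 (h.le k.l)])
  have W := fun {y v} => to_le h wc k t (y := y) (v := v)
  have l1 : Q z ⊓ C{b} ⊔ zpowers x ⊔ Q z ⊓ C[A] ≤ Q z := sup_le (sup_zp inf_le_left (hA hx)) inf_le_left
  have l2 : Q z ⊓ C{b} ⊔ zpowers x' ⊔ A ≤ Q z := sup_le (sup_zp inf_le_left hx'.1) hA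
  have c1 := to_Z h wc k t (hA hx) n l1 le_sup_left fun y hy =>
    sup_le (sup_zp (W hy (hA hx)) (to_alt h wc k t hy (hA hx))) (to_inv h wc k t nA hy hx)
  have c2 := to_Z h wc k t hx'.1 n' l2 le_sup_left fun y hy =>
    sup_le (sup_zp (W hy hx'.1) (to_alt h wc k t hy hx'.1)) (dd.ge.trans (to_inv h wc k t nA' hy hx'))
  have nm : ∀ {X}, z ∈ X → X ≤ Q z → Q z ≤ N[X] := fun zX hX => le_N_iff.2 fun g hg u hu =>
    (mul_mem_cancel_right (inv_mem hu)).1 (zpowers_le.2 zX (k_zp h k.l hg (hX hu)))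
  have c3 := card_sup (l2.trans (nm (mem_sup_right zA') l1))
  have c4 := card_sup ((inf_le_left : Q z ⊓ C[A] ≤ _).trans (nm zA hA))
  rw [e0, card_zp (h.sq k.l) (h.ne_one k.l), h.dual k.l hA zA] at c4
  have c5 := card_le (sup_le (le_sup_right.trans le_sup_right) (le_sup_right.trans le_sup_left) : A ⊔ Q z ⊓ C[A] ≤
    (Q z ⊓ C{b} ⊔ zpowers x ⊔ Q z ⊓ C[A]) ⊔ (Q z ⊓ C{b} ⊔ zpowers x' ⊔ A))
  have c6 := two_le (le_inf (le_sup_left.trans le_sup_left) (le_sup_left.trans le_sup_left) : Q z ⊓ C{b} ≤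
    (Q z ⊓ C{b} ⊔ zpowers x ⊔ Q z ⊓ C[A]) ⊓ (Q z ⊓ C{b} ⊔ zpowers x' ⊔ A))
    ⟨mem_sup_left (mem_sup_right (mem_zpowers x)), mem_sup_right hx⟩ fun e => n e.2
  rw [t.carda] at c6
  have := Nat.mul_le_mul c5 c6
  have := Nat.mul_le_mul c1 c2
  omega

end

end H3.XP

namespace H6
namespace XS

open Subgroup H24 H15 H15.XP Module
open scoped commutatorElement

variable {G : Type*} [Group G] [Finite G] {D : Set G} {Q : G → Subgroup G} {w : ℕ} {z b : G}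

theorem US.irr (h : US D Q w) (hw : 3 ≤ w) (k : Col D z b) : Irr z (Q z) := fun A zA hA nA => by
  by_cases e : WW Q z b ≤ A
  · refine Or.inr ?_
    rw [← h.dual_dual k.l hA zA, H3.XP.us_zp h inf_le_left (H3.XP.a_W h.toSit k hA)
      (norm_inf (h.norm k.l) (norm_C nA)) hw k fun e' => H3.XP.us_both h hA zA nA k e (e'.trans inf_le_right),
      C_zpowers, inf_eq_left.2 (h.toSit.le k.l)]
  · exact Or.inl (H3.XP.us_zp h hA zA nA hw k e)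

theorem Sit.irr_of_TO (h : Sit D Q 4) (wc : WC D Q) (k : Col D z b) (t : TO Q z b) :
    Irr z (Q z) := H3.XP.to_irr h wc k t

theorem Sit.irr_wc (h : Sit D Q w) (wc : WC D Q) (hw : 3 ≤ w) (k : Col D z b) : Irr z (Q z) := by
  rcases h.cases wc k.l with u | ⟨rfl, c, k', t⟩ | ⟨e, -⟩
  · exact u.irr hw k
  · exact h.irr_of_TO wc k' t
  · omega

end XS
end H6
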