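import Mathlib
import Cfsg.Agent.H6.XV1
import Cfsg.Agent.H6.XV0
import Cfsg.Agent.H20.XA1

/-! Width three: the case 2^(1+6)_+ . A8 -/

set_option autoImplicit false
set_option linter.unusedSectionVars false
set_option synthInstance.maxSize 8000

namespace H20.XA

open Subgroup H24 H15 H15.XP Module H6.XS

variable {G : Type*} [Group G] [Finite G] {D : Set G} {Q : G → Subgroup G} {z : G} {U : Subgroup G}
  {c ψ : G → T3} {a d v y : G}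

theorem pig {α β : Type*} [Finite β] (f : α → β) (h : Nat.card β < Nat.card α) :
    ∃ s t, s ≠ t ∧ f s = f t := by
  by_contra hc
  push Not at hc
  exact absurd (Nat.card_le_card_of_injective f fun s t e => by_contra fun k => hc s t k e) h.not_ge

/-- good points -/
structure GD (D : Set G) (Q : G → Subgroup G) (U : Subgroup G) (d : G) : Prop where
  mem : d ∈ D
  card : Nat.card ↥(U ⊓ Q d) = 16
  cent : C[U ⊓ Q d] = U
  ea : EA (U ⊓ Q d)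

/-- coordinates at a good point -/
structure Co (Q : G → Subgroup G) (U : Subgroup G) (z : G) (c ψ : G → T3) : Prop where
  c_mul : ∀ p ∈ U ⊓ Q z, ∀ p' ∈ U ⊓ Q z, c (p * p') = c p + c p'
  c_eq : ∀ p ∈ U ⊓ Q z, c p = 0 ↔ p = 1 ∨ p = z
  c_surj : ∀ t, ∃ p ∈ U ⊓ Q z, c p = t
  ψ_mul : ∀ y ∈ U, ∀ y' ∈ U, ψ (y * y') = ψ y + ψ y'
  ψ_eq : ∀ y ∈ U, ψ y = 0 ↔ y ∈ Q z
  ex : ∀ v ∈ U ⊓ Q z, c v ≠ 0 → ∃ k, k * z * k⁻¹ = v ∧ cj k (U ⊓ Q z) ≤ U ∧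
    ∀ p ∈ U ⊓ Q z, ψ (k * p * k⁻¹) = cr (c v) (c p)
  act : ∀ v ∈ U ⊓ Q z, c v ≠ 0 → ∀ y ∈ U ⊓ Q v, ∃ p ∈ U ⊓ Q z, p * y ∈ Q (z * v) ∧ ψ y = cr (c v) (c p)

variable (h : Sit D Q 3) (h1 : ∀ d ∈ D, ∀ v ∈ Q d, v * v = 1 → v ≠ 1 → v ∈ D)
  (h2 : ∀ d ∈ D, ∀ v ∈ D, v ∈ Q d → v ≠ d → Q d ⊓ Q v ≤ zpowers d ⊔ zpowers v)
include h

theorem GD.self (g : GD D Q U z) : z ∈ U ⊓ Q z :=
  ⟨g.cent ▸ mem_C.2 fun _ c => mem_C1.1 (h.le g.mem c.2), h.mem g.mem⟩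

include h1 h2

theorem GD.co (g : GD D Q U z) : ∃ c ψ, Co Q U z c ψ := by
  have hz := g.mem
  obtain ⟨V, _, _, _, hd, ⟨F⟩⟩ := h.exists_fr hz
  have hs : F.sub (F.im (U ⊓ Q z)) = U ⊓ Q z := by
    rw [F.sub_im h hz (g.self h), inf_assoc, inf_idem]
  have h3 : finrank (ZMod 2) (F.im (U ⊓ Q z)) = 3 := by
    have := F.card_sub h hz (W := F.im (U ⊓ Q z))
    rw [hs, g.card] at this
    exact Nat.succ_injective (Nat.pow_right_injective le_rfl (show 2 ^ _ = 2 ^ 4 from this.symm))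
  have hA := (F.ea_sub h hz).1 (hs.symm ▸ g.ea)
  obtain ⟨c, ψ, c1, c2, c3, c4, c5, c6⟩ := la F.nondeg hd hA h3
  have Uz : ∀ {y}, y ∈ U → y ∈ C{z} := fun hy => mem_C1.2 (mem_C'.1 (g.cent.ge hy) z (g.self h))
  have mA : ∀ {p}, p ∈ U ⊓ Q z → F.π p ∈ F.im (U ⊓ Q z) := fun {p} hp => ⟨p, hp, hp.2, rfl⟩
  have fx : ∀ {y} (hy : y ∈ U), ∀ a ∈ F.im (U ⊓ Q z), (F.ρ ⟨y, Uz hy⟩).1 a = a := fun {y} hy => by
    rintro _ ⟨p, p1, p2, rfl⟩
    exact ρ_fix F h hz _ p2 (mem_C'.1 (g.cent.ge hy) p p1)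
  have c0 : c 0 = 0 := add_eq_left.1 ((c1 0 0).symm.trans (by rw [add_zero]))
  have ce : ∀ p ∈ U ⊓ Q z, c (F.π p) = 0 ↔ p = 1 ∨ p = z := fun p hp =>
    ⟨fun e => (F.π_eq_zero p hp.2).1 (c2 _ (mA hp) e), fun e => by rw [(F.π_eq_zero p hp.2).2 e, c0]⟩
  have pre : ∀ v ∈ U ⊓ Q z, c (F.π v) ≠ 0 → v ∈ D ∧ v ≠ z ∧ (∃ x ∈ Q z, x * v * x⁻¹ = z * v) ∧
      ∀ x ∈ Q z, x * v * x⁻¹ = z * v → ∀ y : C{z}, (y : G) ∈ Q v →
        Ei (F.π v) ((F.ρ y).1 (F.π x) + F.π x) (F.ρ y) := fun v hv e => by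
    rw [Ne, ce v hv, not_or] at e
    have v1 := h1 z hz v hv.2 (g.ea v hv) e.1
    refine ⟨v1, e.2, h.exists_swap hz hv.2 e.1 e.2, fun x x1 x2 y y1 => (ei_of_triv F.nondeg
      ((F.q_π v hv.2).2 (g.ea v hv)) ((F.pol_one' h hz hv.2 x1).2 x2)
      (ρ_fix F h hz y hv.2 (mem_C1.1 (h.le v1 y1))) fun u hu => ?_).2⟩
    obtain ⟨a, a1, rfl⟩ := F.π_surj u
    have := F.π_comm h hz y a1
    rcases four h h2 hz v1 hv.2 e.2 (mul_mem (cQ h hz y.2 a1) (inv_mem a1))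
      (show y * a * (y : G)⁻¹ * a⁻¹ ∈ Q v by
        simpa [mul_assoc] using mul_mem y1 (cQ h v1 ((F.pol_zero h hz hv.2 a1).1 hu) (inv_mem y1)))
      with k | k | k | k <;> rw [k] at this
    · exact Or.inl (aez.1 (this.symm.trans F.π_one))
    · exact Or.inl (aez.1 (this.symm.trans (F.π_z h hz)))
    · exact Or.inr (by rw [this, add_comm (F.π a), vv''])
    · rw [F.π_mul _ (h.mem hz) _ hv.2, F.π_z h hz, zero_add] at this
      exact Or.inr (by rw [this, add_comm (F.π a), vv''])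
  classical
  refine ⟨fun p => c (F.π p), fun y => if hy : y ∈ U then ψ (F.ρ ⟨y, Uz hy⟩) else 0,
    fun p a p' b => by rw [F.π_mul _ a.2 _ b.2, c1], ce, fun t => ?_, fun y a y' b => ?_, fun y a => ?_,
    fun v hv e => ?_, fun v hv e y hy => ?_⟩
  · obtain ⟨_, ⟨p, p1, -, rfl⟩, e⟩ := c3 t
    exact ⟨p, p1, e⟩
  · rw [dif_pos a, dif_pos b, dif_pos (mul_mem a b), ← c4 _ _ (fx a) (fx b), ← map_mul]; rfl
  · rw [dif_pos a, ← F.ker ⟨y, Uz a⟩]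
    exact ⟨c5 _ (fx a), fun e => by
      have := c4 1 1 (fun _ _ => rfl) fun _ _ => rfl
      rw [e]; rw [mul_one] at this; exact left_eq_add.1 this⟩
  · obtain ⟨v1, v2, ⟨x, x1, x2⟩, v3⟩ := pre v hv e
    obtain ⟨x', x3, x4⟩ := h.exists_swap v1 (h.symm hz v1 hv.2) (h.ne_one hz) v2.symm
    have pv : ∀ {p}, p ∈ U ⊓ Q z → p ∈ C{v} := fun hp => mem_C1.2 (g.ea.comm hp hv)
    have kU : ∀ {p}, p ∈ U ⊓ Q z → x⁻¹ * x' * p * (x⁻¹ * x')⁻¹ ∈ U := fun hp =>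
      g.cent.le (mem_C'.2 fun a ha => st2 h h2 hz v1 hv.2 v2 x1 x2 x3 x4 hp.2 (pv hp) ha.2 (pv ha)
        (g.ea.comm ha hp))
    refine ⟨x⁻¹ * x', (swp h h2 hz v1 hv.2 x1 x2 x3 x4).1, fun y hy => ?_, fun p hp => ?_⟩
    · obtain ⟨p, hp, rfl⟩ := mem_cj'.1 hy
      exact kU hp
    rw [dif_pos (kU hp)]
    obtain ⟨n, n1, n2, n3⟩ := (st1 h h2 hz v1 hv.2 v2 x1 x2 x3 x4 hp.2 (pv hp) rfl).1
    have y1 := (st0 h h2 hz v1 hv.2 x1 x2 x3 x4 hp.2 (pv hp)).1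
    have y2 := (g.ea.cj (x⁻¹ * x')).inv (conj_mem_cj _ hp)
    suffices ∀ y (y4 : y ∈ C{z}), x * y * x⁻¹ = y * n * p → y ∈ Q v → y⁻¹ = y →
      ψ (F.ρ ⟨y, y4⟩) = cr (c (F.π v)) (c (F.π p)) from this _ _ n3 y1 y2
    intro y y4 n3 y1 y2
    have y5 := F.π_comm h hz ⟨y, y4⟩ x1
    rw [show y * x * y⁻¹ * x⁻¹ = n * p by
      rw [y2, mul_assoc y x, mul_assoc y, n3]; nth_rw 1 [← y2]; group,
      F.π_mul _ n1 _ hp.2] at y5
    have n4 : F.π n = 0 ∨ F.π n = F.π v := by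
      rcases four h h2 hz v1 hv.2 v2 n1 n2 with k | k | k | k <;> rw [k]
      exacts [Or.inl F.π_one, Or.inl (F.π_z h hz), Or.inr rfl,
        Or.inr (by rw [F.π_mul _ (h.mem hz) _ hv.2, F.π_z h hz, zero_add])]
    have y6 := v3 x x1 x2 ⟨y, y4⟩ y1
    rw [← y5] at y6
    rcases n4 with k | k <;> rw [k] at y6
    · rw [zero_add] at y6; exact c6 _ (mA hv) _ (mA hp) _ y6
    · rw [c6 _ (mA hv) _ (add_mem (mA hv) (mA hp)) _ y6, c1]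
      exact (by decide : ∀ a b : T3, cr a (a + b) = cr a b) _ _
  · obtain ⟨v1, v2, ⟨x, x1, x2⟩, v3⟩ := pre v hv e
    replace hy := mem_inf.1 hy
    have p1 : x * y * x⁻¹ * y⁻¹ ∈ U ⊓ Q z := mem_inf.2 ⟨mul_mem (g.cent.le (conj_mem (N_le_NC _
      (h.norm_of_le hz inf_le_right (g.self h) x1)) (g.cent.ge hy.1))) (inv_mem hy.1), by
      simpa [mul_assoc] using mul_mem x1 (cQ h hz (Uz hy.1) (inv_mem x1))⟩
    refine ⟨_, p1, by rw [inv_mul_cancel_right, ← x2, h.eqv v v1]; exact conj_mem_cj _ hy.2, ?_⟩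
    have y5 := F.π_comm h hz ⟨y, Uz hy.1⟩ x1
    rw [← F.π_inv (mul_mem (cQ h hz (Uz hy.1) x1) (inv_mem x1)),
      show (y * x * y⁻¹ * x⁻¹)⁻¹ = x * y * x⁻¹ * y⁻¹ by group] at y5
    rw [dif_pos hy.1]
    exact c6 _ (mA hv) _ (mA p1) _ (y5 ▸ v3 x x1 x2 ⟨y, Uz hy.1⟩ hy.2)

theorem GD.eaU (g : GD D Q U z) : EA U := fun y hy => by
  obtain ⟨c, ψ, K⟩ := g.co h h1 h2
  by_cases e : ψ y = 0
  · exact g.ea y ⟨hy, (K.ψ_eq y hy).1 e⟩
  obtain ⟨u, u0, s, e⟩ : ∃ u, u ≠ 0 ∧ ∃ s, cr u s = ψ y := by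
    revert e; generalize ψ y = t; clear * -; decide +revert
  obtain ⟨v, v1, rfl⟩ := K.c_surj u
  obtain ⟨p, p1, rfl⟩ := K.c_surj s
  obtain ⟨k, -, k1, k2⟩ := K.ex v v1 u0
  have y1 := k1 (conj_mem_cj k p1)
  have y2 := g.ea.cj k _ (conj_mem_cj k p1)
  have y3 := mul_mem hy y1
  have y4 : y * (k * p * k⁻¹) ∈ U ⊓ Q z := ⟨y3, (K.ψ_eq _ y3).1 (by
    rw [K.ψ_mul _ hy _ y1, k2 p p1, e]; exact (by decide : ∀ a : T3, a + a = 0) _)⟩
  have y5 := g.ea _ y4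
  have y6 := mem_C'.1 (g.cent.ge y1) _ y4
  generalize k * p * k⁻¹ = m at y2 y5 y6
  rw [mul_assoc, y2, mul_one] at y6
  rw [← mul_assoc, mul_assoc y, mul_assoc y, mul_assoc m, y6, ] at y5
  exact y5

theorem GD.next (g : GD D Q U z) (hv : v ∈ U ⊓ Q z) (v1 : v ≠ 1) : GD D Q U v := by
  by_cases v2 : v = z
  · exact v2 ▸ g
  obtain ⟨c, ψ, K⟩ := g.co h h1 h2
  obtain ⟨k, rfl, k1, -⟩ := K.ex v hv fun e => ((K.c_eq v hv).1 e).elim v1 v2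
  have hU := g.eaU h h1 h2
  have d1 := h.conj z g.mem k
  have e : cj k (U ⊓ Q z) = U ⊓ Q (k * z * k⁻¹) := eq_of_card_eq (le_inf k1 (by
    rw [h.eqv z g.mem]; exact cj_mono k inf_le_right)) (le_antisymm (card_le_of_le (le_inf k1 (by
    rw [h.eqv z g.mem]; exact cj_mono k inf_le_right))) (by
      rw [card_cj, g.card]; exact h.card_le_of_abl d1 inf_le_right (hU.mono inf_le_left).le_C))
  refine ⟨d1, by rw [← e, card_cj, g.card], (eq_of_card_eq (hU.le_C.trans (C_anti inf_le_left)) ?_).symm,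
    hU.mono inf_le_left⟩
  rw [← e, ← cj_C, card_cj, g.cent]

theorem GD.key (g : GD D Q U z) (K : Co Q U z c ψ) (gy : GD D Q U y) (y0 : ψ y ≠ 0)
    (ha : a ∈ U ⊓ Q z) (a0 : c a ≠ 0) (e : ∃ s, ψ y = cr (c a) s) : y ∈ Q a ∨ y ∈ Q (z * a) := by
  have hz := g.mem
  have hU := g.eaU h h1 h2
  have zz : ∀ a : T3, a + a = 0 := by decide
  have z1 := g.self h
  have cz : ∀ {m}, m ∈ U ⊓ Q z → c (z * m) = c m := fun hm => by
    rw [K.c_mul _ z1 _ hm, (K.c_eq z z1).2 (Or.inr rfl), zero_add]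
  have zm : ∀ m, z * (z * m) = m := fun m => by rw [← mul_assoc, h.sq hz, one_mul]
  have ne : ∀ {m}, m ∈ U ⊓ Q z → c m ≠ 0 → m ≠ 1 ∧ m ≠ z := fun hm e => by
    rwa [Ne, K.c_eq _ hm, not_or] at e
  have mD : ∀ {m}, m ∈ U ⊓ Q z → c m ≠ 0 → m ∈ D := fun hm e => (g.next h h1 h2 hm (ne hm e).1).mem
  have eq : ∀ {m p}, m ∈ U ⊓ Q z → p ∈ U ⊓ Q z → c p = c m → p = m ∨ p = z * m := fun {m p} a b e => by
    rcases (K.c_eq _ (mul_mem b a)).1 (by rw [K.c_mul _ b _ a, e, zz]) with k | k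
    · exact Or.inl (by rw [← hU.inv a.1]; exact mul_eq_one_iff_eq_inv.1 k)
    · exact Or.inr (by rw [← k, mul_assoc, hU _ a.1, mul_one])
  have lo : ∀ {m p}, m ∈ U ⊓ Q z → c m ≠ 0 → p ∈ U ⊓ Q z → (p ∈ Q m ↔ c p = 0 ∨ c p = c m) :=
    fun {m p} a b d => by
      have zQ := h.symm hz (mD a b) a.2
      refine ⟨fun e => ?_, ?_⟩
      · rcases four h h2 hz (mD a b) a.2 (ne a b).2 d.2 e with k | k | k | k
        exacts [Or.inl ((K.c_eq _ d).2 (Or.inl k)), Or.inl ((K.c_eq _ d).2 (Or.inr k)),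
          Or.inr (k ▸ rfl), Or.inr (k ▸ cz a)]
      · rintro (e | e)
        · rcases (K.c_eq _ d).1 e with k | k <;> rw [k]
          exacts [one_mem _, zQ]
        · rcases eq a d e with k | k <;> rw [k]
          exacts [h.mem (mD a b), mul_mem zQ (h.mem (mD a b))]
  have ii : ∀ {m y p}, m ∈ U ⊓ Q z → c m ≠ 0 → y ∈ U → ψ y ≠ 0 → y ∈ Q m ∨ y ∈ Q (z * m) →
      p ∈ U ⊓ Q z → (∃ s, ψ y = cr (c p) s) ∨ c p = 0 → p * y ∈ Q m ∨ p * y ∈ Q (z * m) := by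
    have : ∀ {m y p}, m ∈ U ⊓ Q z → c m ≠ 0 → y ∈ U → ψ y ≠ 0 → y ∈ Q m →
        p ∈ U ⊓ Q z → (∃ s, ψ y = cr (c p) s) ∨ c p = 0 → p * y ∈ Q m ∨ p * y ∈ Q (z * m) :=
      fun {m y p} a1 a2 a3 a4 a5 a6 a7 => by
        obtain ⟨r, r1, r2, r3⟩ := K.act m a1 a2 y ⟨a3, a5⟩
        have l1 := lo a1 a2 a6
        have l2 := lo (mul_mem z1 a1) (cz a1 ▸ a2) (mul_mem a6 r1)
        rw [K.c_mul _ a6 _ r1, cz a1] at l2
        rcases (by revert a7 a4 r3; generalize ψ y = t; generalize c p = t1; generalize c r = t2; generalize c m = t3; clear * -; decide +kernel +revert : (c p = 0 ∨ c p = c m) ∨ (c p + c r = 0 ∨ c p + c r = c m)) with k | k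
        · exact Or.inl (mul_mem (l1.2 k) a5)
        · have := mul_mem (l2.2 k) r2
          rw [mul_assoc, ← mul_assoc r, hU r r1.1, one_mul] at this
          exact Or.inr this
    rintro m y p a1 a2 a3 a4 (a5 | a5) a6 a7
    · exact this a1 a2 a3 a4 a5 a6 a7
    · have := this (mul_mem z1 a1) (cz a1 ▸ a2) a3 a4 a5 a6 a7
      rw [zm] at this
      exact this.symm
  have tr : ∀ {m m' y}, m ∈ U ⊓ Q z → c m ≠ 0 → m' ∈ U ⊓ Q z → c m' ≠ 0 → c (m * m') ≠ 0 → y ∈ D →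
      y ∈ Q m ∨ y ∈ Q (z * m) → y ∈ Q m' ∨ y ∈ Q (z * m') → y ∈ Q (m * m') ∨ y ∈ Q (z * (m * m')) := by
    have : ∀ {m m' y}, m ∈ U ⊓ Q z → c m ≠ 0 → m' ∈ U ⊓ Q z → c m' ≠ 0 → c m + c m' ≠ 0 → y ∈ D →
        y ∈ Q m → y ∈ Q m' → y ∈ Q (m * m') := fun a1 a2 a3 a4 a5 a6 a7 a8 =>
      h.symm a6 (mD (mul_mem a1 a3) (K.c_mul _ a1 _ a3 ▸ a5))
        (mul_mem (h.symm (mD a1 a2) a6 a7) (h.symm (mD a3 a4) a6 a8))
    intro m m' y a1 a2 a3 a4 a5 a6 a7 a8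
    rw [K.c_mul _ a1 _ a3] at a5
    have cm := hU.comm a1.1 z1.1
    rcases a7 with a7 | a7 <;> rcases a8 with a8 | a8
    · exact Or.inl (this a1 a2 a3 a4 a5 a6 a7 a8)
    · have := this a1 a2 (mul_mem z1 a3) (cz a3 ▸ a4) (cz a3 ▸ a5) a6 a7 a8
      rw [← mul_assoc, cm, mul_assoc] at this
      exact Or.inr this
    · have := this (mul_mem z1 a1) (cz a1 ▸ a2) a3 a4 (cz a1 ▸ a5) a6 a7 a8
      rw [mul_assoc] at this
      exact Or.inr this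
    · have := this (mul_mem z1 a1) (cz a1 ▸ a2) (mul_mem z1 a3) (cz a3 ▸ a4) (cz a1 ▸ cz a3 ▸ a5) a6 a7 a8
      rw [mul_assoc, ← mul_assoc m, cm, mul_assoc, zm] at this
      exact Or.inl this
  obtain ⟨v, v1, v0, v2⟩ : ∃ v ∈ U ⊓ Q z, c v ≠ 0 ∧ y ∈ Q v := by
    obtain ⟨s, t, st, e⟩ := pig (fun s : ↥(U ⊓ Q y) => ψ s) (by
      rw [gy.card]; simp)
    have m1 := mul_mem s.2 t.2
    have m2 : (s : G) * t ∈ U ⊓ Q z := ⟨m1.1, (K.ψ_eq _ m1.1).1 (by rw [K.ψ_mul _ s.2.1 _ t.2.1, e, zz])⟩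
    have m3 : c (s * t) ≠ 0 := fun k => by
      rcases (K.c_eq _ m2).1 k with k | k
      · exact st (Subtype.ext (by rw [← hU.inv t.2.1]; exact mul_eq_one_iff_eq_inv.1 k))
      · exact y0 ((K.ψ_eq y (gy.self h).1).2 (h.symm gy.mem hz (k ▸ m1.2)))
    exact ⟨_, m2, m3, h.symm gy.mem (mD m2 m3) m1.2⟩
  have yU := (gy.self h).1
  by_cases av : c a = c v
  · rcases eq v1 ha av with k | k <;> rw [k]
    exacts [Or.inl v2, Or.inr (by rwa [zm])]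
  obtain ⟨r, r1, r2, r3⟩ := K.act v v1 v0 y ⟨yU, v2⟩
  have b1 := mul_mem v1 ha
  have b2 := K.c_mul _ v1 _ ha
  have b0 : c (v * a) ≠ 0 := by rw [b2]; revert av; generalize c a = s; generalize c v = t; clear * -; decide +revert
  have ex : ∀ {m}, m ∈ U ⊓ Q z → c m ≠ 0 → (∃ s, ψ y = cr (c m) s) →
      ∃ p ∈ U ⊓ Q z, p * y ∈ D ∧ p * y ∈ Q m := fun {m} a1 a2 ⟨s, a3⟩ => by
    obtain ⟨p, p1, rfl⟩ := K.c_surj s
    obtain ⟨k, k0, k1, k2⟩ := K.ex m a1 a2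
    have y1 := k1 (conj_mem_cj k p1)
    have y2 : k * p * k⁻¹ ∈ Q m := by rw [← k0, h.eqv z hz]; exact conj_mem_cj k p1.2
    have y3 := mul_mem y1 yU
    refine ⟨_, ⟨y3, (K.ψ_eq _ y3).1 (by rw [K.ψ_mul _ y1 _ yU, k2 p p1, a3, zz])⟩, ?_⟩
    rw [mul_assoc, hU y yU, mul_one]
    exact ⟨h1 m (mD a1 a2) _ y2 (hU _ y1) fun k => y0 (by
      rw [a3, ← k2 p p1, k]; exact (K.ψ_eq 1 (one_mem _)).2 (one_mem _)), y2⟩
  obtain ⟨s, e⟩ := e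
  obtain ⟨p, p1, p2, p3⟩ := ex ha a0 ⟨s, e⟩
  obtain ⟨p', q1, q2, q3⟩ := ex b1 b0 (by
    rw [b2]; revert e r3 y0 av; generalize ψ y = t; generalize c a = t1; generalize c r = t2
    generalize c v = t3; clear * -; decide +kernel +revert)
  have ψp : ∀ {p}, p ∈ U ⊓ Q z → ψ (p * y) = ψ y := fun hp => by
    rw [K.ψ_mul _ hp.1 _ yU, (K.ψ_eq _ hp.1).2 hp.2, zero_add]
  have cc : ∀ {p}, p ∈ U ⊓ Q z → p * (p * y) = y := fun hp => by rw [← mul_assoc, hU _ hp.1, one_mul]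
  have f1 : (∃ s, ψ y = cr (c p) s) ∨ c p = 0 → y ∈ Q a ∨ y ∈ Q (z * a) := fun k => by
    have := ii ha a0 (mul_mem p1.1 yU) (ψp p1 ▸ y0) (Or.inl p3) p1 (ψp p1 ▸ k)
    rwa [cc p1] at this
  rcases (by revert y0; generalize ψ y = t; generalize c p = t1; generalize c p' = t2; clear * -; decide +kernel +revert : ((∃ s, ψ y = cr (c p) s) ∨ c p = 0) ∨
    ((∃ s, ψ y = cr (c p') s) ∨ c p' = 0) ∨ ((∃ s, ψ y = cr (c p + c p') s) ∨ c p + c p' = 0)) with k | k | k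
  · exact f1 k
  · have := ii b1 b0 (mul_mem q1.1 yU) (ψp q1 ▸ y0) (Or.inl q3) q1 (ψp q1 ▸ k)
    rw [cc q1] at this
    have := tr v1 v0 b1 b0 (by rwa [← mul_assoc, hU v v1.1, one_mul]) gy.mem (Or.inl v2) this
    rwa [← mul_assoc v, hU v v1.1, one_mul] at this
  · have := ii b1 b0 (mul_mem q1.1 yU) (ψp q1 ▸ y0) (Or.inl q3) (mul_mem p1 q1)
      (ψp q1 ▸ K.c_mul _ p1 _ q1 ▸ k)
    rw [mul_assoc, cc q1] at this
    have := tr b1 b0 ha a0 (by rwa [mul_assoc, hU a ha.1, mul_one]) p2 this (Or.inl p3)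
    rw [mul_assoc v, hU a ha.1, mul_one] at this
    refine f1 ?_
    rcases this with k | k
    · have := (lo v1 v0 p1).1 ((mul_mem_cancel_right v2).1 k)
      revert this r3; generalize ψ y = t; generalize c p = t1; generalize c r = t2
      generalize c v = t3; clear * -; decide +kernel +revert
    · have := (lo (mul_mem z1 v1) (cz v1 ▸ v0) (mul_mem p1 (inv_mem r1))).1 (by
        simpa [mul_assoc] using mul_mem k (inv_mem r2))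
      rw [hU.inv r1.1, K.c_mul _ p1 _ r1, cz v1] at this
      revert this r3; generalize ψ y = t; generalize c p = t1; generalize c r = t2
      generalize c v = t3; clear * -; decide +kernel +revert

theorem GD.false (g : GD D Q U z) : False := by
  obtain ⟨c, ψ, K⟩ := g.co h h1 h2
  have hU := g.eaU h h1 h2
  have z1 := g.self h
  have ψ1 := (K.ψ_eq 1 (one_mem _)).2 (one_mem _)
  obtain ⟨y, gy, y0⟩ : ∃ y, GD D Q U y ∧ ψ y ≠ 0 := by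
    obtain ⟨v, v1, v2⟩ := K.c_surj (1, 0, 0)
    obtain ⟨p, p1, p2⟩ := K.c_surj (0, 1, 0)
    have v0 : c v ≠ 0 := by rw [v2]; decide
    obtain ⟨k, k0, k1, k2⟩ := K.ex v v1 v0
    have y0 : ψ (k * p * k⁻¹) ≠ 0 := by rw [k2 p p1, v2, p2]; decide
    exact ⟨_, (g.next h h1 h2 v1 fun e => v0 ((K.c_eq v v1).2 (Or.inl e))).next h h1 h2
      ⟨k1 (conj_mem_cj k p1), by rw [← k0, h.eqv z g.mem]; exact conj_mem_cj k p1.2⟩
      fun e => y0 (e ▸ ψ1), y0⟩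
  have yU := gy.self h
  have zy : z ∉ Q y := fun e => y0 ((K.ψ_eq y yU.1).2 (h.symm gy.mem g.mem e))
  obtain ⟨m, m1, m2, m3⟩ : ∃ m ∈ U ⊓ Q y, ψ m ≠ 0 ∧ ψ m ≠ ψ y := by
    by_contra hc
    push Not at hc
    have a1 : ∀ m : ↥(U ⊓ Q y), ∃ p ∈ U ⊓ Q z, p ∈ Q y ∧ (m : G) = p * if ψ m = 0 then 1 else y :=
      fun m => by
        split_ifs with k
        · exact ⟨m, ⟨m.2.1, (K.ψ_eq _ m.2.1).1 k⟩, m.2.2, (mul_one _).symm⟩
        · have := mul_mem m.2 yU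
          exact ⟨m * y, ⟨this.1, (K.ψ_eq _ this.1).1 (by
            rw [K.ψ_mul _ m.2.1 _ yU.1, hc m m.2 k]; exact (by decide : ∀ a : T3, a + a = 0) _)⟩, this.2,
            by rw [mul_assoc, hU y yU.1, mul_one]⟩
    choose p p1 p2 p3 using a1
    have a2 : ∀ m, c (p m) = 0 ∨ ∃ s, ψ y = cr (c (p m)) s := fun m => or_iff_not_imp_left.2 fun k => by
      obtain ⟨r, -, -, e⟩ := K.act _ (p1 m) k y ⟨yU.1, h.symm gy.mem (g.next h h1 h2 (p1 m)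
        fun e => k ((K.c_eq _ (p1 m)).2 (Or.inl e))).mem (p2 m)⟩
      exact ⟨_, e⟩
    obtain ⟨s, t, st, e⟩ := pig
      (β := Bool × {u : T3 // u = 0 ∨ ∃ s, ψ y = cr u s})
      (fun m : ↥(U ⊓ Q y) => (decide (ψ m = 0), ⟨c (p m), a2 m⟩)) (by
        rw [gy.card, Nat.card_prod, Nat.card_eq_fintype_card, Nat.card_eq_fintype_card, Fintype.card_subtype]
        revert y0; generalize ψ y = t; clear * -; decide +kernel +revert)
    simp only [Prod.mk.injEq, decide_eq_decide, Subtype.mk.injEq] at e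
    rcases (K.c_eq _ (mul_mem (p1 s) (p1 t))).1 (by
      rw [K.c_mul _ (p1 s) _ (p1 t), e.2]; exact (by decide : ∀ a : T3, a + a = 0) _) with k | k
    · refine st (Subtype.ext ?_)
      rw [p3 s, p3 t, if_congr e.1 rfl rfl, mul_eq_one_iff_eq_inv.1 k, hU.inv (p1 t).1]
    · exact zy (k ▸ mul_mem (p2 s) (p2 t))
  have n1 := mul_mem yU m1
  have n2 := K.ψ_mul _ yU.1 _ m1.1
  obtain ⟨u, u0, ⟨s1, e1⟩, ⟨s2, e2⟩, n0, e3⟩ : ∃ u, u ≠ 0 ∧ (∃ s, ψ y = cr u s) ∧ (∃ s, ψ m = cr u s) ∧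
      ψ y + ψ m ≠ 0 ∧ ∃ s, ψ y + ψ m = cr u s := by
    revert m3; generalize ψ y = t; generalize ψ m = t1; clear * -; decide +kernel +revert
  rw [← n2] at n0 e3
  obtain ⟨a, a1, rfl⟩ := K.c_surj u
  have k1 := g.key h h1 h2 K gy y0 a1 u0 ⟨_, e1⟩
  have k2 := g.key h h1 h2 K (gy.next h h1 h2 m1 fun e => m2 (e ▸ ψ1)) m2 a1 u0 ⟨_, e2⟩
  have k3 := g.key h h1 h2 K (gy.next h h1 h2 n1 fun e => n0 (e ▸ ψ1)) n0 a1 u0 e3
  have fin : ∀ b ∈ U ⊓ Q z, c b ≠ 0 → y ∈ Q b → m ∉ Q b := fun b b1 b0 b2 b3 => by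
    have bD := (g.next h h1 h2 b1 fun e => b0 ((K.c_eq _ b1).2 (Or.inl e))).mem
    have ψb := (K.ψ_eq b b1.1).2 b1.2
    rcases four h h2 gy.mem bD (h.symm bD gy.mem b2) (fun e => y0 (e ▸ ψb)) m1.2 b3 with k | k | k | k
    · exact m2 (k ▸ ψ1)
    · exact m3 (k ▸ rfl)
    · exact m2 (k ▸ ψb)
    · exact m3 (by rw [k, K.ψ_mul _ yU.1 _ b1.1, ψb, add_zero])
  have f1 := fin a a1 u0
  have f2 := fin _ (mul_mem z1 a1) (by rwa [K.c_mul _ z1 _ a1, (K.c_eq z z1).2 (Or.inr rfl), zero_add])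
  rcases k1 with k1 | k1
  · exact f2 ((mul_mem_cancel_right (k2.resolve_left (f1 k1))).1 (k3.resolve_left
      fun k => f1 k1 ((mul_mem_cancel_left k1).1 k))) (k2.resolve_left (f1 k1))
  · exact f1 ((mul_mem_cancel_right (k2.resolve_right (f2 k1))).1 (k3.resolve_right
      fun k => f2 k1 ((mul_mem_cancel_left k1).1 k))) (k2.resolve_right (f2 k1))

end H20.XA

namespace H6
namespace XS

open Subgroup H24 H15 H15.XP Module
open scoped commutatorElement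

variable {G : Type*} [Group G] [Finite G] {D : Set G} {Q : G → Subgroup G} {w : ℕ} {z : G}

theorem Sit.not_plus (h : Sit D Q 3) (h1 : ∀ d ∈ D, ∀ v ∈ Q d, v * v = 1 → v ≠ 1 → v ∈ D)
    (h2 : ∀ d ∈ D, ∀ v ∈ D, v ∈ Q d → v ≠ d → Q d ⊓ Q v ≤ zpowers d ⊔ zpowers v) (hz : z ∈ D)
    {P : Subgroup G} (hP : P ≤ Q z) (he : EA P) (hc : Nat.card P = 16) : False := by
  have a1 : zpowers z ≤ C[P] := zpowers_le.2 (mem_C.2 fun a ha => mem_C1.1 (h.le hz (hP ha)))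
  have a2 : P = P ⊔ zpowers z := eq_of_card_eq le_sup_left (le_antisymm (card_le_of_le le_sup_left) (by
    rw [hc]
    refine h.card_le_of_abl hz (sup_le hP (zpowers_le.2 (h.mem hz))) ?_
    rw [C_sup]
    exact le_inf (sup_le he.le_C a1) (sup_le (le_centralizer_iff.1 a1) (abl_zpowers z).le_C)))
  have a3 := h.dual hz hP (a2.ge (mem_sup_right (mem_zpowers z)))
  have a4 : P = C[P] ⊓ Q z := eq_of_card_eq (le_inf he.le_C hP) (by rw [inf_comm]; rw [hc] at a3 ⊢; omega)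
  exact H20.XA.GD.false h h1 h2 (U := C[P]) ⟨hz, a4 ▸ hc, by rw [← a4], a4 ▸ he⟩

end XS
end H6
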