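import Mathlib
import Cfsg.Agent.H6.XV1
import Cfsg.Agent.H6.XB
import Cfsg.Agent.H6.XT
import Cfsg.Agent.H20.XA0

/-! Two transfer arguments -/

set_option autoImplicit false
set_option linter.unusedSectionVars false
set_option synthInstance.maxSize 8000

namespace H6
namespace XS

open Subgroup H24 H15 H15.XP Module H20.XA
open scoped commutatorElement

variable {G : Type*} [Group G] [Finite G] {D : Set G} {Q : G → Subgroup G} {w : ℕ} {z : G}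
variable {V : Type*} [AddCommGroup V] [Module (ZMod 2) V] [Finite V]

theorem exists_nonsing₂₀ {q : QuadraticForm (ZMod 2) V} (hq : (ofQuad q).Nondeg)
    (h3 : 3 ≤ finrank (ZMod 2) V) {n x : V} (h : pol q n x = 1) :
    ∃ u, pol q n u = 0 ∧ pol q x u = 0 ∧ q u = 1 := by
  by_contra hc
  push Not at hc
  have h0 : ∀ u, pol q n u = 0 → pol q x u = 0 → q u = 0 := fun u a b => z0 (hc u a b)
  have h1 : Submodule.span (ZMod 2) (Set.range ![n, x]) = ⊤ := eq_top_iff.2 fun y _ => by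
    obtain ⟨b1, b2⟩ := dec h y
    have := plane hq h (v := y + (pol q x y • n + pol q n y • x)) fun u a1 a2 => by
      have := quad_add q u (y + (pol q x y • n + pol q n y • x))
      rwa [h0 _ (by rw [map_add, a1, b1, add_zero]) (by rw [map_add, a2, b2, add_zero]), h0 u a1 a2,
        h0 _ b1 b2, add_zero, zero_add, eq_comm] at this
    rw [b1, b2, zero_smul, zero_smul, add_zero, aez] at this
    rw [this]
    exact add_mem (Submodule.smul_mem _ _ (Submodule.subset_span ⟨0, rfl⟩))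
      (Submodule.smul_mem _ _ (Submodule.subset_span ⟨1, rfl⟩))
  have := finrank_range_le_card (R := ZMod 2) ![n, x]
  rw [Set.finrank, h1, finrank_top, Fintype.card_fin] at this
  omega

theorem Sit.no_refl [IsSimpleGroup G] (h : Sit D Q w) (hz : z ∈ D) (F : Fr z (Q z) V)
    {K : Subgroup (ofQuad F.q).Isom} (hK : K.index = 2) {n : V} (hn : F.q n ≠ 0)
    (h1 : refl F.q n ∈ F.ρ.range) : refl F.q n ∈ K := by
  by_contra hr
  have qn := z1 hn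
  have rf : ∀ v, (refl F.q n).1 v = v + pol F.q n v • n := fun v => by
    rw [refl_apply, qn, inv_one, (by decide : ∀ a : ZMod 2, -1 * a = a)]
  have n0 : n ≠ 0 := by rintro rfl; exact hn (map_zero _)
  obtain ⟨t0, ht0⟩ := h1
  obtain ⟨t, ht, -, tc⟩ := adj F h hz t0 ((ofQuad F.q).perp (Submodule.span _ {n})) fun v hv => by
    rw [ht0]; exact refl_of_perp _ ((Form.mem_perp_singleton _).1 hv)
  rw [ht0] at ht
  replace tc : ∀ a ∈ Q z, pol F.q n (F.π a) = 0 → t * a = a * t := fun a a1 a2 =>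
    tc a a1 ((Form.mem_perp_singleton _).2 a2)
  have fn : ∀ {x v}, pol F.q n x = 1 → (∀ u, pol F.q n u = 0 → pol F.q x u = 0 → pol F.q u v = 0) →
      (refl F.q n).1 v = v → v = pol F.q x v • n := fun {x v} a1 a2 a3 => by
    rw [rf, add_eq_left, smul_eq_zero_iff_left n0] at a3
    have := plane F.nondeg a1 a2
    rwa [a3, zero_smul, add_zero] at this
  have sc : ∀ {x}, x ∈ Q z → ∀ a ∈ Q z, pol F.q n (F.π a) = 0 → pol F.q (F.π x) (F.π a) = 0 →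
      t * x * a = a * (t * x) := fun {x} x1 a a1 a2 a3 => by
    rw [mul_assoc, (F.pol_π x x1 a a1).1 a3, ← mul_assoc, tc a a1 a2, mul_assoc]
  have sq : ∀ x ∈ Q z, pol F.q n (F.π x) = 1 → t * x * (t * x) = 1 ∨ t * x * (t * x) = z :=
      fun x x1 x2 => by
    have e1 := ρ_mul F h hz t x1
    have e2 : t * x * (t * x) ∈ Q z := (F.ker (t * ⟨x, h.le hz x1⟩ * (t * ⟨x, h.le hz x1⟩))).1
      (by rw [map_mul, e1, ht, H15.refl_mul_self])
    have e3 := fn (v := F.π (t * x * (t * x))) x2 (fun u a1 a2 => by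
      obtain ⟨a, a0, rfl⟩ := F.π_surj u
      rw [F.pol_π a a0 _ e2, ← mul_assoc, ← sc x1 a a0 a1 a2, mul_assoc, ← sc x1 a a0 a1 a2,
        ← mul_assoc]) (by rw [← ht, ← e1]; exact ρ_fix F h hz _ e2 (mul_assoc _ _ _).symm)
    have m1 := mul_mem (inv_mem x1) (cQ h hz t.2 x1)
    have m2 : F.π (x⁻¹ * (t * x * (t : G)⁻¹)) = n := by
      rw [F.π_mul _ (inv_mem x1) _ (cQ h hz t.2 x1), F.π_inv x1, ← F.ρ_π t x x1, ht, rf, x2, one_smul, vv']
    have m3 := (F.q_one h hz m1).1 (m2 ▸ qn)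
    have m4 := (F.pol_one h hz x1 m1).1 (by rw [m2, pol_comm, x2])
    have m5 := tc _ m1 (by rw [m2, pp])
    have m6 : t * x * (t : G)⁻¹ = x * (x⁻¹ * (t * x * (t : G)⁻¹)) := by group
    have m7 := mem_C1.1 (h.le hz m1)
    generalize x⁻¹ * (t * x * (t : G)⁻¹) = m at m3 m4 m5 m6 m7
    rw [(F.pol_π x x1 _ e2).2 (by
      rw [eq_comm, ← mul_inv_eq_iff_eq_mul, show t * x * (t * x) * x * (t * x * (t * x))⁻¹ =
        t * (x * (t * x * (t : G)⁻¹) * x⁻¹) * (t : G)⁻¹ by group, m6,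
        show t * (x * (x * m) * x⁻¹) * (t : G)⁻¹ = t * x * (t : G)⁻¹ * (t * (x * m * x⁻¹) * (t : G)⁻¹)
        by group, m4, zc h hz t.2, m5, m6, mul_inv_cancel_right, mul_assoc, ← mul_assoc m, m7,
        mul_assoc, m3, h.sq hz, mul_one]), zero_smul] at e3
    exact (F.π_eq_zero _ e2).1 e3
  obtain ⟨x, x1, x2, x3⟩ : ∃ x ∈ Q z, pol F.q n (F.π x) = 1 ∧ t * x * (t * x) = 1 := by
    obtain ⟨v, hv⟩ := F.nondeg.exists_B_eq_one n0
    obtain ⟨x, x1, rfl⟩ := F.π_surj v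
    rcases sq x x1 hv with e | e
    · exact ⟨x, x1, hv, e⟩
    obtain ⟨u, u1, u2, u3⟩ := exists_nonsing₂₀ F.nondeg (by
      have := h.two_le; rw [F.dim h hz]; omega) hv
    obtain ⟨a, a1, rfl⟩ := F.π_surj u
    refine ⟨x * a, mul_mem x1 a1, by rw [F.π_mul x x1 a a1, map_add, u1, add_zero]; exact hv, ?_⟩
    calc _ = t * x * (a * (t * x)) * a := by group
      _ = t * x * (t * x) * (a * a) := by rw [← sc x1 a a1 u1 u2]; group
      _ = 1 := by rw [e, (F.q_one h hz a1).1 u3, h.sq hz]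
  have e1 := (ρ_mul F h hz t x1).trans ht
  obtain ⟨d, d1, d2, d3, d4, d5⟩ := tf F h hz K (fun a b a1 b1 => (mul_mem_iff_of_index_two hK).2
    (iff_of_false a1 b1)) (t * ⟨x, h.le hz x1⟩) (e1 ▸ hr) (Or.inl x3)
  replace d5 : ∀ a ∈ Q z, pol F.q n (F.π a) = 0 → pol F.q (F.π x) (F.π a) = 0 → d * a = a * d :=
    fun a a1 a2 a3 => d5 a a1 (sc x1 a a1 a2 a3)
  by_cases dQ : d ∈ Q z
  · have := fn (v := F.π d) x2 (fun u a1 a2 => by
      obtain ⟨a, a0, rfl⟩ := F.π_surj u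
      exact (F.pol_π a a0 d dQ).2 (d5 a a0 a1 a2).symm) (by rw [← e1]; exact ρ_fix F h hz _ dQ d4.symm)
    rcases z2 (pol F.q (F.π x) (F.π d)) with e | e <;> rw [e] at this
    · rw [zero_smul, F.π_eq_zero d dQ] at this
      exact this.elim (h.ne_one d1) d2
    · rw [one_smul] at this
      exact hn (this ▸ (F.q_π d dQ).2 (h.sq d1))
  have zQ : z ∉ Q d := fun c => dQ (h.symm d1 hz c)
  have fx : ∀ b : C{z}, (∀ a ∈ Q z, a ∈ C{d} → b * a = a * b) → Fx n (F.π x) (F.ρ b) :=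
    fun b hb u a1 a2 => by
      obtain ⟨a, a0, rfl⟩ := F.π_surj u
      exact ρ_fix F h hz b a0 (hb a a0 (mem_C1.2 (d5 a a0 a1 a2).symm))
  have fd := fx ⟨d, d3⟩ fun a _ a1 => (mem_C1.1 a1).symm
  obtain ⟨a, b, c, e, md⟩ := fd.mat F.nondeg x2
  have one : ∀ {g : (ofQuad F.q).Isom}, Fx n (F.π x) g → (∀ s t : ZMod 2, g.1 (s • n + t • F.π x) =
    (s * 1 + t * 0) • n + (s * 0 + t * 1) • F.π x) → g = 1 := fun a1 a2 =>
    a1.ext x2 (fun _ _ _ => rfl) fun s t => (a2 s t).trans (by simp)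
  have nd : ¬ (a = 1 ∧ b = 0 ∧ c = 0 ∧ e = 1) := by
    rintro ⟨rfl, rfl, rfl, rfl⟩
    exact dQ ((F.ker ⟨d, d3⟩).1 (one fd md))
  have hI : ∀ i ∈ Q z, i ∈ Q d → i = 1 := fun i i1 i2 => by
    have p1 := plane F.nondeg x2 (v := F.π i) fun u a1 a2 => by
      obtain ⟨a, a0, rfl⟩ := F.π_surj u
      refine z0 fun c => zQ ?_
      have := cQ h d1 (mem_C1.2 (d5 a a0 a1 a2).symm) i2
      rwa [(F.pol_one h hz a0 i1).1 c, mul_mem_cancel_right i2] at this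
    have p2 : F.q (F.π i) = 0 := z0 fun c => zQ ((F.q_one h hz i1).1 c ▸ mul_mem i2 i2)
    have p3 := ρ_fix F h hz ⟨d, d3⟩ i1 (mem_C1.1 (h.le d1 i2)).symm
    generalize pol F.q (F.π x) (F.π i) = s at p1
    generalize pol F.q n (F.π i) = r at p1
    rw [p1, qco x2, qn] at p2
    rw [p1, md] at p3
    have p4 := co x2 p3
    have p5 := mq (F.ρ ⟨d, d3⟩) ((1 : ZMod 2) • n + (0 : ZMod 2) • F.π x)
    have p6 := mq (F.ρ ⟨d, d3⟩) ((0 : ZMod 2) • n + (1 : ZMod 2) • F.π x)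
    rw [md, qco x2, qco x2, qn] at p5 p6
    obtain ⟨rfl, rfl⟩ : s = 0 ∧ r = 0 := by
      revert p2 p4 p5 p6 nd; generalize F.q (F.π x) = k; clear * -; decide +revert
    rw [zero_smul, zero_smul, add_zero, F.π_eq_zero i i1] at p1
    exact p1.resolve_right fun c => zQ (c ▸ i2)
  refine small h hz d1 d3 fun y y1 y2 => ?_
  have fy := fx ⟨y, y2⟩ fun a a0 a1 => comm_of_bot h hz d1 hI a0 a1 y1 y2
  obtain ⟨a', b', c', e', my⟩ := fy.mat F.nondeg x2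
  have c1 : F.ρ ⟨y, y2⟩ * F.ρ ⟨d, d3⟩ = F.ρ ⟨d, d3⟩ * F.ρ ⟨y, y2⟩ := by
    rw [← map_mul, ← map_mul]; exact congrArg _ (Subtype.ext (mem_C1.1 (h.le d1 y1)))
  have c2 : F.ρ ⟨d, d3⟩ * F.ρ ⟨d, d3⟩ = 1 := by
    rw [← map_mul, ← F.ρ.map_one]; exact congrArg _ (Subtype.ext (h.sq d1))
  have k1 := fun s t : ZMod 2 => congrArg (fun g : (ofQuad F.q).Isom => g.1 (s • n + t • F.π x)) c1
  have k2 := fun s t : ZMod 2 => congrArg (fun g : (ofQuad F.q).Isom => g.1 (s • n + t • F.π x)) c2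
  simp only [Form.Isom.mul_apply, Form.Isom.one_apply, md, my] at k1 k2
  have k3 := mp (F.ρ ⟨y, y2⟩) ((1 : ZMod 2) • n + (0 : ZMod 2) • F.π x) ((0 : ZMod 2) • n + (1 : ZMod 2) • F.π x)
  rw [my, my, pco x2, pco x2] at k3
  have k4 := fun s t => co x2 (k1 s t)
  have k5 := fun s t => co x2 (k2 s t)
  rcases (by revert k3 k4 k5 nd; clear * -; decide +revert : (a' = 1 ∧ b' = 0 ∧ c' = 0 ∧ e' = 1) ∨
    (a' = a ∧ b' = b ∧ c' = c ∧ e' = e)) with ⟨rfl, rfl, rfl, rfl⟩ | ⟨rfl, rfl, rfl, rfl⟩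
  · exact Or.inl (hI y ((F.ker ⟨y, y2⟩).1 (one fy my)) y1)
  · refine Or.inr (mul_inv_eq_one.1 (hI _ ((F.ker (⟨y, y2⟩ * ⟨d, d3⟩⁻¹)).1 ?_)
      (mul_mem y1 (inv_mem (h.mem d1)))))
    rw [map_mul, map_inv, fy.ext x2 fd fun s t => (my s t).trans (md s t).symm, mul_inv_cancel]

section swap

variable {q : QuadraticForm (ZMod 2) V} {H : Subgroup (ofQuad q).Isom} {S : Set V}
  {A A' : Submodule (ZMod 2) V} (hs : SwapV H S A A') (hq : (ofQuad q).Nondeg)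
  {g k : (ofQuad q).Isom} {a u v : V}
include hs

theorem SwapV.eq0 (h1 : a ∈ A) (h2 : a ∈ A') : a = 0 := hs.compl.disjoint.le_bot ⟨h1, h2⟩

theorem SwapV.dec (v : V) : ∃ a ∈ A, ∃ u ∈ A', a + u = v :=
  Submodule.mem_sup.1 (hs.compl.sup_eq_top.ge trivial)

/-- the stabiliser of `A` -/
def SwapV.K : Subgroup (ofQuad q).Isom where
  carrier := {g | g ∈ H ∧ (∀ a ∈ A, g.1 a ∈ A) ∧ ∀ a ∈ A', g.1 a ∈ A'}
  one_mem' := ⟨one_mem _, fun _ => id, fun _ => id⟩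
  mul_mem' := fun x y => ⟨mul_mem x.1 y.1, fun a h => x.2.1 _ (y.2.1 a h), fun a h => x.2.2 _ (y.2.2 a h)⟩
  inv_mem' := fun {g} x => ⟨inv_mem x.1, (hs.pres _ (inv_mem x.1)).resolve_right fun c => by
    have : A = ⊥ := eq_bot_iff.2 fun a h => hs.eq0 h (Form.Isom.inv_apply_apply g a ▸ c.1 _ (x.2.1 a h))
    have h1 := hs.dimA
    rw [this, finrank_bot] at h1
    omega⟩

theorem SwapV.sw (hg : g ∈ H) (h : g ∉ hs.K) : (∀ a ∈ A, g.1 a ∈ A') ∧ ∀ a ∈ A', g.1 a ∈ A :=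
  (hs.pres g hg).resolve_left fun c => h ⟨hg, c⟩

theorem SwapV.mul (hg : g ∈ H) (h : g ∉ hs.K) (hk : k ∈ H) (h' : k ∉ hs.K) : g * k ∈ hs.K :=
  ⟨mul_mem hg hk, fun a c => (hs.sw hg h).2 _ ((hs.sw hk h').1 a c),
    fun a c => (hs.sw hg h).1 _ ((hs.sw hk h').2 a c)⟩

theorem SwapV.fix0 (hg : g ∈ H) (h : g ∉ hs.K) (e : g.1 v = v) (hv : v ∈ A ∨ v ∈ A') : v = 0 :=
  hv.elim (fun c => hs.eq0 c (e ▸ (hs.sw hg h).1 v c)) fun c => hs.eq0 (e ▸ (hs.sw hg h).2 v c) c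

theorem SwapV.comp {a' u' : V} (h1 : a ∈ A) (h2 : a' ∈ A) (h3 : u ∈ A') (h4 : u' ∈ A')
    (e : a + u = a' + u') : a = a' ∧ u = u' := by
  have : a + a' = 0 := hs.eq0 (add_mem h1 h2) (by
    rw [← vv'' u a, e, add_comm a', add_right_comm (u' + a'), vv'']; exact add_mem h4 h3)
  rw [aez] at this
  exact ⟨this, add_left_cancel (this ▸ e)⟩

theorem SwapV.fixd (hg : g ∈ H) (h : g ∉ hs.K) (e : g.1 v = v) : ∃ a ∈ A, v = a + g.1 a := by
  obtain ⟨a, a1, u, u1, rfl⟩ := hs.dec v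
  rw [map_add, add_comm] at e
  exact ⟨a, a1, by rw [(hs.comp ((hs.sw hg h).2 u u1) a1 ((hs.sw hg h).1 a a1) u1 e).2]⟩

include hq

theorem SwapV.nd (hu : u ∈ A') (h : ∀ a ∈ A, pol q u a = 0) : u = 0 :=
  hs.eq0 (H28.XL.perp_self hq (fun a h b h' => H28.XL.ts_pol hs.tsA h h') (by
    rw [← Submodule.finrank_add_eq_of_isCompl hs.compl, hs.dimA, hs.dimA'])
    fun a c => (pol_comm ..).trans (h a c)) hu

theorem SwapV.lem (hg : g ∈ H) (h : g ∉ hs.K) (h2 : g * g = 1) : (∃ a ∈ A, pol q (g.1 a) a = 1) ∧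
    ∀ k ∈ hs.K, (∀ a ∈ A, pol q (g.1 a) a = 0 → k.1 (a + g.1 a) = a + g.1 a) → k = 1 := by
  obtain ⟨⟨a, a1⟩, o⟩ := odd3 hs.dimA ((pol q).compl₁₂ (g.1.toLinearMap ∘ₗ A.subtype) A.subtype)
    (fun x y => show pol q (g.1 x) y = pol q (g.1 y) x by
      rw [← mp g, H28.XL.g_sq h2, pol_comm])
    fun x c => Subtype.ext (H28.XL.g_inj g ((hs.nd hq ((hs.sw hg h).1 _ x.2) fun a a1 =>
      c ⟨a, a1⟩).trans (map_zero _).symm))
  refine ⟨⟨a, a.2, a1⟩, fun k k1 k2 => ?_⟩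
  replace k2 := fun a a1 a2 => hs.comp (k1.2.1 a a1) a1 (k1.2.2 _ ((hs.sw hg h).1 a a1))
    ((hs.sw hg h).1 a a1) ((map_add _ _ _).symm.trans (k2 a a1 a2))
  have k3 : ∀ a ∈ A, k.1 a = a := fun a a1 => by
    have p1 := add_mem (k1.2.1 a a1) a1
    by_cases c : pol q (g.1 a) a = 0
    · exact (k2 a a1 c).1
    by_cases c' : pol q (g.1 (k.1 a + a)) (k.1 a + a) = 0
    · exact aez.1 (congrArg Subtype.val (o ⟨_, p1⟩ c' fun y c'' => show pol q (g.1 y) (k.1 a + a) = 0 by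
        rw [map_add]; nth_rw 1 [← (k2 y y.2 c'').2]; rw [mp, zz]))
    · have := (k2 _ (add_mem p1 a1) (by
        rw [map_add g.1 _ a, map_add, map_add (pol q), LinearMap.add_apply, LinearMap.add_apply, z1 c, z1 c',
          ← mp g (g.1 a), H28.XL.g_sq h2, pol_comm q a]
        exact (by decide : ∀ a : ZMod 2, 1 + a + (a + 1) = 0) _)).1
      rw [vv''] at this
      exact H28.XL.g_inj k this
  refine Form.Isom.ext fun v => ?_
  obtain ⟨a, a1, u, u1, rfl⟩ := hs.dec v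
  rw [map_add, k3 a a1, aez.1 (hs.nd hq (add_mem (k1.2.2 u u1) u1) fun b b1 => by
    rw [map_add, LinearMap.add_apply]; nth_rw 1 [← k3 b b1]; rw [mp, zz])]
  rfl

theorem SwapV.outer : ∃ g ∈ H, g ∉ hs.K ∧ g * g = 1 := by
  obtain ⟨g, g1, g2⟩ := hs.swap
  have g3 : g ∉ hs.K := fun c => by
    have : A = ⊥ := eq_bot_iff.2 fun a h =>
      H28.XL.g_inj g ((hs.eq0 (c.2.1 a h) (g2 a h)).trans (map_zero _).symm)
    have h1 := hs.dimA
    rw [this, finrank_bot] at h1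
    omega
  let L : Subgroup (A ≃ₗ[ZMod 2] A) :=
    { carrier := {φ | ∃ k ∈ hs.K, ∀ a : A, k.1 a = φ a}
      one_mem' := ⟨1, one_mem _, fun _ => rfl⟩
      mul_mem' := by
        rintro _ _ ⟨x, x1, x2⟩ ⟨y, y1, y2⟩
        exact ⟨x * y, mul_mem x1 y1, fun a => by rw [Form.Isom.mul_apply, y2, x2]; rfl⟩
      inv_mem' := by
        rintro φ ⟨x, x1, x2⟩
        exact ⟨x⁻¹, inv_mem x1, fun a => by
          rw [Form.Isom.inv_apply_eq, x2]; exact congrArg _ (φ.apply_symm_apply a)⟩ }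
  have hL : L = ⊤ := tv_top L fun p φ _ _ e => by
    obtain ⟨ψ, hψ⟩ := LinearMap.exists_extend φ
    obtain ⟨v, hv⟩ := hq.exists_dual ψ
    obtain ⟨a, a1, u, u1, rfl⟩ := hs.dec v
    have e1 : ∀ x : A, pol q u x = φ x := fun x => by
      have : pol q (a + u) x = ψ x := hv x
      rw [map_add, LinearMap.add_apply, H28.XL.ts_pol hs.tsA a1 x.2, zero_add] at this
      rw [this, ← hψ]; rfl
    obtain ⟨y, y1, y2⟩ := hs.tv u u1 p p.2 ((e1 p).trans e)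
    have y3 : ∀ x : A, y.1 x = x + φ x • p := fun x => by
      rw [y2, H28.XL.ts_pol hs.tsA p.2 x.2, hs.tsA p p.2, e1]; simp
    have y4 : ∀ x ∈ A, y.1 x ∈ A := fun x c => y3 ⟨x, c⟩ ▸ (⟨x, c⟩ + φ ⟨x, c⟩ • p : A).2
    have y5 : y ∈ hs.K := by_contra fun c => by
      have : A = ⊥ := eq_bot_iff.2 fun a h =>
        H28.XL.g_inj y ((hs.eq0 (y4 a h) ((hs.sw y1 c).1 a h)).trans (map_zero _).symm)
      have h1 := hs.dimA
      rw [this, finrank_bot] at h1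
      omega
    refine ⟨LinearMap.linearEquivOfInjective (y.1.toLinearMap.restrict y4) (fun a b c =>
      Subtype.ext (y.1.injective (congrArg Subtype.val c))) rfl, ⟨y, y5, fun _ => rfl⟩,
      fun x => Subtype.ext (y3 x)⟩
  let e := Module.finBasisOfFinrankEq (ZMod 2) A hs.dimA
  let ψ := LinearMap.linearEquivOfInjective ((pol q).compl₁₂ (g.1.toLinearMap ∘ₗ A.subtype) A.subtype)
    ((injective_iff_map_eq_zero _).2 fun x c => Subtype.ext (H28.XL.g_inj g ((hs.nd hq (g2 _ x.2)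
      fun a a1 => congrArg (· ⟨a, a1⟩) c).trans (map_zero _).symm))) Subspace.dual_finrank_eq.symm
  obtain ⟨k, k1, k2⟩ := hL.ge (mem_top (e.toDualEquiv.trans ψ.symm))
  have s1 : ∀ x y : A, pol q ((g * k).1 x) y = e.toDual x y := fun x y => by
    rw [Form.Isom.mul_apply, k2]
    exact congrArg (· y) (ψ.apply_symm_apply (e.toDualEquiv x))
  have s2 : ∀ x y : A, e.toDual x y = e.toDual y x := fun x y =>
    congrArg (· x y) (show e.toDual = e.toDual.flip from LinearMap.ext_basis e e fun i j => by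
      rw [LinearMap.flip_apply, e.toDual_apply, e.toDual_apply, if_congr eq_comm rfl rfl])
  have m1 := mul_mem g1 k1.1
  have m2 : g * k ∉ hs.K := fun c => g3 ((mul_mem_cancel_right k1).1 c)
  have m3 : (g * k)⁻¹ ∉ hs.K := fun c => m2 (inv_mem_iff.1 c)
  generalize g * k = r at s1 m1 m2 m3
  have r1 : ∀ a ∈ A, r.1 a = (r⁻¹).1 a := fun a a1 => aez.1 (hs.nd hq (add_mem ((hs.sw m1 m2).1 a a1)
    ((hs.sw (inv_mem m1) m3).1 a a1)) fun b b1 => by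
      rw [map_add, LinearMap.add_apply, s1 ⟨a, a1⟩ ⟨b, b1⟩, s2, ← s1, ← H28.XL.g_pol_r, pol_comm, zz])
  refine ⟨r, m1, m2, Form.Isom.ext fun v => ?_⟩
  obtain ⟨a, a1, u, u1, rfl⟩ := hs.dec v
  rw [Form.Isom.mul_apply, map_add, map_add, r1 a a1, r1 _ ((hs.sw m1 m2).2 u u1),
    Form.Isom.apply_inv_apply, Form.Isom.inv_apply_apply]
  rfl

end swap

theorem Sit.not_swap [IsSimpleGroup G] (h : Sit D Q 3) (hz : z ∈ D) (F : Fr z (Q z) V)
    {A A' : Submodule (ZMod 2) V} (hs : SwapV F.ρ.range (F.VV D) A A') : False := by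
  have sq : ∀ x : C{z}, (x : G) * x = 1 ∨ (x : G) * x = z → F.ρ x * F.ρ x = 1 := fun x e => by
    rw [← map_mul, F.ker, coe_mul]
    rcases e with c | c <;> rw [c]
    exacts [one_mem _, h.mem hz]
  have cm : ∀ x : C{z}, (x : G) * x = 1 ∨ (x : G) * x = z → ∀ a, ∃ c ∈ Q z, ∃ y ∈ Q z,
      y = c * x * c⁻¹ * (x : G)⁻¹ ∧ F.π y = a + (F.ρ x).1 a ∧ x * y * (x : G)⁻¹ = y⁻¹ := fun x e a => by
    obtain ⟨c, c1, rfl⟩ := F.π_surj a
    have c2 := cQ h hz x.2 (inv_mem c1)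
    refine ⟨c, c1, c * (x * c⁻¹ * (x : G)⁻¹), mul_mem c1 c2, by group,
      by rw [F.π_mul _ c1 _ c2, ← F.ρ_π x _ (inv_mem c1), F.π_inv c1], ?_⟩
    have : (x : G) * x * c⁻¹ = c⁻¹ * (x * x) := by
      rcases e with e | e <;> rw [e]
      exacts [by simp, (mem_C1.1 (h.le hz (inv_mem c1))).symm]
    calc _ = x * c * (x : G)⁻¹ * (x * x * c⁻¹) * ((x : G) * x)⁻¹ := by group
      _ = _ := by rw [this]; group
  have qq : ∀ x : C{z}, F.ρ x ∉ hs.K → ∀ a ∈ A, F.q (a + (F.ρ x).1 a) = pol F.q ((F.ρ x).1 a) a :=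
    fun x x1 a a1 => by rw [quad_add, mq, hs.tsA a a1, pol_comm]; simp
  have kk : ∀ x : C{z}, F.ρ x ∉ hs.K → (x : G) * x = 1 ∨ (x : G) * x = z → ∀ k : C{z}, F.ρ k ∈ hs.K →
      (∀ y ∈ Q z, x * y = y * x → k * y = y * k) → (k : G) ∈ Q z := fun x x1 x2 k k1 k2 =>
    (F.ker k).1 ((hs.lem F.nondeg ⟨x, rfl⟩ x1 (sq x x2)).2 _ k1 fun a a1 a2 => by
      obtain ⟨c, -, y, y1, -, y2, y3⟩ := cm x x2 a
      rw [← y2]
      refine ρ_fix F h hz k y1 (k2 y y1 (mul_inv_eq_iff_eq_mul.1 (y3.trans (inv_eq_of_mul_eq_one_right ?_))))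
      rwa [← F.q_π y y1, y2, qq x x1 a a1])
  have f0 : ∀ x : C{z}, F.ρ x ∉ hs.K → ∀ i ∈ D, i ∈ Q z → i ≠ z → x * i ≠ i * x :=
    fun x x1 i i1 i2 i3 e => ((F.π_eq_zero i i2).1 (hs.fix0 ⟨x, rfl⟩ x1 (ρ_fix F h hz x i2 e)
      (hs.subS _ ((F.mem_VV h hz i2).2 ⟨i1, i3⟩)))).elim (h.ne_one i1) i3
  have p1 : ∀ d : C{z}, (d : G) ∈ D → F.ρ d ∈ hs.K := fun d d1 => by_contra fun d2 => by
    have dQ : (d : G) ∉ Q z := fun c => d2 ((F.ker d).2 c ▸ one_mem _)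
    have zQ : z ∉ Q d := fun c => dQ (h.symm d1 hz c)
    have d3 := Or.inl (b := (d : G) * d = z) (h.sq d1)
    have hI : ∀ i ∈ Q z, i ∈ Q d → i = 1 := fun i i1 i2 => by_contra fun i3 => by
      have i4 := mem_C1.1 (h.le d1 i2)
      obtain ⟨a, -, e⟩ := hs.fixd ⟨d, rfl⟩ d2 (ρ_fix F h hz d i1 i4.symm)
      obtain ⟨c, c1, y, y1, y2, y3, -⟩ := cm d d3 a
      obtain ⟨a', a1, a2⟩ := (hs.lem F.nondeg ⟨d, rfl⟩ d2 (sq d d3)).1
      obtain ⟨-, -, m, m1, -, m2, m3⟩ := cm d d3 a'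
      have m4 : m * d * m⁻¹ = z * d := by
        rw [show m * d * m⁻¹ = m * (d * d) * m * (d : G)⁻¹ by rw [← m3]; group, h.sq d1, mul_one,
          (F.q_one h hz m1).1 (by rw [m2, qq d d2 a' a1, a2]), inv_eq_of_mul_eq_one_right (h.sq d1)]
      refine f0 d d2 i ((h.mul_mem_D d1 i2 i3 fun c => dQ (c ▸ i1)).1 ?_) i1 (fun c => zQ (c ▸ i2)) i4.symm
      rw [← i4]
      rcases (F.π_eq h hz i1 y1).1 (e.trans y3.symm) with c' | c' <;> rw [c', y2]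
      · rw [inv_mul_cancel_right]; exact h.conj _ d1 _
      · convert h.conj _ (h.conj _ d1 m) c using 1
        rw [m4, zc h hz (h.le hz c1)]; group
    have hB : ∀ b : C{z}, (b : G) ∈ Q d → F.ρ b ∈ hs.K → (b : G) = 1 := fun b b1 b2 =>
      hI b (kk d d2 d3 b b2 fun y y1 y2 => comm_of_bot h hz d1 hI y1 (mem_C1.2 y2.symm) b1 b.2) b1
    refine small h hz d1 d.2 fun b b1 b2 => ?_
    by_cases c : F.ρ ⟨b, b2⟩ ∈ hs.K
    · exact Or.inl (hB ⟨b, b2⟩ b1 c)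
    · have := hB (⟨b, b2⟩ * d) (mul_mem b1 (h.mem d1)) (map_mul F.ρ _ _ ▸ hs.mul ⟨_, rfl⟩ c ⟨_, rfl⟩ d2)
      exact Or.inr (mul_right_cancel (this.trans (h.sq d1).symm))
  obtain ⟨_, ⟨t, rfl⟩, t1, t2⟩ := hs.outer F.nondeg
  have t3 : (t : G) * t ∈ Q z := (F.ker (t * t)).1 (by rw [map_mul, t2])
  obtain ⟨a, -, e⟩ := hs.fixd ⟨t, rfl⟩ t1 (ρ_fix F h hz t t3 (mul_assoc _ _ _).symm)
  obtain ⟨y, y1, rfl⟩ := F.π_surj a
  have x1 : F.ρ (t * ⟨y, h.le hz y1⟩) ∉ hs.K := (ρ_mul F h hz t y1).symm ▸ t1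
  have x2 : t * y * (t * y) = 1 ∨ t * y * (t * y) = z := by
    have c := cQ h hz t.2 y1
    have c' := cQ h hz (mul_mem t.2 t.2) y1
    rw [show t * y * (t * y) = t * y * (t : G)⁻¹ * (t * t * y * ((t : G) * t)⁻¹) * (t * t) by group,
      ← F.π_eq_zero _ (mul_mem (mul_mem c c') t3), F.π_mul _ (mul_mem c c') _ t3, F.π_mul _ c _ c', e,
      ← F.ρ_π t y y1, show F.π (t * t * y * ((t : G) * t)⁻¹) = _ from (F.ρ_π (t * t) y y1).symm, map_mul, t2,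
      add_comm (F.π y)]
    exact vv _
  obtain ⟨d, d1, d2, d3, d4, d5⟩ := tf F h hz hs.K (fun a b a1 => hs.mul ⟨a, rfl⟩ a1 ⟨b, rfl⟩) _ x1
    (x2.imp_right fun c => ⟨c, p1⟩)
  exact f0 _ x1 d d1 (kk _ x1 x2 ⟨d, d3⟩ (p1 _ d1) d5) d2 d4.symm

end XS
end H6
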