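import Mathlib
import Cfsg.Agent.H6.XK
import Cfsg.Agent.H6.XS1
import Cfsg.Agent.H15.StdQuad
import Cfsg.Agent.H7.QuadClass

/-! Width three: the Suzuki group -/

set_option autoImplicit false
set_option linter.unusedSectionVars false

namespace H6
namespace XS

open Subgroup H24 H15 H15.XP Module
open scoped commutatorElement

variable {G : Type*} [Group G] [Finite G] {D : Set G} {Q : G → Subgroup G} {w : ℕ} {z : G}
variable {V : Type*} [AddCommGroup V] [Module (ZMod 2) V] [Finite V]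
variable {F : Fr z (Q z) V} {E : V → Submodule (ZMod 2) V} {R : V → Subgroup (ofQuad F.q).Isom}

theorem Sit.one_fused (h : Sit D Q w) (hz : z ∈ D) (ho : OneV (F.VV D) E R) :
    ∀ d ∈ D, ∀ v ∈ Q d, v * v = 1 → v ≠ 1 → v ∈ D := by
  intro d hd v hv h2 h1
  obtain ⟨g, rfl⟩ := h.trans z hz d hd
  rw [h.eqv z hz] at hv
  obtain ⟨u, hu, rfl⟩ := mem_cj'.1 hv
  refine h.conj u ?_ g
  by_cases e : u = z
  · exact e ▸ hz
  refine ((F.mem_VV h hz hu).1 (ho.memS _ (fun k => ?_) ((F.q_π u hu).2 ?_))).1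
  · rcases (F.π_eq_zero u hu).1 k with rfl | k
    exacts [h1 (by simp), e k]
  · rwa [show g * u * g⁻¹ * (g * u * g⁻¹) = g * (u * u) * g⁻¹ by group, conj_eq_one_iff] at h2

theorem Sit.one_inf (h : Sit D Q w) (hz : z ∈ D) (hl : Lift D Q F E R) (ho : OneV (F.VV D) E R) :
    ∀ d ∈ D, ∀ v ∈ D, v ∈ Q d → v ≠ d → Q d ⊓ Q v ≤ zpowers d ⊔ zpowers v := by
  intro d hd v hD hv h1
  obtain ⟨g, rfl⟩ := h.trans z hz d hd
  rw [h.eqv z hz] at hv
  obtain ⟨u, hu, rfl⟩ := mem_cj'.1 hv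
  have uD : u ∈ D := by simpa [mul_assoc] using h.conj _ hD g⁻¹
  have uz : u ≠ z := fun e => h1 (e ▸ rfl)
  rw [h.eqv z hz, h.eqv u uD]
  intro x hx
  obtain ⟨y, hy, rfl⟩ := mem_cj'.1 hx.1
  have y2 : y ∈ Q u := by
    obtain ⟨y', k, e⟩ := mem_cj'.1 hx.2
    rwa [show y = y' by simpa using e]
  have y3 : F.π y ∈ E (F.π u) := hl.eqE u uD hu uz ▸ ⟨y, y2, hy, rfl⟩
  rw [ho.eqE _ ((F.mem_VV h hz hu).2 ⟨uD, uz⟩), Submodule.mem_span_singleton] at y3
  obtain ⟨a, e⟩ := y3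
  have m1 : g * z * g⁻¹ ∈ zpowers (g * z * g⁻¹) ⊔ zpowers (g * u * g⁻¹) := mem_sup_left (mem_zpowers _)
  have m2 : g * u * g⁻¹ ∈ zpowers (g * z * g⁻¹) ⊔ zpowers (g * u * g⁻¹) := mem_sup_right (mem_zpowers _)
  rcases H20.XA.z2 a with rfl | rfl
  · rcases (F.π_eq_zero y hy).1 (by rw [← e, zero_smul]) with rfl | rfl
    exacts [by simp, m1]
  · rcases (F.π_eq h hz hy hu).1 (by rw [← e, one_smul]) with rfl | rfl
    exacts [m2, by simpa [mul_assoc] using mul_mem m1 m2]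

theorem Sit.omega [IsSimpleGroup G] (h : Sit D Q 3) (hz : z ∈ D) (hl : Lift D Q F E R)
    (hv : VD F.ρ.range (F.VV D) E R 3) (ho : OneV (F.VV D) E R) (K : Subgroup C{z}) [K.Normal]
    (hK : ∀ g : C{z}, g ∈ K ↔ (g : G) ∈ Q z) :
    Nonempty (C{z} ⧸ K ≃* Cfsg.Omega (ZMod 2) (Cfsg.quadFormMinus 2 (ZMod 2) 1 1)) := by
  have h24 : NotTwoFour (ZMod 2) V := Or.inr (by rw [hv.dim]; decide)
  have i2 := index_commutator_even (Q := F.q) rfl F.nondeg h24 (by rw [hv.dim]; decide)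
  obtain ⟨g, hg⟩ : ∃ g : V ≃ₗ[ZMod 2] ((Fin 2 ⊕ Fin 2) ⊕ Fin 2 → ZMod 2),
      ∀ v, H7.qMinus 2 (ZMod 2) 1 1 (g v) = F.q v := by
    rcases H7.card_isom_quad_even 2 V F.q F.nondeg hv.dim with ⟨k, -⟩ | ⟨k, -⟩
    · obtain ⟨g, hg⟩ := H7.exists_equiv_of_nz_eq 3 _ V (H7.qPlus 3 (ZMod 2)) F.q (H7.qPlus_nondeg 3 _)
        F.nondeg (by simp) hv.dim (add_right_cancel ((H7.nz_qPlus 2).trans k.symm))
      let f : (Fin 3 → ZMod 2) →ₗ[ZMod 2] V := g.toLinearMap ∘ₗ
        { toFun := fun a => Sum.elim a 0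
          map_add' := fun a b => by ext (i | i) <;> simp
          map_smul' := fun a b => by ext (i | i) <;> simp }
      have fi : Function.Injective f := fun a b e => funext fun i => congrFun (g.injective e) (Sum.inl i)
      refine (h.not_plus (h.one_fused hz ho) (h.one_inf hz hl ho) hz (P := F.sub (LinearMap.range f))
        (fun x hx => hx.1) ((F.ea_sub h hz).2 ?_) ?_).elim
      · rintro _ ⟨a, rfl⟩
        exact (hg _).trans (by simp [H7.qPlus_apply])
      · rw [F.card_sub h hz, LinearMap.finrank_range_of_inj fi]; simp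
    · exact H7.exists_equiv_of_nz_eq 3 V _ F.q _ F.nondeg (H7.qMinus_nondeg 2 aniso) hv.dim (by simp)
        (add_right_cancel (k.trans (H7.nz_qMinus 2 aniso).symm))
  have a1 : commutator (ofQuad F.q).Isom ≤ F.ρ.range := by
    rw [commutator_eq_closure_eichSet F.nondeg h24 (by rw [hv.dim]; decide), closure_le]
    rintro _ ⟨u, s, hu, hs, rfl⟩
    by_cases u0 : u = 0
    · subst u0; rw [eich_zero_left]; exact one_mem _
    have uS := ho.memS u u0 hu
    refine hv.le u uS ((ho.memR u uS _).2 ⟨s, hs, fun x => ?_⟩)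
    rw [eich_apply, sub_eq_add_neg, sub_eq_add_neg, neg_eq_of_add_eq_zero_left (H20.XA.vv _),
      neg_eq_of_add_eq_zero_left (H20.XA.vv _)]
  have a2 : F.ρ.range = commutator (ofQuad F.q).Isom := by
    refine le_antisymm (fun y hy => by_contra fun y0 => ?_) a1
    have a3 : closure (reflSet F.q) ≤ commutator (ofQuad F.q).Isom := (closure_le _).2 (by
      rintro _ ⟨n, hn, rfl⟩
      refine h.no_refl hz F i2 hn (by_contra fun k => ?_)
      have k1 : refl F.q n ∉ commutator (ofQuad F.q).Isom := fun e => k (a1 e)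
      exact k ((mul_mem_cancel_right hy).1 (a1 ((mul_mem_iff_of_index_two i2).2 (iff_of_false k1 y0)))))
    rw [closure_reflSet F.nondeg h24] at a3
    exact y0 (a3 trivial)
  have a4 : K = F.ρ.ker := Subgroup.ext fun g => (hK g).trans (F.ker g).symm
  exact ⟨(QuotientGroup.quotientMulEquivOfEq a4).trans ((QuotientGroup.quotientKerEquivRange F.ρ).trans
    ((MulEquiv.subgroupCongr a2).trans ((H7.commutatorCongr (H7.isomCongrQuad _ _ g hg)).trans
      (H7.omegaEquiv (H7.qMinus 2 (ZMod 2) 1 1)).symm)))⟩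

end XS
end H6
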