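import Mathlib
import Cfsg.Agent.H6.XU2
import Cfsg.Agent.H6.Dihedral

/-! Unitary case: the product of two points determines the line -/

set_option autoImplicit false
set_option linter.unusedSectionVars false

namespace H6
namespace XS

open Subgroup H24 H15 H15.XP Module H18.XU
open scoped commutatorElement

variable {G : Type*} [Group G] [Finite G] {D : Set G} {Q : G → Subgroup G} {w : ℕ}

theorem dih₃ {x y : G} {H : Subgroup G} (hx : x * x = 1) (hy : y * y = 1) (h1 : x ∈ H) (h2 : y ∈ H) :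
    (∃ g ∈ H, g * x * g⁻¹ = y) ∨ ∃ τ, τ ≠ 1 ∧ τ * τ = 1 ∧ τ * x = x * τ ∧ τ * y = y * τ ∧
      (∀ s, s * x = x * s → s * y = y * s → s * τ = τ * s) ∧
      ((∃ g ∈ H, g * x * g⁻¹ = x * τ) ∧ (∃ g ∈ H, g * y * g⁻¹ = y * τ) ∨
        (∃ g ∈ H, g * y * g⁻¹ = x * τ) ∧ ∃ g ∈ H, g * x * g⁻¹ = y * τ) := by
  rcases Nat.even_or_odd (orderOf (x * y)) with he | ho
  swap
  · obtain ⟨k, e⟩ := exists_zpow_conj_of_odd hx hy ho
    exact Or.inl ⟨_, zpow_mem (mul_mem h1 h2) k, e⟩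
  obtain ⟨t1, t2, t3⟩ := central_involution hx hy he
  have e1 : ∀ k : ℤ, ∃ g ∈ H, g * x * g⁻¹ = x * (x * y) ^ (2 * k) := fun k =>
    ⟨_, zpow_mem (mul_mem h1 h2) (-k), by rw [rot_conj_left hx hy]; congr 2; ring⟩
  have e2 : ∀ k : ℤ, ∃ g ∈ H, g * y * g⁻¹ = x * (x * y) ^ (2 * k + 1) := fun k =>
    ⟨_, zpow_mem (mul_mem h1 h2) (-k), by
      calc _ = (x * y) ^ (-k) * (x * (x * y)) * ((x * y) ^ (-k))⁻¹ := by rw [mml hx]
        _ = (x * y) ^ (-k) * x * ((x * y) ^ (-k))⁻¹ * (x * y) := by generalize x * y = r; group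
        _ = _ := by rw [rot_conj_left hx hy]; generalize x * y = r; group⟩
  have e3 : ∀ k : ℤ, y * (x * y) ^ k = x * (x * y) ^ (k + 1) := fun k => by
    calc _ = x * (x * y) * (x * y) ^ k := by rw [mml hx]
      _ = _ := by generalize x * y = r; group
  refine Or.inr ⟨_, ne_one_of_orderOf_two t1, mul_self_of_orderOf_two t1, t2, t3,
    fun s s1 s2 => ((Commute.mul_right s1 s2).pow_right _).eq, ?_⟩
  rw [← zpow_natCast, e3]
  obtain ⟨j, hj | hj⟩ := Int.even_or_odd' ((orderOf (x * y) / 2 : ℕ) : ℤ) <;> rw [hj]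
  · exact Or.inl ⟨e1 j, e2 j⟩
  · exact Or.inr ⟨e2 j, by rw [show 2 * j + 1 + 1 = 2 * (j + 1) by ring]; exact e1 _⟩

namespace US

variable (h : US D Q w) {a b p r : G}
include h

theorem mul_ne (k : Col D a b) : a * b ≠ 1 := fun e =>
  k.ne (by rw [eq_inv_of_mul_eq_one_left e, inv_sq (h.sq k.r)])

theorem yz_ne {s y : G} (s1 : s ≠ 1) (hy : y ∈ D) (h1 : y * s ∈ D) : s ∉ Q y := fun e =>
  s1 (mul_eq_left.1 (h.wc y hy _ h1 (mul_mem (h.mem hy) e)))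

theorem yz_mem {s y e : G} (s1 : s ≠ 1) (hy : y ∈ D) (h1 : y * s ∈ D) (he : e ∈ D) (h2 : s ∈ Q e)
    (hc : e * y = y * e) : Col D e y ∧ UU Q y (y * s) = UU Q e y := by
  have k : Col D e y := ⟨he, hy, fun e' => h.yz_ne s1 hy h1 (e' ▸ h2), hc⟩
  exact ⟨k, h.UU_eq k hy h1 (right_mem_UU _ _) (h.coset k h1 (by rwa [mml (h.sq hy)]))
    fun e' => s1 (mul_eq_left.1 e'.symm)⟩

theorem uniq_aux (k : Col D a b) (k' : Col D p r) (e : a * b = p * r) {j : G} (hj : j ∈ Q p ⊓ Q r)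
    (j1 : j ≠ 1) : ∃ i ∈ Q a ⊓ Q b, i ≠ 1 ∧ (b * i = p * j ∨ b * i = r * j) := by
  obtain ⟨s, hs⟩ : ∃ s, s = a * b := ⟨_, rfl⟩
  have hs' : s = p * r := hs.trans e
  have s1 : s ≠ 1 := hs ▸ h.mul_ne k
  have sU : s ∈ UU Q p r := hs' ▸ mul_mem (left_mem_UU _ _) (right_mem_UU _ _)
  obtain ⟨f1, f2⟩ := (h.mem_ln k').2 (Or.inr (Or.inr ⟨j, hj, j1, rfl⟩))
  have f3 := h.mul_mem_Q' k' hj j1
  have f4 := h.third_ne k' hj
  rw [← hs'] at f1 f2 f3 f4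
  obtain ⟨f, hf⟩ : ∃ f, f = s * j := ⟨_, rfl⟩
  rw [← hf] at f1 f2 f3 f4
  have a1 : a * s = b := by rw [hs, mml (h.sq k.l)]
  have a2 : s * a = a * s := by rw [hs, mul_assoc, k.comm]
  have a3 : s * f = f * s := (h.ea_UU k').comm sU f2
  have cY : ∀ g ∈ C{s}, g * a * g⁻¹ ∈ D ∧ g * a * g⁻¹ * s ∈ D := fun g hg =>
    ⟨h.conj a k.l g, by rw [← mem_C1_iff_conj.1 hg, ← cjm, a1]; exact h.conj b k.r g⟩
  have cZ : ∀ g ∈ C{s}, g * f * g⁻¹ ∈ D ∧ s ∈ Q (g * f * g⁻¹) := fun g hg =>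
    ⟨h.conj f f1 g, by rw [h.eqv f f1, ← mem_C1_iff_conj.1 hg]; exact conj_mem_cj g f3⟩
  rcases dih₃ (h.sq k.l) (h.sq f1) (mem_C1.2 a2.symm) (mem_C1.2 a3.symm) with ⟨g, hg, e1⟩ |
    ⟨τ, t1, t2, t3, t4, t5, ⟨⟨g, hg, e1⟩, g', hg', e2⟩ | ⟨⟨g, hg, e1⟩, g', hg', e2⟩⟩
  · exact absurd f3 (h.yz_ne s1 f1 (e1 ▸ (cY g hg).2))
  · exfalso
    have y1 := cY g hg
    have y2 := cZ g' hg'
    rw [e1] at y1
    rw [e2] at y2
    have y3 := h.third_mem ⟨f1, y2.1, fun e => t1 (mul_eq_left.1 e.symm), by rw [mul_assoc, t4]⟩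
      (mem_inf.2 ⟨f3, y2.2⟩) s1
    rw [mml (h.sq f1)] at y3
    rw [mul_assoc] at y1
    refine h.mul_not_mem ⟨k.l, y3, fun e => h.ne_one y1.2 (by rw [← e, h.sq k.l]), ?_⟩ y1.2
    rw [← mul_assoc, ← t3, mul_assoc, ← a2, mul_assoc]
  have y1 := cZ g hg
  have y2 := cY g' hg'
  rw [e1] at y1
  rw [e2] at y2
  obtain ⟨k1, u1⟩ := h.yz_mem s1 k.l (a1 ▸ k.r) y1.1 y1.2 (by rw [mul_assoc, t3])
  obtain ⟨k2, u2⟩ := h.yz_mem s1 y2.1 y2.2 f1 f3 (by rw [mul_assoc, t4])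
  rw [a1] at u1
  obtain ⟨i, hi, i1, e3⟩ := (((h.mem_ln k).1 ⟨y1.1, u1 ▸ left_mem_UU _ _⟩).resolve_left k1.ne).resolve_left
    fun e' => h.yz_ne s1 k.r (by rw [hs, k.comm, mml (h.sq k.r)]; exact k.l) (e' ▸ y1.2)
  have k3 := h.col_ln k' f1 k'.l f2 (left_mem_UU _ _) f4
  have u3 := h.UU_eq k' f1 k'.l f2 (left_mem_UU _ _) f4
  have m1 : f * τ ∈ UU Q p r := by
    rw [← u3]
    by_contra hn
    have m2 : s ∈ UU Q f (f * τ) := by
      have := mul_mem (inv_mem (left_mem_UU (Q := Q) (f * τ) (f * τ * s))) (right_mem_UU _ _)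
      rwa [inv_mul_cancel_left, u2] at this
    rcases (h.mem_zp f1).1 ((h.disj k3 k2 hn).le (mem_inf.2 ⟨(h.UU_inf k3).le (mem_inf.2 ⟨u3 ▸ sU, f3⟩),
      (h.UU_inf k2).le (mem_inf.2 ⟨m2, f3⟩)⟩)) with e' | e'
    · exact s1 e'
    · exact h.mul_not_mem k (hs ▸ e' ▸ f1)
  have e4 : b * i = f * (f * τ) := by
    rw [mml (h.sq f1), ← mml (h.sq k.l) τ, e3, mul_assoc, mml (h.sq k.l)]
  refine ⟨i, hi, i1, ?_⟩
  by_cases c1 : f * τ = p
  · right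
    rw [e4, c1, k3.comm, hf, hs', mul_assoc, mml (h.sq k'.l)]
  by_cases c2 : f * τ = r
  · left
    rw [e4, c2, (h.ea_UU k').comm f2 (right_mem_UU _ _), hf, hs', k'.comm, mul_assoc, mml (h.sq k'.r)]
  exact absurd (hs' ▸ h.mul_mem_Q k' y2.1 m1 c1 c2) (h.yz_ne s1 y2.1 y2.2)

theorem uniq (k : Col D a b) (k' : Col D p r) (e : a * b = p * r) : UU Q a b = UU Q p r := by
  have key : ∀ {j j' i : G}, j ∈ Q p ⊓ Q r → j' ∈ Q p ⊓ Q r → (b * i = p * j ∨ b * i = r * j) →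
      (b * i = p * j' ∨ b * i = r * j') → j = j' := by
    intro j j' i hj hj' e1 e2
    have n : ∀ {x y}, x ∈ Q p ⊓ Q r → y ∈ Q p ⊓ Q r → p * x ≠ r * y := fun hx hy e => h.notQ k' (by
      rw [← mul_inv_eq_iff_eq_mul.2 e]
      exact mul_mem (mul_mem (h.mem k'.l) (mem_inf.1 hx).1) (inv_mem (mem_inf.1 hy).1))
    rcases e1 with e1 | e1 <;> rcases e2 with e2 | e2
    · exact mul_left_cancel (e1.symm.trans e2)
    · exact absurd (e1.symm.trans e2) (n hj hj')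
    · exact absurd (e2.symm.trans e1) (n hj' hj)
    · exact mul_left_cancel (e1.symm.trans e2)
  have mU : ∀ {j i : G}, j ∈ Q p ⊓ Q r → (b * i = p * j ∨ b * i = r * j) → b * i ∈ UU Q p r := by
    rintro j i hj (e | e) <;> rw [e]
    exacts [mul_mem (left_mem_UU _ _) (I_le_UU _ _ hj), mul_mem (right_mem_UU _ _) (I_le_UU _ _ hj)]
  obtain ⟨j₁, a1, b1⟩ := h.exists_I k'
  obtain ⟨j₂, a2, b2, n1⟩ := four_ex (by rw [(h.tu k').card]; norm_num) (h.eaI k' j₁ a1)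
  have a3 := mul_mem a1 a2
  obtain ⟨i₁, c1, d1, e1⟩ := h.uniq_aux k k' e a1 b1
  obtain ⟨i₂, c2, d2, e2⟩ := h.uniq_aux k k' e a2 b2
  obtain ⟨i₃, c3, d3, e3⟩ := h.uniq_aux k k' e a3 fun e =>
    n1 (by rw [eq_inv_of_mul_eq_one_right e, inv_sq (h.eaI k' j₁ a1)])
  have hb : b ∈ UU Q p r := by
    rcases four (h.tu k).card.le c1 c2 (h.eaI k _ c1) d1 d2 (fun e => n1 (key a2 a1 e2 (e ▸ e1))) c3 with
      e' | e' | e' | e'
    · exact absurd e' d3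
    · exact absurd (mul_eq_left.1 (key a3 a1 e3 (e' ▸ e1))) b2
    · exact absurd (mul_eq_right.1 (key a3 a2 e3 (e' ▸ e2))) b1
    have := mul_mem (mU a3 e3) (inv_mem (mul_mem (mU a1 e1) (mU a2 e2)))
    rwa [e', h.cI' k c1, mul_assoc i₁, mml (h.sq k.r), mul_inv_cancel_right] at this
  have ha : a ∈ UU Q p r := by
    have := mul_mem (mul_mem (left_mem_UU (Q := Q) p r) (right_mem_UU p r)) (inv_mem hb)
    rwa [← e, mul_inv_cancel_right] at this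
  exact h.UU_eq k' k.l k.r ha hb k.ne

theorem pair_eq (k : Col D a b) (k' : Col D p r) (e : a * b = p * r) : p = a ∨ p = b := by
  by_contra hn
  push Not at hn
  have := h.mul_mem_Q k k'.l (h.uniq k k' e ▸ left_mem_UU p r) hn.1 hn.2
  exact h.notQ k' (by simpa [e] using mul_mem (inv_mem (h.mem k'.l)) this)

theorem cent_le (k : Col D a b) : C{a * b} ≤ N[UU Q a b] := fun g hg => by
  rw [mem_N_iff_cj, h.cj_UU k, h.uniq (h.col_cj k g) k (by rw [← cjm, mem_C1_iff_conj.1 hg])]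

theorem cent_of_mul (k : Col D a b) (hp : p ∈ D) (e : p ∈ C{a * b}) : p ∈ C[UU Q a b] :=
  h.cent_of_norm k hp (h.cent_le k e)

end US

end XS
end H6
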