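import Mathlib
import Cfsg.Agent.H6.XU3
import Cfsg.Agent.H6.ZB1

/-! Unitary case: three-transpositions -/

set_option autoImplicit false
set_option linter.unusedSectionVars false

namespace H6
namespace XS

open Subgroup H24 H15 H15.XP Module H18.XU
open scoped commutatorElement

variable {G : Type*} [Group G] [Finite G] {D : Set G} {Q : G → Subgroup G} {w : ℕ}

namespace US

variable (h : US D Q w) {a c d e f p r : G}
include h

theorem rtg_cj (g : G) (hr : Relation.ReflTransGen (Col D) d e) :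
    Relation.ReflTransGen (Col D) (g * d * g⁻¹) (g * e * g⁻¹) := by
  induction hr with
  | refl => exact .refl
  | tail _ k ih => exact ih.tail (h.col_cj k g)

theorem rtg_symm (hr : Relation.ReflTransGen (Col D) d e) : Relation.ReflTransGen (Col D) e d := by
  induction hr with
  | refl => exact .refl
  | tail _ k ih => exact .trans (.single k.symm) ih

theorem exists_stab (d : G) : ∃ M : Subgroup G, ∀ g, g ∈ M ↔ Relation.ReflTransGen (Col D) d (g * d * g⁻¹) := by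
  refine ⟨⟨⟨⟨{g | Relation.ReflTransGen (Col D) d (g * d * g⁻¹)}, fun {x y} hx hy => ?_⟩, ?_⟩,
    fun {x} hx => ?_⟩, fun _ => Iff.rfl⟩
  · refine Relation.ReflTransGen.trans hx ?_
    have := h.rtg_cj x hy
    convert this using 1
    group
  · simpa using Relation.ReflTransGen.refl
  · have := h.rtg_symm (h.rtg_cj x⁻¹ hx)
    simpa [mul_assoc] using this

theorem conn (hO : NoOdd G) (k : Col D p r) (hd : d ∈ D) (he : e ∈ D) :
    Relation.ReflTransGen (Col D) d e := by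
  obtain ⟨M, hM⟩ := h.exists_stab d
  have CM : C{d} ≤ M := fun g hg => (hM g).2 (by rw [mem_C1_iff_conj.1 hg])
  have F : ∀ t ∈ M, t * t = 1 → ∃ m ∈ M, t ∈ C{m * d * m⁻¹} := fun t ht t2 => by
    obtain ⟨S, hS⟩ := Sylow_exists Nat.prime_two C{d}
    have h1 : Syl 2 ⊤ S := hS.of_idx le_top ((piNat_compl_singleton Nat.prime_two).2
      (by rw [relIndex_top_right]; exact ZD.not_two_dvd (h.odd_index hd)))
    obtain ⟨m, hm, e⟩ := Sylow_subJ Nat.prime_two (h1.of_le (hS.le.trans CM) le_top)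
      (piElt_of_pow_eq_one (piNat_self Nat.prime_two) (by rwa [pow_two])).isPi (zpowers_le.2 ht)
    exact ⟨m, hm, cj_C1 m d ▸ cj_mono m hS.le (e (mem_zpowers t))⟩
  have F1 : ∀ z ∈ D, ∀ m ∈ M, z ∈ C{m * d * m⁻¹} → Relation.ReflTransGen (Col D) d z := fun z hz m hm hc => by
    by_cases e : m * d * m⁻¹ = z
    · exact e ▸ (hM m).1 hm
    · exact ((hM m).1 hm).tail ⟨h.conj d hd m, hz, e, (mem_C1.1 hc).symm⟩
  have F2 : ∀ z ∈ D, z ∈ M → Relation.ReflTransGen (Col D) d z := fun z hz hm => by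
    obtain ⟨m, m1, m2⟩ := F z hm (h.sq hz)
    exact F1 z hz m m1 m2
  have F3 : ∀ z ∈ D, Relation.ReflTransGen (Col D) d z → ∃ m ∈ M, m * d * m⁻¹ = z := fun z hz hr => by
    obtain ⟨m, rfl⟩ := h.trans d hd z hz
    exact ⟨m, (hM m).2 hr, rfl⟩
  have fx : ∀ x g : G, x • (g : G ⧸ M) = g ↔ g⁻¹ * x * g ∈ M := fun x g => by
    rw [MulAction.Quotient.smul_coe, eq_comm, QuotientGroup.eq, smul_eq_mul, mul_assoc]
  have cD : ∀ z ∈ D, ∀ g : G, g⁻¹ * z * g ∈ D := fun z hz g => by simpa using h.conj z hz g⁻¹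
  have nar : ∀ z ∈ D, ZD.Nar (G ⧸ M) z := fun z hz x y => by
    refine QuotientGroup.induction_on x fun g => QuotientGroup.induction_on y fun g' e1 e2 => ?_
    obtain ⟨m, m1, m2⟩ := F3 _ (cD z hz g) (F2 _ (cD z hz g) ((fx z g).1 e1))
    obtain ⟨m', m1', m2'⟩ := F3 _ (cD z hz g') (F2 _ (cD z hz g') ((fx z g').1 e2))
    have : m⁻¹ * (g⁻¹ * g') * m' ∈ C{d} := mem_C1_iff_conj.2 (by
      calc _ = m⁻¹ * (g⁻¹ * (g' * (m' * d * m'⁻¹) * g'⁻¹) * g) * m := by group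
        _ = m⁻¹ * (g⁻¹ * z * g) * m := by rw [m2']; group
        _ = d := by rw [← m2]; group)
    exact QuotientGroup.eq.2 ((conj_mem_iff' (norm_self M m1)).1 (by
      simpa [mul_assoc] using mul_mem (CM this) (mul_mem (inv_mem m1') m1)))
  have ze : ZD.ZE (G ⧸ M) D := by
    refine ⟨fun z hz => ⟨h.ne_one hz, h.sq hz⟩, h.conj, fun z hz => ?_, nar, fun x => ?_,
      fun u hu v hv ne hc x y e1 e2 => ?_⟩
    · obtain ⟨g, rfl⟩ := h.trans d hd z hz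
      exact ⟨g, (fx _ g).2 (by simpa [mul_assoc] using CM (self_mem_C1 d))⟩
    · exact QuotientGroup.induction_on x fun g => ⟨_, h.conj d hd g, (fx _ g).2 (by
        simpa [mul_assoc] using CM (self_mem_C1 d))⟩
    suffices ∀ x : G ⧸ M, (u * v) • x = x → u • x = x from nar u hu x y (this x e1) (this y e2)
    intro x
    refine QuotientGroup.induction_on x fun g e1 => (fx u g).2 ?_
    have k1 := h.col_cj ⟨hu, hv, ne, hc⟩ g⁻¹
    have e3 : g⁻¹ * u * g⁻¹⁻¹ * (g⁻¹ * v * g⁻¹⁻¹) = g⁻¹ * (u * v) * g := by group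
    obtain ⟨m, m1, m2⟩ := F _ ((fx _ g).1 e1)
      (e3 ▸ h.ea_UU k1 _ (mul_mem (left_mem_UU _ _) (right_mem_UU _ _)))
    have := h.cent_of_mul k1 (h.conj d hd m) (e3 ▸ mem_C1_comm.1 m2)
    obtain ⟨m', m3, m4⟩ := F3 _ k1.l (F1 _ k1.l m m1 (mem_C1_comm.1 (C_le_C1 (left_mem_UU _ _) this)))
    rw [inv_inv] at m4
    exact m4 ▸ conj_mem (norm_self M m3) (CM (self_mem_C1 d))
  refine F2 e he ?_
  by_cases hk : (MulAction.toPermHom G (G ⧸ M)).ker = ⊥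
  swap
  · have := congrArg (fun σ : Equiv.Perm (G ⧸ M) => σ (1 : G)) (MonoidHom.mem_ker.1 (h.minN hO he inferInstance hk))
    simpa using (fx e 1).1 this
  rcases subsingleton_or_nontrivial (G ⧸ M) with hs | hs
  · simpa using (fx e 1).1 (Subsingleton.elim _ _)
  exact absurd (ze.mem_of_nar' (fun g hg => mem_bot.1 (hk ▸ MonoidHom.mem_ker.2 (Equiv.ext hg)))
    ⟨h.mul_ne k, h.ea_UU k _ (mul_mem (left_mem_UU _ _) (right_mem_UU _ _))⟩
    (ze.pd p k.l r k.r k.ne k.comm)) (h.mul_not_mem k)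

theorem in_plane (k1 : Col D c p) (k2 : Col D c r) (k3 : Col D p r) (hr : r ∉ UU Q c p) (k : Col D d e) :
    ∃ f, Col D d f ∧ Col D e f ∧ f ∉ UU Q d e := by
  obtain ⟨g, rfl⟩ := h.trans c k1.l d k.l
  rw [← conj_mem_cj_iff (g := g), h.cj_UU k1] at hr
  replace k1 := h.col_cj k1 g
  replace k2 := h.col_cj k2 g
  replace k3 := h.col_cj k3 g
  generalize g * c * g⁻¹ = c, g * p * g⁻¹ = p, g * r * g⁻¹ = r at *
  obtain ⟨f, f1, f2, f3⟩ := h.part k1 k2 k3 hr k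
  have k4 := h.pl_col k1 k2 k3 hr f1 f2
  by_cases hf : f ∈ UU Q c e
  swap
  · exact ⟨f, k4, ⟨k.r, f1, fun e' => hf (e' ▸ right_mem_UU _ _), f3.symm⟩, hf⟩
  obtain ⟨f', g1, g2, g3⟩ : ∃ f' ∈ D, f' ∈ UU Q p r ∧ f ≠ f' := by
    by_cases e' : f = p
    · exact ⟨r, k3.r, right_mem_UU _ _, e' ▸ k3.ne⟩
    · exact ⟨p, k3.l, left_mem_UU _ _, e'⟩
  have k5 := h.pl_col k1 k2 k3 hr g1 g2
  have n : f' ∉ UU Q c e := fun e' => h.pl_not k1 k2 k3 hr (by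
    rw [← h.UU_eq k3 f1 g1 f2 g2 g3, h.UU_eq k f1 g1 hf e' g3]; exact left_mem_UU _ _)
  refine ⟨f', k5, ⟨k.r, g1, fun e' => n (e' ▸ right_mem_UU _ _), mem_C.1 (h.cent_of_comm k4 g1 k5.comm
    ((h.ea_UU k3).comm f2 g2)) e ?_⟩, n⟩
  rw [h.UU_step k f1 hf k4.ne.symm]
  exact right_mem_UU _ _

theorem pt_of_cent (k : Col D p r) (ha : a ∈ D) (hf : f ∈ D) (hc : f ∈ C[UU Q p r]) (e : f * a = a * f) :
    ∃ d ∈ D, d ∈ UU Q p r ∧ d * a = a * d := by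
  by_cases hU : f ∈ UU Q p r
  · exact ⟨f, hf, hU, e⟩
  by_cases e' : f = a
  · exact ⟨p, k.l, left_mem_UU _ _, e' ▸ mem_C.1 hc p (left_mem_UU _ _)⟩
  have k1 : Col D f p := ⟨hf, k.l, fun e => hU (e ▸ left_mem_UU _ _), mem_C'.1 hc p (left_mem_UU _ _)⟩
  refine h.part k1 ⟨hf, k.r, fun e => hU (e ▸ right_mem_UU _ _), mem_C'.1 hc r (right_mem_UU _ _)⟩ k
    (fun e => hU ?_) ⟨hf, ha, e', e⟩
  rw [h.UU_eq k1 k.l k.r (right_mem_UU _ _) e k.ne]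
  exact left_mem_UU _ _

theorem line_ptA (hO : NoOdd G) (k : Col D p r) (ha : a ∈ D)
    (hp : ∀ d e, Col D d e → ∃ f, Col D d f ∧ Col D e f ∧ f ∉ UU Q d e) :
    ∃ d ∈ D, d ∈ UU Q p r ∧ d * a = a * d := by
  have hr := h.conn hO k k.l ha
  induction hr with
  | refl => exact ⟨p, k.l, left_mem_UU _ _, rfl⟩
  | @tail a a' _ k' ih =>
  obtain ⟨d, d1, d2, d3⟩ := ih k'.l
  by_cases hC : a ∈ C[UU Q p r]
  · exact h.pt_of_cent k ha k'.l hC k'.comm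
  obtain ⟨r₀, r1, r2, r3⟩ : ∃ r₀ ∈ D, r₀ ∈ UU Q p r ∧ d ≠ r₀ := by
    by_cases e' : d = p
    · exact ⟨r, k.r, right_mem_UU _ _, e' ▸ k.ne⟩
    · exact ⟨p, k.l, left_mem_UU _ _, e'⟩
  have k0 := h.col_ln k d1 r1 d2 r2 r3
  rw [← h.UU_eq k d1 r1 d2 r2 r3] at hC ⊢
  have k1 : Col D d a := ⟨d1, k'.l, fun e => hC ((h.ea_UU k0).le_C (e ▸ left_mem_UU _ _)), d3⟩
  obtain ⟨e, k2, k3, e1⟩ := hp d a k1
  obtain ⟨g, g1, g2, g3⟩ := h.part k1 k2 k3 e1 k0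
  have k4 := h.pl_col k1 k2 k3 e1 g1 g2
  have g4 := h.cent_of_comm k0 g1 k4.comm g3.symm
  have g5 : a ≠ g := fun e => hC (e ▸ g4)
  obtain ⟨f, f1, f2, f3⟩ := h.part k1.symm (h.col_ln k3 k'.l g1 (left_mem_UU _ _) g2 g5) k4 (fun e' => e1 (by
    rw [UU_symm, ← h.UU_step k1.symm g1 e' g5.symm, h.UU_step k3 g1 g2 g5.symm]
    exact right_mem_UU _ _)) k'
  exact h.pt_of_cent k0 ha f1 (h.cent_of_comm k0 f1 ((h.ea_UU k4).comm (left_mem_UU _ _) f2)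
    (mem_C'.1 (h.cent_of_comm k4 r1 k0.comm g3) f f2)) f3

theorem line_ptB (k : Col D p r) (ha : a ∈ D)
    (hp : ∀ x y c, Col D x y → c ∈ D → c ∈ C[UU Q x y] → c ∈ UU Q x y) :
    ∃ d ∈ D, d ∈ UU Q p r ∧ d * a = a * d := by
  have tU : p * r ∈ UU Q p r := mul_mem (left_mem_UU _ _) (right_mem_UU _ _)
  rcases dih₃ (h.sq ha) (h.ea_UU k _ tU) (mem_top _) (mem_top _) with ⟨g, -, e⟩ |
    ⟨τ, t1, t2, t3, t4, -, ⟨⟨g, -, e⟩, -⟩ | ⟨⟨g, -, e⟩, g', -, e'⟩⟩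
  · exact absurd (e ▸ h.conj a ha g) (h.mul_not_mem k)
  · have k1 : Col D a (a * τ) := ⟨ha, e ▸ h.conj a ha g, fun e => t1 (mul_eq_left.1 e.symm), by rw [mul_assoc, t3]⟩
    have n1 := h.cent_le k (mem_C1.2 t4)
    obtain ⟨d, hd, c⟩ := ZD.exists_cent_of_not_dvd (S := {d | d ∈ D ∧ d ∈ UU Q p r}) Nat.prime_two
      (piElt_of_pow_eq_one (piNat_self Nat.prime_two) (show τ ^ 2 = 1 by rwa [pow_two])).isPi
      (fun x hx s hs => ⟨h.conj s hs.1 x, conj_mem (zpowers_le.2 n1 hx) hs.2⟩) (by rw [h.ncard_ln k]; norm_num)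
    exact ⟨d, hd.1, hd.2, mem_C'.1 (h.cent_of_mul k1 hd.1 (by
      rw [mml (h.sq ha)]; exact mem_C1_comm.1 (zpowers_le.1 c))) a (left_mem_UU _ _)⟩
  have y1 : p * r * τ ∈ D := e' ▸ h.conj a ha g'
  have y2 := hp p r _ k y1 (h.cent_of_mul k y1 (mem_C1.2 (by rw [mul_assoc _ τ, t4, mul_assoc])))
  have u1 : τ ∈ UU Q p r := by simpa only [inv_mul_cancel_left] using mul_mem (inv_mem tU) y2
  by_cases hτ : τ ∈ D
  · exact ⟨τ, hτ, u1, t3⟩
  have k1 := h.col_cj k g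
  rw [cjm] at e
  have a1 := hp _ _ a k1 ha (h.cent_of_mul k1 ha (mem_C1.2 (by rw [e, mul_assoc, t3])))
  have u2 := mul_mem (inv_mem a1) (mul_mem (left_mem_UU _ _) (right_mem_UU _ _))
  rw [e, inv_mul_cancel_left] at u2
  obtain ⟨p₁, r₁, c1, c2, c3, c4⟩ := h.prod_two k u1 t1 hτ
  obtain ⟨p₂, r₂, d1, d2, d3, d4⟩ := h.prod_two k1 u2 t1 hτ
  refine ⟨a, ha, ?_, rfl⟩
  rwa [← h.UU_eq k c1.l c1.r c2 c3 c1.ne, h.uniq c1 d1 (c4.symm.trans d4), h.UU_eq k1 d1.l d1.r d2 d3 d1.ne]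

theorem line_pt (hO : NoOdd G) (k : Col D p r) (ha : a ∈ D) :
    ∃ d ∈ D, d ∈ UU Q p r ∧ d * a = a * d := by
  by_cases hp : ∀ x y c, Col D x y → c ∈ D → c ∈ C[UU Q x y] → c ∈ UU Q x y
  · exact h.line_ptB k ha hp
  push Not at hp
  obtain ⟨x, y, c, k1, c1, c2, c3⟩ := hp
  exact h.line_ptA hO k ha fun d e k' => h.in_plane k1
    ⟨k1.l, c1, fun e => c3 (e ▸ left_mem_UU _ _), mem_C.1 c2 x (left_mem_UU _ _)⟩
    ⟨k1.r, c1, fun e => c3 (e ▸ right_mem_UU _ _), mem_C.1 c2 y (right_mem_UU _ _)⟩ c3 k'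

theorem dich (hO : NoOdd G) (k : Col D p r) (hd : d ∈ D) (he : e ∈ D) :
    d * e = e * d ∨ (d * e) ^ 3 = 1 := by
  obtain ⟨g, rfl⟩ := h.trans p k.l d hd
  have k1 := h.col_cj k g
  obtain ⟨f, f1, f2, f3⟩ := h.line_pt hO k1 he
  refine or_iff_not_imp_left.2 fun hn => (h.opp (a := f) ⟨f1, hd, fun e => hn (e ▸ f3),
    (h.ea_UU k1).comm f2 (left_mem_UU _ _)⟩ ⟨f1, he, fun e => hn ?_, f3⟩ hn).2
  exact (h.ea_UU k1).comm (left_mem_UU _ _) (e ▸ f2)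

end US

end XS
end H6
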