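import Mathlib
import Cfsg.Agent.H6.XU4
import Cfsg.Agent.H0.Classify
import Cfsg.Agent.H0.Prim
import Cfsg.Agent.H7.SpSuSimple

/-! Unitary case: identification -/

set_option autoImplicit false
set_option linter.unusedSectionVars false

namespace H6
namespace XS

open Subgroup H24 H15 H15.XP Module H18.XU
open scoped commutatorElement

variable {G : Type*} [Group G] [Finite G] {D : Set G} {Q : G → Subgroup G} {w : ℕ}

theorem sp_line₅ {D : Set G} (hD : H0.PTT D) {m : ℕ} {φ : G → (Fin m ⊕ Fin m → ZMod 2)}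
    (M : H0.Model D (spForm m (ZMod 2)) φ) {a b f f' : G} (ha : a ∈ D) (hb : b ∈ D) (ne : a ≠ b)
    (hc : Commute a b) (hf : f ∈ H0.Ln D a b) (hf' : f' ∈ H0.Ln D a b) (h1 : f ≠ a) (h2 : f ≠ b)
    (h1' : f' ≠ a) (h2' : f' ≠ b) : f = f' := by
  have L := H0.isLine_Ln ha hb ne hc
  have hv : φ a + φ b ≠ 0 := fun e => by
    obtain ⟨y, hy, n⟩ := hD.sep ha hb ne
    have e' : φ b = φ a := by
      ext i
      have := congrFun e i
      simp only [Pi.add_apply, Pi.zero_apply] at this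
      revert this
      generalize φ a i = s
      generalize φ b i = t
      revert s t
      decide
    exact n ((M.1 y hy.1 b hb).2 (e' ▸ (M.1 y hy.1 a ha).1 hy.2.2.symm))
  obtain ⟨x, hx, c, hc0, e⟩ := M.2 _ ⟨hv, (spForm_isAlt m).1 _, rfl⟩
  have c1 : c = 1 := by clear e; revert c; decide
  rw [c1, one_smul] at e
  have B : ∀ y ∈ D, Commute y x ↔ (spForm m (ZMod 2)).B (φ y) (φ a) + (spForm m (ZMod 2)).B (φ y) (φ b) = 0 :=
    fun y hy => by rw [M.1 y hy x hx, ← e, map_add]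
  have xL : x ∈ H0.Ln D a b := ⟨hx, fun y hy k1 k2 => by
    rw [B y hy, (M.1 y hy a ha).1 k1, (M.1 y hy b hb).1 k2, add_zero]⟩
  have key : ∀ f ∈ H0.Ln D a b, f ≠ a → f ≠ b → f = x := fun f hf h1 h2 => by
    by_contra n
    obtain ⟨y, hy, k⟩ := hD.sep hf.1 hx n
    have k1 : ¬ Commute y a := fun k1 =>
      k (hD.all_of_two L hf (H0.left_mem_Ln ha) h1 hy.1 hy.2.2.symm k1 xL)
    have k2 : ¬ Commute y b := fun k1 =>
      k (hD.all_of_two L hf (H0.right_mem_Ln hb) h2 hy.1 hy.2.2.symm k1 xL)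
    rw [B y hy.1] at k
    rw [M.1 y hy.1 _ ‹_›] at k1 k2
    revert k k1 k2
    generalize (spForm m (ZMod 2)).B (φ y) (φ a) = s
    generalize (spForm m (ZMod 2)).B (φ y) (φ b) = t
    revert s t
    decide
  rw [key f hf h1 h2, key f' hf' h1' h2']

theorem su_plane {D : Set G} {n : ℕ} (hn : 6 ≤ n) {φ : G → (Fin n → H0.F4)}
    (h : H0.Model D (unForm H0.F4.card n) φ) : ∃ c ∈ D, ∃ p ∈ D, ∃ r ∈ D, ∃ x ∈ D, ∃ y ∈ D,
      Commute c p ∧ Commute c r ∧ Commute p r ∧ Commute c x ∧ Commute p x ∧ ¬ Commute r x ∧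
        Commute c y ∧ ¬ Commute p y := by
  let ι : (Fin 6 → H0.F4) → Fin n → H0.F4 := fun v i => if h : i.1 < 6 then v ⟨i, h⟩ else 0
  have hι : ∀ v w, (unForm H0.F4.card n).B (ι v) (ι w) = ∑ i, w i * (v i * v i) := by
    intro v w
    rw [unForm_B']
    symm
    refine Finset.sum_of_injOn (Fin.castLE hn) (Fin.castLE_injective hn).injOn
      (fun _ _ => Finset.mem_univ _) (fun i _ hi => ?_) fun i _ => ?_
    · have : ¬ i.1 < 6 := fun h => hi ⟨⟨i, h⟩, Finset.mem_univ _, rfl⟩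
      simp [ι, this]
    · simp [ι, H0.F4.frob_eq]
  have pt : ∀ v : Fin 6 → H0.F4, v ≠ 0 → ∑ i, v i * (v i * v i) = 0 →
      ∃ x ∈ D, ∃ c : H0.F4, c ≠ 0 ∧ ι v = c • φ x :=
    fun v hv h0 => h.2 _ ⟨fun e => hv (funext fun i => by
      simpa [ι] using congrFun e (Fin.castLE hn i)), by rw [hι, h0], rfl⟩
  have cm : ∀ v w : Fin 6 → H0.F4, ∀ x ∈ D, ∀ y ∈ D, ∀ c d : H0.F4, c ≠ 0 → d ≠ 0 → ι v = c • φ x →
      ι w = d • φ y → (Commute x y ↔ ∑ i, w i * (v i * v i) = 0) := fun v w x hx y hy c d hc hd e1 e2 => by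
    rw [← hι, e1, e2, h.1 x hx y hy]
    simp only [LinearMap.map_smulₛₗ, LinearMap.smul_apply, smul_eq_mul, RingHom.id_apply,
      mul_eq_zero, map_eq_zero, hc, hd, false_or]
  let w : H0.F4 := (2 : Fin 4)
  obtain ⟨c, hc, c0, c1, c2⟩ := pt ![1, 1, 0, 0, 0, 0] (by decide +kernel) (by decide +kernel)
  obtain ⟨p, hp, p0, p1, p2⟩ := pt ![0, 0, 1, 1, 0, 0] (by decide +kernel) (by decide +kernel)
  obtain ⟨r, hr, r0, r1, r2⟩ := pt ![0, 0, 0, 0, 1, 1] (by decide +kernel) (by decide +kernel)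
  obtain ⟨x, hx, x0, x1, x2⟩ := pt ![0, 0, 0, 0, 1, w] (by decide +kernel) (by decide +kernel)
  obtain ⟨y, hy, y0, y1, y2⟩ := pt ![0, 0, 1, w, 0, 0] (by decide +kernel) (by decide +kernel)
  refine ⟨c, hc, p, hp, r, hr, x, hx, y, hy, ?_, ?_, ?_, ?_, ?_, ?_, ?_, ?_⟩
  · rw [cm _ _ c hc p hp _ _ c1 p1 c2 p2]; decide +kernel
  · rw [cm _ _ c hc r hr _ _ c1 r1 c2 r2]; decide +kernel
  · rw [cm _ _ p hp r hr _ _ p1 r1 p2 r2]; decide +kernel
  · rw [cm _ _ c hc x hx _ _ c1 x1 c2 x2]; decide +kernel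
  · rw [cm _ _ p hp x hx _ _ p1 x1 p2 x2]; decide +kernel
  · rw [cm _ _ r hr x hx _ _ r1 x1 r2 x2]; decide +kernel
  · rw [cm _ _ c hc y hy _ _ c1 y1 c2 y2]; decide +kernel
  · rw [cm _ _ p hp y hy _ _ p1 y1 p2 y2]; decide +kernel

namespace US

variable (h : US D Q w) {a c d e z b : G}
include h

theorem normal0 : (closure D).Normal := ⟨fun x hx g => by
  have : (closure D).map (MulAut.conj g).toMonoidHom ≤ closure D := by
    rw [MonoidHom.map_closure, closure_le]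
    rintro _ ⟨d, hd, rfl⟩
    exact subset_closure (h.conj d hd g)
  exact this ⟨x, hx, rfl⟩⟩

theorem exists_nc (k : Col D z b) (hd : d ∈ D) : ∃ e ∈ D, d * e ≠ e * d := by
  obtain ⟨c, c', k1, k2, n⟩ := h.exists_opp k
  obtain ⟨g, rfl⟩ := h.trans c k1.r d hd
  exact ⟨_, h.conj c' k2.r g, fun e => n (cjinj (g := g) (by rw [cjm, cjm, e]))⟩

theorem cj_nc (hO : NoOdd G) (k : Col D z b) (hd : d ∈ D) (he : e ∈ D) (n : d * e ≠ e * d) :
    d * e * d⁻¹ = e * d * e⁻¹ := by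
  have := (h.dich hO k hd he).resolve_left n
  rw [inv_sq (h.sq hd), inv_sq (h.sq he)]
  calc d * e * d = (d * e) ^ 3 * (e * d * e) := by
        simp only [pow_succ, pow_zero, one_mul, mul_assoc, mml (h.sq he), mml (h.sq hd), h.sq he, mul_one]
    _ = _ := by rw [this, one_mul]

theorem trans0 (hO : NoOdd G) (k : Col D z b) (hd : d ∈ D) (he : e ∈ D) :
    ∃ g ∈ closure D, g * d * g⁻¹ = e := by
  have sy : ∀ {d e : G}, (∃ g ∈ closure D, g * d * g⁻¹ = e) → ∃ g ∈ closure D, g * e * g⁻¹ = d :=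
    fun ⟨g, hg, k⟩ => ⟨g⁻¹, inv_mem hg, by rw [← k]; group⟩
  have tr : ∀ {d e f : G}, (∃ g ∈ closure D, g * d * g⁻¹ = e) → (∃ g ∈ closure D, g * e * g⁻¹ = f) →
      ∃ g ∈ closure D, g * d * g⁻¹ = f :=
    fun ⟨g, hg, k⟩ ⟨g', hg', k'⟩ => ⟨g' * g, mul_mem hg' hg, by rw [← k', ← k]; group⟩
  have nc : ∀ {d e : G}, d ∈ D → e ∈ D → d * e ≠ e * d → ∃ g ∈ closure D, g * d * g⁻¹ = e :=
    fun {d e} hd he n => ⟨d * e, mul_mem (subset_closure hd) (subset_closure he), by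
      calc d * e * d * (d * e)⁻¹ = d * (e * d * e⁻¹) * d⁻¹ := by group
        _ = d * d * e * (d * d)⁻¹ := by rw [← h.cj_nc hO k hd he n]; group
        _ = e := by rw [h.sq hd]; group⟩
  have st : ∀ {d e f : G}, Col D d e → f ∈ D → f ∈ UU Q d e → f ≠ e →
      (∃ g ∈ closure D, g * d * g⁻¹ = e) ∨ ∃ g ∈ closure D, g * d * g⁻¹ = f := fun {d e f} c hf hU ne => by
    obtain ⟨d', hd', n⟩ := h.exists_nc k c.l
    by_contra hn
    rw [not_or] at hn
    have c1 : e * d' = d' * e := by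
      by_contra n'
      exact hn.1 (tr (nc c.l hd' n) (sy (nc c.r hd' n')))
    have c2 : f * d' = d' * f := by
      by_contra n'
      exact hn.2 (tr (nc c.l hd' n) (sy (nc hf hd' n')))
    have := h.cent_of_comm (h.col_ln c c.r hf (right_mem_UU _ _) hU ne.symm) hd' c1 c2
    rw [h.UU_eq c c.r hf (right_mem_UU _ _) hU ne.symm] at this
    exact n (mem_C.1 this d (left_mem_UU _ _))
  by_cases n : d * e = e * d
  · by_cases e1 : d = e
    · exact ⟨1, one_mem _, by simpa using e1⟩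
    have c : Col D d e := ⟨hd, he, e1, n⟩
    obtain ⟨i, hi, i1⟩ := h.exists_I c
    have hU := ((h.mem_ln c).2 (.inr (.inr ⟨i, hi, i1, rfl⟩))).2
    rcases st c (h.third_mem c hi i1) hU (h.third_ne' c hi) with k1 | k1
    · exact k1
    rcases st c.symm (h.third_mem c hi i1) (UU_symm d e ▸ hU) (h.third_ne c hi) with k2 | k2
    · exact sy k2
    · exact tr k1 (sy k2)
  · exact nc hd he n

theorem I_le0 (k : Col D z b) : Q z ⊓ Q b ≤ closure D := fun i hi => by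
  by_cases i1 : i = 1
  · exact i1 ▸ one_mem _
  have := mul_mem (inv_mem (mul_mem (subset_closure k.l) (subset_closure k.r)))
    (subset_closure (h.third_mem k hi i1) : z * b * i ∈ closure D)
  rwa [inv_mul_cancel_left] at this

theorem WW_le0 (k : Col D z b) : WW Q z b ≤ closure D :=
  sup_le (zpowers_le.2 (subset_closure k.l)) (h.I_le0 k)

theorem Q_le0 (k : Col D z b) (hi : w = 2 ∨ Irr z (Q z)) : Q z ≤ closure D := by
  rcases hi with rfl | hi
  · obtain ⟨c, d, k1, k2, n⟩ := h.exists_opp k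
    have hU : d ∉ UU Q z c := fun hU => n ((h.ea_UU k1).comm (right_mem_UU _ _) hU)
    have := card_sup ((h.WW_le k2).trans (h.norm_WW k1))
    rw [h.disj k1 k2 hU, card_zp2 (h.sq k1.l) (h.ne_one k1.l), h.card_WW k1, h.card_WW k2] at this
    rw [← eq_of_le_of_card_ge (sup_le (h.WW_le k1) (h.WW_le k2)) (by rw [h.card z k.l]; omega)]
    exact sup_le (h.WW_le0 k1) (h.WW_le0 k2)
  · have := h.normal0
    rcases hi (Q z ⊓ closure D) (mem_inf.2 ⟨h.mem k.l, subset_closure k.l⟩) inf_le_left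
      (fun g hg => mem_N_inf (h.norm k.l hg) (le_normalizer_of_normal (mem_top g))) with e | e
    · obtain ⟨i, hi, i1⟩ := h.exists_I k
      rcases (h.mem_zp k.l).1 (e.le (mem_inf.2 ⟨(mem_inf.1 hi).1, h.I_le0 k hi⟩)) with e | e
      · exact absurd e i1
      · exact absurd (e ▸ (mem_inf.1 hi).2) (h.notQ k.symm)
    · exact e ▸ inf_le_right

theorem simple0 (hO : NoOdd G) (k : Col D z b) (hi : w = 2 ∨ Irr z (Q z)) {N : Subgroup G}
    (hN : N ⊴ closure D) (h1 : N ≠ ⊥) : N = closure D := by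
  have := h.normal0
  obtain ⟨S, hS, hQ⟩ := Sylow_superset Nat.prime_two ((isPi_iff_isPGroup Nat.prime_two).2 (h.two k.l))
    (h.Q_le0 k hi)
  have hz : z ∈ N := h.mem_of_normal k.l ((isPi_iff_isPGroup Nat.prime_two).1 hS.pi) hQ
    (hS.le.trans hN.norm) fun e => h1 (by
      have h2 : IsPi {2}ᶜ N := by
        have := (hS.inf_nml' hN).idx
        rwa [e, relIndex_bot_left] at this
      have h3 : O[{2}ᶜ, closure D] = ⊥ := hO _ (nml_top_iff.1 ⟨le_top,
        norm_pcore _ le_normalizer_of_normal⟩) (Nat.not_even_iff_odd.1 fun k' =>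
          (piNat_compl_singleton Nat.prime_two).1 (pcore_pi _ _) (even_iff_two_dvd.1 k'))
      exact le_bot_iff.1 (h3 ▸ pcore_max h2 hN))
  refine le_antisymm hN.le ((closure_le _).2 fun d hd => ?_)
  obtain ⟨g, hg, rfl⟩ := h.trans0 hO k k.l hd
  exact (mem_normalizer_iff.1 (hN.norm hg) z).1 hz

end US

theorem US.ident (h : US D Q w) (hO : NoOdd G) {z b : G} (k : Col D z b)
    (hi : w = 2 ∨ Irr z (Q z)) : closure D = Cfsg.generalizedFittingSubgroup G ∧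
      ∃ n, 4 ≤ n ∧ (w = 3 → n = 5) ∧ Nonempty (closure D ≃* Cfsg.PSU n H0.F4 2) := by
  have hn := h.normal0
  obtain ⟨z', hz', nz⟩ := h.exists_nc k k.l
  have zD : z ∈ closure D := subset_closure k.l
  have nab : ¬ closure D ≤ C[closure D] := fun e => nz (mem_C.1 (e (subset_closure hz')) z zD)
  have hC : C[closure D] = ⊥ := by
    by_contra n
    exact nz (mem_C.1 (h.minN hO k.l inferInstance n) z' (subset_closure hz')).symm
  have hp : ⁅closure D, closure D⁆ = closure D := h.simple0 hO k hi (der1_nml _) fun e =>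
    nab (H23.le_centralizer_of_comm_bot e)
  have comp : Cfsg.IsComponent (closure D) := ⟨hn.isSubnormal, H23.isQuasisimple_subgroup_iff.2
    ⟨hp, fun e => nab (e ▸ bot_le), fun N h1 h2 => (em (N = ⊥)).symm.imp (h.simple0 hO k hi ⟨h1, h2⟩)
      fun e => by rw [e, commutator_bot_left]⟩⟩
  refine ⟨le_antisymm ((H23.le_layer comp).trans le_sup_left) (sup_le
    (H23.layer_le_of_centralizer_le hn.isSubnormal (hC ▸ bot_le)) ?_), ?_⟩
  · exact (H23.le_centralizer_of_comm_bot (H23.comm_bot_symm (H23.comm_bot_mono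
      (H23.layer_comm_fitting G) (H23.le_layer comp) le_rfl))).trans (hC ▸ bot_le)
  have cv : ∀ {x y : closure D}, Commute x y ↔ (x : G) * y = y * x := fun {x y} => by
    rw [commute_iff_eq, Subtype.ext_iff]; rfl
  obtain ⟨E, hE⟩ : ∃ E : Set (closure D), E = (closure D).subtype ⁻¹' D := ⟨_, rfl⟩
  have mE : ∀ {x : closure D}, x ∈ E ↔ (x : G) ∈ D := fun {x} => by rw [hE]; rfl
  have T : H0.TT E := ⟨fun d hd => Subtype.ext (h.sq (mE.1 hd)), fun d hd e he => by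
      rw [cv, or_iff_not_imp_left]
      exact fun n => Subtype.ext (h.cj_nc hO k (mE.1 hd) (mE.1 he) n),
    fun d hd g => mE.2 (h.conj d (mE.1 hd) g), fun d hd e he => by
      obtain ⟨g, hg, e⟩ := h.trans0 hO k (mE.1 hd) (mE.1 he)
      exact ⟨⟨g, hg⟩, Subtype.ext e⟩, hE ▸ closure_preimage_eq_top D⟩
  have hZ : center (closure D) = ⊥ := by
    rw [← map_eq_bot_iff_of_injective _ (subtype_injective _), H23.map_subtype_center, hC, inf_bot_eq]
  have hcm : commutator (closure D) = ⊤ := by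
    apply map_injective (subtype_injective _)
    rw [map_subtype_commutator, hp, ← MonoidHom.range_eq_map, range_subtype]
  have hs : IsSimpleGroup (closure D) := by
    have : Nontrivial (closure D) := (nontrivial_iff_ne_bot _).2 fun e => nab (e ▸ bot_le)
    exact ⟨fun N hN => ((H23.isQuasisimple_iff.1 comp.2).2.2 N hN).symm.imp_left fun e =>
      le_bot_iff.1 (hZ ▸ e)⟩
  have P : H0.PTT E := T.ptt_of_simple (hcm ▸ topEquiv.symm.isSimpleGroup_congr.1 hs) (by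
    rw [hcm]
    exact ⟨⟨⟨z, zD⟩, trivial⟩, ⟨⟨z', subset_closure hz'⟩, trivial⟩, fun e =>
      nz (congrArg (fun x : (⊤ : Subgroup (closure D)) => ((x : closure D) : G)) e)⟩)
  have ln : ∀ i ∈ Q z ⊓ Q b, i ≠ 1 → ∃ f ∈ H0.Ln E ⟨z, zD⟩ ⟨b, subset_closure k.r⟩,
      (f : G) = z * b * i ∧ f ≠ ⟨z, zD⟩ ∧ f ≠ ⟨b, subset_closure k.r⟩ := fun i hi i1 =>
    ⟨⟨_, subset_closure (h.third_mem k hi i1)⟩, ⟨mE.2 (h.third_mem k hi i1), fun x hx c1 c2 =>
      cv.2 (mem_C.1 (h.cent_of_comm k (mE.1 hx) (cv.1 c1).symm (cv.1 c2).symm) _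
        ((h.mem_ln k).2 (.inr (.inr ⟨i, hi, i1, rfl⟩))).2).symm⟩, rfl,
      fun e => h.third_ne k hi (congrArg Subtype.val e), fun e => h.third_ne' k hi (congrArg Subtype.val e)⟩
  obtain ⟨i, hi1, i1⟩ := h.exists_I k
  obtain ⟨j, hj1, j1, ji⟩ := four_ex (K := Q z ⊓ Q b) (by rw [(h.tu k).card]; omega) (h.eaI k i hi1)
  obtain ⟨f, f1, f2, f3, f4⟩ := ln i hi1 i1
  obtain ⟨f', f1', f2', f3', f4'⟩ := ln j hj1 j1
  have zb : (⟨z, zD⟩ : closure D) ≠ ⟨b, subset_closure k.r⟩ := fun e => k.ne (congrArg Subtype.val e)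
  have Po : H0.Pol E := ⟨P, _, mE.2 k.l, _, ⟨mE.2 k.r, zb.symm, cv.2 k.comm⟩, f, f1, f3, f4⟩
  rcases Po.model hZ with ⟨m, -, φ, M⟩ | ⟨n, n4, φ, M⟩
  · have := sp_line₅ P M (mE.2 k.l) (mE.2 k.r) zb (cv.2 k.comm) f1 f1' f3 f4 f3' f4'
    rw [this, f2'] at f2
    exact absurd (mul_left_cancel f2) ji
  obtain ⟨e⟩ := M.iso_su Po hZ n4
  refine ⟨n, n4, fun w3 => ?_, ⟨e⟩⟩
  by_contra n5
  rcases (by omega : n = 4 ∨ 6 ≤ n) with rfl | n6
  · have h1 := H7.card_psu H0.F4.card 4 (by omega)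
    have h2 := card_dvd (h.Q_le0 k hi)
    rw [h.card z k.l, w3, Nat.card_congr e.toEquiv] at h2
    simp [Finset.prod_range_succ, Nat.even_iff] at h1
    omega
  · obtain ⟨c, hc, p, hp, r, hr, x, hx, y, hy, e1, e2, e3, e4, e5, e6, e7, e8⟩ := su_plane n6 M
    have k1 : Col D (c : G) p := ⟨mE.1 hc, mE.1 hp, fun e => e8 (Subtype.ext e ▸ e7), cv.1 e1⟩
    have := h.four_le k1 ⟨mE.1 hc, mE.1 hr, fun e => e6 (Subtype.ext e ▸ e4), cv.1 e2⟩
      ⟨mE.1 hp, mE.1 hr, fun e => e6 (Subtype.ext e ▸ e5), cv.1 e3⟩ fun hU =>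
        e6 (cv.2 (mem_C.1 (h.cent_of_comm k1 (mE.1 hx) (cv.1 e4) (cv.1 e5)) _ hU))
    omega

end XS
end H6
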