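import Mathlib
import Cfsg.Agent.H6.XV1

/-! Width three, irreducible case, I -/

set_option autoImplicit false
set_option linter.unusedSectionVars false
set_option linter.unusedVariables false
set_option linter.unusedSimpArgs false

namespace H6
namespace XS

open Subgroup H24 H15 H15.XP Module H28.XL
open scoped commutatorElement

variable {V : Type*} [AddCommGroup V] [Module (ZMod 2) V] [Finite V] {q : QuadraticForm (ZMod 2) V}
  {H : Subgroup (ofQuad q).Isom} {S : Set V} {E : V → Submodule (ZMod 2) V}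
  {R : V → Subgroup (ofQuad q).Isom} {w : ℕ} {P : V → Submodule (ZMod 2) V} {u v : V}

theorem mem_sp_of_perp₄ (hq : (ofQuad q).Nondeg) {x : V}
    (h : ∀ z, pol q v z = 0 → pol q x z = 0) : x = 0 ∨ x = v := by
  by_contra hc
  push Not at hc
  obtain ⟨z, z1, z2⟩ := sep1 hq hc.1 hc.2
  rw [h z z1] at z2
  exact zero_ne_one z2

theorem fr_sp_eq₄ (h : v ≠ 0) : finrank (ZMod 2) (Submodule.span (ZMod 2) ({v} : Set V)) = 1 :=
  finrank_span_singleton h

theorem fr_sp2_eq₄ (h : u ≠ 0) (h0 : v ≠ 0) (h1 : v ≠ u) :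
    finrank (ZMod 2) (Submodule.span (ZMod 2) ({u, v} : Set V)) = 2 := by
  rw [Submodule.span_insert, fr_sup_sp' (by rw [mem_sp]; tauto), fr_sp_eq₄ h]

theorem fr_map₄ {A B : Submodule (ZMod 2) V} (g : (ofQuad q).Isom) (h : ∀ x, g.1 x ∈ B ↔ x ∈ A) :
    finrank (ZMod 2) B = finrank (ZMod 2) A := by
  have : B = A.map (g.1 : V →ₗ[ZMod 2] V) := by
    ext x
    constructor
    · intro hx
      exact ⟨(g⁻¹).1 x, (h _).1 (by rwa [Form.Isom.apply_inv_apply]), by simp⟩
    · rintro ⟨x, hx, rfl⟩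
      exact (h x).2 hx
  rw [this, LinearEquiv.finrank_map_eq]

theorem exists_sing₄ {W : Submodule (ZMod 2) V} {a b : V} (ha : a ∈ W) (hb : b ∈ W) (a0 : a ≠ 0)
    (b0 : b ≠ 0) (hab : b ≠ a) (h : pol q a b = 0) : ∃ s ∈ W, s ≠ 0 ∧ q s = 0 := by
  rcases z2 (q a) with e1 | e1
  · exact ⟨a, ha, a0, e1⟩
  rcases z2 (q b) with e2 | e2
  · exact ⟨b, hb, b0, e2⟩
  exact ⟨a + b, add_mem ha hb, fun e => hab (veq.1 e).symm, by
    rw [quad_add, e1, e2, h, z11, add_zero]⟩

theorem VD.ei_w3 (h : VD H S E R 3) (hv : v ∈ S) {y : (ofQuad q).Isom} (hy : y ∈ R v) {x : V}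
    (hx : pol q v x = 1) : Ei v (y.1 x + x) y := by
  refine (ei_of_triv h.nondeg (h.sing hv) hx (h.fix v hv y hy) fun u hu => ?_).2
  have sy : ∀ a b, pol q (y.1 a + a) b = pol q a (y.1 b + b) := fun a b => by
    rw [pl, pr, ← g_pol y a (y.1 b), g_sq (h.sq v hv y hy)]
  have alt : pol q (y.1 u + u) u = 0 := by
    have := h.ts v hv _ (h.perp v hv y hy u hu)
    rw [quad_add, g_q, z2add, zero_add] at this
    rw [pl, this, pp, add_zero]
  let K : Submodule (ZMod 2) V := mkSub {z | pol q v z = 0 ∧ pol q (y.1 u + u) z = 0}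
    ⟨by simp, by simp⟩ fun a ha b hb => ⟨by rw [pr, ha.1, hb.1, add_zero],
      by rw [pr, ha.2, hb.2, add_zero]⟩
  have key : ∀ z, pol q v z = 0 → pol q (y.1 u + u) z = 0 := by
    by_cases h1 : y = 1
    · intro z _; rw [h1]; simp [vv]
    by_cases h2 : u ∈ (ofQuad q).perp (E v) ⊔ Submodule.span (ZMod 2) {y.1 x + x}
    · intro z hz
      rw [sy]
      have e := h.perp v hv y hy z hz
      rcases mem_sup_sp.1 h2 with e1 | e1
      · exact pc (e1 _ e)
      · have := pc (e1 _ e)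
        rw [pl, ← sy (y.1 x + x), g_add, g_sq (h.sq v hv y hy), add_comm x, vv, p0l,
          add_zero] at this
        exact this
    have le : (ofQuad q).perp (E v) ⊔ Submodule.span (ZMod 2) {y.1 x + x} ⊔
        Submodule.span (ZMod 2) {u} ≤ K := by
      refine sup_le (sup_le (fun z hz => ⟨hz v (h.memE v hv), hz _ (h.perp v hv y hy u hu)⟩) ?_) ?_
      · rw [Submodule.span_singleton_le_iff_mem]
        refine ⟨h.s_perp hv hy x, ?_⟩
        rw [sy, g_add, g_sq (h.sq v hv y hy), add_comm x, vv, p0r]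
      · rw [Submodule.span_singleton_le_iff_mem]
        exact ⟨hu, alt⟩
    have le2 : K ≤ (ofQuad q).perp (Submodule.span (ZMod 2) {v}) := fun z hz =>
      (Form.mem_perp_singleton _).2 hz.1
    have f1 := Submodule.finrank_mono le
    rw [fr_sup_sp' h2] at f1
    have f2 := fr_perp h.nondeg (E v)
    have f3 := fr_perp h.nondeg (Submodule.span (ZMod 2) {v})
    rw [fr_sp_eq₄ (h.ne0 v hv)] at f3
    have f4 := h.dim
    have f5 := h.finrank_E_le hv
    have f6 : 4 ≤ finrank (ZMod 2)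
        ↥((ofQuad q).perp (E v) ⊔ Submodule.span (ZMod 2) {y.1 x + x}) := by
      by_cases h3 : finrank (ZMod 2) (E v) = 3
      · rw [fr_sup_sp' (B := (ofQuad q).perp (E v)) fun e => h1 (h.inj v hv y hy x hx
          (perp_self h.nondeg (fun a ha b hb => h.perpE hv ha hb) (by omega) e))]
        omega
      · have := Submodule.finrank_mono (le_sup_left : (ofQuad q).perp (E v) ≤
          (ofQuad q).perp (E v) ⊔ Submodule.span (ZMod 2) {y.1 x + x})
        omega
    have e := eq_of_fr le2 (by omega)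
    intro z hz
    have : z ∈ K := by rw [e]; exact (Form.mem_perp_singleton _).2 hz
    exact this.2
  rcases mem_sp_of_perp₄ h.nondeg key with e | e
  · exact Or.inl (veq.1 e)
  · right; rw [veq'.1 e, add_comm]

theorem VD.exists_w3 (h : VD H S E R 3) (hi : IrrV H) : ∃ P, W3 H S E R P := by
  let P : V → Submodule (ZMod 2) V := fun v =>
    mkSub {s | v ∈ S → pol q v s = 0 ∧ ∃ y ∈ R v, Ei v s y}
      (fun _ => ⟨by simp, 1, one_mem _, fun x => by simp⟩) fun a ha b hb hv => by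
        obtain ⟨a1, y, hy, e⟩ := ha hv
        obtain ⟨b1, y', hy', e'⟩ := hb hv
        exact ⟨by rw [pr, a1, b1, add_zero], _, mul_mem hy hy', e.mul (h.sing hv) a1 b1 e'⟩
  have mP : ∀ v ∈ S, ∀ s, s ∈ P v ↔ pol q v s = 0 ∧ ∃ y ∈ R v, Ei v s y := fun v hv s =>
    ⟨fun hs => hs hv, fun hs _ => hs⟩
  have cj : ∀ g ∈ H, ∀ v ∈ S, ∀ s ∈ P v, g.1 s ∈ P (g.1 v) := fun g hg v hv s hs _ => by
    obtain ⟨a1, y, hy, e⟩ := hs hv
    exact ⟨by rw [g_pol, a1], _, (h.eqR g hg v hv y).2 hy, e.conj g⟩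
  refine ⟨P, h, hi, mP, fun v hv y hy => ?_, fun v hv => ?_, fun v hv s hs => ?_,
    fun g hg v hv s => ⟨fun hs => ?_, cj g hg v hv s⟩⟩
  · obtain ⟨x, hx⟩ := h.exists_x hv
    exact ⟨_, fun _ => ⟨h.s_perp hv hy x, y, hy, h.ei_w3 hv hy hx⟩, h.ei_w3 hv hy hx⟩
  · obtain ⟨x, hx⟩ := h.exists_x hv
    ext s
    rw [mem_sp]
    constructor
    · rintro ⟨h1, h2⟩
      obtain ⟨a1, y, hy, e⟩ := h1 hv
      rw [h.inj v hv y hy x hx (by
        rw [e.ap1 hx, add_assoc x, vv3]
        exact add_mem h2 (Submodule.smul_mem _ _ (h.memE v hv)))] at e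
      exact e.eq_of_one hx
    · rintro (rfl | rfl)
      · exact zero_mem _
      · refine ⟨fun _ => ⟨pp _, 1, one_mem _, ?_⟩, h.memE _ hv⟩
        have : Ei s 0 (1 : (ofQuad q).Isom) := fun x => by simp
        simpa using this.add_self (h.sing hv) (by simp)
  · obtain ⟨x, hx⟩ := h.exists_x hv
    obtain ⟨y, hy, e⟩ := h.surj v hv x s hx hs
    exact mem_r (Submodule.mem_sup_right e) (Submodule.mem_sup_left
      fun _ => ⟨h.s_perp hv hy x, y, hy, h.ei_w3 hv hy hx⟩)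
  · simpa using cj _ (inv_mem hg) _ (h.inv g hg v hv) _ hs

/-- `u` lies in the orbit of `v` -/
def Ob (H : Subgroup (ofQuad q).Isom) (v u : V) : Prop := ∃ g ∈ H, g.1 v = u

theorem Ob.refl₄ : Ob H v v := ⟨1, one_mem _, rfl⟩

theorem Ob.act (h : Ob H v u) {g : (ofQuad q).Isom} (hg : g ∈ H) : Ob H v (g.1 u) := by
  obtain ⟨g', hg', rfl⟩ := h
  exact ⟨g * g', mul_mem hg hg', rfl⟩

namespace W3

variable (h : W3 H S E R P)
include h

theorem obS (hv : v ∈ S) (hu : Ob H v u) : u ∈ S := by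
  obtain ⟨g, hg, rfl⟩ := hu
  exact h.inv g hg v hv

theorem obE (hv : v ∈ S) (hu : Ob H v u) : finrank (ZMod 2) (E u) = finrank (ZMod 2) (E v) := by
  obtain ⟨g, hg, rfl⟩ := hu
  exact fr_map₄ g (h.eqE g hg v hv)

theorem ob_span (hv : v ∈ S) {n : V} (hn : ∀ u, Ob H v u → pol q u n = 0) : n = 0 := by
  rcases h.irr (Submodule.span (ZMod 2) {u | Ob H v u}) (inv_span fun g hg x hx => Ob.act hx hg)
    with e | e
  · have : v ∈ Submodule.span (ZMod 2) {u | Ob H v u} := Submodule.subset_span Ob.refl₄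
    rw [e] at this
    exact absurd this (h.ne0 v hv)
  · have := ((ofQuad q).mem_perp_span (s := {u | Ob H v u})).2 hn
    rwa [e, h.nondeg.perp_top] at this

theorem ob_opp (hv : v ∈ S) {n : V} (hn : n ≠ 0) : ∃ u, Ob H v u ∧ pol q u n = 1 := by
  by_contra hc
  push Not at hc
  exact hn (h.ob_span hv fun u hu => z2ne' (hc u hu))

theorem exists_opp (hv : v ∈ S) : ∃ g ∈ H, pol q v (g.1 v) = 1 := by
  obtain ⟨_, ⟨g, hg, rfl⟩, e⟩ := h.ob_opp hv (h.ne0 v hv)
  exact ⟨g, hg, pc e⟩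

theorem qS (hv : v ∈ S) : q v = 0 := h.toVD.sing hv

theorem perpP (hv : v ∈ S) {s : V} (hs : s ∈ P v) : pol q v s = 0 := ((h.memP v hv s).1 hs).1

theorem exT (hv : v ∈ S) {s : V} (hs : s ∈ P v) : ∃ y ∈ H, Ei v s y := by
  obtain ⟨y, hy, e⟩ := ((h.memP v hv s).1 hs).2
  exact ⟨y, h.le v hv hy, e⟩

theorem mem_PE (hv : v ∈ S) {s : V} (h1 : s ∈ P v) (h2 : s ∈ E v) : s = 0 ∨ s = v := by
  rw [← mem_sp, ← h.inf v hv]; exact ⟨h1, h2⟩

theorem selfP (hv : v ∈ S) : v ∈ P v := by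
  have : v ∈ P v ⊓ E v := by rw [h.inf v hv, mem_sp]; exact Or.inr rfl
  exact this.1

theorem perp_PE (hv : v ∈ S) {s : V} (h1 : ∀ p ∈ P v, pol q s p = 0)
    (h2 : ∀ e ∈ E v, pol q s e = 0) : s = 0 ∨ s = v :=
  mem_sp_of_perp₄ h.nondeg fun z hz => by
    obtain ⟨p, hp, e, he, rfl⟩ := Submodule.mem_sup.1 (h.sup v hv z hz)
    rw [pr, h1 p hp, h2 e he, add_zero]

theorem finrank_P (hv : v ∈ S) : finrank (ZMod 2) (P v) + finrank (ZMod 2) (E v) = 6 := by
  have e : P v ⊔ E v = (ofQuad q).perp (Submodule.span (ZMod 2) {v}) :=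
    le_antisymm (sup_le (fun s hs => (Form.mem_perp_singleton _).2 (h.perpP hv hs))
      fun s hs => (Form.mem_perp_singleton _).2 (h.toVD.perpE hv (h.memE v hv) hs))
      fun s hs => h.sup v hv s ((Form.mem_perp_singleton _).1 hs)
  have f1 := fr_si (P v) (E v)
  have f2 := fr_perp h.nondeg (Submodule.span (ZMod 2) {v})
  rw [e, h.inf v hv] at f1
  rw [fr_sp_eq₄ (h.ne0 v hv)] at f1 f2
  have := h.dim
  omega

theorem one (hv : v ∈ S) (h1 : finrank (ZMod 2) (E v) = 1) : OneV S E R := by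
  have e1 : ∀ u, Ob H v u → E u = Submodule.span (ZMod 2) {u} := fun u hu =>
    (eq_of_fr ((Submodule.span_singleton_le_iff_mem _ _).2 (h.memE u (h.obS hv hu))) (by
      rw [h.obE hv hu, h1, fr_sp_eq₄ (h.ne0 u (h.obS hv hu))])).symm
  have e2 : ∀ u, Ob H v u → ∀ s, pol q u s = 0 → s ∈ P u := fun u hu s hs => by
    have := h.sup u (h.obS hv hu) s hs
    rw [e1 u hu, mem_sup_sp] at this
    exact this.elim id fun e => mem_l e (h.selfP (h.obS hv hu))
  have e3 : ∀ x, x ≠ 0 → q x = 0 → Ob H v x := fun x x0 x1 => by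
    obtain ⟨u, hu, e⟩ := h.ob_opp hv x0
    have hu' := h.obS hv hu
    obtain ⟨g, hg, e'⟩ := h.exists_opp hu'
    obtain ⟨y, hy, ey⟩ := h.exT hu' (e2 u hu (g.1 u + x) (by rw [pr, e, e', z11]))
    have := (hu.act hg).act hy
    rwa [ey.ap1 e', vv1, pl, pp, quad_add, g_q, h.qS hu', x1, pol_comm q x, zero_add, zero_add,
      zero_add, z2add, zero_smul, add_zero] at this
  refine ⟨fun x x0 x1 => h.obS hv (e3 x x0 x1), fun u hu => e1 u (e3 u (h.ne0 u hu) (h.qS hu)),
    fun u hu y => ⟨fun hy => ?_, ?_⟩⟩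
  · obtain ⟨s, hs, e⟩ := h.exP u hu y hy
    exact ⟨s, h.perpP hu hs, e⟩
  · rintro ⟨s, hs, e⟩
    obtain ⟨y', hy', e'⟩ := ((h.memP u hu s).1 (e2 u (e3 u (h.ne0 u hu) (h.qS hu)) s hs)).2
    rwa [e.unique e']

theorem ob_add (hv : v ∈ S) {x s : V} (hx : x ∈ S) (hu : Ob H v u) (hs : s ∈ P x)
    (h1 : pol q x u = 1) (h2 : pol q s u = 0) (h0 : q s = 0) : Ob H v (u + s) := by
  obtain ⟨y, hy, e⟩ := h.exT hx hs
  have := hu.act hy
  rwa [e.ap1 h1, h2, h0, add_zero, zero_smul, add_zero] at this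

theorem not_two (hv : v ∈ S) : finrank (ZMod 2) (E v) ≠ 2 := by
  intro h2
  have dV := h.dim
  obtain ⟨u, hu, huv⟩ := h.ob_opp hv (h.ne0 v hv)
  have hu' := h.obS hv hu
  have f1 := h.finrank_P hv
  obtain ⟨K, k1, k2⟩ := exists_sub_perp (q := q) (P v) [u]
  simp only [List.length_singleton] at k2
  obtain ⟨a, ha, a0, -⟩ := exists_perp0 (q := q) K [] (by simp; omega)
  obtain ⟨b, hb, b0, b1, b2⟩ := exists_perp1 (q := q) K a [a] (by simp; omega)
  obtain ⟨s, hs, s0, qs⟩ := exists_sing₄ ha hb a0 b0 b1 (b2 a (by simp))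
  obtain ⟨s1, s2⟩ := (k1 s).1 hs
  have s2 := s2 u (by simp)
  have ou := h.ob_add hv hv hu s1 (pc huv) (pc s2) qs
  have uu : pol q (u + s) u = 0 := by rw [pl, pp, pc s2, add_zero]
  have ne : u + s ≠ u := by simpa using s0
  generalize u + s = u' at ou uu ne
  have su := h.obS hv ou
  have u0 := h.ne0 u hu'
  have u0' := h.ne0 u' su
  have f2 := h.finrank_P hu'
  have f3 := h.finrank_P su
  rw [h.obE hv hu] at f2
  rw [h.obE hv ou] at f3
  obtain ⟨L, l1, l2⟩ := exists_sub_perp (q := q) (P u') [u]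
  simp only [List.length_singleton] at l2
  -- a two-dimensional space through `u` preserved by the stabiliser
  have k : ∀ (X : Submodule (ZMod 2) V), finrank (ZMod 2) X = 2 → u ∈ X →
      (∀ g ∈ H, g.1 u = u → ∀ x ∈ X, g.1 x ∈ X) → ∀ z ∈ X, z ≠ 0 → z ≠ u →
      pol q u' z = 0 ∧ ∀ a ∈ L, pol q a z = 0 := fun X d uX iX z hz z0 z1 => by
    have eX : Submodule.span (ZMod 2) {u, z} = X := eq_of_fr (Submodule.span_le.2 (by
      rintro _ (rfl | rfl)
      · exact uX
      · exact hz)) (by rw [d, fr_sp2_eq₄ u0 z0 z1])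
    have mv : ∀ a ∈ L, ∀ y ∈ H, Ei u' a y → y.1 z + z = 0 ∨ y.1 z + z = u := fun a ha y hy e => by
      have fu := e.fix uu (pc (((l1 a).1 ha).2 u (by simp)))
      have := iX y hy fu z hz
      rw [← eX, mem_sp2] at this
      rcases this with e1 | e1 | e1 | e1
      · exact absurd e1 (g_ne y z0)
      · exact absurd (g_inj y (e1.trans fu.symm)) z1
      · left; rw [e1, vv]
      · right; rw [e1, vv2]
    have e1 : pol q u' z = 0 := z2ne' fun e1 => by
      obtain ⟨a, ha, n1, n2, n3, n4, -⟩ := exists_perp2 (q := q) L u u' [] (by simp; omega)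
      obtain ⟨y, hy, e⟩ := h.exT su ((l1 a).1 ha).1
      have := mv a ha y hy e
      rw [e.ap1 e1, add_assoc z, vv3] at this
      rcases z2 (pol q a z + q a) with e2 | e2 <;> rw [e2] at this
      · rw [zero_smul, add_zero] at this; tauto
      · rw [one_smul, veq, veq'] at this; tauto
    refine ⟨e1, fun a ha => z2ne' fun e2 => ?_⟩
    obtain ⟨y, hy, e⟩ := h.exT su ((l1 a).1 ha).1
    have := mv a ha y hy e
    rw [e.ap01 e1 e2, vv3] at this
    tauto
  obtain ⟨e, he, e0, e1, -⟩ := exists_perp1 (q := q) (E u) u [] (by rw [h.obE hv hu]; simp; omega)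
  have f4 := fr_perp h.nondeg (P u)
  obtain ⟨n, hn, n0, n1, -⟩ := exists_perp1 (q := q) ((ofQuad q).perp (P u)) u []
    (by simp; omega)
  obtain ⟨p1, p2⟩ := k (E u) (by rw [h.obE hv hu, h2]) (h.memE u hu') (fun g hg e x hx => by
    have := (h.eqE g hg u hu' x).2 hx
    rwa [e] at this) e he e0 e1
  obtain ⟨p3, p4⟩ := k ((ofQuad q).perp (P u)) (by omega) (fun p hp => pc (h.perpP hu' hp))
    (fun g hg e x hx p hp => by
      change pol q p _ = 0
      rw [g_pol_r]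
      refine hx _ ((h.eqP g hg u hu' _).1 ?_)
      rwa [e, Form.Isom.apply_inv_apply]) n hn n0 n1
  have ue := h.toVD.perpE hu' (h.memE u hu') he
  have un : pol q u n = 0 := hn u (h.selfP hu')
  have ne' : pol q n e = 1 := z2ne fun e2 => by
    have eX : Submodule.span (ZMod 2) {u, e} = E u := eq_of_fr (Submodule.span_le.2 (by
      rintro _ (rfl | rfl)
      · exact h.memE _ hu'
      · exact he)) (by rw [h.obE hv hu, h2, fr_sp2_eq₄ u0 e0 e1])
    have := h.perp_PE hu' (s := n) (fun p hp => pc (hn p hp)) fun x hx => by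
      rw [← eX, mem_sp2] at hx
      rcases hx with rfl | rfl | rfl | rfl
      · simp
      · exact pc un
      · exact e2
      · rw [pr, pc un, e2, add_zero]
    tauto
  have g1 := fr_sp2_eq₄ u0 u0' ne
  have g2 := fr_sup_sp' (B := Submodule.span (ZMod 2) {u, u'}) (v := e) fun e2 => by
    rcases mem_sp2.1 e2 with e3 | e3 | e3 | e3 <;> rw [e3] at ne'
    · simp at ne'
    · rw [pc un] at ne'; exact zero_ne_one ne'
    · rw [pc p3] at ne'; exact zero_ne_one ne'
    · rw [pr, pc un, pc p3, add_zero] at ne'; exact zero_ne_one ne'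
  have le1 : Submodule.span (ZMod 2) {u, u'} ⊔ Submodule.span (ZMod 2) {e} ≤
      (ofQuad q).perp (Submodule.span (ZMod 2) {e}) := sup_le (Submodule.span_le.2 (by
        rintro _ (rfl | rfl)
        · exact (Form.mem_perp_singleton _).2 (pc ue)
        · exact (Form.mem_perp_singleton _).2 (pc p1)))
      ((Submodule.span_singleton_le_iff_mem _ _).2 ((Form.mem_perp_singleton _).2 (pp e)))
  have g3 := fr_sup_sp' (v := n) fun e2 => by
    have := (Form.mem_perp_singleton _).1 (le1 e2)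
    rw [pc ne'] at this
    exact one_ne_zero this
  have le2 : Submodule.span (ZMod 2) {u, u'} ⊔ Submodule.span (ZMod 2) {e} ⊔
      Submodule.span (ZMod 2) {n} ≤ (ofQuad q).perp L := sup_le (sup_le (Submodule.span_le.2 (by
        rintro _ (rfl | rfl)
        · exact fun a ha => pc (((l1 a).1 ha).2 _ (by simp))
        · exact fun a ha => pc (h.perpP su ((l1 a).1 ha).1)))
      ((Submodule.span_singleton_le_iff_mem _ _).2 p2))
      ((Submodule.span_singleton_le_iff_mem _ _).2 p4)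
  have g4 := Submodule.finrank_mono le2
  have g5 := fr_perp h.nondeg L
  omega

theorem adj_add (hv : v ∈ S) (hu : u ∈ S) (he : u ∈ E v) (hne : u ≠ v) :
    (∃ g ∈ H, g.1 u = u + v) ∧ E (u + v) = E u := by
  obtain ⟨y, hy, e⟩ := h.toVD.shift hv he (h.ne0 u hu) hne
  obtain ⟨s, hs, es⟩ := h.exP v hv y hy
  have hy' := h.le v hv hy
  have m := h.symm u hu v hv he
  have k : ∀ x ∈ E u, y.1 x ∈ E u := fun x hx => by
    rw [es.ap0 (h.toVD.perpE hu m hx)]
    exact add_mem hx (Submodule.smul_mem _ _ m)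
  refine ⟨⟨y, hy', e⟩, ?_⟩
  ext x
  rw [← e, ← g_sq (h.sq v hv y hy) x, h.eqE y hy' u hu]
  exact ⟨k _, fun hx => by simpa [g_sq (h.sq v hv y hy)] using k _ hx⟩

theorem adj (hv : v ∈ S) (hu : u ∈ S) (h3 : finrank (ZMod 2) (E v) = 3)
    (h3' : finrank (ZMod 2) (E u) = 3) (he : u ∈ E v) : E u = E v := by
  by_cases e : u = v
  · rw [e]
  rw [← (h.adj_add hv hu he e).2, add_comm, (h.adj_add hu hv (h.symm u hu v hv he) (Ne.symm e)).2]

theorem memE_of_perp (hv : v ∈ S) (h3 : finrank (ZMod 2) (E v) = 3) {x : V}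
    (hx : ∀ e ∈ E v, pol q e x = 0) : x ∈ E v :=
  perp_self h.nondeg (fun a ha b hb => h.toVD.perpE hv ha hb) (by rw [h.dim, h3]) hx

theorem claimA (hu : u ∈ S) (hv : v ∈ S) (h3 : finrank (ZMod 2) (E v) = 3) (huv : pol q u v = 0)
    {m : V} (hm : m ∈ P u) (h1 : q m = 1) (h2 : pol q m v = 0) : u ∈ E v := by
  refine h.memE_of_perp hv h3 fun e he => z2ne' fun e1 => ?_
  obtain ⟨y, hy, ey⟩ := h.exT hu hm
  have := (h.eqE y hy v hv e).2 he
  rw [ey.fix huv h2, ey.ap1 (pc e1), add_assoc] at this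
  have := h.ts v hv _ (mem_r this he)
  rw [quad_add, qs, psr, h.qS hu, pc (h.perpP hu hm), h1] at this
  simp at this

theorem not_aniso (hv : v ∈ S) (h3 : finrank (ZMod 2) (E v) = 3)
    (ha : ∀ s ∈ P v, q s = 0 → s = 0 ∨ s = v) : False := by
  have k : ∀ u u', Ob H v u → Ob H v u' → pol q u u' = 0 → u ∈ E u' := fun u u' hu hu' e => by
    have su := h.obS hv hu
    have f := h.finrank_P su
    rw [h.obE hv hu] at f
    obtain ⟨m, hm, m0, m1, m2⟩ := exists_perp1 (q := q) (P u) u [u'] (by simp; omega)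
    refine h.claimA su (h.obS hv hu') ((h.obE hv hu').trans h3) e hm (z2ne fun e1 => ?_)
      (pc (m2 u' (by simp)))
    obtain ⟨g, hg, rfl⟩ := hu
    rcases ha ((g⁻¹).1 m) ((h.eqP g hg v hv _).1 (by rwa [Form.Isom.apply_inv_apply]))
      (by rw [g_q, e1]) with e2 | e2
    · exact g_ne _ m0 e2
    · exact m1 ((Form.Isom.inv_apply_eq g).1 e2).symm
  by_cases hc : ∃ u u', Ob H v u ∧ Ob H v u' ∧ pol q u u' = 0 ∧ u ≠ u'
  · obtain ⟨u, u', hu, hu', e, hne⟩ := hc
    have su := h.obS hv hu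
    have su' := h.obS hv hu'
    have m := k u u' hu hu' e
    obtain ⟨⟨g, hg, eg⟩, e1⟩ := h.adj_add su' su m hne
    have e2 := h.adj su' su ((h.obE hv hu').trans h3) ((h.obE hv hu).trans h3) m
    refine h.ne0 u su (h.ob_span hv fun x hx => h.toVD.perpE su ?_ (h.memE u su))
    rcases z2 (pol q x u) with e3 | e3
    · exact k x u hx hu e3
    rcases z2 (pol q x u') with e4 | e4
    · rw [e2]; exact k x u' hx hu' e4
    · rw [← e1]; exact k x _ hx (eg ▸ hu.act hg) (by rw [pr, e3, e4, z11])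
  push Not at hc
  obtain ⟨x, hx, hxv⟩ := h.ob_opp hv (h.ne0 v hv)
  have f1 := h.finrank_P hv
  have f2 := fr_perp h.nondeg (P v)
  have f3 := h.dim
  obtain ⟨n, hn, n0, n1⟩ := exists_perp0 (q := q) ((ofQuad q).perp (P v)) [x] (by simp; omega)
  refine n0 (h.ob_span hv fun u hu => ?_)
  rcases z2 (pol q u v) with e | e
  · rw [hc u v hu Ob.refl₄ e]; exact hn v (h.selfP hv)
  obtain ⟨p, hp, e', he', e1⟩ := Submodule.mem_sup.1
    (h.sup v hv (x + u) (by rw [pr, pc hxv, pc e, z11]))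
  obtain ⟨y, hy, ey⟩ := h.exT hv hp
  have o := hx.act hy
  have e2 : u + y.1 x = e' + (pol q p x + q p) • v := by
    rw [ey.ap1 (pc hxv)]
    linear_combination (norm := (match_scalars <;> grind)) e1
  have e3 := h.ts v hv _ (add_mem he' (Submodule.smul_mem _ (pol q p x + q p) (h.memE v hv)))
  rw [← e2, quad_add, h.qS (h.obS hv hu), h.qS (h.obS hv o), add_zero, zero_add] at e3
  rw [hc u _ hu o e3, ey.ap1 (pc hxv), pl, pl, psl, n1 x (by simp), show pol q p n = 0 from hn p hp,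
    show pol q v n = 0 from hn v (h.selfP hv)]
  simp

theorem ts_of_iso (hv : v ∈ S) (h3 : finrank (ZMod 2) (E v) = 3)
    (ha : ∀ s ∈ P v, ∀ s' ∈ P v, pol q s s' = 0) : TS q (P v) := by
  intro n hn
  refine z2ne' fun qn => ?_
  obtain ⟨g, hg, e⟩ := h.exists_opp hv
  have ow : Ob H v (g.1 v) := ⟨g, hg, rfl⟩
  have gn := (h.eqP g hg v hv n).2 hn
  have qg := (g_q g n).trans qn
  generalize g.1 v = x at e ow gn
  generalize g.1 n = m at gn qg
  have sx := h.obS hv ow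
  have f1 := h.finrank_P hv
  obtain ⟨K, k1, k2⟩ := exists_sub_perp (q := q) (P v) [x]
  simp only [List.length_singleton] at k2
  obtain ⟨a, ha', a0, -⟩ := exists_perp0 (q := q) K [] (by simp; omega)
  obtain ⟨b, hb, b0, b1, -⟩ := exists_perp1 (q := q) K a [] (by simp; omega)
  obtain ⟨s, hs, s0, qs⟩ := exists_sing₄ ha' hb a0 b0 b1 (ha a ((k1 a).1 ha').1 b ((k1 b).1 hb).1)
  obtain ⟨s1, s2⟩ := (k1 s).1 hs
  have s2 := s2 x (by simp)
  have o := h.ob_add hv hv ow s1 e (pc s2) qs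
  by_cases hc : ∀ a ∈ P x, pol q s a = 0
  · have := h.claimA sx (h.obS hv o) ((h.obE hv o).trans h3) (by rw [pr, pp, s2, add_zero]) gn qg
      (by rw [pr, pc (h.perpP sx gn), pc (hc m gn), add_zero])
    have m1 := mem_r (h.symm x sx _ (h.obS hv o) this) (h.memE x sx)
    rcases h.perp_PE sx hc fun e' he' => h.toVD.perpE sx m1 he' with e1 | e1
    · exact s0 e1
    · rw [← e1, h.perpP hv s1] at e; exact zero_ne_one e
  push Not at hc
  obtain ⟨c, hc, e1⟩ := hc
  obtain ⟨y, hy, ey⟩ := h.exT sx hc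
  have o2 := o.act hy
  rw [ey.ap01 (by rw [pr, pp, s2, add_zero]) (by
    rw [pr, pc (h.perpP sx hc), pc (z2ne e1), zero_add]), vv3] at o2
  have := h.claimA hv (h.obS hv o2) ((h.obE hv o2).trans h3) (h.perpP hv s1) hn qn (ha n hn s s1)
  rcases h.mem_PE hv s1 (h.symm v hv s (h.obS hv o2) this) with e2 | e2
  · exact s0 e2
  · rw [e2, pc e] at s2; exact one_ne_zero s2

end W3

end XS
end H6
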