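import Mathlib
import Cfsg.Agent.H6.XV4

/-! Width three, irreducible case, II -/

set_option autoImplicit false
set_option linter.unusedSectionVars false
set_option linter.unusedVariables false
set_option linter.unusedSimpArgs false

namespace H6
namespace XS

open Subgroup H24 H15 H15.XP Module H28.XL
open scoped commutatorElement

attribute [-simp] ofQuad_B

variable {V : Type*} [AddCommGroup V] [Module (ZMod 2) V] [Finite V] {q : QuadraticForm (ZMod 2) V}
  {H : Subgroup (ofQuad q).Isom} {S : Set V} {E : V → Submodule (ZMod 2) V}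
  {R : V → Subgroup (ofQuad q).Isom} {w : ℕ} {P : V → Submodule (ZMod 2) V} {u v : V}

/-- a three-dimensional space spanned by a hyperbolic pair and a radical vector -/
theorem span3₅ {X : Submodule (ZMod 2) V} (d : finrank (ZMod 2) X = 3) {f f' x : V} (hu : u ∈ X)
    (hf : f ∈ X) (hf' : f' ∈ X) (u0 : u ≠ 0) (h1 : pol q f f' = 1) (h2 : pol q u f = 0)
    (h3 : pol q u f' = 0) (hx : x ∈ X) :
    (x = 0 ∨ x = f ∨ x = f' ∨ x = f + f') ∨
      (x + u = 0 ∨ x + u = f ∨ x + u = f' ∨ x + u = f + f') := by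
  have f0 : f ≠ 0 := by rintro rfl; simp at h1
  have f0' : f' ≠ 0 := by rintro rfl; simp at h1
  have ff : f' ≠ f := by rintro rfl; rw [pp] at h1; exact zero_ne_one h1
  have n : u ∉ Submodule.span (ZMod 2) {f, f'} := fun e => by
    rcases mem_sp2.1 e with e | e | e | e
    · exact u0 e
    · rw [e, h1] at h3; exact one_ne_zero h3
    · rw [e, pc h1] at h2; exact one_ne_zero h2
    · rw [e, pl, h1, pp, add_zero] at h3; exact one_ne_zero h3
  have e : Submodule.span (ZMod 2) {f, f'} ⊔ Submodule.span (ZMod 2) {u} = X :=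
    eq_of_fr (sup_le (Submodule.span_le.2 (by
      rintro _ (rfl | rfl)
      · exact hf
      · exact hf')) ((Submodule.span_singleton_le_iff_mem _ _).2 hu))
      (by rw [fr_sup_sp' n, fr_sp2_eq₄ f0 f0' ff, d])
  rwa [← e, mem_sup_sp, mem_sp2, mem_sp2] at hx

variable (q) in
/-- `P u / u` is a hyperbolic plane -/
def Hy (S : Set V) (E P : V → Submodule (ZMod 2) V) (u : V) : Prop :=
  u ∈ S ∧ finrank (ZMod 2) (E u) = 3 ∧ ∃ s ∈ P u, ∃ s' ∈ P u, q s = 0 ∧ q s' = 0 ∧ pol q s s' = 1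

variable (q) in
/-- nonsingular vectors perpendicular to `P u` -/
def Nu (P : V → Submodule (ZMod 2) V) (u ν : V) : Prop := q ν = 1 ∧ ∀ p ∈ P u, pol q p ν = 0

namespace W3

variable (h : W3 H S E R P) {x ν ν' : V} {g : (ofQuad q).Isom}
include h

theorem hy_act (hu : Hy q S E P u) (hg : g ∈ H) : Hy q S E P (g.1 u) := by
  obtain ⟨h1, h2, s, hs, s', hs', a, b, c⟩ := hu
  exact ⟨h.inv g hg u h1, (fr_map₄ g (h.eqE g hg u h1)).trans h2, _, (h.eqP g hg u h1 s).2 hs, _,
    (h.eqP g hg u h1 s').2 hs', by rw [g_q, a], by rw [g_q, b], by rw [g_pol, c]⟩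

theorem hy_dim (hu : Hy q S E P u) : finrank (ZMod 2) (P u) = 3 := by
  have := h.finrank_P hu.1
  have := hu.2.1
  omega

theorem hy_adj (hu : Hy q S E P u) (hx : pol q u x = 1) :
    ∃ s ∈ P u, ∃ s' ∈ P u, q s = 0 ∧ q s' = 0 ∧ pol q s s' = 1 ∧ pol q x s = 0 ∧ pol q x s' = 0 ∧
      ∀ p ∈ P u, pol q x p = 0 → p = 0 ∨ p = s ∨ p = s' ∨ p = s + s' := by
  have d := h.hy_dim hu
  obtain ⟨h1, h2, s, hs, s', hs', a, b, c⟩ := hu
  have m := h.selfP h1
  have p1 := h.perpP h1 hs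
  have p2 := h.perpP h1 hs'
  have m1 := add_mem hs (Submodule.smul_mem _ (pol q x s) m)
  have m2 := add_mem hs' (Submodule.smul_mem _ (pol q x s') m)
  have e1 : pol q x (s + pol q x s • u) = 0 := by rw [pr, psr, pc hx, mul_one, z2add]
  have e2 : pol q x (s' + pol q x s' • u) = 0 := by rw [pr, psr, pc hx, mul_one, z2add]
  have e3 : pol q (s + pol q x s • u) (s' + pol q x s' • u) = 1 := by
    simp [pl, pr, psl, psr, pp, c, p2, pc p1]
  refine ⟨_, m1, _, m2, by simp [quad_add, qs, psr, a, h.qS h1, pc p1],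
    by simp [quad_add, qs, psr, b, h.qS h1, pc p2], e3, e1, e2, fun p hp e => ?_⟩
  refine (span3₅ d m m1 m2 (h.ne0 u h1) e3 (h.perpP h1 m1) (h.perpP h1 m2) hp).resolve_right
    fun e4 => ?_
  have e5 : pol q x (p + u) = 1 := by rw [pr, e, pc hx, zero_add]
  rcases e4 with e4 | e4 | e4 | e4 <;> rw [e4] at e5
  · simp at e5
  · rw [e1] at e5; exact zero_ne_one e5
  · rw [e2] at e5; exact zero_ne_one e5
  · rw [pr, e1, e2, add_zero] at e5; exact zero_ne_one e5

theorem nu_ex (hu : Hy q S E P u) :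
    ∃ ν, Nu q P u ν ∧ ∀ ν', Nu q P u ν' → ν' = ν ∨ ν' = ν + u := by
  have d := h.hy_dim hu
  obtain ⟨h1, h2, s, hs, s', hs', a, b, c⟩ := hu
  have m := h.selfP h1
  have ex : ∀ t ∈ P u, ∀ t' ∈ P u, pol q t t' = 1 → ∃ e ∈ E u, pol q e t = 1 ∧ pol q e t' = 0 :=
    fun t ht t' ht' c => by
      have : t ∉ E u ⊔ Submodule.span (ZMod 2) {t'} := fun e => by
        rcases mem_sup_sp.1 e with e | e
        · rcases h.mem_PE h1 ht e with e | e <;> rw [e] at c
          · simp at c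
          · rw [h.perpP h1 ht'] at c; exact zero_ne_one c
        · rcases h.mem_PE h1 (add_mem ht ht') e with e | e
          · rw [veq.1 e, pp] at c; exact zero_ne_one c
          · rw [veq'.1 e, pl, pp, h.perpP h1 ht', add_zero] at c; exact zero_ne_one c
      obtain ⟨e, e1, e2⟩ := sep h.nondeg this
      exact ⟨e, h.memE_of_perp h1 h2 fun x hx => e1 x (Submodule.mem_sup_left hx), pc e2,
        pc (e1 t' (Submodule.mem_sup_right (mem_sp.2 (Or.inr rfl))))⟩
  obtain ⟨e, he, e1, e2⟩ := ex s hs s' hs' c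
  obtain ⟨e', he', e1', e2'⟩ := ex s' hs' s hs (pc c)
  have ee := h.toVD.perpE h1 he he'
  have ue := h.toVD.perpE h1 (h.memE u h1) he
  have ue' := h.toVD.perpE h1 (h.memE u h1) he'
  have p1 := h.perpP h1 hs
  have p2 := h.perpP h1 hs'
  have k : ∀ z, pol q u z = 0 → pol q s z = 0 → pol q s' z = 0 → z ∈ (ofQuad q).perp (P u) :=
    fun z z1 z2 z3 p hp => by
      change pol q p z = 0
      rcases span3₅ d m hs hs' (h.ne0 u h1) c p1 p2 hp with (e | e | e | e) | (e | e | e | e)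
      all_goals first | rw [e] | rw [veq'.1 e]
      all_goals simp [pl, z1, z2, z3]
  have m1 := k (e + s') (by rw [pr, ue, p2, add_zero]) (by rw [pr, pc e1, c, z11])
    (by rw [pr, pc e2, pp, add_zero])
  have m2 := k (e' + s) (by rw [pr, ue', p1, add_zero]) (by rw [pr, pc e2', pp, add_zero])
    (by rw [pr, pc e1', pc c, z11])
  have q1 : q (e + s') = 0 := by rw [quad_add, h.ts u h1 e he, b, e2]; simp
  have q2 : q (e' + s) = 0 := by rw [quad_add, h.ts u h1 e' he', a, e2']; simp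
  have q3 : pol q (e + s') (e' + s) = 1 := by
    rw [pl, pr, pr, ee, e1, pc e1', pc c]; decide
  have f1 := fr_perp h.nondeg (P u)
  have f2 := h.dim
  generalize e + s' = f at m1 q1 q3
  generalize e' + s = f' at m2 q2 q3
  refine ⟨f + f', ⟨by rw [quad_add, q1, q2, q3]; simp, add_mem m1 m2⟩, fun ν' hν => ?_⟩
  have q4 : q (ν' + u) = 1 := by
    rw [quad_add, hν.1, h.qS h1, pc (hν.2 u m)]; simp
  have q5 := hν.1
  rcases span3₅ (X := (ofQuad q).perp (P u)) (by omega) (fun p hp => pc (h.perpP h1 hp)) m1 m2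
    (h.ne0 u h1) q3 (m1 u m) (m2 u m) hν.2 with (e | e | e | e) | (e | e | e | e)
  · rw [e] at q5; simp at q5
  · rw [e, q1] at q5; exact absurd q5 zero_ne_one
  · rw [e, q2] at q5; exact absurd q5 zero_ne_one
  · exact Or.inl e
  · rw [e] at q4; simp at q4
  · rw [e, q1] at q4; exact absurd q4 zero_ne_one
  · rw [e, q2] at q4; exact absurd q4 zero_ne_one
  · exact Or.inr (veq'.1 e)

theorem nu_two (hu : Hy q S E P u) (h1 : Nu q P u ν) (h2 : Nu q P u ν') : ν' = ν ∨ ν' = ν + u := by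
  obtain ⟨ν0, -, k⟩ := h.nu_ex hu
  rcases k ν h1 with e | e <;> rcases k ν' h2 with e' | e'
  · left; rw [e, e']
  · right; rw [e, e']
  · right; rw [e, e', vv2]
  · left; rw [e, e']

theorem one₅ (hv : Hy q S E P v) (hx : Hy q S E P x) (hvx : pol q v x = 1) {s t t' : V}
    (hs : s ∈ P v) (q0 : q s = 0) (xs : pol q x s = 0) (ht : t ∈ P x) (ht' : t' ∈ P x)
    (q1 : q t = 0) (q2 : q t' = 0) (tt : pol q t t' = 1) (vt : pol q v t = 0)
    (vt' : pol q v t' = 0) : s ∈ P x ∨ (pol q s (t + t') = 0 ∧ s ∈ E x) := by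
  obtain ⟨y, hy, ey⟩ := h.exT hv.1 hs
  have e1 : y.1 x = x + s := by rw [ey.ap1 hvx, pc xs, q0]; simp
  have hx' := h.hy_act hx hy
  rw [e1] at hx'
  have k : ∀ a ∈ P x, ∀ c ∈ P x, q a = 0 → pol q a c = 1 → pol q v a = 0 → pol q v c = 0 →
      pol q s a = 0 → pol q s c = 1 → s ∈ P x := fun a ha c hc qa ac va vc sa sc => by
    obtain ⟨z, hz, ez⟩ := h.exT hx.1 ha
    have m1 := (h.eqP y hy x hx.1 a).2 ha
    have m2 := (h.eqP y hy x hx.1 c).2 hc
    rw [e1, ey.fix va sa] at m1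
    rw [e1, ey.ap01 vc sc] at m2
    have m3 := (h.eqP z hz _ hx'.1 _).2 m2
    rw [ez.fix (by rw [pr, pp, xs, add_zero]) (by rw [pr, pc (h.perpP hx.1 ha), pc sa, add_zero]),
      ez.ap1 (by rw [pr, h.perpP hx.1 hc, pc hvx, zero_add]), pr, ac, pc va, qa, add_zero, add_zero,
      one_smul] at m3
    have m4 := mem_r (h.selfP hx'.1) (mem_r m3 (add_mem m2 m1))
    rwa [← e1, ← ey.fix (h.perpP hv.1 hs) (pp s), h.eqP y hy x hx.1] at m4
  rcases z2 (pol q s (t + t')) with e | e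
  · right
    have := h.claimA hx.1 hx'.1 hx'.2.1 (by rw [pr, pp, xs, add_zero]) (add_mem ht ht')
      (by rw [quad_add, q1, q2, tt]; simp)
      (by rw [pr, pc e, pc (h.perpP hx.1 (add_mem ht ht')), add_zero])
    exact ⟨e, mem_r (h.symm x hx.1 _ hx'.1 this) (h.memE x hx.1)⟩
  · left
    rw [pr] at e
    rcases z2 (pol q s t) with e2 | e2
    · exact k t ht t' ht' q1 tt vt vt' e2 (by rwa [e2, zero_add] at e)
    · exact k t' ht' t ht q2 (pc tt) vt' vt (by grind) e2

theorem common (hv : Hy q S E P v) (hx : Hy q S E P x) (hvx : pol q v x = 1) :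
    ∃ ν, Nu q P v ν ∧ Nu q P x ν := by
  have red : ∀ {a b ν s s'}, Hy q S E P a → pol q a b = 1 →
      (∀ p ∈ P a, pol q b p = 0 → p = 0 ∨ p = s ∨ p = s' ∨ p = s + s') → pol q a ν = 0 →
      pol q s ν = 0 → pol q s' ν = 0 → ∀ p ∈ P a, pol q p ν = 0 :=
    fun {a b ν s s'} ha hab k z1 z2 z3 p hp => by
      have := k _ (add_mem hp (Submodule.smul_mem _ (pol q b p) (h.selfP ha.1)))
        (by rw [pr, psr, pc hab, mul_one, z2add])
      rcases this with e | e | e | e <;> rw [veq'.1 e] <;> simp [pl, psl, z1, z2, z3]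
  -- the case of a common plane
  have same : ∀ {s s'}, s ∈ P v → s' ∈ P v → pol q s s' = 1 → pol q x s = 0 → pol q x s' = 0 →
      s ∈ P x → s' ∈ P x → ∃ ν, Nu q P v ν ∧ Nu q P x ν := fun {s s'} hs hs' c xs xs' m m' => by
    obtain ⟨ν, hν, -⟩ := h.nu_ex hv
    have vν := hν.2 v (h.selfP hv.1)
    have n1 : Nu q P v (ν + pol q x ν • v) :=
      ⟨by simp [quad_add, qs, psr, hν.1, h.qS hv.1, pc vν], fun p hp => by
        simp [pr, psr, hν.2 p hp, pc (h.perpP hv.1 hp)]⟩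
    refine ⟨_, n1, n1.1, fun p hp => ?_⟩
    have z1 : pol q x (ν + pol q x ν • v) = 0 := by rw [pr, psr, pc hvx, mul_one, z2add]
    have z2 := n1.2 s hs
    have z3 := n1.2 s' hs'
    generalize ν + pol q x ν • v = μ at z1 z2 z3
    rcases span3₅ (h.hy_dim hx) (h.selfP hx.1) m m' (h.ne0 x hx.1) c xs xs' hp with
      (e | e | e | e) | (e | e | e | e)
    all_goals first | rw [e] | rw [veq'.1 e]
    all_goals simp [pl, z1, z2, z3]
  have half : ∀ {s s' t t'}, s ∈ P v → s' ∈ P v → q s = 0 → q s' = 0 → pol q s s' = 1 →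
      pol q x s = 0 → pol q x s' = 0 →
      (∀ p ∈ P v, pol q x p = 0 → p = 0 ∨ p = s ∨ p = s' ∨ p = s + s') →
      s ∈ P x → t' ∈ P x → q t' = 0 → pol q s t' = 1 → pol q v t' = 0 →
      (∀ p ∈ P x, pol q v p = 0 → p = 0 ∨ p = s ∨ p = t' ∨ p = s + t') →
      pol q s' (s + t') = 0 → t = s → ∃ ν, Nu q P v ν ∧ Nu q P x ν :=
    fun {s s' t t'} hs hs' a b c xs xs' kv ms ht' q2 st vt' kx e _ => by
      rcases h.one₅ hx hv (pc hvx) ht' q2 vt' hs hs' a b c xs xs' with m | m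
      · exact same hs m st xs (h.perpP hx.1 ht') ms ht'
      · have e1 : pol q s' t' = 1 := by rw [pr, pc c] at e; exact (z2eq e).symm
        have q3 : q (s + s' + t') = 1 := by rw [quad_add, quad_add, a, b, c, q2, pc m.1]; simp
        have z1 : pol q s (s + s' + t') = 0 := by rw [pr, pr, pp, c, st, zero_add, z11]
        exact ⟨s + s' + t', ⟨q3, red hv hvx kv
          (by rw [pr, pr, h.perpP hv.1 hs, h.perpP hv.1 hs', vt']; simp) z1
          (by rw [pr, pr, pp, pc c, e1, add_zero, z11])⟩, q3, red hx (pc hvx) kx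
          (by rw [pr, pr, xs, xs', h.perpP hx.1 ht']; simp) z1
          (by rw [pr, m.1, pp, add_zero])⟩
  obtain ⟨t, ht, t', ht', q1, q2, tt, vt, vt', kx⟩ := h.hy_adj hx (pc hvx)
  have half2 : ∀ {s s'}, s ∈ P v → s' ∈ P v → q s = 0 → q s' = 0 → pol q s s' = 1 →
      pol q x s = 0 → pol q x s' = 0 →
      (∀ p ∈ P v, pol q x p = 0 → p = 0 ∨ p = s ∨ p = s' ∨ p = s + s') →
      s ∈ P x → pol q s' (t + t') = 0 → ∃ ν, Nu q P v ν ∧ Nu q P x ν :=
    fun {s s'} hs hs' a b c xs xs' kv ms e => by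
      rcases kx s ms (h.perpP hv.1 hs) with e1 | e1 | e1 | e1
      · rw [e1] at c; simp at c
      · subst e1
        exact half hs hs' a b c xs xs' kv ms ht' q2 tt vt' kx e rfl
      · subst e1
        exact half hs hs' a b c xs xs' kv ms ht q1 (pc tt) vt
          (fun p hp e => by rw [add_comm]; have := kx p hp e; tauto) (by rwa [add_comm]) rfl
      · rw [e1, quad_add, q1, q2, tt] at a; simp at a
  obtain ⟨s, hs, s', hs', a, b, c, xs, xs', kv⟩ := h.hy_adj hv hvx
  rcases h.one₅ hv hx hvx hs a xs ht ht' q1 q2 tt vt vt' with m | m <;>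
    rcases h.one₅ hv hx hvx hs' b xs' ht ht' q1 q2 tt vt vt' with m' | m'
  · exact same hs hs' c xs xs' m m'
  · exact half2 hs hs' a b c xs xs' kv m m'.1
  · exact half2 hs' hs b a (pc c) xs' xs
      (fun p hp e => by rw [add_comm]; have := kv p hp e; tauto) m' m.1
  · rw [h.toVD.perpE hx.1 m.2 m'.2] at c
    exact absurd c zero_ne_one

theorem two₅ (hv : Hy q S E P v) (hx : Hy q S E P x) (hvx : pol q v x = 1) (n1 : Nu q P v ν)
    (n2 : Nu q P x ν) (hu : Hy q S E P u) (hvu : pol q v u = 1) : Nu q P u ν := by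
  obtain ⟨ν', m1, m2⟩ := h.common hv hu hvu
  rcases h.nu_two hv n1 m1 with e | e
  · rwa [← e]
  exfalso
  subst e
  have k : ∀ a ∈ P v, pol q x a = 0 → pol q u (x + a + q a • v) = 0 := fun a ha xa => by
    obtain ⟨y, hy, ey⟩ := h.exT hv.1 ha
    have e1 : y.1 x = x + a + q a • v := by rw [ey.ap1 hvx, pc xa, zero_add]
    have h1 := h.hy_act hx hy
    have n3 : Nu q P (y.1 x) ν := ⟨n2.1, fun p hp => by
      rw [← ey.fix (n1.2 v (h.selfP hv.1)) (n1.2 a ha), g_pol_r]
      refine n2.2 _ ((h.eqP y hy x hx.1 _).1 ?_)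
      rwa [Form.Isom.apply_inv_apply]⟩
    have v1 : pol q v (y.1 x) = 1 := by
      rw [e1, pr, pr, psr, pp, hvx, h.perpP hv.1 ha]; simp
    rw [← e1]
    generalize y.1 x = x1 at h1 n3 v1
    refine z2ne' fun e2 => ?_
    obtain ⟨μ, r1, r2⟩ := h.common hu h1 e2
    rcases h.nu_two hu m2 r1 with e3 | e3 <;> rcases h.nu_two h1 n3 r2 with e4 | e4 <;>
      rw [e4] at e3
    · exact h.ne0 v hv.1 (by simpa using e3)
    · rw [add_right_inj] at e3
      rw [e3, pp] at v1; exact zero_ne_one v1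
    · rw [add_assoc, left_eq_add, veq] at e3
      rw [e3, pp] at hvu; exact zero_ne_one hvu
    · rw [add_assoc, add_right_inj] at e3
      have := h.qS h1.1
      rw [e3, quad_add, h.qS hv.1, h.qS hu.1, hvu] at this
      simp at this
  obtain ⟨s, hs, s', hs', a, b, c, xs, xs', -⟩ := h.hy_adj hv hvx
  have k0 := k 0 (zero_mem _) (by simp)
  have k1 := k s hs xs
  have k2 := k s' hs' xs'
  have k3 := k _ (add_mem hs hs') (by rw [pr, xs, xs', add_zero])
  simp only [pr, psr, quad_add, a, b, c, pc hvu, map_zero, p0r] at k0 k1 k2 k3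
  grind

end W3

theorem W3.not_hyp (h : W3 H S E R P) (hv : v ∈ S) (h3 : finrank (ZMod 2) (E v) = 3) {s s' : V}
    (hs : s ∈ P v) (hs' : s' ∈ P v) (h0 : q s = 0) (h0' : q s' = 0) (h1 : pol q s s' = 1) :
    False := by
  have hy : Hy q S E P v := ⟨hv, h3, s, hs, s', hs', h0, h0', h1⟩
  have ob : ∀ u, Ob H v u → Hy q S E P u := by
    rintro _ ⟨g, hg, rfl⟩
    exact h.hy_act hy hg
  obtain ⟨x, ox, e⟩ := h.ob_opp hv (h.ne0 v hv)
  have hx := ob x ox
  obtain ⟨ν, n1, n2⟩ := h.common hy hx (pc e)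
  obtain ⟨t, ht, t', ht', a, b, c, xt, xt', kv⟩ := h.hy_adj hy (pc e)
  have opp : ∀ {a b u}, Hy q S E P a → Hy q S E P b → pol q a b = 1 → Nu q P a ν → Nu q P b ν →
      Hy q S E P u → pol q a u = 1 → pol q u ν = 0 := fun ha hb hab m1 m2 hu hau =>
    (h.two₅ ha hb hab m1 m2 hu hau).2 _ (h.selfP hu.1)
  have sh : ∀ r ∈ P v, q r = 0 → pol q x r = 0 → ∀ u, Hy q S E P u → pol q x u = 0 →
      pol q r u = 1 → pol q u ν = 0 := fun r hr qr xr u hu xu ru => by
    have o := ob _ (h.ob_add hv hv ox hr (pc e) (pc xr) qr)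
    have e1 : pol q v (x + r) = 1 := by rw [pr, pc e, h.perpP hv hr, add_zero]
    exact opp o hy (pc e1) (h.two₅ hy hx (pc e) n1 n2 o e1) n1 hu (by rw [pl, xu, ru, zero_add])
  have n0 : ν ≠ 0 := by
    rintro rfl
    have := n1.1
    simp at this
  refine n0 (h.ob_span hv fun u ou => ?_)
  have hu := ob u ou
  rcases z2 (pol q v u) with e1 | e1
  swap
  · exact opp hy hx (pc e) n1 n2 hu e1
  rcases z2 (pol q x u) with e2 | e2
  swap
  · exact opp hx hy e n2 n1 hu e2
  rcases z2 (pol q t u) with e3 | e3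
  swap
  · exact sh t ht a xt u hu e2 e3
  rcases z2 (pol q t' u) with e4 | e4
  swap
  · exact sh t' ht' b xt' u hu e2 e4
  by_cases hc : ∀ m ∈ P u, pol q m v = 0
  · obtain ⟨-, -, r, hr, r', hr', q1, q2, q3⟩ := id hu
    have m := h.claimA hu.1 hv h3 (pc e1) (add_mem hr hr') (by rw [quad_add, q1, q2, q3]; simp)
      (hc _ (add_mem hr hr'))
    rcases h.perp_PE hv (s := u) (fun p hp => by
      have := kv _ (add_mem hp (Submodule.smul_mem _ (pol q x p) (h.selfP hv)))
        (by rw [pr, psr, e, mul_one, z2add])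
      rcases this with e | e | e | e <;> rw [veq'.1 e] <;> simp [pr, psr, pc e1, pc e3, pc e4])
      (fun e' he' => h.toVD.perpE hv m he') with e5 | e5
    · exact absurd e5 (h.ne0 u hu.1)
    · rw [e5]; exact n1.2 v (h.selfP hv)
  · push Not at hc
    obtain ⟨m, hm, e5⟩ := hc
    obtain ⟨y, hy', ey⟩ := h.exT hu.1 hm
    have o := h.hy_act hy hy'
    rw [ey.ap01 (pc e1) (z2ne e5)] at o
    have := opp hx hy e n2 n1 o (by rw [pr, e, e2, add_zero])
    rwa [pl, n1.2 v (h.selfP hv), zero_add] at this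

end XS
end H6
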