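import Mathlib
import Cfsg.Agent.H6.XV5

/-! Width three, irreducible case, III -/

set_option autoImplicit false
set_option linter.unusedSectionVars false
set_option linter.unusedVariables false
set_option linter.unusedSimpArgs false

namespace H6
namespace XS

open Subgroup H24 H15 H15.XP Module H28.XL
open scoped commutatorElement

attribute [-simp] ofQuad_B

variable {V : Type*} [AddCommGroup V] [Module (ZMod 2) V] [Finite V] {q : QuadraticForm (ZMod 2) V}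
  {H : Subgroup (ofQuad q).Isom} {S : Set V} {E : V → Submodule (ZMod 2) V}
  {R : V → Subgroup (ofQuad q).Isom} {w : ℕ} {P : V → Submodule (ZMod 2) V}

variable (q) in
/-- `⟨v⟩ + P x ∩ v^⊥` -/
def AA₆ (P : V → Submodule (ZMod 2) V) (v x : V) : Submodule (ZMod 2) V :=
  P x ⊓ (ofQuad q).perp (Submodule.span (ZMod 2) {v}) ⊔ Submodule.span (ZMod 2) {v}

theorem mem_AA₆ {v x a : V} : a ∈ AA₆ q P v x ↔
    ∃ t ∈ P x, pol q v t = 0 ∧ (a = t ∨ a = t + v) := by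
  rw [AA₆, mem_sup_sp]
  constructor
  · rintro (h | h)
    · exact ⟨a, h.1, (Form.mem_perp_singleton _).1 h.2, Or.inl rfl⟩
    · exact ⟨_, h.1, (Form.mem_perp_singleton _).1 h.2, Or.inr (vv2 _ _).symm⟩
  · rintro ⟨t, h1, h2, rfl | rfl⟩
    · exact Or.inl ⟨h1, (Form.mem_perp_singleton _).2 h2⟩
    · right; rw [vv2]; exact ⟨h1, (Form.mem_perp_singleton _).2 h2⟩

theorem union₆ {A A' X : Submodule (ZMod 2) V} (g : (ofQuad q).Isom)
    (h : ∀ x ∈ X, g.1 x ∈ A ∨ g.1 x ∈ A') : (∀ x ∈ X, g.1 x ∈ A) ∨ ∀ x ∈ X, g.1 x ∈ A' := by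
  by_contra hc
  push Not at hc
  obtain ⟨⟨a, ha, a1⟩, b, hb, b1⟩ := hc
  have := h _ (add_mem ha hb)
  rw [g_add] at this
  rcases this with e | e
  · exact a1 (mem_l e ((h b hb).resolve_right b1))
  · exact b1 (mem_r e ((h a ha).resolve_left a1))

namespace W3

variable (h : W3 H S E R P) (h3 : ∀ v ∈ S, finrank (ZMod 2) (E v) = 3) (ht : ∀ v ∈ S, TS q (P v))
  {v x : V} (hv : v ∈ S) (hx : x ∈ S) (hvx : pol q v x = 1)
include h h3 ht

theorem dimP₆ {u : V} (hu : u ∈ S) : finrank (ZMod 2) (P u) = 3 := by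
  have := h.finrank_P hu
  have := h3 u hu
  omega

include hv hx hvx

theorem disj₆ {s : V} (h1 : s ∈ P v) (h2 : s ∈ P x) : s = 0 := by
  by_contra s0
  obtain ⟨y, hy, ey⟩ := h.exT hv h1
  have xs := h.perpP hx h2
  have e1 : y.1 x = x + s := by rw [ey.ap1 hvx, pc xs, ht v hv s h1]; simp
  have d := h.dimP₆ h3 ht hx
  obtain ⟨a, ha, a0, a1, a2⟩ := exists_perp1 (q := q) (P x) s [v] (by simp; omega)
  have a2 := a2 v (by simp)
  have m := (h.eqP y hy x hx a).2 ha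
  have sx := h.inv y hy x hx
  rw [e1] at sx
  rw [e1, ey.fix a2 (ts_pol (ht x hx) h2 ha)] at m
  obtain ⟨z, hz, ez⟩ := h.exT sx m
  obtain ⟨e, he, e2⟩ : ∃ e ∈ E x, pol q e a = 1 := by
    by_contra hc
    push Not at hc
    rcases h.mem_PE hx ha (h.memE_of_perp hx (h3 x hx) fun e he => z2ne' (hc e he)) with e | e
    · exact a0 e
    · rw [e, hvx] at a2; exact one_ne_zero a2
  have m2 := (h.eqE z hz x hx e).2 he
  rw [ez.fix (by rw [pl, pp, pc xs, add_zero]) (pc (h.perpP hx ha)), ez, pc e2, ht x hx a ha,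
    zero_mul, zero_smul, add_zero, one_smul, add_assoc, add_assoc] at m2
  have m3 := mem_r (mem_r m2 he) (h.memE x hx)
  rcases h.mem_PE hx (add_mem h2 (Submodule.smul_mem _ _ ha)) m3 with e3 | e3
  · rcases z2 (pol q (x + s) e) with e4 | e4 <;> rw [e4] at e3
    · exact s0 (by simpa using e3)
    · rw [one_smul, veq] at e3; exact a1 e3.symm
  · rw [← e3, pr, psr, h.perpP hv h1, a2] at hvx
    simp at hvx

theorem ts₆ : TS q (AA₆ q P v x) := fun a ha => by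
  obtain ⟨t, h1, h2, rfl | rfl⟩ := mem_AA₆.1 ha
  · exact ht x hx _ h1
  · rw [quad_add, ht x hx _ h1, h.qS hv, pc h2]; simp

theorem dim₆ : finrank (ZMod 2) (AA₆ q P v x) = 3 := by
  have d := h.dimP₆ h3 ht hx
  have f1 := (ofQuad q).finrank_inf_perp_singleton (P x) v
  have f2 := Form.TotSing.two_mul_finrank_le h.nondeg
    ((totSing_ofQuad q).2 (h.ts₆ h3 ht hv hx hvx))
  have f3 := h.dim
  have f4 := fr_sup_sp' (B := P x ⊓ (ofQuad q).perp (Submodule.span (ZMod 2) {v})) (v := v)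
    fun e => by rw [pc (h.perpP hx e.1)] at hvx; exact zero_ne_one hvx
  rw [← AA₆] at f4
  omega

theorem self₆ {z : V} (hz : ∀ a ∈ AA₆ q P v x, pol q a z = 0) : z ∈ AA₆ q P v x :=
  perp_self h.nondeg (fun a ha b hb => ts_pol (h.ts₆ h3 ht hv hx hvx) ha hb)
    (by rw [h.dim, h.dim₆ h3 ht hv hx hvx]) hz

theorem compl₆ : IsCompl (AA₆ q P v x) (AA₆ q P x v) := by
  have e : AA₆ q P v x ⊓ AA₆ q P x v = ⊥ := by
    rw [eq_bot_iff]
    rintro a ⟨h1, h2⟩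
    obtain ⟨t, t1, t2, e1⟩ := mem_AA₆.1 h1
    obtain ⟨s, s1, s2, e2⟩ := mem_AA₆.1 h2
    have p1 : pol q v a = 0 := by rcases e1 with e | e <;> simp [e, pr, t2, pp]
    have p2 : pol q x a = 0 := by rcases e2 with e | e <;> simp [e, pr, s2, pp]
    have e3 : a = t := e1.resolve_right fun e => by
      rw [e, pr, h.perpP hx t1, pc hvx, zero_add] at p2; exact one_ne_zero p2
    have e4 : a = s := e2.resolve_right fun e => by
      rw [e, pr, h.perpP hv s1, hvx, zero_add] at p1; exact one_ne_zero p1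
    exact h.disj₆ h3 ht hv hx hvx (e4 ▸ s1) (e3 ▸ t1)
  refine ⟨disjoint_iff.2 e, codisjoint_iff.2 (Submodule.eq_top_of_finrank_eq ?_)⟩
  have f1 := fr_si (AA₆ q P v x) (AA₆ q P x v)
  rw [e, finrank_bot, h.dim₆ h3 ht hv hx hvx, h.dim₆ h3 ht hx hv (pc hvx)] at f1
  have := h.dim
  omega

theorem pres₆ {s : V} (hs : s ∈ P v) {y : (ofQuad q).Isom} (ey : Ei v s y) :
    (∀ a ∈ AA₆ q P v x, y.1 a ∈ AA₆ q P v x) := fun a ha => by
  have m : v ∈ AA₆ q P v x := mem_AA₆.2 ⟨0, zero_mem _, p0r _, Or.inr (zero_add _).symm⟩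
  rw [ey.ap0 (ts_pol (h.ts₆ h3 ht hv hx hvx) m ha)]
  exact add_mem ha (Submodule.smul_mem _ _ m)

theorem pres₆' {s : V} (hs : s ∈ P v) (xs : pol q x s = 0) {y : (ofQuad q).Isom} (ey : Ei v s y) :
    (∀ a ∈ AA₆ q P x v, y.1 a ∈ AA₆ q P x v) := fun a ha => by
  have m : s ∈ AA₆ q P x v := mem_AA₆.2 ⟨s, hs, xs, Or.inl rfl⟩
  rw [ey, ts_pol (h.ts₆ h3 ht hx hv (pc hvx)) m ha, ht v hv s hs]
  simpa using add_mem ha (Submodule.smul_mem _ _ m)

theorem gd₆ {u : V} (hu : u ∈ AA₆ q P x v) (u0 : u ≠ 0) :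
    u ∈ S ∧ ∀ a ∈ AA₆ q P v x, pol q u a = 0 → a ∈ P u := by
  have tr : ∀ u, (u ∈ S ∧ ∀ a ∈ AA₆ q P v x, pol q u a = 0 → a ∈ P u) → ∀ y ∈ H, y * y = 1 →
      (∀ a ∈ AA₆ q P v x, y.1 a ∈ AA₆ q P v x) →
      (y.1 u ∈ S ∧ ∀ a ∈ AA₆ q P v x, pol q (y.1 u) a = 0 → a ∈ P (y.1 u)) :=
    fun u hu y hy h2 hp => ⟨h.inv y hy u hu.1, fun a ha e => by
      have := (h.eqP y hy u hu.1 _).2 (hu.2 _ (hp a ha) (by rw [← g_pol y, g_sq h2, e]))
      rwa [g_sq h2] at this⟩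
  have g0 : x ∈ S ∧ ∀ a ∈ AA₆ q P v x, pol q x a = 0 → a ∈ P x := ⟨hx, fun a ha e => by
    obtain ⟨t, t1, t2, rfl | rfl⟩ := mem_AA₆.1 ha
    · exact t1
    · rw [pr, h.perpP hx t1, pc hvx, zero_add] at e; exact absurd e one_ne_zero⟩
  have g1 : ∀ s ∈ P v, pol q x s = 0 →
      x + s ∈ S ∧ ∀ a ∈ AA₆ q P v x, pol q (x + s) a = 0 → a ∈ P (x + s) := fun s hs xs => by
    obtain ⟨y, hy, ey⟩ := ((h.memP v hv s).1 hs).2
    have := tr x g0 y (h.le v hv hy) (h.sq v hv y hy) (h.pres₆ h3 ht hv hx hvx hs ey)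
    rwa [ey.ap1 hvx, pc xs, ht v hv s hs, add_zero, zero_smul, add_zero] at this
  obtain ⟨s, s1, s2, rfl | rfl⟩ := mem_AA₆.1 hu
  · obtain ⟨t, t1, t2, t3⟩ : ∃ t ∈ P x, pol q v t = 0 ∧ pol q t u = 1 := by
      by_contra hc
      push Not at hc
      have := h.self₆ h3 ht hv hx hvx (z := u) fun a ha => by
        obtain ⟨t, t1, t2, e | e⟩ := mem_AA₆.1 ha <;> rw [e]
        · exact z2ne' (hc t t1 t2)
        · rw [pl, z2ne' (hc t t1 t2), h.perpP hv s1, add_zero]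
      exact u0 ((Submodule.disjoint_def.1 (h.compl₆ h3 ht hv hx hvx).disjoint) u this hu)
    obtain ⟨y, hy, ey⟩ := ((h.memP x hx t).1 t1).2
    have := tr _ (g1 u s1 s2) y (h.le x hx hy) (h.sq x hx y hy)
      (h.pres₆' h3 ht hx hv (pc hvx) t1 t2 ey)
    rwa [ey.ap01 (by rw [pr, pp, s2, add_zero])
      (by rw [pr, pc (h.perpP hx t1), t3, zero_add]), vv3] at this
  · rw [add_comm]; exact g1 s s1 s2

theorem tv₆ : ∀ u ∈ AA₆ q P x v, ∀ a ∈ AA₆ q P v x, pol q u a = 0 → ∃ y ∈ H, Ei u a y :=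
  fun u hu a ha e => by
    by_cases u0 : u = 0
    · exact ⟨1, one_mem _, fun z => by simp [u0]⟩
    · obtain ⟨g1, g2⟩ := h.gd₆ h3 ht hv hx hvx hu u0
      exact h.exT g1 (g2 a ha e)

theorem sub₆ {z : V} (hz : z ∈ S) : z ∈ AA₆ q P v x ∨ z ∈ AA₆ q P x v := by
  have c := h.compl₆ h3 ht hv hx hvx
  have tA := h.ts₆ h3 ht hv hx hvx
  have tA' := h.ts₆ h3 ht hx hv (pc hvx)
  have dec : ∀ z : V, ∃ a ∈ AA₆ q P v x, ∃ b ∈ AA₆ q P x v, a + b = z := fun z =>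
    Submodule.mem_sup.1 (by rw [c.sup_eq_top]; trivial)
  obtain ⟨a1, m1, a2, m2, rfl⟩ := dec z
  by_cases n1 : a1 = 0
  · right; rwa [n1, zero_add]
  by_cases n2 : a2 = 0
  · left; rwa [n2, add_zero]
  exfalso
  have p12 : pol q a1 a2 = 0 := by
    have := h.qS hz
    rwa [quad_add, tA _ m1, tA' _ m2, add_zero, zero_add] at this
  have k : ∀ X : Submodule (ZMod 2) V, TS q X → finrank (ZMod 2) X = 3 → a1 + a2 ∈ X →
      (∀ g ∈ H, g.1 (a1 + a2) = a1 + a2 → ∀ p ∈ X, g.1 p ∈ X) → a2 ∈ X := fun X tX dX mX iX => by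
    by_contra n3
    have n4 : a1 ∉ X := fun e => n3 (mem_r mX e)
    have ex : ∀ c, c ∉ X → ∃ p ∈ X, pol q p c = 1 := fun c hc => by
      by_contra hn
      push Not at hn
      exact hc (perp_self h.nondeg (fun a ha b hb => ts_pol tX ha hb) (by rw [h.dim, dX])
        fun a ha => z2ne' (hn a ha))
    have d := h.dim₆ h3 ht hv hx hvx
    obtain ⟨a', ma, a0, a3, a4⟩ := exists_perp1 (q := q) (AA₆ q P v x) a1 [a2] (by simp; omega)
    have a4 := a4 a2 (by simp)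
    obtain ⟨u, mu, u1, u2⟩ : ∃ u ∈ AA₆ q P x v, pol q a1 u = 0 ∧ pol q a' u = 1 := by
      obtain ⟨x0, x1, x2⟩ := sep1 h.nondeg a0 a3
      obtain ⟨b, hb, u, hu, rfl⟩ := dec x0
      rw [pr, ts_pol tA m1 hb, zero_add] at x1
      rw [pr, ts_pol tA ma hb, zero_add] at x2
      exact ⟨u, hu, x1, x2⟩
    obtain ⟨y, hy, ey⟩ := h.tv₆ h3 ht hv hx hvx a2 m2 a' ma a4
    obtain ⟨y', hy', ey'⟩ := h.tv₆ h3 ht hv hx hvx u mu a1 m1 (pc u1)
    obtain ⟨p, mp, p1⟩ := ex a2 n3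
    obtain ⟨p', mp', p1'⟩ := ex a1 n4
    have r1 := iX y hy (ey.fix (by rw [pr, pc p12, pp, add_zero])
      (by rw [pr, ts_pol tA ma m1, pc a4, add_zero])) p mp
    have r2 := iX y' hy' (ey'.fix (by rw [pr, pc u1, ts_pol tA' mu m2, add_zero])
      (by rw [pr, pp, p12, add_zero])) p' mp'
    rw [ey.ap1 (pc p1), add_assoc] at r1
    rw [(ey'.swap (tA' u mu) (tA a1 m1)).ap1 (pc p1'), add_assoc] at r2
    have := ts_pol tX (mem_r r1 mp) (mem_r r2 mp')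
    simp [pl, pr, psl, psr, u2, ts_pol tA ma m1, ts_pol tA' m2 mu, pc p12] at this
  have e1 := k (E (a1 + a2)) (h.ts _ hz) (h3 _ hz) (h.memE _ hz) fun g hg e p hp => by
    have := (h.eqE g hg _ hz p).2 hp
    rwa [e] at this
  have e2 := k (P (a1 + a2)) (ht _ hz) (h.dimP₆ h3 ht hz) (h.selfP hz) fun g hg e p hp => by
    have := (h.eqP g hg _ hz p).2 hp
    rwa [e] at this
  rcases h.mem_PE hz e2 e1 with e | e
  · exact n2 e
  · exact n1 (by simpa using e)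

end W3

theorem W3.swap (h : W3 H S E R P) (h3 : ∀ v ∈ S, finrank (ZMod 2) (E v) = 3)
    (ht : ∀ v ∈ S, TS q (P v)) : ∃ A A', SwapV H S A A' := by
  obtain ⟨v, hv⟩ := h.nonempty
  obtain ⟨x, ox, e⟩ := h.ob_opp hv (h.ne0 v hv)
  have hx := h.obS hv ox
  have hvx := pc e
  have c := h.compl₆ h3 ht hv hx hvx
  have d1 := h.dim₆ h3 ht hv hx hvx
  have d2 := h.dim₆ h3 ht hx hv e
  have dV := h.dim
  have s1 : ∀ g ∈ H, ∀ a ∈ AA₆ q P v x, g.1 a ∈ AA₆ q P v x ∨ g.1 a ∈ AA₆ q P x v :=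
    fun g hg a ha => by
      by_cases a0 : a = 0
      · left; rw [a0, g_zero]; exact zero_mem _
      · exact h.sub₆ h3 ht hv hx hvx (h.inv g hg a (h.gd₆ h3 ht hx hv e ha a0).1)
  have s2 : ∀ g ∈ H, ∀ a ∈ AA₆ q P x v, g.1 a ∈ AA₆ q P v x ∨ g.1 a ∈ AA₆ q P x v :=
    fun g hg a ha => by
      by_cases a0 : a = 0
      · left; rw [a0, g_zero]; exact zero_mem _
      · exact h.sub₆ h3 ht hv hx hvx (h.inv g hg a (h.gd₆ h3 ht hv hx hvx ha a0).1)
  have nt : ∀ (g : (ofQuad q).Isom) (X : Submodule (ZMod 2) V), finrank (ZMod 2) X = 3 →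
      (∀ a ∈ AA₆ q P v x, g.1 a ∈ X) → (∀ a ∈ AA₆ q P x v, g.1 a ∈ X) → False :=
    fun g X d h1 h2 => by
      have : X = ⊤ := by
        rw [eq_top_iff]
        intro z _
        obtain ⟨a, ha, b, hb, e⟩ := Submodule.mem_sup.1
          (show (g⁻¹).1 z ∈ AA₆ q P v x ⊔ AA₆ q P x v by rw [c.sup_eq_top]; trivial)
        have := add_mem (h1 a ha) (h2 b hb)
        rwa [← g_add, e, Form.Isom.apply_inv_apply] at this
      rw [this, finrank_top] at d
      omega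
  refine ⟨_, _, h.ts₆ h3 ht hv hx hvx, h.ts₆ h3 ht hx hv e, c, d1, d2,
    fun z hz => h.sub₆ h3 ht hv hx hvx hz, fun g hg => ?_, ?_, h.tv₆ h3 ht hv hx hvx⟩
  · rcases union₆ g (s1 g hg) with e1 | e1 <;> rcases union₆ g (s2 g hg) with e2 | e2
    · exact (nt g _ d1 e1 e2).elim
    · exact Or.inl ⟨e1, e2⟩
    · exact Or.inr ⟨e1, e2⟩
    · exact (nt g _ d2 e1 e2).elim
  · by_contra hc
    rcases h.irr (AA₆ q P v x) fun g hg =>
      (union₆ g (s1 g hg)).resolve_right fun e => hc ⟨g, hg, e⟩ with e1 | e1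
    · rw [e1, finrank_bot] at d1; omega
    · rw [e1, finrank_top] at d1; omega

theorem VD.irr3 (h : VD H S E R 3) (hi : IrrV H) : OneV S E R ∨ ∃ A A', SwapV H S A A' := by
  obtain ⟨P, hw⟩ := h.exists_w3 hi
  by_cases h1 : ∃ v ∈ S, finrank (ZMod 2) (E v) = 1
  · obtain ⟨v, hv, e⟩ := h1
    exact Or.inl (hw.one hv e)
  push Not at h1
  have h3 : ∀ v ∈ S, finrank (ZMod 2) (E v) = 3 := fun v hv => by
    have f1 := h1 v hv
    have f2 := hw.not_two hv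
    have f3 := h.finrank_E_le hv
    have f4 := Submodule.finrank_mono ((Submodule.span_singleton_le_iff_mem _ _).2 (h.memE v hv))
    rw [fr_sp_eq₄ (h.ne0 v hv)] at f4
    omega
  refine Or.inr (hw.swap h3 fun v hv => hw.ts_of_iso hv (h3 v hv) fun a ha b hb => z2ne' fun ab => ?_)
  refine hw.not_aniso hv (h3 v hv) fun s hs qs => ?_
  by_contra hc
  push Not at hc
  obtain ⟨c, hc', e⟩ : ∃ c ∈ P v, pol q s c = 1 := by
    by_contra hn
    push Not at hn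
    have hn' : ∀ c ∈ P v, pol q s c = 0 := fun c hc => z2ne' (hn c hc)
    have d := hw.finrank_P hv
    rw [h3 v hv] at d
    have k : ∀ z ∈ Submodule.span (ZMod 2) {v, s}, ∀ c ∈ P v, pol q z c = 0 := fun z hz c hc => by
      rcases mem_sp2.1 hz with e | e | e | e <;> simp [e, pl, hw.perpP hv hc, hn' c hc]
    have n : a ∉ Submodule.span (ZMod 2) {v, s} := fun e => by
      rw [k a e b hb] at ab; exact zero_ne_one ab
    have e : Submodule.span (ZMod 2) {v, s} ⊔ Submodule.span (ZMod 2) {a} = P v :=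
      eq_of_fr (sup_le (Submodule.span_le.2 (by
        rintro _ (rfl | rfl)
        · exact hw.selfP hv
        · exact hs)) ((Submodule.span_singleton_le_iff_mem _ _).2 ha))
        (by rw [fr_sup_sp' n, fr_sp2_eq₄ (h.ne0 v hv) hc.1 hc.2]; omega)
    rw [← e, mem_sup_sp] at hb
    rcases hb with e1 | e1
    · rw [pc (k b e1 a ha)] at ab; exact zero_ne_one ab
    · have := k _ e1 a ha
      rw [pl, pp, pc ab, add_zero] at this
      exact one_ne_zero this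
  rcases z2 (q c) with e1 | e1
  · exact hw.not_hyp hv (h3 v hv) hs hc' qs e1 e
  · exact hw.not_hyp hv (h3 v hv) hs (add_mem hc' hs) qs
      (by rw [quad_add, e1, qs, pc e, add_zero, z11]) (by rw [pr, e, pp, add_zero])

end XS
end H6
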