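import Mathlib
import Cfsg.Agent.H6.XI
import Cfsg.Agent.H6.XU5
import Cfsg.Agent.H6.XM
import Cfsg.Agent.H6.XG1
import Cfsg.Agent.H6.XG3
import Cfsg.Agent.H6.XG4
import Cfsg.Agent.H6.XV6
import Cfsg.Agent.H6.XS2
import Cfsg.Agent.H28.HeldMain
import Cfsg.Agent.S1719

/-! Large extraspecial subgroups: assembly -/

set_option autoImplicit false
set_option linter.unusedSectionVars false

namespace H6
namespace XS

open Subgroup H24 H15 H15.XP Module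

variable {G : Type*} [Group G] [Finite G] {D : Set G} {Q : G → Subgroup G} {w : ℕ} {z : G}

theorem Sit.wc_of (h : Sit D Q w) (hz : z ∈ D) (k : ¬ ∃ d ∈ D, d ∈ Q z ∧ d ≠ z) : WC D Q :=
  fun d hd e he m => by
    obtain ⟨g, rfl⟩ := h.trans z hz d hd
    rw [h.eqv z hz, mem_cj] at m
    by_contra hn
    exact k ⟨_, by simpa using h.conj e he g⁻¹, m, fun e' => hn (by rw [← e']; group)⟩

theorem Sit.red [IsSimpleGroup G] (h : Sit D Q w) (hw : 3 ≤ w) (hz : z ∈ D) (hr : ¬ Irr z (Q z)) :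
    Nonempty (G ≃* Matrix.ProjectiveSpecialLinearGroup (Fin (w + 2)) (ZMod 2)) ∨
      w = 3 ∧ (Cfsg.Spor.IsoM24 G ∨ Cfsg.Spor.IsoHe G) := by
  by_cases k : ∃ d ∈ D, d ∈ Q z ∧ d ≠ z
  swap
  · obtain ⟨b, hb⟩ := h.exists_col (h.noOdd hz) hz (h.not_center hz)
    exact absurd (h.irr_wc (h.wc_of hz k) hw hb) hr
  obtain ⟨V, _, _, _, -, ⟨F⟩⟩ := h.exists_fr hz
  obtain ⟨E, R, hv, hl⟩ := h.exists_vd hw hz F k
  obtain ⟨A, A', hg⟩ := h.good hz hv hl hr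
  rcases hw.eq_or_lt with rfl | hw'
  · obtain ⟨e⟩ := h.good3 hz hv hl hg (Matrix.SpecialLinearGroup.transvection (by decide) 1) rfl
    obtain ⟨d, h1, h2, h3⟩ := k
    obtain ⟨g, rfl⟩ := h.trans z hz d h1
    obtain ⟨c⟩ := sl_iso_psl 5
    rcases H28.held_four _ rfl z (h.ord hz) e fun i => h3 (i.2 g (mem_C1.1 (h.le hz h2)).symm) with
      ⟨_, -, k, -⟩ | ⟨⟨k⟩⟩ | k
    exacts [absurd ‹IsSimpleGroup G› k, Or.inl ⟨k.trans c⟩, Or.inr ⟨rfl, k⟩]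
  · obtain ⟨A, U, hn⟩ := h.exists_gn hw' hz hv hl hg
    exact Or.inl (hn.iso hz)

theorem Sit.closure_eq_top [IsSimpleGroup G] (h : Sit D Q w) (hz : z ∈ D) : closure D = ⊤ := by
  have : (closure D).Normal := ⟨fun n hn g => by
    refine closure_induction (p := fun n _ => g * n * g⁻¹ ∈ closure D)
      (fun d hd => subset_closure (h.conj d hd g)) (by simp) (fun x y _ _ h1 h2 => ?_)
      (fun x _ h1 => ?_) hn
    · simpa [mul_assoc] using mul_mem h1 h2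
    · simpa [mul_assoc] using inv_mem h1⟩
  exact this.eq_bot_or_eq_top.resolve_left (ne_bot_of_mem (subset_closure hz) (h.ne_one hz))

theorem s1761 [IsSimpleGroup G] (hz : orderOf z = 2)
    (hE : Cfsg.IsExtraspecial 2 (Cfsg.generalizedFittingSubgroup C{z})) (hw : 3 ≤ w)
    (hc : Nat.card (Cfsg.generalizedFittingSubgroup C{z}) = 2 ^ (2 * w + 1)) :
    Nonempty (G ≃* Matrix.ProjectiveSpecialLinearGroup (Fin (w + 2)) (ZMod 2)) ∨
      w = 3 ∧ (Cfsg.Spor.IsoM24 G ∨ Cfsg.Spor.IsoHe G) ∨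
      ∀ A : Subgroup C{z}, A.Normal → zpowers (⟨z, self_mem_C1 z⟩ : C{z}) ≤ A →
        A ≤ Cfsg.generalizedFittingSubgroup C{z} →
          A = zpowers (⟨z, self_mem_C1 z⟩ : C{z}) ∨ A = Cfsg.generalizedFittingSubgroup C{z} := by
  have h := sit_of hz hE (by omega) hc
  by_cases hr : Irr z (H25.Bd.fs C{z})
  · refine Or.inr (Or.inr fun A hA h1 h2 => ?_)
    refine (hr (A.map C{z}.subtype) ⟨_, h1 (mem_zpowers _), rfl⟩ (map_mono h2)
      (nml_map_subtype A).norm).imp (fun e => ?_) fun e => map_injective (subtype_injective _) e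
    exact map_injective (subtype_injective _) (by rw [e, MonoidHom.map_zpowers]; rfl)
  · exact (h.red hw (IsConj.refl z) hr).imp_right Or.inl

theorem Sit.three [IsSimpleGroup G] (h : Sit D Q 3) (zD : z ∈ D) (hz : orderOf z = 2)
    (K : Subgroup C{z}) [K.Normal] (hK : ∀ g : C{z}, g ∈ K ↔ (g : G) ∈ Q z) (hC : C[K] ≤ K)
    (hE : Cfsg.IsExtraspecial 2 K) (hc : Nat.card K = 2 ^ 7) :
    Nonempty (G ≃* Matrix.ProjectiveSpecialLinearGroup (Fin 5) (ZMod 2)) ∨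
      Nonempty (G ≃* Cfsg.PSU 5 H0.F4 2) ∨
      Cfsg.Spor.IsoM24 G ∨ Cfsg.Spor.IsoHe G ∨ Cfsg.Spor.IsoSuz G := by
  by_cases hr : Irr z (Q z)
  swap
  · rcases h.red le_rfl zD hr with k | ⟨-, k | k⟩
    exacts [Or.inl k, Or.inr (Or.inr (Or.inl k)), Or.inr (Or.inr (Or.inr (Or.inl k)))]
  by_cases k : ∃ d ∈ D, d ∈ Q z ∧ d ≠ z
  · obtain ⟨V, _, _, _, -, ⟨F⟩⟩ := h.exists_fr zD
    obtain ⟨E, R, hv, hl⟩ := h.exists_vd le_rfl zD F k
    rcases hv.irr3 ((F.irrV_iff h zD).2 hr) with ho | ⟨A, A', hs⟩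
    · obtain ⟨e⟩ := h.omega zD hl hv ho K hK
      obtain ⟨d, h1, h2, h3⟩ := k
      obtain ⟨g, rfl⟩ := h.trans z zD d h1
      obtain ⟨φ, -⟩ := H15.Sz.recog' hz K hC hE hc e ⟨g, ⟨h.le zD h2, (hK _).2 h2⟩, h3⟩
      exact Or.inr (Or.inr (Or.inr (Or.inr ⟨φ.symm⟩)))
    · exact (h.not_swap zD F hs).elim
  · obtain ⟨b, hb⟩ := h.exists_col (h.noOdd zD) zD (h.not_center zD)
    rcases h.cases (h.wc_of zD k) zD with u | ⟨e, -⟩ | ⟨e, -⟩
    · obtain ⟨-, n, -, h2, ⟨e⟩⟩ := u.ident (h.noOdd zD) hb (Or.inr hr)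
      obtain rfl := h2 rfl
      exact Or.inr (Or.inl ⟨(topEquiv.symm.trans
        (MulEquiv.subgroupCongr (h.closure_eq_top zD).symm)).trans e⟩)
    all_goals omega

theorem mem_map_sub {H : Subgroup G} (K : Subgroup H) (g : H) :
    g ∈ K ↔ (g : G) ∈ K.map H.subtype :=
  (mem_map_iff_mem (subtype_injective _)).symm

theorem s1762 [IsSimpleGroup G] (hz : orderOf z = 2)
    (hE : Cfsg.IsExtraspecial 2 (Cfsg.generalizedFittingSubgroup C{z}))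
    (hc : Nat.card (Cfsg.generalizedFittingSubgroup C{z}) = 2 ^ 7) :
    Nonempty (G ≃* Matrix.ProjectiveSpecialLinearGroup (Fin 5) (ZMod 2)) ∨
      Nonempty (G ≃* Cfsg.PSU 5 H0.F4 2) ∨
      Cfsg.Spor.IsoM24 G ∨ Cfsg.Spor.IsoHe G ∨ Cfsg.Spor.IsoSuz G :=
  (sit_of (w := 3) hz hE (by omega) hc).three (IsConj.refl z) hz _ (mem_map_sub _)
    H23.centralizer_fstar_le hE hc

end XS
end H6
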