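import Mathlib
import Cfsg.Agent.H6.XDefs

/-!
Large extraspecial subgroups of width four: bit coordinates and the list of cases.
Codes `a < 256`: bit 0 = v, bits 1,2,3 = e1,e2,e3, bits 4,5,6 = f1,f2,f3, bit 7 = x.
A matrix is the list of the codes of the images of the eight basis vectors.
-/

set_option autoImplicit false

namespace H6
namespace XS

open Subgroup H24 H15 H15.XP Module

/-- bit `i` of `a` -/
def bt (a i : ℕ) : ℕ := a / 2 ^ i % 2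

/-- the cocycle `a_x b_v + Σ a_{f_i} b_{e_i}` -/
def beN (a b : ℕ) : ℕ :=
  (bt a 7 * bt b 0 + bt a 4 * bt b 1 + bt a 5 * bt b 2 + bt a 6 * bt b 3) % 2

/-- the quadratic form on codes -/
def qN (a : ℕ) : ℕ := beN a a

/-- the polar form on codes -/
def polN (a b : ℕ) : ℕ := (beN a b + beN b a) % 2

/-- matrix times vector -/
def app : List ℕ → ℕ → ℕ
  | [], _ => 0
  | m :: M, a => (a % 2 * m) ^^^ app M (a / 2)

/-- `M` after `N` -/
def cmp (M N : List ℕ) : List ℕ := N.map (app M)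

/-- the identity matrix -/
def idM : List ℕ := [1, 2, 4, 8, 16, 32, 64, 128]

/-- eight codes -/
def MOK (M : List ℕ) : Prop := M.length = 8 ∧ ∀ m ∈ M, m < 256

instance (M : List ℕ) : Decidable (MOK M) := inferInstanceAs (Decidable (_ ∧ _))

/-- a point `u` with the lists of the elements of `E u` and of `R u` -/
structure Pt where
  u : ℕ
  E : List ℕ
  R : List (List ℕ)

/-- the list of `S` and some points -/
structure Dat where
  S : List ℕ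
  pts : List Pt

section lin

variable {V : Type*} [AddCommGroup V] [Module (ZMod 2) V] {q : QuadraticForm (ZMod 2) V}

variable (q) in
/-- bit coordinates -/
structure Cd (c : ℕ → V) : Prop where
  add : ∀ a < 256, ∀ b < 256, c (a ^^^ b) = c a + c b
  inj : ∀ a < 256, c a = 0 → a = 0
  surj : ∀ v, ∃ a < 256, c a = v
  qq : ∀ a < 256, q (c a) = (qN a : ZMod 2)

/-- `h` has the matrix `M` -/
def Rp (c : ℕ → V) (h : (ofQuad q).Isom) (M : List ℕ) : Prop :=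
  MOK M ∧ ∀ a < 256, h.1 (c a) = c (app M a)

/-- `E` and `R` at the point `p.u` -/
structure At (c : ℕ → V) (E : V → Submodule (ZMod 2) V) (R : V → Subgroup (ofQuad q).Isom)
    (p : Pt) : Prop where
  lt : p.u < 256
  ltE : ∀ a ∈ p.E, a < 256
  memE : ∀ a < 256, c a ∈ E (c p.u) ↔ a ∈ p.E
  ofR : ∀ y ∈ R (c p.u), ∃ M ∈ p.R, Rp c y M
  toR : ∀ M ∈ p.R, ∃ y ∈ R (c p.u), Rp c y M

/-- the case `d` -/
structure Cs (c : ℕ → V) (S : Set V) (E : V → Submodule (ZMod 2) V)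
    (R : V → Subgroup (ofQuad q).Isom) (d : Dat) : Prop where
  cd : Cd q c
  ltS : ∀ a ∈ d.S, a < 256
  memS : ∀ a < 256, c a ∈ S ↔ a ∈ d.S
  pt : ∀ p ∈ d.pts, p.u ∈ d.S ∧ At c E R p

/-- all members of all `R v` are Eichler transformations -/
def Eich (S : Set V) (R : V → Subgroup (ofQuad q).Isom) : Prop :=
  ∀ v ∈ S, ∀ y ∈ R v, ∃ s, pol q v s = 0 ∧ Ei v s y

/-- the extra axiom coming from conjugation by `Q_v` -/
def AX (S : Set V) (E : V → Submodule (ZMod 2) V) (R : V → Subgroup (ofQuad q).Isom) : Prop :=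
  ∀ v ∈ S, ∀ r ∈ S, ∀ e ∈ S, pol q v r = 0 → e ∈ E v → e ∈ E r → e ≠ v → ∀ y ∈ R v, ∀ x,
    pol q v x = 1 → y.1 x + x + r ∈ E v → y ∈ R e ∨ (e + v ∈ S ∧ y ∈ R (e + v))

/-- `y ∈ R v` can lie below a member of `D` -/
def Gd (S : Set V) (E : V → Submodule (ZMod 2) V) (v : V) (y : (ofQuad q).Isom) : Prop :=
  ∃ r ∈ S, ∃ x, pol q v r = 0 ∧ pol q v x = 1 ∧ y.1 x + x + r ∈ E v

/-- `H = L₄(2) : 2` -/
structure Swap4 (H : Subgroup (ofQuad q).Isom) (S : Set V) (E : V → Submodule (ZMod 2) V)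
    (A A' : Submodule (ZMod 2) V) : Prop where
  tsA : TS q A
  tsA' : TS q A'
  compl : IsCompl A A'
  dimA : finrank (ZMod 2) A = 4
  dimA' : finrank (ZMod 2) A' = 4
  memS : ∀ v, v ∈ S ↔ v ≠ 0 ∧ (v ∈ A ∨ v ∈ A')
  eqE : ∀ v ∈ A, v ≠ 0 → E v = A
  eqE' : ∀ v ∈ A', v ≠ 0 → E v = A'
  pres : ∀ h ∈ H, ((∀ a ∈ A, h.1 a ∈ A) ∧ ∀ a ∈ A', h.1 a ∈ A') ∨
    ((∀ a ∈ A, h.1 a ∈ A') ∧ ∀ a ∈ A', h.1 a ∈ A)
  swap : ∃ h ∈ H, ∀ a ∈ A, h.1 a ∈ A'
  tv : ∀ u ∈ A', ∀ a ∈ A, pol q u a = 0 → ∃ y ∈ H, Ei u a y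

end lin

/-- the group-theoretic situation in the case `d` -/
structure FC {G : Type*} [Group G] (D : Set G) (Q : G → Subgroup G) (z : G) {V : Type*}
    [AddCommGroup V] [Module (ZMod 2) V] (F : Fr z (Q z) V) (E : V → Submodule (ZMod 2) V)
    (R : V → Subgroup (ofQuad F.q).Isom) (c : ℕ → V) (d : Dat) : Prop where
  sit : Sit D Q 4
  mem : z ∈ D
  vd : VD F.ρ.range (F.VV D) E R 4
  lift : Lift D Q F E R
  cs : Cs c (F.VV D) E R d

/-! The six cases. In the list `R` of the point `1` the entry number `w` maps `x` into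
`x + w·f + E`. -/

def d27 : Dat := ⟨[1, 4, 5, 8, 9, 14, 15, 16, 20, 24, 29, 48, 54, 56, 63, 80, 84, 90, 95, 128, 144, 160, 184, 192, 212, 226, 255],
  [⟨1, [0, 1, 2, 3, 4, 5, 6, 7, 8, 9, 10, 11, 12, 13, 14, 15],
    [[1, 2, 4, 8, 16, 32, 64, 128],
     [1, 3, 4, 8, 16, 40, 68, 144],
     [1, 2, 5, 8, 24, 32, 66, 160],
     [1, 3, 5, 8, 24, 40, 71, 184],
     [1, 2, 4, 9, 20, 34, 64, 192],
     [1, 3, 4, 9, 20, 43, 68, 212],
     [1, 2, 5, 9, 29, 34, 66, 226],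
     [1, 3, 5, 9, 29, 43, 71, 255]]⟩,
   ⟨128, [0, 16, 40, 56, 68, 84, 108, 124, 128, 144, 168, 184, 196, 212, 236, 252],
    [[1, 2, 4, 8, 16, 32, 64, 128],
     [5, 70, 4, 24, 16, 176, 64, 128],
     [9, 42, 20, 8, 16, 32, 208, 128],
     [29, 238, 20, 24, 16, 176, 208, 128],
     [15, 110, 80, 48, 144, 152, 148, 128],
     [95, 170, 80, 160, 144, 136, 148, 128],
     [63, 198, 192, 48, 144, 152, 132, 128],
     [255, 130, 192, 160, 144, 136, 132, 128]]⟩]⟩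

def d81 : Dat := ⟨[1, 2, 3, 4, 5, 8, 9, 14, 15, 17, 21, 25, 28, 33, 35, 41, 42, 49, 55, 57, 62, 65, 67, 69, 70, 81, 85, 91, 94, 97, 99, 109, 110, 112, 113, 118, 119, 122, 123, 124, 125, 128, 130, 132, 136, 142, 144, 147, 148, 152, 159, 160, 162, 165, 168, 175, 176, 182, 184, 187, 189, 192, 194, 196, 201, 207, 208, 212, 215, 218, 221, 224, 226, 231, 235, 236, 240, 246, 250, 252, 255],
  [⟨1, [0, 1, 2, 3, 4, 5, 6, 7, 8, 9, 10, 11, 12, 13, 14, 15],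
    [[1, 2, 4, 8, 16, 32, 64, 128],
     [1, 3, 4, 8, 16, 40, 68, 144],
     [1, 2, 5, 8, 24, 32, 66, 160],
     [1, 3, 5, 8, 24, 40, 71, 184],
     [1, 2, 4, 9, 20, 34, 64, 192],
     [1, 3, 4, 9, 20, 43, 68, 212],
     [1, 2, 5, 9, 29, 34, 66, 226],
     [1, 3, 5, 9, 29, 43, 71, 255]]⟩,
   ⟨128, [0, 6, 10, 12, 112, 118, 122, 124, 128, 134, 138, 140, 240, 246, 250, 252],
    [[1, 2, 4, 8, 16, 32, 64, 128],
     [17, 142, 8, 4, 16, 80, 48, 128],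
     [33, 8, 142, 2, 96, 32, 48, 128],
     [65, 4, 2, 142, 96, 80, 64, 128],
     [57, 132, 130, 14, 108, 90, 198, 128],
     [85, 136, 14, 130, 108, 170, 54, 128],
     [99, 14, 136, 132, 156, 90, 54, 128],
     [255, 130, 132, 136, 156, 170, 198, 128]]⟩]⟩

def d15 : Dat := ⟨[1, 8, 9, 65, 67, 69, 70, 128, 144, 160, 184, 198, 211, 229, 249],
  [⟨1, [0, 1, 2, 3, 4, 5, 6, 7, 8, 9, 10, 11, 12, 13, 14, 15],
    [[1, 2, 4, 8, 16, 32, 64, 128],
     [1, 3, 4, 8, 16, 40, 68, 144],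
     [1, 2, 5, 8, 24, 32, 66, 160],
     [1, 3, 5, 8, 24, 40, 71, 184],
     [1, 2, 4, 9, 21, 35, 64, 198],
     [1, 3, 4, 9, 21, 42, 68, 211],
     [1, 2, 5, 9, 28, 35, 66, 229],
     [1, 3, 5, 9, 28, 42, 71, 249]]⟩,
   ⟨128, [0, 24, 40, 48, 70, 94, 110, 118, 128, 152, 168, 176, 198, 222, 238, 246],
    [[1, 2, 4, 8, 16, 32, 64, 128],
     [9, 42, 28, 8, 16, 32, 240, 128],
     [65, 68, 66, 184, 32, 16, 64, 128],
     [249, 236, 218, 184, 32, 16, 240, 128],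
     [67, 68, 4, 144, 136, 56, 6, 128],
     [211, 236, 28, 144, 136, 56, 54, 128],
     [69, 2, 66, 160, 56, 136, 6, 128],
     [229, 42, 218, 160, 56, 136, 54, 128]]⟩]⟩

def d9 : Dat := ⟨[1, 128, 147, 167, 189, 207, 217, 235, 245],
  [⟨1, [0, 1, 2, 3, 4, 5, 6, 7, 8, 9, 10, 11, 12, 13, 14, 15],
    [[1, 2, 4, 8, 16, 32, 64, 128],
     [1, 3, 4, 8, 17, 40, 68, 147],
     [1, 2, 5, 8, 25, 33, 66, 167],
     [1, 3, 5, 8, 24, 41, 71, 189],
     [1, 2, 4, 9, 21, 35, 65, 207],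
     [1, 3, 4, 9, 20, 42, 69, 217],
     [1, 2, 5, 9, 29, 34, 67, 235],
     [1, 3, 5, 9, 28, 43, 70, 245]]⟩,
   ⟨128, [0, 24, 40, 48, 70, 94, 110, 118, 128, 152, 168, 176, 198, 222, 238, 246],
    [[1, 2, 4, 8, 16, 32, 64, 128],
     [147, 170, 90, 32, 184, 8, 54, 128],
     [167, 108, 218, 56, 160, 144, 112, 128],
     [235, 68, 132, 144, 136, 56, 134, 128],
     [189, 236, 156, 16, 8, 184, 182, 128],
     [217, 196, 66, 184, 32, 16, 192, 128],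
     [245, 130, 194, 160, 56, 136, 6, 128],
     [207, 42, 28, 136, 144, 160, 240, 128]]⟩]⟩

def d75 : Dat := ⟨[1, 14, 15, 17, 20, 24, 28, 33, 34, 41, 43, 48, 49, 54, 55, 56, 57, 62, 63, 64, 66, 68, 71, 80, 81, 84, 85, 90, 91, 94, 95, 96, 97, 98, 99, 108, 109, 110, 111, 112, 118, 123, 124, 128, 132, 134, 140, 144, 148, 151, 156, 162, 165, 167, 175, 182, 187, 189, 190, 192, 194, 198, 203, 211, 212, 215, 222, 224, 226, 231, 235, 246, 250, 252, 255],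
  [⟨1, [0, 1, 2, 3, 4, 5, 6, 7, 8, 9, 10, 11, 12, 13, 14, 15],
    [[1, 2, 4, 8, 16, 32, 64, 128],
     [1, 3, 4, 8, 16, 40, 68, 144],
     [1, 2, 5, 8, 25, 32, 66, 162],
     [1, 3, 5, 8, 25, 40, 71, 187],
     [1, 2, 4, 9, 21, 35, 64, 198],
     [1, 3, 4, 9, 21, 42, 68, 211],
     [1, 2, 5, 9, 29, 35, 66, 231],
     [1, 3, 5, 9, 29, 42, 71, 250]]⟩,
   ⟨128, [0, 2, 8, 10, 32, 34, 40, 42, 128, 130, 136, 138, 160, 162, 168, 170],
    [[1, 2, 4, 8, 16, 32, 64, 128],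
     [15, 2, 4, 8, 152, 160, 194, 128],
     [17, 130, 12, 8, 16, 32, 96, 128],
     [151, 130, 12, 8, 152, 160, 98, 128],
     [71, 2, 6, 136, 184, 160, 66, 128],
     [203, 2, 6, 136, 176, 32, 192, 128],
     [255, 130, 142, 136, 184, 160, 226, 128],
     [123, 130, 142, 136, 176, 32, 224, 128]]⟩]⟩

def d135 : Dat := ⟨[1, 2, 3, 4, 5, 6, 7, 8, 9, 10, 11, 12, 13, 14, 15, 16, 17, 20, 21, 24, 25, 28, 29, 32, 33, 34, 35, 40, 41, 42, 43, 48, 49, 54, 55, 56, 57, 62, 63, 64, 65, 66, 67, 68, 69, 70, 71, 80, 81, 84, 85, 90, 91, 94, 95, 96, 97, 98, 99, 108, 109, 110, 111, 112, 113, 118, 119, 122, 123, 124, 125, 128, 130, 132, 134, 136, 138, 140, 142, 144, 147, 148, 151, 152, 155, 156, 159, 160, 162, 165, 167, 168, 170, 173, 175, 176, 179, 181, 182, 184, 187, 189, 190, 192, 194, 196, 198, 201, 203, 205, 207, 208, 211, 212, 215, 217, 218, 221, 222, 224, 226, 229, 231, 233, 235, 236, 238,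 240, 243, 245, 246, 249, 250, 252, 255],
  [⟨1, [0, 1, 2, 3, 4, 5, 6, 7, 8, 9, 10, 11, 12, 13, 14, 15],
    [[1, 2, 4, 8, 16, 32, 64, 128],
     [1, 3, 4, 8, 17, 40, 68, 147],
     [1, 2, 5, 8, 25, 33, 66, 167],
     [1, 3, 5, 8, 24, 41, 71, 189],
     [1, 2, 4, 9, 21, 35, 65, 207],
     [1, 3, 4, 9, 20, 42, 69, 217],
     [1, 2, 5, 9, 29, 34, 67, 235],
     [1, 3, 5, 9, 28, 43, 70, 245]]⟩,
   ⟨128, [0, 24, 40, 48, 70, 94, 110, 118, 128, 152, 168, 176, 198, 222, 238, 246],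
    [[1, 2, 4, 8, 16, 32, 64, 128],
     [147, 170, 90, 32, 184, 8, 54, 128],
     [167, 108, 218, 56, 160, 144, 112, 128],
     [235, 68, 132, 144, 136, 56, 134, 128],
     [189, 236, 156, 16, 8, 184, 182, 128],
     [217, 196, 66, 184, 32, 16, 192, 128],
     [245, 130, 194, 160, 56, 136, 6, 128],
     [207, 42, 28, 136, 144, 160, 240, 128]]⟩,
   ⟨130, [0, 21, 34, 55, 64, 85, 98, 119, 130, 151, 160, 181, 194, 215, 224, 245],
    [[1, 2, 4, 8, 16, 32, 64, 128],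
     [144, 192, 68, 63, 67, 96, 64, 66],
     [165, 66, 134, 29, 54, 226, 64, 192],
     [246, 128, 198, 168, 167, 162, 64, 2],
     [190, 162, 211, 42, 250, 128, 194, 32],
     [218, 226, 17, 159, 222, 66, 194, 96],
     [205, 96, 81, 189, 11, 192, 194, 226],
     [233, 32, 147, 138, 111, 2, 194, 162]]⟩]⟩

end XS
end H6
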