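import Mathlib
import Cfsg.Agent.H6.XZDefs

/-!
Models of `Q` (codes `< 512`, bit 8 = z) and of `S = Q ⟨y1, y2, y3⟩` (codes `< 4096`, bits 9, 10, 11).
-/

set_option autoImplicit false

namespace H6
namespace XS

open Subgroup H24 H15 H15.XP Module

/-- multiplication in the model of `Q` -/
def qm (n m : ℕ) : ℕ := (n ^^^ m) % 256 + 256 * ((n / 256 + m / 256 + beN n m) % 2)

/-- the automorphism of the model of `Q` with the given images of the eight letters -/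
def au : List ℕ → ℕ → ℕ
  | [], n => n % 2 * 256
  | m :: M, n => if n % 2 = 1 then qm m (au M (n / 2)) else au M (n / 2)

/-- eight codes `< 512` -/
def AOK (M : List ℕ) : Prop := M.length = 8 ∧ ∀ m ∈ M, m < 512

instance (M : List ℕ) : Decidable (AOK M) := inferInstanceAs (Decidable (_ ∧ _))

/-- the data of a type: action of `y1, y2, y3` on `Q`, the cocycle `y^w y^w' = v^c y^(w+w')`,
the images of the letters under `t`, the element `(x t)³`, the matrices of `R v` -/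
structure SD where
  Y : List (List ℕ)
  cc : ℕ
  ti : List ℕ
  p0 : ℕ
  R : List (List ℕ)

namespace SD

variable (T : SD)

/-- action of `y_(i+1)^(w_i)` -/
def a1 (i w n : ℕ) : ℕ := if bt w i = 1 then au (T.Y.getD i []) n else n

/-- action of `y^w = y1^w0 y2^w1 y3^w2` -/
def aw (w n : ℕ) : ℕ := T.a1 0 w (T.a1 1 w (T.a1 2 w n))

/-- multiplication in the model of `S` -/
def sm (a b : ℕ) : ℕ :=
  qm (qm (a % 512) (T.aw (a / 512) (b % 512))) (bt T.cc (8 * (a / 512) + b / 512)) +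
    512 * (a / 512 ^^^ b / 512)

/-- product of the selected entries -/
def pr : List ℕ → ℕ → ℕ
  | [], _ => 0
  | m :: M, n => if n % 2 = 1 then T.sm m (pr M (n / 2)) else pr M (n / 2)

/-- action of `t` on the codes with bit 7 = 0 -/
def tm (a : ℕ) : ℕ := T.pr T.ti a

end SD

section grp

variable {G : Type*} [Group G] {z : G} {P : Subgroup G} {V : Type*} [AddCommGroup V]
  [Module (ZMod 2) V]

/-- `φ` is an isomorphism of the model onto `Q` -/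
structure Lf (F : Fr z P V) (c : ℕ → V) (φ : ℕ → G) : Prop where
  mem : ∀ n < 512, φ n ∈ P
  pi : ∀ n < 512, F.π (φ n) = c (n % 256)
  mul : ∀ n < 512, ∀ m < 512, φ (qm n m) = φ n * φ m
  zz : φ 256 = z

/-- `g` acts on `Q` as `au M` -/
def Ac (φ : ℕ → G) (g : G) (M : List ℕ) : Prop :=
  AOK M ∧ ∀ n < 512, g * φ n * g⁻¹ = φ (au M n)

/-- the Sylow subgroup `S` and the involution `t ∈ Q_v − C(z)` -/
structure SB (D : Set G) (Q : G → Subgroup G) {z : G} (F : Fr z (Q z) V) (c : ℕ → V) (T : SD)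
    (ψ : ℕ → G) (t : G) : Prop where
  lf : Lf F c ψ
  mul : ∀ a < 4096, ∀ b < 4096, ψ (T.sm a b) = ψ a * ψ b
  cz : ∀ a < 4096, ψ a ∈ C{z}
  rp : ∀ w < 8, ∀ g : C{z}, (g : G) = ψ (512 * w) → Rp c (F.ρ g) (T.R.getD w [])
  vD : ψ 1 ∈ D
  memv : ∀ a < 4096, a % 256 < 16 → ψ a ∈ Q (ψ 1)
  tQ : t ∈ Q (ψ 1)
  tt : t * t = 1
  tz : t ∉ C{z}
  cj : ∀ a < 4096, a % 256 < 128 → t * ψ a * t = ψ (T.tm a)
  cube : (ψ 128 * t) ^ 3 = ψ T.p0

end grp

def s1 : SD := ⟨[[1, 3, 4, 8, 16, 40, 68, 144], [1, 2, 5, 8, 24, 32, 66, 160], [1, 2, 4, 9, 20, 34, 64, 192]],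
  0, [1, 2, 4, 8, 528, 1056, 2112, 0, 257, 512, 1024, 2048], 0,
  [[1, 2, 4, 8, 16, 32, 64, 128],
   [1, 3, 4, 8, 16, 40, 68, 144],
   [1, 2, 5, 8, 24, 32, 66, 160],
   [1, 3, 5, 8, 24, 40, 71, 184],
   [1, 2, 4, 9, 20, 34, 64, 192],
   [1, 3, 4, 9, 20, 43, 68, 212],
   [1, 2, 5, 9, 29, 34, 66, 226],
   [1, 3, 5, 9, 29, 43, 71, 255]]⟩

def s3 : SD := ⟨[[1, 3, 4, 8, 16, 40, 68, 144], [1, 2, 5, 8, 24, 32, 66, 160], [1, 2, 4, 9, 21, 35, 64, 198]],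
  7378697627765833728, [1, 2, 4, 8, 536, 1064, 2118, 0, 257, 512, 1024, 2048], 0,
  [[1, 2, 4, 8, 16, 32, 64, 128],
   [1, 3, 4, 8, 16, 40, 68, 144],
   [1, 2, 5, 8, 24, 32, 66, 160],
   [1, 3, 5, 8, 24, 40, 71, 184],
   [1, 2, 4, 9, 21, 35, 64, 198],
   [1, 3, 4, 9, 21, 42, 68, 211],
   [1, 2, 5, 9, 28, 35, 66, 229],
   [1, 3, 5, 9, 28, 42, 71, 249]]⟩

def s7 : SD := ⟨[[1, 3, 4, 8, 17, 40, 68, 147], [1, 2, 5, 8, 25, 33, 66, 167], [1, 2, 4, 9, 21, 35, 65, 207]],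
  6552804076196112896, [1, 2, 4, 8, 796, 1322, 2374, 0, 257, 512, 1024, 2048], 14,
  [[1, 2, 4, 8, 16, 32, 64, 128],
   [1, 3, 4, 8, 17, 40, 68, 147],
   [1, 2, 5, 8, 25, 33, 66, 167],
   [1, 3, 5, 8, 24, 41, 71, 189],
   [1, 2, 4, 9, 21, 35, 65, 207],
   [1, 3, 4, 9, 20, 42, 69, 217],
   [1, 2, 5, 9, 29, 34, 67, 235],
   [1, 3, 5, 9, 28, 43, 70, 245]]⟩

end XS
end H6
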