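import Mathlib
import Cfsg.Agent.H6.XZDefs
import Cfsg.Agent.H6.XB

set_option autoImplicit false
set_option linter.unusedSectionVars false
set_option linter.unusedVariables false

/-! Bit coordinates: basic API. -/

namespace H6
namespace XS

open Subgroup H24 H15 H15.XP Module

variable {V : Type*} [AddCommGroup V] [Module (ZMod 2) V] [Finite V] {q : QuadraticForm (ZMod 2) V}
variable {H : Subgroup (ofQuad q).Isom} {S : Set V} {E : V → Submodule (ZMod 2) V}
  {R : V → Subgroup (ofQuad q).Isom}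

variable {c : ℕ → V} {a b : ℕ} {M N : List ℕ} {h k : (ofQuad q).Isom}

/-- the product of the matrices number `w₀, w₁, …` (leftmost acts last) -/
def evM (Ms : List (List ℕ)) : List ℕ → List ℕ
  | [] => idM
  | i :: w => cmp (Ms.getD i idM) (evM Ms w)

/-- `M` is an isometry of the codes with inverse `N` -/
def isoB (M N : List ℕ) : Bool :=
  decide (MOK M) && decide (MOK N) && cmp M N == idM && cmp N M == idM &&
    (List.range 8).all fun i => qN (app M (2 ^ i)) == 0 &&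
      (List.range 8).all fun j => polN (app M (2 ^ i)) (app M (2 ^ j)) == polN (2 ^ i) (2 ^ j)

/-- the image of a point -/
def Pt.mv (p : Pt) (M N : List ℕ) : Pt := ⟨app M p.u, p.E.map (app M), p.R.map fun Y => cmp M (cmp Y N)⟩

/-- `p` and `p'` have the same entries -/
def Pt.sameB (p p' : Pt) : Bool :=
  p.u == p'.u && p.E.all (p'.E.contains ·) && p'.E.all (p.E.contains ·) &&
    p.R.all (p'.R.contains ·) && p'.R.all (p.R.contains ·)

/-- backtrack search: `bs` = vectors with candidate images, `acc` = pairs (vector, image) -/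
def go (k : List (ℕ × ℕ) → Bool) : List (ℕ × List ℕ) → List (ℕ × ℕ) → Bool
  | [], acc => k acc
  | b :: bs, acc => b.2.all fun m =>
      !(qN m == qN b.1 && acc.all fun p => polN p.2 m == polN p.1 b.1) || go k bs ((b.1, m) :: acc)

theorem app_zero : ∀ M : List ℕ, app M 0 = 0
  | [] => rfl
  | m :: M => by simp [app, app_zero M]

theorem xor_lt (ha : a < 256) (hb : b < 256) : a ^^^ b < 256 := Nat.xor_lt_two_pow (n := 8) ha hb

theorem app_lt' : ∀ (M : List ℕ), (∀ m ∈ M, m < 256) → ∀ a, app M a < 256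
  | [], _, _ => by simp [app]
  | m :: M, h, a => by
    refine xor_lt ?_ (app_lt' M (fun x hx => h x (List.mem_cons_of_mem _ hx)) _)
    have := h m List.mem_cons_self
    rcases Nat.mod_two_eq_zero_or_one a with e | e <;> rw [e] <;> omega

theorem bt_xor (a b i : ℕ) : ((bt (a ^^^ b) i : ℕ) : ZMod 2) = bt a i + bt b i := by
  unfold bt
  rw [Nat.xor_div_two_pow, Nat.xor_mod_two_eq]
  simp

theorem beN_cast (a b : ℕ) : ((beN a b : ℕ) : ZMod 2) =
    bt a 7 * bt b 0 + bt a 4 * bt b 1 + bt a 5 * bt b 2 + bt a 6 * bt b 3 := by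
  unfold beN
  simp

theorem beN_xor_left (a b d : ℕ) : ((beN (a ^^^ b) d : ℕ) : ZMod 2) = beN a d + beN b d := by
  simp only [beN_cast, bt_xor]; ring

theorem beN_xor_right (a b d : ℕ) : ((beN d (a ^^^ b) : ℕ) : ZMod 2) = beN d a + beN d b := by
  simp only [beN_cast, bt_xor]; ring

theorem polN_cast (a b : ℕ) : ((polN a b : ℕ) : ZMod 2) = beN a b + beN b a := by
  unfold polN
  simp

theorem qN_xor (a b : ℕ) : ((qN (a ^^^ b) : ℕ) : ZMod 2) = qN a + qN b + polN a b := by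
  unfold qN
  rw [beN_xor_left, beN_xor_right, beN_xor_right, polN_cast]; ring

theorem qN_lt (a : ℕ) : qN a < 2 := Nat.mod_lt _ (by norm_num)

theorem polN_lt (a b : ℕ) : polN a b < 2 := Nat.mod_lt _ (by norm_num)

theorem cast_inj2 {x y : ℕ} (hx : x < 2) (hy : y < 2) : (x : ZMod 2) = y ↔ x = y := by
  interval_cases x <;> interval_cases y <;> decide

theorem len8 {M : List ℕ} (h : M.length = 8) :
    ∃ m0 m1 m2 m3 m4 m5 m6 m7, M = [m0, m1, m2, m3, m4, m5, m6, m7] := by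
  match M, h with
  | [m0, m1, m2, m3, m4, m5, m6, m7], _ => exact ⟨_, _, _, _, _, _, _, _, rfl⟩

theorem app_pow (hM : M.length = 8) {i : ℕ} (hi : i < 8) : app M (2 ^ i) = M.getD i 0 := by
  obtain ⟨m0, m1, m2, m3, m4, m5, m6, m7, rfl⟩ := len8 hM
  interval_cases i <;> simp [app]

theorem idM_ok : MOK idM := by decide

theorem app_lt (hM : MOK M) (a : ℕ) : app M a < 256 := app_lt' M hM.2 a
theorem app_xor (M : List ℕ) (a b : ℕ) : app M (a ^^^ b) = app M a ^^^ app M b := by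
  induction M generalizing a b with
  | nil => simp [app]
  | cons m M ih =>
    simp only [app, Nat.xor_div_two, ih, Nat.xor_mod_two_eq]
    have e : (a + b) % 2 * m = a % 2 * m ^^^ b % 2 * m := by
      rcases Nat.mod_two_eq_zero_or_one a with e | e <;>
        rcases Nat.mod_two_eq_zero_or_one b with e' | e' <;> simp [Nat.add_mod, e, e']
    rw [e]; ac_rfl
theorem app_cmp (M N : List ℕ) (a : ℕ) : app (cmp M N) a = app M (app N a) := by
  induction N generalizing a with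
  | nil => simp [cmp, app, app_zero]
  | cons m N ih =>
    have := ih (a / 2)
    simp only [cmp, List.map_cons, app, app_xor] at this ⊢
    rw [this]
    rcases Nat.mod_two_eq_zero_or_one a with e | e <;> simp [e, app_zero]
theorem app_idM (ha : a < 256) : app idM a = a := by
  revert a; decide +kernel
theorem MOK.cmp (hM : MOK M) (hN : MOK N) : MOK (cmp M N) := ⟨by simp [XS.cmp, hN.1], fun m hm => by
  obtain ⟨x, -, rfl⟩ := List.mem_map.1 hm
  exact app_lt hM x⟩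
theorem Cd.zero (hc : Cd q c) : c 0 = 0 := by
  have := hc.add 0 (by norm_num) 0 (by norm_num)
  simpa using this
theorem Cd.eq_iff (hc : Cd q c) (ha : a < 256) (hb : b < 256) : c a = c b ↔ a = b := by
  refine ⟨fun e => Nat.xor_eq_zero_iff.1 (hc.inj _ (xor_lt ha hb) ?_), fun e => e ▸ rfl⟩
  rw [hc.add a ha b hb, e, ← two_smul (ZMod 2)]
  exact zero_smul _ _
theorem Cd.pol (hc : Cd q c) (ha : a < 256) (hb : b < 256) :
    pol q (c a) (c b) = (polN a b : ZMod 2) := by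
  rw [pol_eq, QuadraticMap.polar, ← hc.add a ha b hb, hc.qq _ (xor_lt ha hb), hc.qq a ha, hc.qq b hb,
    qN_xor]
  ring
theorem Cd.pol0 (hc : Cd q c) (ha : a < 256) (hb : b < 256) :
    H15.pol q (c a) (c b) = 0 ↔ polN a b = 0 := by
  rw [hc.pol ha hb]; exact cast_inj2 (y := 0) (polN_lt _ _) (by norm_num)
theorem Cd.pol1 (hc : Cd q c) (ha : a < 256) (hb : b < 256) :
    H15.pol q (c a) (c b) = 1 ↔ polN a b = 1 := by
  rw [hc.pol ha hb]; exact cast_inj2 (y := 1) (polN_lt _ _) (by norm_num)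
theorem Cd.q0 (hc : Cd q c) (ha : a < 256) : q (c a) = 0 ↔ qN a = 0 := by
  rw [hc.qq a ha]; exact cast_inj2 (y := 0) (qN_lt _) (by norm_num)
theorem Cd.q1 (hc : Cd q c) (ha : a < 256) : q (c a) = 1 ↔ qN a = 1 := by
  rw [hc.qq a ha]; exact cast_inj2 (y := 1) (qN_lt _) (by norm_num)
/-- the combination of the vectors `l` with coefficient mask `m` -/
theorem Cd.lin (hc : Cd q c) : ∀ (l : List (ℕ × ℕ)), (∀ p ∈ l, p.1 < 256 ∧ p.2 < 256 ∧ h.1 (c p.1) = c p.2) →
    ∀ m, h.1 (c (app (l.map Prod.fst) m)) = c (app (l.map Prod.snd) m) := by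
  intro l
  induction l with
  | nil => intro _ m; simp [app, hc.zero]
  | cons p l ih =>
    intro hl m
    have h0 := hl p List.mem_cons_self
    have h1 : ∀ x ∈ l, x.1 < 256 ∧ x.2 < 256 ∧ h.1 (c x.1) = c x.2 :=
      fun x hx => hl x (List.mem_cons_of_mem _ hx)
    have a1 := app_lt' (l.map Prod.fst) (fun x hx => by
      obtain ⟨y, hy, rfl⟩ := List.mem_map.1 hx; exact (h1 y hy).1) (m / 2)
    have a2 := app_lt' (l.map Prod.snd) (fun x hx => by
      obtain ⟨y, hy, rfl⟩ := List.mem_map.1 hx; exact (h1 y hy).2.1) (m / 2)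
    simp only [List.map_cons, app]
    rcases Nat.mod_two_eq_zero_or_one m with e | e
    · simpa [e] using ih h1 (m / 2)
    · rw [e, one_mul, one_mul, hc.add _ h0.1 _ a1, hc.add _ h0.2.1 _ a2, map_add, h0.2.2, ih h1]
theorem Cd.rp (hc : Cd q c) (hM : MOK M) (e : ∀ i < 8, h.1 (c (2 ^ i)) = c (app M (2 ^ i))) :
    Rp c h M := by
  refine ⟨hM, fun a ha => ?_⟩
  have l := hc.lin (h := h) (idM.zip M) (fun p hp => ?_) a
  · rwa [List.map_fst_zip (by rw [hM.1]; decide), List.map_snd_zip (by rw [hM.1]; decide),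
      app_idM ha] at l
  · obtain ⟨i, hi, rfl⟩ := List.getElem_of_mem hp
    have hi' : i < 8 := by
      rw [List.length_zip, hM.1] at hi; exact lt_of_lt_of_le hi (min_le_right _ _)
    have e1 : (idM.zip M)[i].1 = 2 ^ i := by
      rw [List.getElem_zip]; interval_cases i <;> rfl
    have e2 : (idM.zip M)[i].2 = app M (2 ^ i) := by
      rw [List.getElem_zip, app_pow hM.1 hi', List.getD_eq_getElem _ _ (hM.1 ▸ hi')]
    rw [e1, e2]
    exact ⟨Nat.pow_lt_pow_right (n := 8) (by norm_num) hi', app_lt hM _, e i hi'⟩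
theorem Cd.exists_rp (hc : Cd q c) (h : (ofQuad q).Isom) : ∃ M, Rp c h M := by
  choose f f1 f2 using hc.surj
  have ok : MOK ((List.range 8).map fun i => f (h.1 (c (2 ^ i)))) := ⟨by simp, fun m hm => by
    obtain ⟨x, -, rfl⟩ := List.mem_map.1 hm
    exact f1 _⟩
  refine ⟨_, hc.rp ok fun i hi => ?_⟩
  rw [app_pow ok.1 hi, List.getD_eq_getElem _ _ (by simpa using hi)]
  simp [f2]
theorem Cd.rp_one (hc : Cd q c) : Rp (q := q) c 1 idM := ⟨idM_ok, fun a ha => by rw [app_idM ha]; rfl⟩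
theorem Rp.mul (h1 : Rp c h M) (h2 : Rp c k N) : Rp c (h * k) (cmp M N) := ⟨h1.1.cmp h2.1, fun a ha => by
  rw [Form.Isom.mul_apply, h2.2 a ha, h1.2 _ (app_lt h2.1 a), app_cmp]⟩
theorem Cd.ext (hc : Cd q c) (h1 : Rp c h M) (h2 : Rp c k M) : h = k := Form.Isom.ext fun x => by
  obtain ⟨a, ha, rfl⟩ := hc.surj x
  rw [h1.2 a ha, h2.2 a ha]
theorem Cd.uniq (hc : Cd q c) (h1 : Rp c h M) (h2 : Rp c h N) : M = N := by
  refine List.ext_getElem (h1.1.1.trans h2.1.1.symm) fun i hi hi' => ?_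
  have hi8 : i < 8 := h1.1.1 ▸ hi
  have p : 2 ^ i < 256 := Nat.pow_lt_pow_right (n := 8) (by norm_num) hi8
  have := (hc.eq_iff (app_lt h1.1 _) (app_lt h2.1 _)).1 ((h1.2 _ p).symm.trans (h2.2 _ p))
  rwa [app_pow h1.1.1 hi8, app_pow h2.1.1 hi8, List.getD_eq_getElem _ _ hi,
    List.getD_eq_getElem _ _ hi'] at this
theorem Cd.rp_inv (hc : Cd q c) (h1 : Rp c h M) (hN : MOK N) (e : cmp M N = idM) : Rp c h⁻¹ N := ⟨hN, fun a ha => by
  have := h1.2 _ (app_lt hN a)
  rw [← app_cmp, e, app_idM ha] at this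
  rw [← this, Form.Isom.inv_apply_apply]⟩
theorem Cd.exists_isom (hc : Cd q c) (e : isoB M N = true) : ∃ h : (ofQuad q).Isom, Rp c h M := by
  simp only [isoB, Bool.and_eq_true, decide_eq_true_eq, beq_iff_eq, List.all_eq_true,
    List.mem_range] at e
  obtain ⟨⟨⟨⟨hM, hN⟩, e1⟩, e2⟩, e3⟩ := e
  choose f f1 f2 using hc.surj
  have fc : ∀ a < 256, f (c a) = a := fun a ha => (hc.eq_iff (f1 _) ha).1 (f2 _)
  have fa : ∀ x y, f (x + y) = f x ^^^ f y := fun x y =>
    (hc.eq_iff (f1 _) (xor_lt (f1 _) (f1 _))).1 (by rw [hc.add _ (f1 _) _ (f1 _), f2, f2, f2])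
  have ad : ∀ {K : List ℕ}, MOK K → ∀ x y, c (app K (f (x + y))) = c (app K (f x)) + c (app K (f y)) :=
    fun hK x y => by rw [fa, app_xor, hc.add _ (app_lt hK _) _ (app_lt hK _)]
  let g : V ≃+ V :=
    { toFun := fun x => c (app M (f x))
      invFun := fun x => c (app N (f x))
      left_inv := fun x => by
        beta_reduce; rw [fc _ (app_lt hM _), ← app_cmp, e2, app_idM (f1 _), f2]
      right_inv := fun x => by
        beta_reduce; rw [fc _ (app_lt hN _), ← app_cmp, e1, app_idM (f1 _), f2]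
      map_add' := ad hM }
  let g' : V ≃ₗ[ZMod 2] V := g.toLinearEquiv fun r x => by
    have : r = 0 ∨ r = 1 := by revert r; decide
    rcases this with rfl | rfl
    · rw [zero_smul, zero_smul, map_zero]
    · rw [one_smul, one_smul]
  have gc : ∀ a < 256, g' (c a) = c (app M a) := fun a ha => by
    change c (app M (f (c a))) = _
    rw [fc a ha]
  have p2 : ∀ i < 8, 2 ^ i < 256 := fun i hi => Nat.pow_lt_pow_right (n := 8) (by norm_num) hi
  have ind : ∀ P : V → Prop, P 0 → (∀ i < 8, ∀ x, P x → P (c (2 ^ i) + x)) → ∀ x, P x := by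
    intro P p0 p1 x
    obtain ⟨a, ha, rfl⟩ := hc.surj x
    have key : ∀ n ≤ 8, ∀ a < 2 ^ n, P (c a) := by
      intro n
      induction n with
      | zero => intro _ a ha; obtain rfl : a = 0 := by omega
                rw [hc.zero]; exact p0
      | succ n ih =>
        intro hn a ha
        by_cases l : a < 2 ^ n
        · exact ih (by omega) a l
        · have l2 : a - 2 ^ n < 2 ^ n := by rw [pow_succ] at ha; omega
          have : a = 2 ^ n ^^^ (a - 2 ^ n) := by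
            have k : ∀ n < 8, ∀ b < 2 ^ n, 2 ^ n ^^^ b = 2 ^ n + b := by decide +kernel
            rw [k n (by omega) _ l2]; omega
          rw [this, hc.add _ (p2 n (by omega)) _ (l2.trans (p2 n (by omega)))]
          exact p1 n (by omega) _ (ih (by omega) _ l2)
    exact key 8 le_rfl a ha
  have pb : ∀ i < 8, ∀ y, H15.pol q (g' (c (2 ^ i))) (g' y) = H15.pol q (c (2 ^ i)) y := fun i hi =>
    ind _ (by simp) fun j hj y hy => by
      rw [map_add, map_add, map_add, hy, gc _ (p2 i hi), gc _ (p2 j hj),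
        hc.pol (app_lt hM _) (app_lt hM _), hc.pol (p2 i hi) (p2 j hj), (e3 i hi).2 j hj]
  refine ⟨⟨g', (mem_Isom_ofQuad q _).2 (ind _ (by simp) fun i hi x hx => ?_)⟩, hM, gc⟩
  have a1 : ∀ u w : V, q (u + w) = q u + q w + H15.pol q u w := fun u w => by
    rw [pol_eq, QuadraticMap.polar]; ring
  have a2 : qN (2 ^ i) = 0 := by interval_cases i <;> rfl
  rw [map_add, a1, a1, hx, pb i hi, gc _ (p2 i hi), hc.qq _ (app_lt hM _), hc.qq _ (p2 i hi),
    (e3 i hi).1, a2]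
theorem Cd.comp (hc : Cd q c) (h : (ofQuad q).Isom) : Cd q fun a => h.1 (c a) := ⟨fun a ha b hb => by rw [hc.add a ha b hb, map_add],
  fun a ha e => hc.inj a ha (h.1.map_eq_zero_iff.1 e), fun v => by
    obtain ⟨a, ha, e⟩ := hc.surj (h⁻¹.1 v)
    exact ⟨a, ha, by rw [e, Form.Isom.apply_inv_apply]⟩,
  fun a ha => by rw [Form.Isom.map_quad, hc.qq a ha]⟩
theorem Cd.evM (hc : Cd q c) {K : Subgroup (ofQuad q).Isom} {Ms : List (List ℕ)}
    (hK : ∀ M ∈ Ms, ∃ y ∈ K, Rp c y M) (w : List ℕ) : ∃ y ∈ K, Rp c y (evM Ms w) := by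
  induction w with
  | nil => exact ⟨1, one_mem _, hc.rp_one⟩
  | cons i w ih =>
    obtain ⟨y, h1, h2⟩ := ih
    have : ∃ y ∈ K, Rp c y (Ms.getD i idM) := by
      by_cases l : i < Ms.length
      · rw [List.getD_eq_getElem _ _ l]; exact hK _ (List.getElem_mem l)
      · rw [List.getD_eq_default _ _ (not_lt.1 l)]; exact ⟨1, one_mem _, hc.rp_one⟩
    obtain ⟨x, h3, h4⟩ := this
    exact ⟨x * y, mul_mem h3 h1, h4.mul h2⟩
theorem At.same {p p' : Pt} (hp : At c E R p) (e : p.sameB p' = true) : At c E R p' := by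
  simp only [Pt.sameB, Bool.and_eq_true, beq_iff_eq, List.all_eq_true, List.contains_iff_mem] at e
  obtain ⟨⟨⟨⟨e1, e2⟩, e3⟩, e4⟩, e5⟩ := e
  refine ⟨e1 ▸ hp.lt, fun a ha => hp.ltE a (e3 a ha), fun a ha => e1 ▸ (hp.memE a ha).trans ⟨e2 a, e3 a⟩,
    fun y hy => ?_, fun M hM => e1 ▸ hp.toR M (e5 M hM)⟩
  obtain ⟨M, h1, h2⟩ := hp.ofR y (e1 ▸ hy)
  exact ⟨M, e4 M h1, h2⟩
theorem At.mv {w : ℕ} {p : Pt} (hv : VD H S E R w) (hc : Cd q c) (hp : At c E R p) (hS : c p.u ∈ S)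
    (hh : h ∈ H) (h1 : Rp c h M) (h2 : Rp c h⁻¹ N) : At c E R (p.mv M N) := by
  have e : c (app M p.u) = h.1 (c p.u) := (h1.2 _ hp.lt).symm
  refine ⟨app_lt h1.1 _, fun a ha => ?_, fun a ha => ?_, fun y hy => ?_, fun Y hY => ?_⟩
  · obtain ⟨x, -, rfl⟩ := List.mem_map.1 ha
    exact app_lt h1.1 _
  · change c a ∈ E (c (app M p.u)) ↔ a ∈ p.E.map (app M)
    rw [e, ← Form.Isom.apply_inv_apply h (c a), hv.eqE h hh _ hS, h2.2 a ha, hp.memE _ (app_lt h2.1 _),
      List.mem_map]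
    refine ⟨fun k => ⟨_, k, (hc.eq_iff (app_lt h1.1 _) ha).1 ?_⟩, ?_⟩
    · rw [← h1.2 _ (app_lt h2.1 _), ← h2.2 a ha, Form.Isom.apply_inv_apply]
    · rintro ⟨x, hx, rfl⟩
      rwa [(hc.eq_iff (app_lt h2.1 _) (hp.ltE x hx)).1 (by
        rw [← h2.2 _ ha, ← h1.2 _ (hp.ltE x hx), Form.Isom.inv_apply_apply])]
  · change y ∈ R (c (app M p.u)) at hy
    rw [e, show y = h * (h⁻¹ * y * h) * h⁻¹ by group, hv.eqR h hh _ hS] at hy
    obtain ⟨Y, k1, k2⟩ := hp.ofR _ hy
    refine ⟨_, List.mem_map.2 ⟨Y, k1, rfl⟩, ?_⟩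
    rw [show y = h * (h⁻¹ * y * h * h⁻¹) by group]
    exact h1.mul (k2.mul h2)
  · obtain ⟨Y, k1, rfl⟩ := List.mem_map.1 hY
    obtain ⟨y, k2, k3⟩ := hp.toR Y k1
    refine ⟨h * (y * h⁻¹), ?_, h1.mul (k3.mul h2)⟩
    change _ ∈ R (c (app M p.u))
    rw [e, ← mul_assoc, hv.eqR h hh _ hS]
    exact k2
/-- change of coordinates `c' = h⁻¹ c`-free form: `c' a = h (c a)`, `Rp c h N`, `Rp c h⁻¹ M` -/
theorem At.chg {p : Pt} (hc : Cd q c) (hp : At c E R p) (h1 : Rp c h N) (h2 : Rp c h⁻¹ M) :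
    At (fun a => h.1 (c a)) E R (p.mv M N) := by
  have e : ∀ a < 256, h.1 (c (app M a)) = c a := fun a ha => by
    rw [← h2.2 a ha, Form.Isom.apply_inv_apply]
  have r : ∀ {y : (ofQuad q).Isom} {Y : List ℕ}, Rp c y Y →
      Rp (fun a => h.1 (c a)) y (cmp M (cmp Y N)) := fun {y Y} k =>
    ⟨h2.1.cmp (k.1.cmp h1.1), fun a ha => by
      beta_reduce
      rw [app_cmp, e _ (app_lt (k.1.cmp h1.1) _), app_cmp, h1.2 a ha, k.2 _ (app_lt h1.1 _)]⟩
  refine ⟨app_lt h2.1 _, fun a ha => ?_, fun a ha => ?_, fun y hy => ?_, fun Y hY => ?_⟩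
  · obtain ⟨x, -, rfl⟩ := List.mem_map.1 ha
    exact app_lt h2.1 _
  · change h.1 (c a) ∈ E (h.1 (c (app M p.u))) ↔ a ∈ p.E.map (app M)
    rw [e _ hp.lt, h1.2 a ha, hp.memE _ (app_lt h1.1 _), List.mem_map]
    refine ⟨fun k => ⟨_, k, (hc.eq_iff (app_lt h2.1 _) ha).1 ?_⟩, ?_⟩
    · rw [← h2.2 _ (app_lt h1.1 _), ← h1.2 a ha, Form.Isom.inv_apply_apply]
    · rintro ⟨x, hx, rfl⟩
      rwa [(hc.eq_iff (app_lt h1.1 _) (hp.ltE x hx)).1 (by rw [← h1.2 _ ha, e _ (hp.ltE x hx)])]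
  · change y ∈ R (h.1 (c (app M p.u))) at hy
    rw [e _ hp.lt] at hy
    obtain ⟨Y, k1, k2⟩ := hp.ofR _ hy
    exact ⟨_, List.mem_map.2 ⟨Y, k1, rfl⟩, r k2⟩
  · obtain ⟨Y, k1, rfl⟩ := List.mem_map.1 hY
    obtain ⟨y, k2, k3⟩ := hp.toR Y k1
    refine ⟨y, ?_, r k3⟩
    change _ ∈ R (h.1 (c (app M p.u)))
    rwa [e _ hp.lt]
theorem Cd.go (hc : Cd q c) {k : List (ℕ × ℕ) → Bool} : ∀ (bs : List (ℕ × List ℕ)) (acc : List (ℕ × ℕ)),
    (∀ b ∈ bs, b.1 < 256 ∧ ∃ m ∈ b.2, m < 256 ∧ h.1 (c b.1) = c m) →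
    (∀ p ∈ acc, p.1 < 256 ∧ p.2 < 256 ∧ h.1 (c p.1) = c p.2) → go k bs acc = true →
    ∃ l, l.map Prod.fst = (bs.map Prod.fst).reverse ++ acc.map Prod.fst ∧
      (∀ p ∈ l, p.1 < 256 ∧ p.2 < 256 ∧ h.1 (c p.1) = c p.2) ∧ k l = true := by
  intro bs
  induction bs with
  | nil => intro acc _ h2 h3; exact ⟨acc, by simp, h2, h3⟩
  | cons b bs ih =>
    intro acc h1 h2 h3
    obtain ⟨b1, m, m1, m2, m3⟩ := h1 b List.mem_cons_self
    have k1 := List.all_eq_true.1 h3 m m1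
    have k2 : (qN m == qN b.1 && acc.all fun p => polN p.2 m == polN p.1 b.1) = true := by
      simp only [Bool.and_eq_true, beq_iff_eq, List.all_eq_true]
      refine ⟨(cast_inj2 (qN_lt _) (qN_lt _)).1 ?_, fun p hp => (cast_inj2 (polN_lt _ _) (polN_lt _ _)).1 ?_⟩
      · rw [← hc.qq _ m2, ← hc.qq _ b1, ← m3, Form.Isom.map_quad]
      · obtain ⟨p1, p2, p3⟩ := h2 p hp
        rw [← hc.pol p2 m2, ← hc.pol p1 b1, ← m3, ← p3, Form.Isom.map_pol]
    rw [k2, Bool.not_true, Bool.false_or] at k1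
    obtain ⟨l, l1, l2, l3⟩ := ih ((b.1, m) :: acc) (fun x hx => h1 x (List.mem_cons_of_mem _ hx))
      (fun p hp => by
        rcases List.mem_cons.1 hp with rfl | hp
        exacts [⟨b1, m2, m3⟩, h2 p hp]) k1
    exact ⟨l, by simp [l1], l2, l3⟩

end XS
end H6
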