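import Mathlib
import Cfsg.Agent.H6.XZA0
import Cfsg.Agent.H6.XZB
import Cfsg.Agent.H6.XV0
import Cfsg.Agent.H18.XZc

/-! The first half of the block (API of `Lf` and `Ac`) is in `H18/XZb`. -/

set_option autoImplicit false
set_option linter.unusedSectionVars false
set_option linter.unusedVariables false

namespace H6
namespace XS

open Subgroup H24 H15 H15.XP Module
open scoped Pointwise

variable {G : Type*} [Group G] [Finite G] {D : Set G} {Q : G → Subgroup G} {z : G}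
variable {V : Type*} [AddCommGroup V] [Module (ZMod 2) V] [Finite V]
variable {F : Fr z (Q z) V} {E : V → Submodule (ZMod 2) V} {R : V → Subgroup (ofQuad F.q).Isom}
variable {c : ℕ → V}

namespace ZA

variable {φ y : ℕ → G} {g t : G} {T : SD} {a b : ℕ}

variable (Q z φ y t) in
/-- the involution `t` -/
structure TB : Prop where
  tQ : t ∈ Q (φ 1)
  tt : t * t = 1
  tz : t * z * t = φ 1 * z
  ce : ∀ i < 4, t ∈ C{φ (2 ^ i)}
  cy : ∀ i < 3, t ∈ C{y i}

namespace Bs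

variable (B : Bs D Q F c φ T) (Y : YB Q z φ y T)
include B Y

theorem exists_tb : ∃ t, TB Q z φ y t := by
  let S : Set G := {g | ∃ a < 4096, a % 512 < 16 ∧ ps φ y a = g}
  have gen : ∀ g ∈ [1, 2, 4, 8, 512, 1024, 2048], ps φ y g ∈ MulAction.stabilizer G S ⊓ Q (φ 1) :=
    fun g hg => by
      have g1 : g < 4096 ∧ g % 256 < 16 := by revert g; decide
      refine ⟨(MulAction.mem_stabilizer_set_iff_smul_set_subset (Set.toFinite S)).2 ?_, B.memv Y g1.2⟩
      rintro _ ⟨_, ⟨a, ha, h1, rfl⟩, rfl⟩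
      refine ⟨_, sm_lt T g1.1 ha, ?_, B.mul Y g1.1 ha⟩
      have := B.ok.cl g hg (a % 512) h1 (a / 512) (by omega)
      rwa [Nat.mod_add_div] at this
  have v1 := gen 1 (by simp)
  rw [ps_lo (by norm_num)] at v1
  have dd := B.h.dual_dual B.vD inf_le_right v1
  have zA : z ∉ MulAction.stabilizer G S ⊓ Q (φ 1) := fun e => by
    have : z • (1 : G) ∈ z • S := Set.smul_mem_smul_set
      ⟨0, by norm_num, by norm_num, (ps_lo (by norm_num)).trans (lf_one B.l)⟩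
    rw [show z • S = S from e.1] at this
    obtain ⟨a, ha, h1, e1⟩ := this
    rw [smul_eq_mul, mul_one, ← B.l.zz, ← ps_lo (φ := φ) (y := y) (a := 256) (by norm_num)] at e1
    have := B.pinj Y ha (by norm_num) e1
    omega
  obtain ⟨t, ht, e⟩ : ∃ t ∈ Q (φ 1) ⊓ C[MulAction.stabilizer G S ⊓ Q (φ 1)], t * z ≠ z * t := by
    by_contra! k
    exact zA (dd.le ⟨B.zQ, mem_C.2 k⟩)
  have e1 : t * z * t⁻¹ = φ 1 * z :=
    (B.h.cj_or B.vD ht.1 B.zQ).resolve_left fun k => e (mul_inv_eq_iff_eq_mul.1 k)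
  have ce : ∀ i < 4, t ∈ C{φ (2 ^ i)} := fun i hi => by
    have := mem_C_iff_le_C1.1 ht.2 (gen (2 ^ i) (by interval_cases i <;> simp))
    rwa [ps_lo (by interval_cases i <;> norm_num), mem_C1_comm] at this
  have cy : ∀ i < 3, t ∈ C{y i} := fun i hi => by
    have := mem_C_iff_le_C1.1 ht.2 (gen (512 * 2 ^ i) (by interval_cases i <;> simp))
    rwa [B.ps_y Y hi, mem_C1_comm] at this
  rcases B.h.sq_or B.vD ht.1 with e2 | e2
  · exact ⟨t, ht.1, e2, by rwa [inv_eq_of_mul_eq_one_right e2] at e1, ce, cy⟩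
  have e3 : t * z * (t * z) = 1 := by
    calc _ = t * z * t⁻¹ * (t * t) * z := by group
      _ = φ 1 * (z * φ 1) * z := by rw [e1, e2]; group
      _ = 1 := by rw [B.zv, ← mul_assoc, B.h.sq B.vD, one_mul, B.h.sq B.hz]
  refine ⟨t * z, mul_mem ht.1 B.zQ, e3, ?_, fun i hi => mul_mem (ce i hi) (mem_C1_comm.1 (B.cz ?_)),
    fun i hi => mul_mem (cy i hi) (mem_C1_comm.1 (Y.cz i hi))⟩
  · nth_rewrite 2 [← inv_eq_of_mul_eq_one_right e3]
    rw [← e1]; group
  · interval_cases i <;> norm_num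

variable (t0 : TB Q z φ y t)
include t0

theorem tau (hf : ∀ j < 3, bt a (4 + j) = 1 → t * φ (2 ^ (4 + j)) * t = ps φ y (T.ti.getD (4 + j) 0))
    (h7 : bt a 7 = 0) : t * ps φ y a * t = ps φ y (T.tm a) := by
  have ti : t⁻¹ = t := inv_eq_of_mul_eq_one_right t0.tt
  rw [SD.tm, B.ps_pr Y _ B.ok.tl, B.ps_pw Y]
  nth_rewrite 2 [← ti]
  refine (pw_map (MulAut.conj t).toMonoidHom _ a).trans ?_
  have e0 := mem_C1_iff_conj.1 (t0.ce 0 (by norm_num))
  have e1 := mem_C1_iff_conj.1 (t0.ce 1 (by norm_num))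
  have e2 := mem_C1_iff_conj.1 (t0.ce 2 (by norm_num))
  have e3 := mem_C1_iff_conj.1 (t0.ce 3 (by norm_num))
  have e4 := hf 0 (by norm_num)
  have e5 := hf 1 (by norm_num)
  have e6 := hf 2 (by norm_num)
  have e8 : t * z * t = ps φ y 257 := by
    rw [t0.tz, ps_lo (by norm_num), ← B.zv, ← lf_z B.l (by norm_num)]; rfl
  have e9 := (mem_C1_iff_conj.1 (t0.cy 0 (by norm_num))).trans (B.ps_y Y (by norm_num)).symm
  have e10 := (mem_C1_iff_conj.1 (t0.cy 1 (by norm_num))).trans (B.ps_y Y (by norm_num)).symm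
  have e11 := (mem_C1_iff_conj.1 (t0.cy 2 (by norm_num))).trans (B.ps_y Y (by norm_num)).symm
  rw [ti] at e0 e1 e2 e3 e9 e10 e11
  rw [B.ok.ti]
  refine pw_congr _ _ _ (by simp [idM]) fun i hi e => ?_
  have : i < 12 := by simpa [idM] using hi
  interval_cases i <;> simp [idM, ti]
  · exact e0.trans (ps_lo (by norm_num)).symm
  · exact e1.trans (ps_lo (by norm_num)).symm
  · exact e2.trans (ps_lo (by norm_num)).symm
  · exact e3.trans (ps_lo (by norm_num)).symm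
  · simpa using e4 e
  · simpa using e5 e
  · simpa using e6 e
  · omega
  · exact e8
  · exact e9
  · exact e10
  · exact e11

theorem tauR (h : a % 256 < 16) : t * ps φ y a * t = ps φ y (T.tm a) :=
  B.tau Y t0 (fun j hj e => by unfold bt at e; interval_cases j <;> omega) (by unfold bt; omega)

theorem tm_lt (a : ℕ) : T.tm a < 4096 := pr_lt T _ B.ok.tl a

theorem ti_lt (i : ℕ) : T.ti.getD i 0 < 4096 := by
  rw [List.getD_eq_getElem?_getD]
  cases e : T.ti[i]? with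
  | none => simp
  | some m => exact B.ok.tl m (List.mem_of_getElem? e)

theorem exists_mu {j : ℕ} (hj : j < 3) :
    ∃ μ < 2, t * φ (2 ^ (4 + j)) * t = ps φ y (T.ti.getD (4 + j) 0) * φ μ := by
  obtain ⟨f5, f1, f2⟩ : 2 ^ (4 + j) < 512 ∧ qm (2 ^ (4 + j)) 1 = qm 1 (2 ^ (4 + j)) ∧
      qm (2 ^ (4 + j)) (2 ^ (4 + j)) = 0 := by interval_cases j <;> decide
  have cb := B.ok.cb j hj
  have cand := B.ok.cand j hj
  generalize 2 ^ (4 + j) = f at *
  have f4 : f < 4096 := by omega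
  have ff : φ f * φ f = 1 := by rw [← B.l.mul _ f5 _ f5, f2, lf_one B.l]
  have fv := lf_cm B.l f5 (by norm_num) f1
  have fz := mem_C1.1 (B.cz f5)
  have tv := mem_C1.1 (B.h.le B.vD t0.tQ)
  have k1 : ∀ x, φ f * (φ f * x) = x := fun x => by rw [← mul_assoc, ff, one_mul]
  have k2 : ∀ x, t * (t * x) = x := fun x => by rw [← mul_assoc, t0.tt, one_mul]
  obtain ⟨a, ha, h1, e⟩ := B.surjR Y (g := φ f * t * φ f * t) (mul_mem (by
    have := conj_mem (B.h.norm B.vD (mem_C1.2 fv)) t0.tQ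
    rwa [inv_eq_of_mul_eq_one_right ff] at this) t0.tQ) (mem_C1.2 (by
      have a1 : ∀ x, t * (z * x) = φ 1 * (z * (t * x)) := fun x => by
        rw [← mul_assoc (φ 1), ← t0.tz]; simp only [mul_assoc, k2]
      have a2 : ∀ x, φ f * (z * x) = z * (φ f * x) := fun x => by rw [← mul_assoc, fz, mul_assoc]
      have a3 : ∀ x, φ f * (φ 1 * x) = φ 1 * (φ f * x) := fun x => by rw [← mul_assoc, fv, mul_assoc]
      have a4 : ∀ x, t * (φ 1 * x) = φ 1 * (t * x) := fun x => by rw [← mul_assoc, tv, mul_assoc]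
      have a5 : ∀ x, φ 1 * (φ 1 * x) = x := fun x => by rw [← mul_assoc, B.h.sq B.vD, one_mul]
      have a0 : t * z = φ 1 * (z * t) := by simpa using a1 1
      simp only [mul_assoc, a0, a1, a2, a3, a4, a5]))
  have m : ps φ y (T.sm f a) = t * φ f * t := by
    rw [B.mul Y f4 ha, e, ps_lo f5]; simp only [mul_assoc, k1]
  have tl := B.tm_lt Y t0
  have := cand (a % 256) h1 (a / 256 % 2) (Nat.mod_lt _ two_pos) (a / 512) (by omega)
  rw [show a % 256 + 256 * (a / 256 % 2) + 512 * (a / 512) = a by omega] at this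
  obtain ⟨μ, hμ, e1⟩ := this (fun b hb => by
    have b1 : b < 4096 ∧ b % 256 < 16 := by revert b; decide
    refine B.pinj Y (sm_lt T (sm_lt T f4 ha) (tl _)) (sm_lt T (tl _) (sm_lt T f4 ha)) ?_
    rw [B.mul Y (sm_lt T f4 ha) (tl _), B.mul Y (tl _) (sm_lt T f4 ha), m, ← B.tauR Y t0 b1.2,
      ← B.tauR Y t0 (cb b hb), B.mul Y (sm_lt T f4 b1.1) f4, B.mul Y f4 b1.1, ps_lo f5]
    simp only [mul_assoc, k1, k2]) (B.pinj Y (sm_lt T ha (tl _)) (by norm_num) (by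
      rw [B.mul Y ha (tl _), ← B.tauR Y t0 h1, e, ps_lo (by norm_num), lf_one B.l]
      simp only [mul_assoc, k1, k2, t0.tt, mul_one, ff]))
  exact ⟨μ, hμ, by rw [← m, e1, B.mul Y (B.ti_lt Y t0 _) (by omega), ps_lo (by omega : μ < 512)]⟩

theorem normalise : ∃ y t, YB Q z φ y T ∧ TB Q z φ y t ∧
    ∀ j < 3, t * φ (2 ^ (4 + j)) * t = ps φ y (T.ti.getD (4 + j) 0) := by
  obtain ⟨k, hk, e⟩ : ∃ k < 8, ∀ j < 3,
      t * φ (2 ^ (4 + j)) * t = ps φ y (T.ti.getD (4 + j) 0) * φ (bt k j) := by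
    obtain ⟨m0, h0, e0⟩ := B.exists_mu Y t0 (j := 0) (by norm_num)
    obtain ⟨m1, h1, e1⟩ := B.exists_mu Y t0 (j := 1) (by norm_num)
    obtain ⟨m2, h2, e2⟩ := B.exists_mu Y t0 (j := 2) (by norm_num)
    refine ⟨m0 + 2 * m1 + 4 * m2, by omega, fun j hj => ?_⟩
    interval_cases j
    · rw [e0]; congr 2; unfold bt; omega
    · rw [e1]; congr 2; unfold bt; omega
    · rw [e2]; congr 2; unfold bt; omega
  have md : ∀ k < 8, qm (2 * k) (2 * k) = 0 ∧ (∀ i < 4, qm (2 * k) (2 ^ i) = qm (2 ^ i) (2 * k)) ∧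
      (∀ j < 3, qm (2 * k) (2 ^ (4 + j)) = qm (256 * bt k j) (qm (2 ^ (4 + j)) (2 * k))) ∧
      au [2, 4, 8] k = 2 * k := by decide +kernel
  obtain ⟨m1, m2, m3, m4⟩ := md k hk
  have k5 : 2 * k < 512 := by omega
  have ee : φ (2 * k) * φ (2 * k) = 1 := by rw [← B.l.mul _ k5 _ k5, m1, lf_one B.l]
  have te : t * φ (2 * k) = φ (2 * k) * t := by
    rw [← m4, lf_au B.l _ (by simp), pw_append, Nat.div_eq_of_lt (by simpa using hk),
      show pw [z] 0 = 1 from rfl, mul_one]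
    refine (mem_C1.1 (pw_mem (K := C{t}) _ (fun g hg => mem_C1_comm.1 ?_) k)).symm
    simp only [List.map_cons, List.map_nil, List.mem_cons, List.not_mem_nil, or_false] at hg
    rcases hg with rfl | rfl | rfl
    exacts [t0.ce 1 (by norm_num), t0.ce 2 (by norm_num), t0.ce 3 (by norm_num)]
  have ez := mem_C1.1 (B.cz k5)
  have tv := mem_C1.1 (B.h.le B.vD t0.tQ)
  have k2 : ∀ x, t * (t * x) = x := fun x => by rw [← mul_assoc, t0.tt, one_mul]
  have a1 : ∀ x, t * (z * x) = φ 1 * (z * (t * x)) := fun x => by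
    rw [← mul_assoc (φ 1), ← t0.tz]; simp only [mul_assoc, k2]
  have a4 : ∀ x, t * (φ 1 * x) = φ 1 * (t * x) := fun x => by rw [← mul_assoc, tv, mul_assoc]
  have a5 : ∀ x, φ 1 * (φ 1 * x) = x := fun x => by rw [← mul_assoc, B.h.sq B.vD, one_mul]
  have a6 : ∀ x, φ 1 * (z * x) = z * (φ 1 * x) := fun x => by rw [← mul_assoc, ← B.zv, mul_assoc]
  refine ⟨fun i => z ^ bt k i * y i, t * φ (2 * k),
    ⟨fun i hi => mul_mem (pow_mem B.zQ _) (Y.mem i hi),
      fun i hi => mul_mem (pow_mem (self_mem_C1 z) _) (Y.cz i hi), fun i hi => ?_⟩,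
    ⟨mul_mem t0.tQ ((B.mE _ k5).2 (by omega)), ?_, ?_, fun i hi => mul_mem (t0.ce i hi)
      (mem_C1.2 (lf_cm B.l k5 (by interval_cases i <;> norm_num) (m2 i hi))), fun i hi => ?_⟩,
    fun j hj => ?_⟩
  · have := bt_lt k i
    interval_cases bt k i
    · simpa using Y.ac i hi
    · simpa using (Y.ac i hi).zmul B.h B.hz B.l
  · rw [te, mul_assoc, ← te, k2, ee]
  · rw [mul_assoc t, ez, te, ← mul_assoc, ← mul_assoc, mul_assoc (t * z), ← mul_assoc, mul_assoc (t * z), ee,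
      mul_one, t0.tz]
  · have e1 := (Y.ac i hi).2 _ k5
    have := bt_lt k i
    rw [B.ok.ye i hi k hk, B.l.mul _ (by omega) _ k5, mul_inv_eq_iff_eq_mul] at e1
    have ty := mem_C1.1 (t0.cy i hi)
    rw [mem_C1]
    interval_cases bt k i
    · rw [lf_one B.l, one_mul] at e1
      rw [pow_zero, one_mul, mul_assoc, ← e1, ← mul_assoc, ty, mul_assoc]
    · rw [pow_one, mul_assoc, ← mul_assoc (φ _), ez, mul_assoc, a1, mul_assoc z, ← mul_assoc (y i), ← ty,
        mul_assoc t, e1, mul_assoc (φ 1), a4, a6]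
  · have f5 : 2 ^ (4 + j) < 512 := by interval_cases j <;> norm_num
    have := bt_lt k j
    have e1 := e j hj
    have e2 : φ (2 * k) * φ (2 ^ (4 + j)) * φ (2 * k) = φ (256 * bt k j) * φ (2 ^ (4 + j)) := by
      rw [← B.l.mul _ k5 _ f5, m3 j hj, B.l.mul _ (by omega) _ (qm_lt _ _), B.l.mul _ f5 _ k5, mul_assoc,
        mul_assoc, ee, mul_one]
    have e3 : ps φ (fun i => z ^ bt k i * y i) (T.ti.getD (4 + j) 0) =
        z ^ bt k j * ps φ y (T.ti.getD (4 + j) 0) := by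
      rw [ps, ps, B.ok.tw j hj, yw_pow _ hj, yw_pow _ hj]
      exact ((show Commute _ z from mem_C1.1 (B.cz (Nat.mod_lt _ (by norm_num)))).pow_right _).left_comm _
    have e4 : φ 1 * φ (2 ^ (4 + j)) = φ (2 ^ (4 + j)) * φ 1 :=
      lf_cm B.l (by norm_num) f5 (by interval_cases j <;> decide)
    rw [e3]
    nth_rewrite 2 [te]
    rw [show t * φ (2 * k) * φ (2 ^ (4 + j)) * (φ (2 * k) * t) =
      t * (φ (2 * k) * φ (2 ^ (4 + j)) * φ (2 * k)) * t by group, e2]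
    interval_cases bt k j
    · simpa [lf_one B.l] using e1
    · rw [mul_one, B.l.zz, pow_one, a1, a6, mul_assoc, eq_mul_inv_iff_mul_eq.2 e1.symm,
        inv_eq_of_mul_eq_one_right (B.h.sq B.vD), ← a4, e4, mul_assoc (t * _), tv]
      group

theorem cube (hf : ∀ j < 3, t * φ (2 ^ (4 + j)) * t = ps φ y (T.ti.getD (4 + j) 0)) :
    (φ 128 * t) ^ 3 = ps φ y T.p0 := by
  have tl := B.tm_lt Y t0
  have sl : ∀ a, sg T a < 4096 := fun a => sm_lt T (sm_lt T (by norm_num) (tl a)) (by norm_num)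
  have xx : φ 128 * φ 128 = 1 := by
    rw [← B.l.mul _ (by norm_num) _ (by norm_num)]; exact lf_one B.l
  have al : ∀ a, a % 256 < 128 → φ 128 * t * ps φ y a * (φ 128 * t)⁻¹ = ps φ y (sg T a) := fun a h => by
    rw [sg, B.mul Y (sm_lt T (by norm_num) (tl a)) (by norm_num), B.mul Y (by norm_num) (tl a),
      ← B.tau Y t0 (fun j hj _ => hf j hj) (by unfold bt; omega), ps_lo (by norm_num : 128 < 512), mul_inv_rev,
      inv_eq_of_mul_eq_one_right xx, inv_eq_of_mul_eq_one_right t0.tt]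
    group
  obtain ⟨p1, p2, p3⟩ := B.ok.p0
  generalize φ 128 * t = s at al
  have cu : ∀ a ∈ [1, 2, 4, 8, 16, 32, 64, 256], (s ^ 3)⁻¹ * ps φ y T.p0 ∈ C{φ a} := fun a ha => by
    have a1 : a < 512 ∧ a % 256 < 128 := by revert a; decide
    obtain ⟨c1, c2, c3⟩ := B.ok.cu a ha
    have := congrArg (ps φ y) c3
    rw [B.mul Y p1 (by omega), B.mul Y (sl _) p1, ← al _ c2, ← al _ c1, ← al _ a1.2, ps_lo a1.1] at this
    rw [mem_C1, mul_assoc, this]; group
  have uz := cu 256 (by simp)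
  rw [B.l.zz] at uz
  obtain ⟨M, hM⟩ := B.hc.exists_rp (F.ρ ⟨_, uz⟩)
  have fx : ∀ i < 7, (F.ρ ⟨_, uz⟩).1 (c (2 ^ i)) = c (2 ^ i) := fun i hi => by
    have i5 : 2 ^ i < 256 := pow_lt (by omega)
    have := F.ρ_π ⟨_, uz⟩ _ (B.l.mem (2 ^ i) (by omega))
    rwa [mem_C1_iff_conj.1 (cu _ (by interval_cases i <;> simp)), B.l.pi _ (by omega),
      Nat.mod_eq_of_lt i5] at this
  have fx7 : app M 128 = 128 := by
    have k : ∀ m < 256, qN m = 0 → (∀ i < 7, polN m (2 ^ i) = polN 128 (2 ^ i)) → m = 128 := by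
      decide +kernel
    have l := app_lt hM.1 128
    refine k _ l ((B.hc.q0 l).1 ?_) fun i hi => (cast_inj2 (polN_lt _ _) (polN_lt _ _)).1 ?_
    · rw [← hM.2 128 (by norm_num)]
      exact (Form.Isom.map_Q (F.ρ ⟨_, uz⟩) (c 128)).trans ((B.hc.q0 (a := 128) (by norm_num)).2 (by decide))
    · rw [← B.hc.pol l (pow_lt (by omega)), ← B.hc.pol (by norm_num) (pow_lt (by omega)),
        ← hM.2 128 (by norm_num)]
      nth_rewrite 1 [← fx i hi]
      exact Form.Isom.map_B _ _ _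
  have r1 : F.ρ ⟨_, uz⟩ = 1 := B.hc.ext (B.hc.rp idM_ok fun i hi => by
    rw [app_idM (pow_lt hi)]
    rcases Nat.lt_succ_iff_lt_or_eq.1 hi with hi | rfl
    · exact fx i hi
    · rw [hM.2 _ (by norm_num)]; exact congrArg c fx7) B.hc.rp_one
  obtain ⟨n, hn, e⟩ := B.l.surj B.h B.hz B.hc ((F.ker _).1 r1)
  have e : φ n = (s ^ 3)⁻¹ * ps φ y T.p0 := e
  have c7 : ∀ n < 512, (∀ a ∈ [1, 2, 4, 8, 16, 32, 64], qm n a = qm a n) →
      n % 256 < 128 ∧ (n = 0 ∨ n ∈ [1, 256, 257]) := by decide +kernel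
  obtain ⟨n1, n2⟩ := c7 n hn fun a ha => B.inj (qm_lt _ _) (qm_lt _ _) (by
    have a1 : a < 512 ∧ a ∈ [1, 2, 4, 8, 16, 32, 64, 256] := by revert a; decide
    rw [B.l.mul _ hn _ a1.1, B.l.mul _ a1.1 _ hn, e, mem_C1.1 (cu a a1.2)])
  rcases n2 with rfl | n2
  · rw [lf_one B.l] at e
    exact inv_mul_eq_one.1 e.symm
  refine absurd (B.pinj Y (sl n) (by omega) ?_) (B.ok.fx n n2)
  have := al _ p2
  rw [p3] at this
  rw [← al n n1, ps_lo hn, e]
  nth_rewrite 2 [← this]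
  group

end Bs

theorem sb_of (h : Sit D Q 4) (hz : z ∈ D) (hl : Lift D Q F E R) (hc : Cd F.q c) (h1 : c 1 ∈ F.VV D)
    (ok : OK T) (hp : At c E R ⟨1, List.range 16, T.R⟩) : ∃ ψ t, SB D Q F c T ψ t := by
  obtain ⟨φ, l⟩ := h.exists_lf hz hc
  have m1 := l.mem 1 (by norm_num)
  have p1 : F.π (φ 1) = c 1 := l.pi 1 (by norm_num)
  obtain ⟨vD, vz⟩ := (F.mem_VV h hz m1).1 (p1 ▸ h1)
  have eE := hl.eqE _ vD m1 vz
  have eR := hl.eqR _ vD m1 vz
  rw [p1] at eE eR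
  have B : Bs D Q F c φ T := ⟨h, hz, hc, l, ok, vD, fun n hn => by
      rw [← F.π_mem_im h hz (h.symm hz vD m1) (l.mem n hn), ← eE, l.pi n hn,
        hp.memE _ (Nat.mod_lt _ (by norm_num)), List.mem_range],
    fun g hg => hp.ofR _ (eR ▸ ⟨g, hg, rfl⟩), fun M hM => by
      obtain ⟨y, hy, e⟩ := hp.toR M hM
      obtain ⟨g, hg, rfl⟩ := eR.le hy
      exact ⟨g, hg, e⟩⟩
  obtain ⟨y, Y⟩ := B.exists_yb
  obtain ⟨t, t0⟩ := B.exists_tb Y
  obtain ⟨y, t, Y, t0, hf⟩ := B.normalise Y t0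
  have lo : ∀ n < 512, ps φ y n = φ n := fun n hn => ps_lo hn
  have l1 := lo 1 (by norm_num)
  refine ⟨ps φ y, t, ⟨fun n hn => lo n hn ▸ l.mem n hn, fun n hn => lo n hn ▸ l.pi n hn,
      fun n hn m hm => by rw [lo _ (qm_lt _ _), lo n hn, lo m hm, l.mul n hn m hm],
      lo 256 (by norm_num) ▸ l.zz⟩, fun a ha b hb => B.mul Y ha hb, fun a _ => B.pcz Y a,
    fun w hw g e => ?_, l1 ▸ vD, fun a _ k => l1 ▸ B.memv Y k, l1 ▸ t0.tQ, t0.tt, fun k => ?_,
    fun a _ k => B.tau Y t0 (fun j hj _ => hf j hj) (by unfold bt; omega),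
    lo 128 (by norm_num) ▸ B.cube Y t0 hf⟩
  · rw [show g = ⟨_, B.pcz Y (512 * w)⟩ from Subtype.ext e, B.rho Y]
    simpa using B.rp_yw Y hw
  · have := t0.tz
    rw [mem_C1.1 k, mul_assoc, t0.tt, mul_one] at this
    exact h.ne_one vD (by simpa using this.symm)

end ZA

variable (h : Sit D Q 4) (hz : z ∈ D) (hv : VD F.ρ.range (F.VV D) E R 4) (hl : Lift D Q F E R)
  (hc : Cd F.q c) (h1 : c 1 ∈ F.VV D)
include h hz hv hl hc h1

theorem Sit.sb1 (hp : At c E R ⟨1, List.range 16, s1.R⟩) : ∃ ψ t, SB D Q F c s1 ψ t :=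
  ZA.sb_of h hz hl hc h1 ZA.ok1 hp
theorem Sit.sb3 (hp : At c E R ⟨1, List.range 16, s3.R⟩) : ∃ ψ t, SB D Q F c s3 ψ t :=
  ZA.sb_of h hz hl hc h1 ZA.ok3 hp
theorem Sit.sb7 (hp : At c E R ⟨1, List.range 16, s7.R⟩) : ∃ ψ t, SB D Q F c s7 ψ t :=
  ZA.sb_of h hz hl hc h1 ZA.ok7 hp

end XS
end H6
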