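import Mathlib
import Cfsg.Agent.H6.XZDefs
import Cfsg.Agent.H6.XV0
import Cfsg.Agent.H6.XS2

/-! Conjugation by an element of `Q_v − C(z)`. -/

set_option autoImplicit false
set_option linter.unusedSectionVars false

namespace H6
namespace XS

open Subgroup H24 H15 H15.XP Module

variable {G : Type*} [Group G] [Finite G] {D : Set G} {Q : G → Subgroup G} {z : G}
variable {V : Type*} [AddCommGroup V] [Module (ZMod 2) V] [Finite V]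
variable {F : Fr z (Q z) V} {E : V → Submodule (ZMod 2) V} {R : V → Subgroup (ofQuad F.q).Isom}
variable {c : ℕ → V}

/-- `y` has full rank and moves `E v` -/
def Fu {q : QuadraticForm (ZMod 2) V} (E : V → Submodule (ZMod 2) V) (v : V)
    (y : (ofQuad q).Isom) : Prop :=
  (∀ a, y.1 a = a → ∃ x, y.1 x + x = a) ∧ ∃ e ∈ E v, y.1 e ≠ e

theorem Sit.keyW {w : ℕ} (h : Sit D Q w) (hz : z ∈ D) {v x t r : G} (hv : v ∈ D) (h1 : v ∈ Q z)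
    (e : x * v * x⁻¹ = z * v) (ht : t ∈ Q v) (e' : t * z * t⁻¹ = v * z)
    (hr : r ∈ Q z) (hc : r ∈ C{v}) : t * r * t⁻¹ ∈ C{z} ∧ x⁻¹ * (t * r * t⁻¹) * x ∈ Q v ∧
      x⁻¹ * (t * r * t⁻¹) * x * x * (x⁻¹ * (t * r * t⁻¹) * x)⁻¹ * x⁻¹ * r ∈ Q v := by
  have cm := mem_C1.1 (h.le hz h1)
  have a1 : t * r * t⁻¹ ∈ Q (v * z) := by rw [← e', h.eqv z hz]; exact conj_mem_cj _ hr
  have a2 : x⁻¹ * (t * r * t⁻¹) * x ∈ Q v := by
    rw [cm, ← e, h.eqv v hv, mem_cj] at a1; exact a1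
  have a3 : t * r * t⁻¹ ∈ C{v} := mul_mem (mul_mem (h.le hv ht) hc) (inv_mem (h.le hv ht))
  have vz : v * z ∈ D := e' ▸ h.conj z hz t
  refine ⟨?_, a2, ?_⟩
  · have := mul_mem (mem_C1_comm.1 a3) (mem_C1_comm.1 (h.le vz a1))
    rw [← mul_assoc, h.sq hv, one_mul] at this
    exact mem_C1_comm.1 this
  · have := mul_mem (mul_mem a2 ht) (conj_mem (h.norm hv (inv_mem hc)) (inv_mem ht))
    convert this using 1
    group

theorem Sit.ax {w : ℕ} (h : Sit D Q w) (hz : z ∈ D) (hl : Lift D Q F E R) : AX (F.VV D) E R := by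
  rintro _ ⟨v, v1, v2, v3, rfl⟩ _ ⟨r, r1, r2, r3, rfl⟩ _ ⟨e, e1, e2, e3, rfl⟩ p0 m1 m2 ne y hy x' p1 k
  obtain ⟨x, hx, rfl⟩ := F.π_surj x'
  have zv := h.symm hz v1 v2
  rw [hl.eqE v v1 v2 v3] at m1 k
  rw [hl.eqE r r1 r2 r3, F.π_mem_im h hz (h.symm hz r1 r2) e2] at m2
  rw [F.π_mem_im h hz zv e2] at m1
  rw [hl.eqR v v1 v2 v3] at hy
  obtain ⟨y1, y2, rfl⟩ := hy
  have ex := (F.pol_one' h hz v2 hx).1 p1
  obtain ⟨t, ht, et⟩ := h.exists_swap v1 zv (h.ne_one hz) v3.symm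
  obtain ⟨a1, a2, a3⟩ := h.keyW hz v1 v2 ex ht et r2 ((F.pol_zero h hz v2 r2).1 p0)
  have xz := h.le hz hx
  set d := t * r * t⁻¹ with hd
  have dD : d ∈ D := h.conj r r1 t
  have b1 : (y1 : G) * x * (y1 : G)⁻¹ * x⁻¹ ∈ Q z := mul_mem (conj_mem (h.norm hz y1.2) hx) (inv_mem hx)
  rw [← F.π_comm h hz y1 hx, ← F.π_mul _ b1 _ r2, F.π_mem_im h hz zv (mul_mem b1 r2)] at k
  have g1 : (x⁻¹ * d * x)⁻¹ * y1 ∈ Q z := h.mem_of_comm hz v1 v2 v3 hx ex (mul_mem (inv_mem a2) y2) (by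
    have := mul_mem (mul_mem (inv_mem a2) (mul_mem k (inv_mem a3))) a2
    convert this using 1
    group)
  have g2 : F.ρ y1 = F.ρ ⟨d, a1⟩ := by
    have k1 := (F.ker ⟨x, xz⟩).2 hx
    have k2 := (F.ker ((⟨x, xz⟩⁻¹ * ⟨d, a1⟩ * ⟨x, xz⟩)⁻¹ * y1)).2 g1
    simp only [map_mul, map_inv, k1, inv_one, one_mul, mul_one] at k2
    exact (inv_mul_eq_one.1 k2).symm
  have uD : t * e * t⁻¹ ∈ D := h.conj e e1 t
  have du : d ∈ Q (t * e * t⁻¹) := h.symm dD uD (by rw [hd, h.eqv r r1]; exact conj_mem_cj _ m2)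
  have fin : ∀ u ∈ D, u ∈ Q z → u ≠ z → d ∈ Q u → F.ρ y1 ∈ R (F.π u) := fun u u1 u2 u3 u4 => by
    rw [hl.eqR u u1 u2 u3, g2]; exact ⟨⟨d, a1⟩, u4, rfl⟩
  rcases h.cj_or v1 ht m1 with q | q <;> rw [q] at uD du
  · exact Or.inl (fin e e1 e2 e3 du)
  · have n : v * e ≠ z := fun k => ne (by
      have := F.π_mul v v2 e e2
      rw [k, F.π_z h hz] at this
      rw [← add_zero (F.π e), this, add_comm, add_assoc, add_self₂, add_zero])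
    have p : F.π (v * e) = F.π e + F.π v := by rw [F.π_mul v v2 e e2, add_comm]
    exact Or.inr ⟨⟨_, uD, mul_mem v2 e2, n, p⟩, p ▸ fin _ uD (mul_mem v2 e2) n du⟩

theorem Sit.gd {w : ℕ} (h : Sit D Q w) (hz : z ∈ D) (hl : Lift D Q F E R) {v : G} (hv : v ∈ D)
    (h1 : v ∈ Q z) (h2 : v ≠ z) (d : C{z}) (hd : (d : G) ∈ D) (h3 : (d : G) ∈ Q v)
    (h4 : (d : G) ∉ Q z) : Gd (F.VV D) E (F.π v) (F.ρ d) := by
  have zv := h.symm hz hv h1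
  have cm := mem_C1.1 (h.le hz h1)
  obtain ⟨x, hx, ex⟩ := h.exists_swap hz h1 (h.ne_one hv) h2
  obtain ⟨t, ht, et⟩ := h.exists_swap hv zv (h.ne_one hz) h2.symm
  set r := t⁻¹ * (x * d * x⁻¹) * t with hr
  have rD : r ∈ D := by simpa using h.conj _ (h.conj _ hd x) t⁻¹
  have a0 : x * d * x⁻¹ ∈ Q (z * v) := by rw [← ex, h.eqv v hv]; exact conj_mem_cj _ h3
  have r2 : r ∈ Q z := by
    rw [← cm, ← et, h.eqv z hz, mem_cj] at a0; exact a0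
  have zvD : z * v ∈ D := ex ▸ h.conj v hv x
  have r3 : r ∈ C{v} := by
    refine mul_mem (mul_mem (inv_mem (h.le hv ht)) ?_) (h.le hv ht)
    have := mul_mem (mem_C1_comm.1 (mul_mem (mul_mem (h.le hz hx) d.2) (inv_mem (h.le hz hx))))
      (mem_C1_comm.1 (h.le zvD a0))
    rw [← mul_assoc, h.sq hz, one_mul] at this
    exact mem_C1_comm.1 this
  have e1 : x⁻¹ * (t * r * t⁻¹) * x = d := by rw [hr]; group
  have r4 : r ≠ z := fun k => h4 (by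
    rw [← e1, k, et, cm, ← ex]; simpa [mul_assoc] using h1)
  obtain ⟨-, -, a3⟩ := h.keyW hz hv h1 ex ht et r2 r3
  rw [e1] at a3
  have b1 : (d : G) * x * (d : G)⁻¹ * x⁻¹ ∈ Q z := mul_mem (conj_mem (h.norm hz d.2) hx) (inv_mem hx)
  refine ⟨_, ⟨r, rD, r2, r4, rfl⟩, F.π x, (F.pol_zero h hz h1 r2).2 r3, (F.pol_one' h hz h1 hx).2 ex, ?_⟩
  rw [← F.π_comm h hz d hx, ← F.π_mul _ b1 _ r2, hl.eqE v hv h1 h2, F.π_mem_im h hz zv (mul_mem b1 r2)]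
  exact a3

/-- an involution over `y ∈ R u` of full rank lies in `Q` of a lift of `u` -/
theorem Sit.inner_mem {w : ℕ} (h : Sit D Q w) (hz : z ∈ D) (hl : Lift D Q F E R) {u : V}
    (hu : u ∈ F.VV D) (d : C{z}) (h2 : (d : G) * d = 1) (h3 : F.ρ d ∈ R u) (h4 : Fu E u (F.ρ d)) :
    ∃ v ∈ D, v ∈ Q z ∧ v ≠ z ∧ F.π v = u ∧ (d : G) ∈ Q v := by
  obtain ⟨v, v1, v2, v3, rfl⟩ := hu
  have zv := h.symm hz v1 v2
  obtain ⟨f1, e', e1, e2⟩ := h4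
  rw [hl.eqR v v1 v2 v3] at h3
  rw [hl.eqE v v1 v2 v3] at e1
  obtain ⟨e, e3, e4, rfl⟩ := e1
  obtain ⟨y, y1, y2, y3⟩ : ∃ y : C{z}, (y : G) ∈ Q v ∧ F.ρ y = F.ρ d ∧ (y : G) * y = 1 := by
    obtain ⟨y, y1, y2⟩ := h3
    replace y1 : (y : G) ∈ Q v := y1
    rcases h.sq_or v1 y1 with s | s
    · exact ⟨y, y1, y2, s⟩
    have ee : e * e = 1 := (h.sq_or hz e4).resolve_right fun k => (h.sq_or v1 e3).elim
      (fun k' => h.ne_one hz (k.symm.trans k')) fun k' => v3 (k'.symm.trans k)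
    have k : (y : G) * e * (y : G)⁻¹ = v * e := (h.cj_or v1 y1 e3).resolve_left fun k =>
      e2 (by rw [← y2, F.ρ_π y e e4, k])
    refine ⟨y * ⟨e, h.le hz e4⟩, mul_mem y1 e3, by
      rw [map_mul, (F.ker ⟨e, h.le hz e4⟩).2 e4, mul_one, y2], ?_⟩
    change (y : G) * e * (y * e) = 1
    calc _ = (y : G) * e * (y : G)⁻¹ * (y * y) * e := by group
      _ = v * e * v * e := by rw [k, s]
      _ = 1 := by rw [mul_assoc v e v, mem_C1.1 (h.le v1 e3), ← mul_assoc, h.sq v1, one_mul, ee]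
  have c1 : (d : G) * (y : G)⁻¹ ∈ Q z := (F.ker (d * y⁻¹)).1 (by rw [map_mul, map_inv, y2, mul_inv_cancel])
  have yi : (y : G)⁻¹ = y := inv_eq_of_mul_eq_one_right y3
  have c2 : (F.ρ d).1 (F.π ((d : G) * (y : G)⁻¹)) = F.π ((d : G) * (y : G)⁻¹) := by
    rw [F.ρ_π d _ c1, ← F.π_inv c1]
    congr 1
    rw [yi, ← mul_assoc, h2, one_mul, mul_inv_rev, yi]
  obtain ⟨a', ha⟩ := f1 _ c2
  obtain ⟨a, a1, rfl⟩ := F.π_surj a'
  have b1 : (y : G) * a * (y : G)⁻¹ * a⁻¹ ∈ Q z := mul_mem (conj_mem (h.norm hz y.2) a1) (inv_mem a1)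
  rw [← y2, ← F.π_comm h hz y a1, ← F.π_inv b1] at ha
  have dm : (d : G) ∈ Q (a * v * a⁻¹) := by
    rw [h.eqv v v1, mem_cj]
    have az := mem_C1_iff_conj.1 (inv_mem (h.le hz a1))
    rcases F.π_eq₀ c1 (inv_mem b1) ha.symm with k | k
    · rw [mul_inv_eq_iff_eq_mul.1 k]
      convert y1 using 1
      group
    · rw [mul_inv_eq_iff_eq_mul.1 k]
      have := mul_mem (az.symm ▸ zv : a⁻¹ * z * a⁻¹⁻¹ ∈ Q v) y1
      convert this using 1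
      group
  refine ⟨_, h.conj v v1 a, conj_mem (h.norm hz (h.le hz a1)) v2, fun k => v3 ?_, ?_, dm⟩
  · exact (MulAut.conj a).injective (k.trans (mem_C1_iff_conj.1 (h.le hz a1)).symm)
  · rw [← F.ρ_π ⟨a, h.le hz a1⟩ v v2, (F.ker _).2 a1]; rfl

end XS
end H6
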