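import Mathlib
import Cfsg.Agent.H6.XS1

/-! No reflections, without simplicity -/

set_option autoImplicit false
set_option linter.unusedSectionVars false
set_option synthInstance.maxSize 8000

namespace H6
namespace XS

open Subgroup H24 H15 H15.XP Module H20.XA
open scoped commutatorElement

variable {G : Type*} [Group G] [Finite G] {D : Set G} {Q : G → Subgroup G} {w : ℕ} {z : G}
variable {V : Type*} [AddCommGroup V] [Module (ZMod 2) V] [Finite V]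

theorem tf₂ (hG : ∀ K : Subgroup G, K.index ≠ 2) (F : Fr z (Q z) V) (h : Sit D Q w) (hz : z ∈ D) (K : Subgroup (ofQuad F.q).Isom)
    (hK : ∀ a b : C{z}, F.ρ a ∉ K → F.ρ b ∉ K → F.ρ a * F.ρ b ∈ K) (x : C{z}) (hx : F.ρ x ∉ K)
    (h2 : (x : G) * x = 1 ∨ ((x : G) * x = z ∧ ∀ d : C{z}, (d : G) ∈ D → F.ρ d ∈ K)) :
    ∃ d ∈ D, d ≠ z ∧ d ∈ C{z} ∧ d * x = x * d ∧ ∀ y ∈ Q z, x * y = y * x → d * y = y * d := by
  have hm : ∀ g : C{z}, (g : G) ∈ (K.comap F.ρ).map C{z}.subtype ↔ F.ρ g ∈ K := fun g =>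
    mem_map_iff_mem C{z}.subtype_injective
  obtain ⟨g, g1, g2⟩ := transfer_fix hG (h.odd_index hz)
    (M0 := (K.comap F.ρ).map C{z}.subtype) (T := Q z ⊓ C{(x : G)}) (map_subtype_le _)
    (relIndex_eq_two_iff_exists_notMem_and.2 ⟨x, x.2, fun c => hx ((hm x).1 c), fun b hb => by
      by_cases c : F.ρ ⟨b, hb⟩ ∈ K
      · exact Or.inr ((hm ⟨b, hb⟩).2 c)
      · exact Or.inl ((hm (⟨b, hb⟩ * x)).2 (by rw [map_mul]; exact hK _ _ c hx))⟩) x.2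
    (fun c => hx ((hm x).1 c)) (by
      rw [show (x : G) ^ 4 = x * x * (x * x) by simp [pow_succ, mul_assoc]]
      rcases h2 with e | e
      exacts [by rw [e, one_mul], by rw [e.1, h.sq hz]]) (fun g c => by
      rcases h2 with e | e
      · rw [e, mul_one, mul_inv_cancel]; exact one_mem _
      · exact (hm ⟨_, c⟩).2 (e.2 _ (show g * (x * x) * g⁻¹ ∈ D by rw [e.1]; exact h.conj z hz g)))
    ((h.two hz).to_le inf_le_left) inf_le_right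
  have cm : ∀ {y}, g * y * g⁻¹ ∈ C{z} → g⁻¹ * z * g⁻¹⁻¹ * y = y * (g⁻¹ * z * g⁻¹⁻¹) := fun {y} c => by
    calc _ = g⁻¹ * (z * (g * y * g⁻¹)) * g := by group
      _ = _ := by rw [← mem_C1.1 c]; group
  refine ⟨_, h.conj z hz g⁻¹, fun e => ?_, mem_C1.2 (cm (g2 (conj_mem_cj g ⟨h.mem hz,
    mem_C1_comm.1 x.2⟩))), cm (map_subtype_le _ g1), fun y y1 y2 =>
    cm (g2 (conj_mem_cj g ⟨y1, mem_C1.2 y2.symm⟩))⟩
  have g3 : g ∈ C{z} := inv_mem_iff.1 (mem_C1_iff_conj.2 e)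
  have g4 := (hm (⟨g, g3⟩ * x * ⟨g, g3⟩⁻¹)).1 g1
  rw [map_mul, map_mul, map_inv] at g4
  by_cases c : F.ρ ⟨g, g3⟩ ∈ K
  · exact hx ((mul_mem_cancel_left c).1 ((mul_mem_cancel_right (inv_mem c)).1 g4))
  · exact c (inv_mem_iff.1 ((mul_mem_cancel_left (hK _ _ c hx)).1 g4))

theorem Sit.no_refl' (hG : ∀ K : Subgroup G, K.index ≠ 2) (h : Sit D Q w) (hz : z ∈ D)
    (F : Fr z (Q z) V) {K : Subgroup (ofQuad F.q).Isom} (hK : K.index = 2) {n : V} (hn : F.q n ≠ 0)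
    (h1 : refl F.q n ∈ F.ρ.range) : refl F.q n ∈ K := by
  by_contra hr
  have qn := z1 hn
  have rf : ∀ v, (refl F.q n).1 v = v + pol F.q n v • n := fun v => by
    rw [refl_apply, qn, inv_one, (by decide : ∀ a : ZMod 2, -1 * a = a)]
  have n0 : n ≠ 0 := by rintro rfl; exact hn (map_zero _)
  obtain ⟨t0, ht0⟩ := h1
  obtain ⟨t, ht, -, tc⟩ := adj F h hz t0 ((ofQuad F.q).perp (Submodule.span _ {n})) fun v hv => by
    rw [ht0]; exact refl_of_perp _ ((Form.mem_perp_singleton _).1 hv)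
  rw [ht0] at ht
  replace tc : ∀ a ∈ Q z, pol F.q n (F.π a) = 0 → t * a = a * t := fun a a1 a2 =>
    tc a a1 ((Form.mem_perp_singleton _).2 a2)
  have fn : ∀ {x v}, pol F.q n x = 1 → (∀ u, pol F.q n u = 0 → pol F.q x u = 0 → pol F.q u v = 0) →
      (refl F.q n).1 v = v → v = pol F.q x v • n := fun {x v} a1 a2 a3 => by
    rw [rf, add_eq_left, smul_eq_zero_iff_left n0] at a3
    have := plane F.nondeg a1 a2
    rwa [a3, zero_smul, add_zero] at this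
  have sc : ∀ {x}, x ∈ Q z → ∀ a ∈ Q z, pol F.q n (F.π a) = 0 → pol F.q (F.π x) (F.π a) = 0 →
      t * x * a = a * (t * x) := fun {x} x1 a a1 a2 a3 => by
    rw [mul_assoc, (F.pol_π x x1 a a1).1 a3, ← mul_assoc, tc a a1 a2, mul_assoc]
  have sq : ∀ x ∈ Q z, pol F.q n (F.π x) = 1 → t * x * (t * x) = 1 ∨ t * x * (t * x) = z :=
      fun x x1 x2 => by
    have e1 := ρ_mul F h hz t x1
    have e2 : t * x * (t * x) ∈ Q z := (F.ker (t * ⟨x, h.le hz x1⟩ * (t * ⟨x, h.le hz x1⟩))).1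
      (by rw [map_mul, e1, ht, H15.refl_mul_self])
    have e3 := fn (v := F.π (t * x * (t * x))) x2 (fun u a1 a2 => by
      obtain ⟨a, a0, rfl⟩ := F.π_surj u
      rw [F.pol_π a a0 _ e2, ← mul_assoc, ← sc x1 a a0 a1 a2, mul_assoc, ← sc x1 a a0 a1 a2,
        ← mul_assoc]) (by rw [← ht, ← e1]; exact ρ_fix F h hz _ e2 (mul_assoc _ _ _).symm)
    have m1 := mul_mem (inv_mem x1) (cQ h hz t.2 x1)
    have m2 : F.π (x⁻¹ * (t * x * (t : G)⁻¹)) = n := by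
      rw [F.π_mul _ (inv_mem x1) _ (cQ h hz t.2 x1), F.π_inv x1, ← F.ρ_π t x x1, ht, rf, x2, one_smul, vv']
    have m3 := (F.q_one h hz m1).1 (m2 ▸ qn)
    have m4 := (F.pol_one h hz x1 m1).1 (by rw [m2, pol_comm, x2])
    have m5 := tc _ m1 (by rw [m2, pp])
    have m6 : t * x * (t : G)⁻¹ = x * (x⁻¹ * (t * x * (t : G)⁻¹)) := by group
    have m7 := mem_C1.1 (h.le hz m1)
    generalize x⁻¹ * (t * x * (t : G)⁻¹) = m at m3 m4 m5 m6 m7
    rw [(F.pol_π x x1 _ e2).2 (by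
      rw [eq_comm, ← mul_inv_eq_iff_eq_mul, show t * x * (t * x) * x * (t * x * (t * x))⁻¹ =
        t * (x * (t * x * (t : G)⁻¹) * x⁻¹) * (t : G)⁻¹ by group, m6,
        show t * (x * (x * m) * x⁻¹) * (t : G)⁻¹ = t * x * (t : G)⁻¹ * (t * (x * m * x⁻¹) * (t : G)⁻¹)
        by group, m4, zc h hz t.2, m5, m6, mul_inv_cancel_right, mul_assoc, ← mul_assoc m, m7,
        mul_assoc, m3, h.sq hz, mul_one]), zero_smul] at e3
    exact (F.π_eq_zero _ e2).1 e3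
  obtain ⟨x, x1, x2, x3⟩ : ∃ x ∈ Q z, pol F.q n (F.π x) = 1 ∧ t * x * (t * x) = 1 := by
    obtain ⟨v, hv⟩ := F.nondeg.exists_B_eq_one n0
    obtain ⟨x, x1, rfl⟩ := F.π_surj v
    rcases sq x x1 hv with e | e
    · exact ⟨x, x1, hv, e⟩
    obtain ⟨u, u1, u2, u3⟩ := exists_nonsing₂₀ F.nondeg (by
      have := h.two_le; rw [F.dim h hz]; omega) hv
    obtain ⟨a, a1, rfl⟩ := F.π_surj u
    refine ⟨x * a, mul_mem x1 a1, by rw [F.π_mul x x1 a a1, map_add, u1, add_zero]; exact hv, ?_⟩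
    calc _ = t * x * (a * (t * x)) * a := by group
      _ = t * x * (t * x) * (a * a) := by rw [← sc x1 a a1 u1 u2]; group
      _ = 1 := by rw [e, (F.q_one h hz a1).1 u3, h.sq hz]
  have e1 := (ρ_mul F h hz t x1).trans ht
  obtain ⟨d, d1, d2, d3, d4, d5⟩ := tf₂ hG F h hz K (fun a b a1 b1 => (mul_mem_iff_of_index_two hK).2
    (iff_of_false a1 b1)) (t * ⟨x, h.le hz x1⟩) (e1 ▸ hr) (Or.inl x3)
  replace d5 : ∀ a ∈ Q z, pol F.q n (F.π a) = 0 → pol F.q (F.π x) (F.π a) = 0 → d * a = a * d :=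
    fun a a1 a2 a3 => d5 a a1 (sc x1 a a1 a2 a3)
  by_cases dQ : d ∈ Q z
  · have := fn (v := F.π d) x2 (fun u a1 a2 => by
      obtain ⟨a, a0, rfl⟩ := F.π_surj u
      exact (F.pol_π a a0 d dQ).2 (d5 a a0 a1 a2).symm) (by rw [← e1]; exact ρ_fix F h hz _ dQ d4.symm)
    rcases z2 (pol F.q (F.π x) (F.π d)) with e | e <;> rw [e] at this
    · rw [zero_smul, F.π_eq_zero d dQ] at this
      exact this.elim (h.ne_one d1) d2
    · rw [one_smul] at this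
      exact hn (this ▸ (F.q_π d dQ).2 (h.sq d1))
  have zQ : z ∉ Q d := fun c => dQ (h.symm d1 hz c)
  have fx : ∀ b : C{z}, (∀ a ∈ Q z, a ∈ C{d} → b * a = a * b) → Fx n (F.π x) (F.ρ b) :=
    fun b hb u a1 a2 => by
      obtain ⟨a, a0, rfl⟩ := F.π_surj u
      exact ρ_fix F h hz b a0 (hb a a0 (mem_C1.2 (d5 a a0 a1 a2).symm))
  have fd := fx ⟨d, d3⟩ fun a _ a1 => (mem_C1.1 a1).symm
  obtain ⟨a, b, c, e, md⟩ := fd.mat F.nondeg x2
  have one : ∀ {g : (ofQuad F.q).Isom}, Fx n (F.π x) g → (∀ s t : ZMod 2, g.1 (s • n + t • F.π x) =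
    (s * 1 + t * 0) • n + (s * 0 + t * 1) • F.π x) → g = 1 := fun a1 a2 =>
    a1.ext x2 (fun _ _ _ => rfl) fun s t => (a2 s t).trans (by simp)
  have nd : ¬ (a = 1 ∧ b = 0 ∧ c = 0 ∧ e = 1) := by
    rintro ⟨rfl, rfl, rfl, rfl⟩
    exact dQ ((F.ker ⟨d, d3⟩).1 (one fd md))
  have hI : ∀ i ∈ Q z, i ∈ Q d → i = 1 := fun i i1 i2 => by
    have p1 := plane F.nondeg x2 (v := F.π i) fun u a1 a2 => by
      obtain ⟨a, a0, rfl⟩ := F.π_surj u
      refine z0 fun c => zQ ?_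
      have := cQ h d1 (mem_C1.2 (d5 a a0 a1 a2).symm) i2
      rwa [(F.pol_one h hz a0 i1).1 c, mul_mem_cancel_right i2] at this
    have p2 : F.q (F.π i) = 0 := z0 fun c => zQ ((F.q_one h hz i1).1 c ▸ mul_mem i2 i2)
    have p3 := ρ_fix F h hz ⟨d, d3⟩ i1 (mem_C1.1 (h.le d1 i2)).symm
    generalize pol F.q (F.π x) (F.π i) = s at p1
    generalize pol F.q n (F.π i) = r at p1
    rw [p1, qco x2, qn] at p2
    rw [p1, md] at p3
    have p4 := co x2 p3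
    have p5 := mq (F.ρ ⟨d, d3⟩) ((1 : ZMod 2) • n + (0 : ZMod 2) • F.π x)
    have p6 := mq (F.ρ ⟨d, d3⟩) ((0 : ZMod 2) • n + (1 : ZMod 2) • F.π x)
    rw [md, qco x2, qco x2, qn] at p5 p6
    obtain ⟨rfl, rfl⟩ : s = 0 ∧ r = 0 := by
      revert p2 p4 p5 p6 nd; generalize F.q (F.π x) = k; clear * -; decide +revert
    rw [zero_smul, zero_smul, add_zero, F.π_eq_zero i i1] at p1
    exact p1.resolve_right fun c => zQ (c ▸ i2)
  refine small h hz d1 d3 fun y y1 y2 => ?_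
  have fy := fx ⟨y, y2⟩ fun a a0 a1 => comm_of_bot h hz d1 hI a0 a1 y1 y2
  obtain ⟨a', b', c', e', my⟩ := fy.mat F.nondeg x2
  have c1 : F.ρ ⟨y, y2⟩ * F.ρ ⟨d, d3⟩ = F.ρ ⟨d, d3⟩ * F.ρ ⟨y, y2⟩ := by
    rw [← map_mul, ← map_mul]; exact congrArg _ (Subtype.ext (mem_C1.1 (h.le d1 y1)))
  have c2 : F.ρ ⟨d, d3⟩ * F.ρ ⟨d, d3⟩ = 1 := by
    rw [← map_mul, ← F.ρ.map_one]; exact congrArg _ (Subtype.ext (h.sq d1))
  have k1 := fun s t : ZMod 2 => congrArg (fun g : (ofQuad F.q).Isom => g.1 (s • n + t • F.π x)) c1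
  have k2 := fun s t : ZMod 2 => congrArg (fun g : (ofQuad F.q).Isom => g.1 (s • n + t • F.π x)) c2
  simp only [Form.Isom.mul_apply, Form.Isom.one_apply, md, my] at k1 k2
  have k3 := mp (F.ρ ⟨y, y2⟩) ((1 : ZMod 2) • n + (0 : ZMod 2) • F.π x) ((0 : ZMod 2) • n + (1 : ZMod 2) • F.π x)
  rw [my, my, pco x2, pco x2] at k3
  have k4 := fun s t => co x2 (k1 s t)
  have k5 := fun s t => co x2 (k2 s t)
  rcases (by revert k3 k4 k5 nd; clear * -; decide +revert : (a' = 1 ∧ b' = 0 ∧ c' = 0 ∧ e' = 1) ∨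
    (a' = a ∧ b' = b ∧ c' = c ∧ e' = e)) with ⟨rfl, rfl, rfl, rfl⟩ | ⟨rfl, rfl, rfl, rfl⟩
  · exact Or.inl (hI y ((F.ker ⟨y, y2⟩).1 (one fy my)) y1)
  · refine Or.inr (mul_inv_eq_one.1 (hI _ ((F.ker (⟨y, y2⟩ * ⟨d, d3⟩⁻¹)).1 ?_)
      (mul_mem y1 (inv_mem (h.mem d1)))))
    rw [map_mul, map_inv, fy.ext x2 fd fun s t => (my s t).trans (md s t).symm, mul_inv_cancel]

end XS
end H6
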