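import Mathlib
import Cfsg.Agent.H6.XZB
import Cfsg.Agent.H6.XZW
import Cfsg.Agent.H6.XN
import Cfsg.Agent.H25.ZOB
import Cfsg.Agent.H25.ZO27
import Cfsg.Agent.H25.ZO15
import Cfsg.Agent.H25.ZO9
import Cfsg.Agent.H25.ZO81

/-! Width four: the members of `D ∩ C(z)` are inner. -/

set_option autoImplicit false
set_option linter.unusedSectionVars false

namespace H6
namespace XS

open Subgroup H24 H15 H15.XP Module

variable {G : Type*} [Group G] [Finite G] {D : Set G} {Q : G → Subgroup G} {z : G}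
variable {V : Type*} [AddCommGroup V] [Module (ZMod 2) V] [Finite V]
variable {F : Fr z (Q z) V} {E : V → Submodule (ZMod 2) V} {R : V → Subgroup (ofQuad F.q).Isom}
variable {c : ℕ → V}

theorem FC.inner27 (h : FC D Q z F E R c d27) (d : C{z}) (hd : (d : G) ∈ D) :
    F.ρ d = 1 ∨ ∃ u ∈ F.VV D, F.ρ d ∈ R u := ZO.inner h ZO.ck27 d hd

theorem FC.inner15 (h : FC D Q z F E R c d15) (d : C{z}) (hd : (d : G) ∈ D) :
    F.ρ d = 1 ∨ ∃ u ∈ F.VV D, F.ρ d ∈ R u := ZO.inner h ZO.ck15 d hd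

theorem FC.inner9 (h : FC D Q z F E R c d9) (d : C{z}) (hd : (d : G) ∈ D) :
    F.ρ d = 1 ∨ ∃ u ∈ F.VV D, F.ρ d ∈ R u := ZO.inner h ZO.ck9 d hd

theorem FC.inner81 (h : FC D Q z F E R c d81) (d : C{z}) (hd : (d : G) ∈ D) :
    F.ρ d = 1 ∨ ∃ u ∈ F.VV D, F.ρ d ∈ R u := ZO.inner h ZO.ck81 d hd

end XS
end H6
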