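import Mathlib
import Cfsg.Agent.H6.XZO
import Cfsg.Agent.H18.XZb
import Cfsg.Agent.H14.ZM2

/-! Case 81: the Eichler transformation of the line `13, 16, 29` is not induced. -/

set_option autoImplicit false
set_option linter.unusedSectionVars false

namespace H6
namespace XS

open Subgroup H24 H15 H15.XP Module H20.XA

variable {G : Type*} [Group G] [Finite G] {D : Set G} {Q : G → Subgroup G} {z : G}
variable {V : Type*} [AddCommGroup V] [Module (ZMod 2) V] [Finite V]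
variable {F : Fr z (Q z) V} {E : V → Submodule (ZMod 2) V} {R : V → Subgroup (ofQuad F.q).Isom}
variable {c : ℕ → V}

theorem Cd.ncard {q : QuadraticForm (ZMod 2) V} (hc : Cd q c) {L : List ℕ} (h1 : ∀ a ∈ L, a < 256)
    (h2 : L.Nodup) {X : Set V} (h3 : ∀ a < 256, c a ∈ X ↔ a ∈ L) : Nat.card X = L.length := by
  have e : X = c '' (L.toFinset : Set ℕ) := Set.ext fun v => ⟨fun hv => by
    obtain ⟨a, ha, rfl⟩ := hc.surj v
    exact ⟨a, by simpa using (h3 a ha).1 hv, rfl⟩, by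
    rintro ⟨a, ha, rfl⟩
    have : a ∈ L := by simpa using ha
    exact (h3 a (h1 a this)).2 this⟩
  rw [Nat.card_coe_set_eq, e, Set.InjOn.ncard_image fun a ha b hb k =>
    (hc.eq_iff (h1 a (by simpa using ha)) (h1 b (by simpa using hb))).1 k, Set.ncard_coe_finset,
    List.toFinset_card_of_nodup h2]

variable (h : FC D Q z F E R c d81)
include h

theorem FC.ti81 (d : C{z}) (hd : (d : G) ∈ D) :
    F.ρ d = 1 ∨ ∀ u v, (F.ρ d).1 u = u → (F.ρ d).1 v = v → pol F.q u v = 0 := by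
  refine or_iff_not_imp_left.2 fun n u v hu hv => ?_
  obtain ⟨p, p1, p2⟩ := (h.inner81 d hd).resolve_left n
  obtain ⟨x, rfl⟩ := (ZO.ck81.h1 h.cs h.vd p1 p2 n).1 u hu
  rw [map_add, LinearMap.add_apply]
  nth_rw 1 [← hv]
  rw [mp, zz]

theorem FC.noT81 [IsSimpleGroup G] (g : C{z}) : ¬ Rp c (F.ρ g) [1, 15, 4, 8, 16, 48, 80, 144] := by
  classical
  intro hg
  have hs := h.sit
  have hz := h.mem
  have hc := h.cs.cd
  obtain ⟨φ, l⟩ := hs.exists_lf hz hc
  obtain ⟨x, x1, x2⟩ := l.exists_ac hs hz hc g (M := [1, 271, 4, 8, 16, 304, 336, 400]) (by decide) hg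
  have xz : x * g ∈ C{z} := mul_mem (hs.le hz x1) g.2
  have cm : ∀ m ∈ [116, 1, 12, 16, 164], φ m ∈ Q z ∧ F.π (φ m) = c m ∧ x * g * φ m = φ m * (x * g) ∧
      φ 116 * φ m = φ m * φ 116 := fun m hm => by
    obtain ⟨a1, a2, a3⟩ : m < 256 ∧ au [1, 271, 4, 8, 16, 304, 336, 400] m = m ∧ qm 116 m = qm m 116 := by
      revert m; decide
    refine ⟨l.mem m (by omega), by rw [l.pi m (by omega), Nat.mod_eq_of_lt a1], ?_, ?_⟩
    · have := x2.2 m (by omega)
      rwa [a2, mul_inv_eq_iff_eq_mul] at this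
    · rw [← l.mul 116 (by omega) m (by omega), ← l.mul m (by omega) 116 (by omega), a3]
  obtain ⟨s, s1, s2, s3⟩ : ∃ s : C{z}, F.ρ s = F.ρ g ∧ (s : G) * s = 1 ∧
      ∀ m ∈ [116, 1, 12, 16, 164], (s : G) * φ m = φ m * s := by
    have r1 : F.ρ ⟨x * g, xz⟩ = F.ρ g := by
      rw [show (⟨x * g, xz⟩ : C{z}) = ⟨x, hs.le hz x1⟩ * g from rfl, map_mul, (F.ker _).2 x1, one_mul]
    rcases (x2.mul x2 l xz xz).eq_or (Ac.one φ) hs hz hc l with e | e
    · exact ⟨⟨_, xz⟩, r1, e, fun m hm => (cm m hm).2.2.1⟩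
    obtain ⟨n1, -, n2, -⟩ := cm 116 (by simp)
    refine ⟨⟨_, xz⟩ * ⟨_, hs.le hz n1⟩, (ρ_mul F hs hz _ n1).trans r1, ?_, fun m hm => ?_⟩
    · change x * g * φ 116 * (x * g * φ 116) = 1
      rw [mul_assoc, ← mul_assoc (φ 116), ← n2, mul_assoc (x * g), ← mul_assoc (x * g), e,
        ← l.mul 116 (by omega) 116 (by omega), show qm 116 116 = 256 by decide, l.zz, mul_one, hs.sq hz]
    · change x * g * φ 116 * φ m = φ m * (x * g * φ 116)
      rw [mul_assoc, (cm m hm).2.2.2, ← mul_assoc, (cm m hm).2.2.1, mul_assoc]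
  let : MulAction C{z} (F.VV D) :=
    { smul := fun k v => ⟨(F.ρ k).1 v, h.vd.inv _ ⟨k, rfl⟩ v v.2⟩
      one_smul := fun v => Subtype.ext (by
        show (F.ρ 1).1 v = v
        rw [map_one]; rfl)
      mul_smul := fun k k' v => Subtype.ext (by
        show (F.ρ (k * k')).1 v = (F.ρ k).1 ((F.ρ k').1 v)
        rw [map_mul]; rfl) }
  let := Fintype.ofFinite (F.VV D)
  let χ : C{z} →* ℤˣ := Equiv.Perm.sign.comp (MulAction.toPermHom C{z} (F.VV D))
  have χ1 : ∀ a b : C{z}, F.ρ a = F.ρ b → χ a = χ b := fun a b e =>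
    congrArg Equiv.Perm.sign (Equiv.ext fun v => Subtype.ext (by
      show (F.ρ a).1 v = (F.ρ b).1 v
      rw [e]))
  have χ2 : χ s = -1 := by
    have := Equiv.Perm.sign_of_pow_two_eq_one (σ := MulAction.toPermHom C{z} (F.VV D) s) (by
      rw [← map_pow, pow_two, show s * s = 1 from Subtype.ext s2, map_one])
    have c1 := hc.ncard h.cs.ltS (by decide) h.cs.memS
    have c2 := hc.ncard (L := d81.S.filter fun a => app [1, 15, 4, 8, 16, 48, 80, 144] a = a)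
      (X := {v | v ∈ F.VV D ∧ (F.ρ s).1 v = v}) (fun a ha => h.cs.ltS a (List.mem_filter.1 ha).1)
      (by decide) fun a ha => by
        rw [Set.mem_ofPred_eq, h.cs.memS a ha, s1, hg.2 a ha, hc.eq_iff (app_lt hg.1 a) ha]; simp
    have c3 : Nat.card (Function.fixedPoints (MulAction.toPermHom C{z} (F.VV D) s)) =
        Nat.card {v | v ∈ F.VV D ∧ (F.ρ s).1 v = v} := Nat.card_congr
      ⟨fun v => ⟨v.1.1, v.1.2, congrArg Subtype.val v.2⟩, fun v => ⟨⟨v.1, v.2.1⟩, Subtype.ext v.2.2⟩,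
        fun _ => rfl, fun _ => rfl⟩
    rw [← Nat.card_eq_fintype_card, ← Nat.card_eq_fintype_card, c3, c1, c2] at this
    exact this.trans (by decide)
  obtain ⟨d, d1, d2, d3, -, d4⟩ := tf₂ (hs.index_ne_two hz) F hs hz (χ.ker.map F.ρ)
    (fun a b ha hb => ⟨a * b, by
      have k : ∀ a : C{z}, F.ρ a ∉ χ.ker.map F.ρ → χ a = -1 := fun a ha =>
        (Int.units_eq_one_or _).resolve_left fun e => ha ⟨a, e, rfl⟩
      change χ (a * b) = 1
      rw [map_mul, k a ha, k b hb]; rfl, map_mul _ _ _⟩) s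
    (fun ⟨k, k1, k2⟩ => by
      rw [χ1 s k k2.symm, show χ k = 1 from k1] at χ2
      exact absurd χ2 (by decide)) (Or.inl s2)
  have dm : ∀ m ∈ [116, 1, 12, 16, 164], d * φ m = φ m * d := fun m hm => d4 _ (cm m hm).1 (s3 m hm)
  have fx : ∀ m ∈ [116, 1, 12, 16, 164], (F.ρ ⟨d, d3⟩).1 (c m) = c m := fun m hm =>
    (cm m hm).2.1 ▸ ρ_fix F hs hz ⟨d, d3⟩ (cm m hm).1 (dm m hm)
  rcases h.ti81 ⟨d, d3⟩ d1 with e | e
  · have dQ : d ∈ Q z := (F.ker _).1 e
    obtain ⟨u, u1, u2⟩ := hc.surj (F.π d)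
    have u3 := (h.cs.memS u u1).1 (u2 ▸ ⟨d, d1, dQ, d2, rfl⟩)
    have : ∀ u ∈ d81.S, ∃ m ∈ [116, 1, 12, 16, 164], m < 256 ∧ polN u m ≠ 0 := by decide +kernel
    obtain ⟨m, m1, m2, m3⟩ := this u u3
    exact m3 ((hc.pol0 u1 m2).1 (by
      rw [u2, ← (cm m m1).2.1]; exact (F.pol_π d dQ _ (cm m m1).1).2 (dm m m1)))
  · exact absurd ((hc.pol0 (by decide) (by decide)).1 (e _ _ (fx 12 (by simp)) (fx 164 (by simp))))
      (by decide)

theorem FC.triv81 [IsSimpleGroup G] (k : C{z})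
    (e : ∀ m ∈ [12, 20, 96, 161, 13, 16], (F.ρ k).1 (c m) = c m) : F.ρ k = 1 := by
  have hc := h.cs.cd
  obtain ⟨l, l1, l2, l3⟩ := hc.go (h := F.ρ k) (k := fun l =>
      let M := [68, 18, 136, 140, 128, 97, 113, 5].map (app (l.map Prod.snd))
      M == idM || M == [1, 15, 4, 8, 16, 48, 80, 144])
    [(98, List.range 256), (140, List.range 256)]
    [(12, 12), (20, 20), (96, 96), (161, 161), (13, 13), (16, 16)] (fun b hb => by
      obtain ⟨m, m1, m2⟩ := hc.surj ((F.ρ k).1 (c b.1))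
      obtain ⟨b1, b2⟩ : b.1 < 256 ∧ b.2 = List.range 256 := by
        rcases List.mem_pair.1 hb with e | e <;> rw [e] <;> exact ⟨by omega, by dsimp only⟩
      exact ⟨b1, m, b2 ▸ List.mem_range.2 m1, m1, m2.symm⟩)
    (fun p hp => by
      obtain ⟨a1, a2, a3⟩ : p.1 < 256 ∧ p.2 = p.1 ∧ p.1 ∈ [12, 20, 96, 161, 13, 16] := by
        revert p; decide
      exact ⟨a1, a2 ▸ a1, by rw [a2]; exact e _ a3⟩) (by decide +kernel)
  have key : ∀ M, MOK M → [68, 18, 136, 140, 128, 97, 113, 5].map (app (l.map Prod.snd)) = M →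
      Rp c (F.ρ k) M := fun M hM e => hc.rp hM fun i hi => by
    have := hc.lin l l2 ([68, 18, 136, 140, 128, 97, 113, 5].getD i 0)
    have k2 : ∀ i < 8, app [140, 98, 12, 20, 96, 161, 13, 16]
      ([68, 18, 136, 140, 128, 97, 113, 5].getD i 0) = 2 ^ i := by decide
    rw [l1] at this
    rw [← k2 i hi]
    refine this.trans ?_
    rw [k2 i hi, app_pow hM.1 hi, ← e, AOK.getD_map (by decide) _ hi]
  simp only [Bool.or_eq_true, beq_iff_eq] at l3
  rcases l3 with e | e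
  · exact hc.ext (key _ idM_ok e) hc.rp_one
  · exact absurd (key _ (by decide) e) (h.noT81 k)

end XS
end H6
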