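import Mathlib
import Cfsg.Agent.H6.XZ81a
import Cfsg.Agent.H6.XU4
import Cfsg.Agent.H6.XP2
import Cfsg.Agent.H6.XA

/-! Case 81: the extra relation, from the unitary geometry in the centraliser of an `A₄`. -/

set_option autoImplicit false
set_option linter.unusedSectionVars false

namespace H6
namespace XS

open Subgroup H24 H15 H15.XP Module H20.XA H14.ZM

variable {G : Type*} [Group G] [Finite G] {D : Set G} {Q : G → Subgroup G} {z : G}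
variable {V : Type*} [AddCommGroup V] [Module (ZMod 2) V] [Finite V]
variable {F : Fr z (Q z) V} {E : V → Submodule (ZMod 2) V} {R : V → Subgroup (ofQuad F.q).Isom}
variable {c : ℕ → V}

theorem cjc (g : G) {x y : G} (h : x * y = y * x) :
    g * x * g⁻¹ * (g * y * g⁻¹) = g * y * g⁻¹ * (g * x * g⁻¹) := by
  rw [conj_mul, conj_mul, h]

theorem odd_four {N : Subgroup G} (ho : Odd (Nat.card N)) {x : G} (hx : x ∈ N) (e : x ^ 4 = 1) :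
    x = 1 := orderOf_eq_one_iff.1 (Nat.eq_one_of_dvd_coprimes (ho.coprime_two_right.pow_right 2)
      (N.orderOf_dvd_natCard hx) (orderOf_dvd_of_pow_eq_one e))

theorem Sit.inverts {w : ℕ} (h : Sit D Q w) {N : Subgroup G} (hN : N.Normal) (ho : Odd (Nat.card N))
    {d : G} (hd : d ∈ D) {n : G} (hn : n ∈ N) : d * n * d⁻¹ = n⁻¹ := by
  have f : MonoidHom.FixedPointFree (MulAut.conjNormal (H := N) d).toMonoidHom := fun m e => by
    have m1 : (m : G) ∈ C{d} := mem_C1_comm.1 (mem_C1_iff_conj.2 (congrArg Subtype.val e))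
    have m2 : (m : G) ∈ C[Q d] := mem_C'.2 fun q hq => mul_inv_eq_iff_eq_mul.1 (mul_inv_eq_one.1
      (odd_four ho (by simpa [mul_assoc] using mul_mem m.2 (hN.conj_mem _ (inv_mem m.2) q))
        (pow4 h hd (mul_mem (conj_mem (h.norm hd m1) hq) (inv_mem hq)))))
    exact Subtype.ext ((h.eq_or hd m2).elim id fun e => odd_four ho m.2 (e ▸ pow4 h hd (h.mem hd)))
  exact congrArg Subtype.val (congrFun (f.coe_eq_inv_of_involutive fun m => Subtype.ext (by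
    change d * (d * m * d⁻¹) * d⁻¹ = m
    rw [show d * (d * m * d⁻¹) * d⁻¹ = d * d * m * (d * d)⁻¹ by group, h.sq hd]; simp)) ⟨n, hn⟩)

theorem US.noOdd {w : ℕ} (h : US D Q w) {a b : G} (k : Col D a b) : NoOdd G := fun N hN ho => by
  obtain ⟨i, hi, i1⟩ := h.exists_I k
  obtain ⟨j, hj, j1, ji⟩ := H18.XU.four_ex (K := Q a ⊓ Q b) (by rw [(h.tu k).card]; omega) (h.eaI k i hi)
  have ij : i * j ≠ 1 := fun e => ji (by rw [eq_inv_of_mul_eq_one_right e, (h.eaI k).inv hi])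
  refine eq_bot_iff.2 fun n hn => odd_four ho hn ?_
  have iv := fun {d} (hd : d ∈ D) {m} (hm : m ∈ N) => h.toSit.inverts hN ho hd hm
  have e := iv (h.third_mem k (mul_mem hi hj) ij) hn
  rw [← h.third_mul k hi j, show ∀ p r : G, a * b * (p * r) * n * (a * b * (p * r))⁻¹ =
    a * (b * (p * (r * n * r⁻¹) * p⁻¹) * b⁻¹) * a⁻¹ from fun p r => by group,
    iv (h.third_mem k hj j1) hn, iv (h.third_mem k hi i1) (inv_mem hn), inv_inv, iv k.r hn,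
    iv k.l (inv_mem hn), inv_inv] at e
  rw [show n ^ 4 = n * n * (n * n) by simp [pow_succ, mul_assoc], mul_eq_one_iff_eq_inv.2 e, one_mul]

theorem Cd.app_mem {q : QuadraticForm (ZMod 2) V} (hc : Cd q c) {U : Submodule (ZMod 2) V} :
    ∀ L : List ℕ, (∀ a ∈ L, a < 256 ∧ c a ∈ U) → ∀ j, c (app L j) ∈ U
  | [], _, _ => hc.zero ▸ zero_mem U
  | m :: L, h, j => by
    have h' := fun a ha => h a (List.mem_cons_of_mem _ ha)
    obtain ⟨m1, m2⟩ := h m List.mem_cons_self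
    rcases Nat.mod_two_eq_zero_or_one j with e | e <;> rw [app, e]
    · simpa using hc.app_mem L h' _
    · rw [one_mul, hc.add _ m1 _ (app_lt' L (fun a ha => (h' a ha).1) _)]
      exact add_mem m2 (hc.app_mem L h' _)

/-- the codes fixed by `τ` -/
def v81 : List ℕ := [0, 12, 20, 24, 96, 108, 116, 120, 161, 173, 181, 185, 193, 205, 213, 217]

section

variable [IsSimpleGroup G] (h : FC D Q z F E R c d81) {τ σ r a : C{z}} {x : G}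
  (hτ : Rp c (F.ρ τ) [17, 142, 25, 21, 13, 222, 190, 110]) (τ3 : (τ : G) ^ 3 = 1)
  (hx : x ∈ Q z) (ex : F.π x = c 13)
include h hτ τ3 hx ex

theorem FC.mem81 {y : G} (hy : y ∈ Q z) :
    y ∈ C{(τ : G)} ⊓ C{x} ↔ ∃ n ∈ v81, c n = F.π y := by
  have hs := h.sit
  have hz := h.mem
  have hc := h.cs.cd
  obtain ⟨n, n1, n2⟩ := hc.surj (F.π y)
  have k : ∀ n < 256, (app [17, 142, 25, 21, 13, 222, 190, 110] n = n ↔ n ∈ v81) ∧
    (n ∈ v81 → polN 13 n = 0) := by decide +kernel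
  have lt : ∀ n ∈ v81, n < 256 := by decide
  constructor
  · intro e
    have := ρ_fix F hs hz τ hy (mem_C1.1 e.1).symm
    rw [← n2, hτ.2 n n1, hc.eq_iff (app_lt hτ.1 n) n1] at this
    exact ⟨n, (k n n1).1.1 this, n2⟩
  · rintro ⟨m, m1, m2⟩
    obtain rfl := (hc.eq_iff (lt m m1) n1).1 (m2.trans n2.symm)
    refine ⟨mem_C1_comm.1 (mem_C1_iff_conj.2 ((H20.XA.cj_or F hs hz τ hy (by
      rw [← n2, hτ.2 m n1, (k m n1).1.2 m1])).resolve_right fun e' => hs.ne_one hz ?_)),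
      (F.pol_zero hs hz hx hy).1 (by rw [ex, ← n2]; exact (hc.pol0 (by decide) n1).2 ((k m n1).2 m1))⟩
    have : (τ : G) ^ 3 * y * ((τ : G) ^ 3)⁻¹ = z * y := by
      rw [show (τ : G) ^ 3 * y * ((τ : G) ^ 3)⁻¹ =
        τ * (τ * (τ * y * (τ : G)⁻¹) * (τ : G)⁻¹) * (τ : G)⁻¹ by simp [pow_succ, mul_assoc], e',
        zc hs hz τ.2, e', ← mul_assoc z, hs.sq hz, one_mul, e']
    simpa [τ3] using this.symm

theorem FC.fx81 (k : C{z}) (hk : (k : G) ∈ C{(τ : G)} ⊓ C{x})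
    (e : ∀ n ∈ v81, (F.ρ k).1 (c n) = c n) : (k : G) ∈ Q z := by
  have c1 : ∀ v, (F.ρ k).1 v = v → (F.ρ k).1 ((F.ρ τ).1 v) = (F.ρ τ).1 v := fun v hv => by
    rw [← Form.Isom.mul_apply, ← map_mul, show k * τ = τ * k from Subtype.ext (mem_C1.1 hk.1), map_mul,
      Form.Isom.mul_apply, hv]
  have c2 : (F.ρ k).1 (c 13) = c 13 := ex ▸ ρ_fix F h.sit h.mem k hx (mem_C1.1 hk.2)
  have c3 := c1 _ (c1 _ c2)
  rw [hτ.2 _ (by decide), hτ.2 _ (by decide)] at c3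
  refine (F.ker k).1 (h.triv81 k fun m hm => ?_)
  simp only [List.mem_cons, List.not_mem_nil, or_false] at hm
  rcases hm with rfl | rfl | rfl | rfl | rfl | rfl
  exacts [e _ (by decide), e _ (by decide), e _ (by decide), e _ (by decide), c2, c3]

theorem FC.sit81 (hσ : Rp c (F.ρ σ) [25, 175, 8, 28, 16, 245, 56, 152])
    (hr : Rp c (F.ρ r) [109, 14, 221, 189, 16, 84, 56, 236])
    (ha : Rp c (F.ρ a) [1, 3, 4, 8, 16, 40, 68, 144]) {K : Subgroup G} (hK : K = C{(τ : G)} ⊓ C{x})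
    (σK : (σ : G) ∈ K) (rK : (r : G) ∈ K) (aK : (a : G) ∈ K) (zK : z ∈ K) :
    LX (⟨z, zK⟩ : K) ((Q z).subgroupOf K) ∧
      Sit (conjugatesOf (⟨z, zK⟩ : K)) (fam ⟨z, zK⟩ ((Q z).subgroupOf K)) 2 := by
  have hs := h.sit
  have hz := h.mem
  have hc := h.cs.cd
  have lt : ∀ n ∈ v81, n < 256 := by decide
  have m0 : ∀ y ∈ Q z, y ∈ K ↔ ∃ n ∈ v81, c n = F.π y := fun y hy => hK ▸ h.mem81 hτ τ3 hx ex hy
  have lf : ∀ n ∈ v81, ∃ y : K, (y : G) ∈ Q z ∧ F.π y = c n := fun n hn => by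
    obtain ⟨y, y1, y2⟩ := F.π_surj (c n)
    exact ⟨⟨y, (m0 y y1).2 ⟨n, hn, y2.symm⟩⟩, y1, y2⟩
  have zp : ∀ {y : K}, (y : G) ∈ zpowers z → y ∈ zpowers (⟨z, zK⟩ : K) := fun {y} k => by
    obtain ⟨i, hi⟩ := mem_zpowers_iff.1 k
    exact mem_zpowers_iff.2 ⟨i, Subtype.ext (by simpa using hi)⟩
  have cc : ∀ {y : K}, y ∈ C{(⟨z, zK⟩ : K)} ↔ (y : G) ∈ C{z} := fun {y} => by
    rw [mem_C1, mem_C1, Subtype.ext_iff]; rfl
  let W : Submodule (ZMod 2) V :=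
    { carrier := {v | (F.ρ τ).1 v = v}
      zero_mem' := map_zero _
      add_mem' := fun x y => by rw [Set.mem_ofPred_eq, map_add, x, y]
      smul_mem' := fun c _ x => by rw [Set.mem_ofPred_eq, map_smul, x] }
  have mW : ∀ n < 256, c n ∈ W ↔ n ∈ v81 := fun n hn => by
    change (F.ρ τ).1 _ = _ ↔ _
    rw [hτ.2 n hn, hc.eq_iff (app_lt hτ.1 n) hn]
    revert n; decide +kernel
  have cW : Nat.card W = 16 := hc.ncard (X := W) lt (by decide) mW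
  have cB : Nat.card ((Q z).subgroupOf K) = 2 ^ (2 * 2 + 1) := by
    have e : Q z ⊓ K = F.sub W := Subgroup.ext fun y => and_congr_right fun hy => by
      obtain ⟨n, n1, n2⟩ := hc.surj (F.π y)
      rw [← n2, mW n n1]
      exact (m0 y hy).trans ⟨fun ⟨m, m1, m2⟩ => (hc.eq_iff (lt m m1) n1).1 (m2.trans n2.symm) ▸ m1,
        fun k => ⟨n, k, n2⟩⟩
    rw [Module.natCard_eq_pow_finrank (K := ZMod 2), Nat.card_zmod] at cW
    rw [card_subgroupOf, e, F.card_sub hs hz, pow_succ, cW]; rfl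
  have cl : ∀ y ∈ (Q z).subgroupOf K, (∀ u ∈ (Q z).subgroupOf K, Commute y u) →
      y ∈ zpowers (⟨z, zK⟩ : K) := fun y hy e => by
    obtain ⟨n, n1, n2⟩ := (m0 y hy).1 y.2
    have k : ∀ n ∈ v81, (∀ m ∈ v81, polN n m = 0) → n = 0 := by decide
    obtain rfl := k n n1 fun m hm => by
      obtain ⟨u, u1, u2⟩ := lf m hm
      exact (hc.pol0 (lt n n1) (lt m hm)).1 (by
        rw [n2, ← u2]; exact (F.pol_π y hy u u1).2 (congrArg Subtype.val (e u u1)))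
    exact zp ((hs.mem_zp hz).2 ((F.π_eq_zero y hy).1 (n2 ▸ hc.zero)))
  have l := hs.lx z hz
  have lx : LX (⟨z, zK⟩ : K) ((Q z).subgroupOf K) := by
    refine ⟨⟨by rw [← orderOf_coe]; exact l.xs.ord, l.xs.mem, fun x hx => Subtype.ext (l.xs.central x hx),
      fun x hx y hy => zp (l.xs.comm x hx y hy), fun x hx => zp (l.xs.pow x hx), cl⟩, fun e => ?_,
      fun g hg => mem_normalizer_iff.2 fun x => mem_normalizer_iff.1 (l.norm (cc.1 hg)) x, fun k hk => ?_⟩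
    · rw [← e, Nat.card_zpowers, ← orderOf_coe, hs.ord hz] at cB
      exact absurd cB (by decide)
    · have k1 : ∀ y : K, (y : G) ∈ Q z → (k : G) * y = y * k := fun y y1 =>
        congrArg Subtype.val (mem_C'.1 hk y y1)
      refine cl k (h.fx81 hτ τ3 hx ex ⟨k, mem_C1.2 (k1 ⟨z, zK⟩ (hs.mem hz))⟩ (hK ▸ k.2) fun n hn => ?_)
        fun y hy => mem_C'.1 hk y hy
      obtain ⟨y, y1, y2⟩ := lf n hn
      exact y2 ▸ ρ_fix F hs hz _ y1 (k1 y y1)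
  refine ⟨lx, sit_mk lx cB (fun N n1 n2 n3 => ?_) le_rfl⟩
  let f : N →* C{z} :=
    { toFun := fun k => ⟨k.1, cc.1 (n1 k.2)⟩
      map_one' := rfl
      map_mul' := fun _ _ => rfl }
  have pv : ∀ k : C{z}, (k : G) ∈ K → ∀ v ∈ W, (F.ρ k).1 v ∈ W := fun k hk v hv => by
    change (F.ρ τ).1 _ = _
    rw [← Form.Isom.mul_apply, ← map_mul, ← show k * τ = τ * k from Subtype.ext (mem_C1.1 (hK ▸ hk).1),
      map_mul, Form.Isom.mul_apply, hv]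
  let : MulAction N W :=
    { smul := fun k v => ⟨(F.ρ (f k)).1 v, pv _ k.1.2 v v.2⟩
      one_smul := fun v => Subtype.ext (by
        show (F.ρ (f 1)).1 v = v
        rw [map_one, map_one]; rfl)
      mul_smul := fun k k' v => Subtype.ext (by
        show (F.ρ (f (k * k'))).1 v = (F.ρ (f k)).1 ((F.ρ (f k')).1 v)
        rw [map_mul, map_mul]; rfl) }
  obtain ⟨v, v0, v1⟩ := fix_vec (T := N) (W := W) (a := 0) (by rw [cW]; decide)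
    (fun t => (n3 t).imp fun n hn x => by rw [hn, one_smul]) fun t => Subtype.ext (map_zero _)
  let U : Submodule (ZMod 2) V :=
    { carrier := {v | ∀ k : N, (F.ρ (f k)).1 v = v}
      zero_mem' := fun _ => map_zero _
      add_mem' := fun x y k => by rw [map_add, x k, y k]
      smul_mem' := fun c _ x k => by rw [map_smul, x k] }
  have iU : ∀ (g : C{z}) (M : List ℕ), (g : G) ∈ K → Rp c (F.ρ g) M → ∀ n, n < 256 ∧ c n ∈ U →
      app M n < 256 ∧ c (app M n) ∈ U := fun g M hg hM n ⟨a1, a2⟩ => ⟨app_lt hM.1 n, fun k => by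
    have := a2 ⟨_, conj_mem' (n2 (cc.2 (show ((⟨g, hg⟩ : K) : G) ∈ _ from g.2))) k.2⟩
    rw [show f ⟨_, _⟩ = g⁻¹ * f k * g from rfl, map_mul, map_mul, map_inv, Form.Isom.mul_apply,
      Form.Isom.mul_apply, Form.Isom.inv_apply_eq] at this
    rw [← hM.2 n a1]; exact this.symm⟩
  obtain ⟨n, a1, a2⟩ := hc.surj v
  have a3 : n < 256 ∧ c n ∈ U := ⟨a1, fun k => a2 ▸ congrArg Subtype.val (v1 k)⟩
  have k : ∀ n ∈ v81, n ≠ 0 → ∀ m ∈ v81, ∃ j < 64,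
      let s := app [25, 175, 8, 28, 16, 245, 56, 152] n
      let r := app [109, 14, 221, 189, 16, 84, 56, 236]
      let a := app [1, 3, 4, 8, 16, 40, 68, 144]
      app [n, s, r n, r s, a n, a s] j = m := by decide +kernel
  intro y hy
  refine h.fx81 hτ τ3 hx ex (f ⟨y, hy⟩) (hK ▸ y.2) fun m hm => ?_
  obtain ⟨j, -, e⟩ := k n ((mW n a1).1 (a2 ▸ v.2)) (fun e => v0 (Subtype.ext (by
    rw [← a2, e, hc.zero]; rfl))) m hm
  have b := iU σ _ σK hσ n a3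
  refine (e ▸ hc.app_mem (U := U) _ (fun u hu => ?_) j :) ⟨y, hy⟩
  simp only [List.mem_cons, List.not_mem_nil, or_false] at hu
  rcases hu with rfl | rfl | rfl | rfl | rfl | rfl
  exacts [a3, b, iU r _ rK hr _ a3, iU r _ rK hr _ b, iU a _ aK ha _ a3, iU a _ aK ha _ b]

theorem FC.us81 {K : Subgroup G} (hK : K = C{(τ : G)} ⊓ C{x}) (zK : z ∈ K)
    (lx : LX (⟨z, zK⟩ : K) ((Q z).subgroupOf K))
    (S : Sit (conjugatesOf (⟨z, zK⟩ : K)) (fam ⟨z, zK⟩ ((Q z).subgroupOf K)) 2) :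
    US (conjugatesOf (⟨z, zK⟩ : K)) (fam ⟨z, zK⟩ ((Q z).subgroupOf K)) 2 := by
  have hs := h.sit
  have hz := h.mem
  have hc := h.cs.cd
  have z0 : (⟨z, zK⟩ : K) ∈ conjugatesOf (⟨z, zK⟩ : K) := IsConj.refl _
  have mq : ∀ d ∈ conjugatesOf (⟨z, zK⟩ : K), (d : G) ∈ D ∧ x ∈ Q d ∧
      ∀ y : K, y ∈ fam ⟨z, zK⟩ ((Q z).subgroupOf K) d ↔ (y : G) ∈ Q d := fun d hd => by
    obtain ⟨k, rfl⟩ := isConj_iff.1 hd
    have e : Q (k * ⟨z, zK⟩ * k⁻¹ : K) = cj (k : G) (Q z) := hs.eqv z hz k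
    refine ⟨hs.conj z hz k, ?_, fun y => by rw [fam_eq lx.norm, e, mem_cj, mem_cj]; rfl⟩
    rw [e, ← mem_C1_iff_conj.1 (show (k : G) ∈ C{x} from (hK.le k.2).2)]
    exact conj_mem_cj _ hx
  have nq : ∀ d ∈ conjugatesOf (⟨z, zK⟩ : K), (d : G) ∈ Q z → d = ⟨z, zK⟩ := fun d hd e => by
    by_contra n
    obtain ⟨m, m1, m2⟩ := (h.mem81 hτ τ3 hx ex e).1 (hK ▸ d.2)
    have k : ∀ m ∈ v81, m < 256 ∧ m ∉ d81.S := by decide
    exact (k m m1).2 ((h.cs.memS m (k m m1).1).1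
      (m2 ▸ ⟨d, (mq d hd).1, e, fun e' => n (Subtype.ext e'), rfl⟩))
  have wc := S.wc_of z0 fun ⟨d, d1, d2, d3⟩ => d3 (nq d d1 (((mq _ z0).2.2 d).1 d2))
  refine ((S.cases wc z0).resolve_right ?_)
  rintro (⟨e, -⟩ | ⟨-, b, k, t⟩)
  · exact absurd e (by decide)
  obtain ⟨b1, b2, b3⟩ := mq b k.r
  have bz : (b : G) ∈ C{z} := mem_C1.2 (congrArg Subtype.val k.comm).symm
  have n : F.ρ ⟨b, bz⟩ ≠ 1 := fun e => k.ne (nq b k.r ((F.ker _).1 e)).symm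
  obtain ⟨u, u1, u2⟩ := (h.inner81 ⟨b, bz⟩ b1).resolve_left n
  obtain ⟨v, v1, v2, -, rfl, v3⟩ := hs.inner_mem hz h.lift u1 ⟨b, bz⟩ (hs.sq b1) u2
    (ZO.ck81.h1 h.cs h.vd u1 u2 n)
  have ab : ∀ i ∈ Q z ⊓ Q b, ∀ j ∈ Q z ⊓ Q b, i * j = j * i := fun i hi j hj =>
    mul_inv_eq_iff_eq_mul.1 ((hs.cj_or hz hi.1 hj.1).resolve_right fun e => (hs.cj_or b1 hi.2 hj.2).elim
      (fun e' => hs.ne_one hz (by simpa [e'] using e.symm))
      fun e' => k.ne (Subtype.ext (mul_right_cancel (e.symm.trans e'))))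
  have tn : ∀ i ∈ Q z ⊓ Q b, τ * i * (τ : G)⁻¹ ∈ Q z ⊓ Q b := fun i hi =>
    ⟨cQ hs hz τ.2 hi.1, conj_mem (hs.norm b1 (mem_C1_comm.1 (hK.le b.2).1)) hi.2⟩
  have i0 : v ∈ Q z ⊓ Q b := ⟨v2, hs.symm v1 b1 v3⟩
  have i1 := tn _ i0
  have i2 := tn _ i1
  have i3 := mul_mem (mul_mem i0 i1) i2
  have i4 : v * (τ * v * (τ : G)⁻¹) * (τ * (τ * v * (τ : G)⁻¹) * (τ : G)⁻¹) ∈ K := by
    refine hK ▸ ⟨mem_C1_comm.1 (mem_C1_iff_conj.2 ?_), mem_C1.2 (ab _ i3 x ⟨hx, b2⟩)⟩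
    rw [mul_assoc v, ab _ i0 _ (mul_mem i1 i2)]
    calc _ = τ * (τ * v * (τ : G)⁻¹) * (τ : G)⁻¹ * ((τ : G) ^ 3 * v * ((τ : G) ^ 3)⁻¹) *
          (τ * v * (τ : G)⁻¹) := by simp [pow_succ, mul_assoc]
      _ = _ := by
        rw [τ3, one_mul, inv_one, mul_one, ab _ (mul_mem i2 i0) _ i1, mul_assoc (τ * v * (τ : G)⁻¹)]
  have i5 := congrArg (fun y : K => F.π y) (mem_bot.1 (t.bot.le (show (⟨_, i4⟩ : K) ∈ _ from
    ⟨((mq _ z0).2.2 _).2 i3.1, (b3 _).2 i3.2⟩)))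
  obtain ⟨m, m1, m2⟩ := hc.surj (F.π v)
  have lt := fun a => app_lt hτ.1 a
  simp only [coe_one] at i5
  rw [F.π_one, F.π_mul _ (mul_mem i0 i1).1 _ i2.1, F.π_mul _ v2 _ i1.1, ← F.ρ_π τ _ i1.1,
    ← F.ρ_π τ _ v2, ← m2, hτ.2 _ m1, hτ.2 _ (lt _), ← hc.add _ m1 _ (lt _),
    ← hc.add _ (xor_lt m1 (lt _)) _ (lt _)] at i5
  have k : ∀ m ∈ d81.S, polN m 13 = 0 → polN m 29 = 0 →
      m ^^^ app [17, 142, 25, 21, 13, 222, 190, 110] m ^^^ app [17, 142, 25, 21, 13, 222, 190, 110]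
        (app [17, 142, 25, 21, 13, 222, 190, 110] m) ≠ 0 := by decide +kernel
  have x2 := tn x ⟨hx, b2⟩
  refine k m ((h.cs.memS m m1).1 (m2 ▸ u1)) ((hc.pol0 m1 (by decide)).1 ?_)
    ((hc.pol0 m1 (by decide)).1 ?_) (hc.inj _ (xor_lt (xor_lt m1 (lt _)) (lt _)) i5)
  · rw [m2, ← ex]; exact (F.pol_π v v2 x hx).2 (ab _ i0 _ ⟨hx, b2⟩)
  · have := (F.pol_π v v2 _ x2.1).2 (ab _ i0 _ x2)
    rwa [← F.ρ_π τ x hx, ex, hτ.2 _ (by decide), ← m2] at this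

theorem FC.key81 (hσ : Rp c (F.ρ σ) [25, 175, 8, 28, 16, 245, 56, 152])
    (hr : Rp c (F.ρ r) [109, 14, 221, 189, 16, 84, 56, 236])
    (ha : Rp c (F.ρ a) [1, 3, 4, 8, 16, 40, 68, 144]) {w b b' : G}
    (σK : (σ : G) ∈ C{(τ : G)} ⊓ C{x}) (rK : (r : G) ∈ C{(τ : G)} ⊓ C{x})
    (wK : w ∈ C{(τ : G)} ⊓ C{x}) (rσ : (r : G) * σ = σ * r) (w1 : w * σ * w⁻¹ = (σ : G)⁻¹)
    (w2 : w * z * w⁻¹ = a) (hb : b = r * a * (r : G)⁻¹ ∨ b = (r : G)⁻¹ * a * r)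
    (hb' : b' = r * a * (r : G)⁻¹ ∨ b' = (r : G)⁻¹ * a * r) :
    b * (w * b' * w⁻¹) = w * b' * w⁻¹ * b := by
  have hs := h.sit
  have hz := h.mem
  have hc := h.cs.cd
  generalize hK : C{(τ : G)} ⊓ C{x} = K at σK rK wK
  have zK : z ∈ K := hK ▸ ⟨mem_C1_comm.1 τ.2, mem_C1_comm.1 (hs.le hz hx)⟩
  have aK : (a : G) ∈ K := w2 ▸ mul_mem (mul_mem wK zK) (inv_mem wK)
  obtain ⟨lx, S⟩ := h.sit81 hτ τ3 hx ex hσ hr ha hK.symm σK rK aK zK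
  have u := h.us81 hτ τ3 hx ex hK.symm zK lx S
  generalize hD : conjugatesOf (⟨z, zK⟩ : K) = D0 at u
  have z0 : (⟨z, zK⟩ : K) ∈ D0 := hD ▸ IsConj.refl _
  have ea : (⟨w, wK⟩ * ⟨z, zK⟩ * ⟨w, wK⟩⁻¹ : K) = ⟨a, aK⟩ := Subtype.ext w2
  have a0 : (⟨a, aK⟩ : K) ∈ D0 := ea ▸ u.conj _ z0 _
  have ws : ∀ y ∈ C{(σ : G)}, w * y * w⁻¹ ∈ C{(σ : G)} := fun y hy => by
    have := conj_mem_cj w (inv_mem (mem_C1_comm.1 hy))
    rw [cj_C1, show w * (σ : G)⁻¹ * w⁻¹ = (w * σ * w⁻¹)⁻¹ by group, w1, inv_inv] at this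
    exact mem_C1_comm.1 this
  have aσ : (a : G) ∈ C{(σ : G)} := w2 ▸ ws z (mem_C1_comm.1 σ.2)
  have nc : a * (r * a * r⁻¹) ≠ r * a * r⁻¹ * a := fun e => by
    have r1 := (hr.mul ha).mul (hc.rp_inv hr (N := cmp [109, 14, 221, 189, 16, 84, 56, 236]
      [109, 14, 221, 189, 16, 84, 56, 236]) (by decide) (by decide))
    have r2 := ha.mul r1
    have r3 := r1.mul ha
    simp only [← map_inv, ← map_mul] at r2 r3
    exact absurd (hc.uniq r2 (e ▸ r3)) (by decide)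
  have P : ∀ {b : G}, b = r * a * (r : G)⁻¹ ∨ b = (r : G)⁻¹ * a * r → ∃ hb : b ∈ K,
      (⟨b, hb⟩ : K) ∈ D0 ∧ b ∈ C{z} ∧ b ∈ C{(σ : G)} ∧ a * b ≠ b * a := by
    have r1 := mem_C1.2 rσ
    rintro _ (rfl | rfl)
    · exact ⟨_, u.conj _ a0 ⟨r, rK⟩, (r * a * r⁻¹).2, mul_mem (mul_mem r1 aσ) (inv_mem r1),
        fun e => nc (Subtype.ext e)⟩
    · refine ⟨mul_mem (mul_mem (inv_mem rK) aK) rK, by
        have := u.conj _ a0 ⟨r, rK⟩⁻¹
        rwa [inv_inv] at this,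
        (r⁻¹ * a * r).2, mul_mem (mul_mem (inv_mem r1) aσ) r1, fun e => nc (Subtype.ext ?_)⟩
      have := cjc (r : G) e
      simpa [mul_assoc] using this.symm
  obtain ⟨b1, b2, -, b3, b4⟩ := P hb
  obtain ⟨c1, c2, c3, c4, c5⟩ := P hb'
  have k0 : Col D0 ⟨z, zK⟩ ⟨b', c1⟩ := ⟨z0, c2, fun e => c5 (by
    rw [← show z = b' from congrArg Subtype.val e]; exact mem_C1.1 a.2), Subtype.ext (mem_C1.1 c3).symm⟩
  have k1 := u.col_cj k0 ⟨w, wK⟩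
  rw [ea] at k1
  generalize he : (⟨w, wK⟩ * ⟨b', c1⟩ * ⟨w, wK⟩⁻¹ : K) = e at k1
  have fx : ∀ y : K, (y : G) ∈ C{(σ : G)} → ⟨σ, σK⟩ * y * ⟨σ, σK⟩⁻¹ = y := fun y hy =>
    Subtype.ext (mem_C1_iff_conj.1 (mem_C1_comm.1 hy))
  have eσ : (e : G) ∈ C{(σ : G)} := he ▸ ws b' c4
  have na : ¬ (⟨a, aK⟩ : K) * ⟨b, b1⟩ = ⟨b, b1⟩ * ⟨a, aK⟩ := fun e => b4 (congrArg Subtype.val e)
  obtain ⟨d, d1, d2, d3⟩ := u.line_pt (u.noOdd k0) k1 b2
  have d4 : ⟨σ, σK⟩ * d * ⟨σ, σK⟩⁻¹ = d := by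
    by_contra n
    have m1 := conj_mem_cj ⟨σ, σK⟩ d2
    rw [u.cj_UU k1, fx _ aσ, fx _ eσ] at m1
    have m2 := cjc ⟨σ, σK⟩ d3
    rw [fx ⟨b, b1⟩ b3] at m2
    have := u.cent_of_comm (u.col_ln k1 (u.conj d d1 _) d1 m1 d2 n) b2 m2 d3
    rw [u.UU_eq k1 (u.conj d d1 _) d1 m1 d2 n] at this
    exact na (mem_C.1 this _ (left_mem_UU _ _))
  rcases (u.mem_ln k1).1 ⟨d1, d2⟩ with rfl | rfl | ⟨i, i1, i2, rfl⟩
  · exact absurd d3 na
  · rw [← he] at d3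
    exact (congrArg Subtype.val d3).symm
  have i3 : (i : G) ∈ C{(σ : G)} := (mul_mem_cancel_left (mul_mem aσ eσ)).1
    (mem_C1_comm.1 (mem_C1_iff_conj.2 (congrArg Subtype.val d4)))
  have i4 := (mem_inf.1 i1).1
  rw [← ea, fam_eq lx.norm, mem_cj] at i4
  replace i4 : w⁻¹ * i * w ∈ Q z := i4
  obtain ⟨n, n1, n2⟩ := (h.mem81 hτ τ3 hx ex i4).1 (hK.ge (mul_mem (mul_mem (inv_mem wK) i.2) wK))
  have k : ∀ n ∈ v81, n < 256 ∧ (app [25, 175, 8, 28, 16, 245, 56, 152] n = n → n = 0) := by decide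
  have i5 := ρ_fix F hs hz σ i4 (by
    have := cjc w⁻¹ (mem_C1.1 (mem_C1_comm.1 (inv_mem (mem_C1_comm.1 i3)))).symm
    rwa [← w1, show w⁻¹ * (w * σ * w⁻¹) * w⁻¹⁻¹ = σ by group, inv_inv] at this)
  rw [← n2, hσ.2 _ (k n n1).1, hc.eq_iff (app_lt hσ.1 _) (k n n1).1] at i5
  rw [(k n n1).2 i5, hc.zero, eq_comm, F.π_eq_zero _ i4] at n2
  rcases n2 with e | e
  · exact absurd (Subtype.ext (by simpa [mul_assoc] using congrArg (w * · * w⁻¹) e)) i2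
  · have : i = ⟨a, aK⟩ := Subtype.ext (by rw [← w2, ← e]; group)
    exact absurd (this ▸ i1.2) (u.notQ k1.symm)

end

end XS
end H6
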