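import Mathlib
import Cfsg.Agent.H6.XDefs

/-!
Large extraspecial subgroups, the weakly closed case: definitions for the Conway type and for the
`L₄(3)` type.
-/

set_option autoImplicit false

namespace H6
namespace XS

open Subgroup H24 H15 H15.XP Module

section lin

variable {V : Type*} [AddCommGroup V] [Module (ZMod 2) V] {q : QuadraticForm (ZMod 2) V}

/-- fixed space -/
def Fix (c : (ofQuad q).Isom) : Submodule (ZMod 2) V where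
  carrier := {x | c.1 x = x}
  zero_mem' := map_zero _
  add_mem' := fun {x y} hx hy => by
    change c.1 (x + y) = x + y
    rw [map_add, show c.1 x = x from hx, show c.1 y = y from hy]
  smul_mem' := fun a x hx => by
    change c.1 (a • x) = a • x
    rw [map_smul, show c.1 x = x from hx]

theorem mem_Fix {c : (ofQuad q).Isom} {x : V} : x ∈ Fix c ↔ c.1 x = x := Iff.rfl

/-- `y` is trivial on `W` and on `V / W` -/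
def UW (W : Submodule (ZMod 2) V) (y : (ofQuad q).Isom) : Prop :=
  (∀ x ∈ W, y.1 x = x) ∧ ∀ x, y.1 x + x ∈ W

/-- all fixed vectors of `y` are in `W` -/
def ND (W : Submodule (ZMod 2) V) (y : (ofQuad q).Isom) : Prop := ∀ x, y.1 x = x → x ∈ W

open Classical in
/-- the Pfaffian -/
noncomputable def pf (W : Submodule (ZMod 2) V) (y : (ofQuad q).Isom) : ZMod 2 :=
  if ND W y then 1 else 0

/-- the linear shadow of the Conway type -/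
structure CO (H : Subgroup (ofQuad q).Isom) (S : Set (ofQuad q).Isom) : Prop where
  nondeg : (ofQuad q).Nondeg
  dim : finrank (ZMod 2) V = 8
  o2 : ∀ N : Subgroup (ofQuad q).Isom, N ≤ H → H ≤ N[N] → IsPGroup 2 N → N = ⊥
  nonempty : S.Nonempty
  le : ∀ c ∈ S, c ∈ H
  conj : ∀ h ∈ H, ∀ c ∈ S, h * c * h⁻¹ ∈ S
  dimF : ∀ c ∈ S, finrank (ZMod 2) (Fix c) = 4
  ts : ∀ c ∈ S, TS q (Fix c)
  uw : ∀ c ∈ S, UW (Fix c) c
  memB : ∀ c ∈ S, ∀ y, UW (Fix c) y → (ND (Fix c) y ↔ ¬ ND (Fix c) (y * c)) → y ∈ H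
  b4 : ∀ c ∈ S, ∀ u v : Fin 4 → V, ∃ y ∈ H, y ≠ 1 ∧ UW (Fix c) y ∧
    ∀ i, pol q (y.1 (u i) + u i) (v i) = 0
  P : ∀ c ∈ S, ∀ c' ∈ S, UW (Fix c) c' → c' ≠ c → ND (Fix c) (c * c')

end lin

section grp

variable {G : Type*} [Group G]

/-- `y` is collinear with `a` -/
structure Nb (D : Set G) (a y : G) : Prop where
  mem : y ∈ D
  comm : a * y = y * a
  not : a * y ∉ D
  ne : y ≠ a

/-- an involution outside `D` -/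
structure NI (D : Set G) (t : G) : Prop where
  sq : t * t = 1
  ne : t ≠ 1
  not : t ∉ D

/-- `y, y t ∈ D` -/
structure Yt (D : Set G) (t y : G) : Prop where
  mem : y ∈ D
  comm : y * t = t * y
  mul : y * t ∈ D

/-- `f ∈ D` centralises `t`, `f t ∉ D` -/
structure Zt (D : Set G) (t f : G) : Prop where
  mem : f ∈ D
  comm : f * t = t * f
  not : f * t ∉ D

/-- `f` is a further point of the line through `y` and `y t` -/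
structure Lam (D : Set G) (t y f : G) : Prop extends Zt D t f where
  cy : f * y = y * f
  ny : f * y ∉ D
  nyt : f * y * t ∉ D

/-- a line -/
structure Ln (D : Set G) (p1 p2 p3 p4 p5 : G) : Prop where
  mem : p1 ∈ D
  n12 : Nb D p1 p2
  n13 : Nb D p1 p3
  n14 : Nb D p1 p4
  n15 : Nb D p1 p5
  n23 : Nb D p2 p3
  n24 : Nb D p2 p4
  n25 : Nb D p2 p5
  n34 : Nb D p3 p4
  n35 : Nb D p3 p5
  n45 : Nb D p4 p5
  prod : p1 * p2 * p3 * p4 * p5 = 1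

/-- `ρ ∉ D` maps `x` to `y` and centralises `u, v, f` -/
structure Sw (D : Set G) (ρ x y u v f : G) : Prop extends NI D ρ where
  map : ρ * x * ρ = y
  cu : ρ * u = u * ρ
  cv : ρ * v = v * ρ
  cf : ρ * f = f * ρ

/-- Coxeter generators of `C(a) = W(F₄)` -/
structure Sys (D : Set G) (a b0 b1 b2 b3 : G) : Prop where
  mem : a ∈ D
  n0 : Nb D a b0
  n1 : Nb D a b1
  n2 : Nb D a b2
  n3 : Nb D a b3
  r01 : (b0 * b1) ^ 3 = 1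
  r12 : (b1 * b2) ^ 4 = 1
  r23 : (b2 * b3) ^ 3 = 1
  r02 : b0 * b2 = b2 * b0
  r03 : b0 * b3 = b3 * b0
  r13 : b1 * b3 = b3 * b1
  cen : ((b1 * b2) ^ 2 * (b0 * b3 * (b1 * b2) ^ 2 * b3 * b0)) ^ 2 = a
  tl : b0 * b3 ∈ D
  top : closure {b0, b1, b2, b3} = C{a}

/-- facts which can be read off in the centraliser of one member of `D`; `R` is one of the two
families of lines -/
structure LF (D : Set G) (R : G → G → Prop) : Prop where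
  sq : ∀ d ∈ D, d * d = 1
  ne1 : (1 : G) ∉ D
  conj : ∀ d ∈ D, ∀ g : G, g * d * g⁻¹ ∈ D
  rcj : ∀ x y g : G, R x y → R (g * x * g⁻¹) (g * y * g⁻¹)
  rsymm : ∀ x ∈ D, ∀ y, Nb D x y → R x y → R y x
  phi1 : ∀ a ∈ D, ∀ x y, Nb D a x → Nb D a y → x * y = y * x → ((R a x ↔ R a y) ↔ x * y ∉ D)
  phi3 : ∀ a ∈ D, ∀ x y, Nb D a x → Nb D a y → (R a x ↔ R a y) →
    x * y = y * x ∨ x * y * x = y * x * y
  f1 : ∀ t x y, NI D t → Yt D t x → Yt D t y → x * y = y * x → y ≠ x → y ≠ x * t →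
    (x * y ∈ D ↔ x * y * t ∉ D)
  f3a : ∀ t x, NI D t → Yt D t x → ∃ f1 f2 f3, f1 ≠ f2 ∧ f1 ≠ f3 ∧ f2 ≠ f3 ∧
    ∀ f, Lam D t x f ↔ f = f1 ∨ f = f2 ∨ f = f3
  f3b : ∀ t x y f, NI D t → Yt D t x → Yt D t y → y * x * y = x * t → Lam D t x f →
    f * y = y * f → ∃ f', Lam D t x f' ∧ Lam D t y f'
  f4a : ∀ t e x y e', NI D t → Zt D t e → Yt D t x → Yt D t y → Nb D e x → Nb D e y →
    (x * y) ^ 2 = t → Zt D t e' → e' * e = e * e' → e' * (x * y) = x * y * e' →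
    e' * x = x * e' ∧ e' * y = y * e'
  f4b : ∀ t e x y e' x' y', NI D t → Zt D t e → Yt D t x → Yt D t y → Nb D e x → Nb D e y →
    (x * y) ^ 2 = t → Zt D t e' → Yt D t x' → Yt D t y' → Nb D e' x' → Nb D e' y' →
    x' * y' = x * y → e' * e = e * e' → e * x' = x' * e → e * y' = y' * e → e' = e
  f6 : ∀ t e x y, NI D t → Zt D t e → Yt D t x → Yt D t y → Nb D e x → Nb D e y →
    (x * y) ^ 2 = t → ∃ f1 f2, Zt D t f1 ∧ Zt D t f2 ∧ f1 ≠ e ∧ f2 ≠ e ∧ f1 * e = e * f1 ∧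
      f2 * e = e * f2 ∧ f1 * (x * y) = x * y * f1 ∧ f2 * (x * y) = x * y * f2 ∧ e * f1 * f2 = t
  f7 : ∀ t e x y, NI D t → Zt D t e → x ∈ D → y ∈ D → e * x = x * e → e * y = y * e →
    x * t = t * x → y * t = t * y → (x * y) ^ 4 = 1
  f8 : ∀ t e, NI D t → Zt D t e → ∃ x y, Yt D t x ∧ Yt D t y ∧ Lam D t x e ∧ Lam D t y e ∧
    ¬ (R e x ↔ R e y)
  e1 : ∀ p1 p2 p3 p4 p5, Ln D p1 p2 p3 p4 p5 → ∃ d, Nb D p5 d ∧ d * p1 * d = p2 ∧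
    d * p3 = p3 * d ∧ d * p4 = p4 * d
  e3 : ∀ p1 p2 p3 p4 p5 ρ ρ', Ln D p1 p2 p3 p4 p5 → Sw D ρ p1 p2 p3 p4 p5 →
    Sw D ρ' p3 p4 p1 p2 p5 → ρ * ρ' = ρ' * ρ
  e4 : ∀ p1 p2 p3 p4 p5 ρ ρ', Ln D p1 p2 p3 p4 p5 → Sw D ρ p1 p2 p3 p4 p5 →
    Sw D ρ' p2 p3 p1 p4 p5 → (ρ * ρ') ^ 3 = 1
  e5 : ∀ p1 p2 p3 p4 p5 d q, Ln D p1 p2 p3 p4 p5 → Nb D p5 d → d * p1 * d = p2 →
    d * p3 = p3 * d → d * p4 = p4 * d → Nb D p1 q → q * p2 = p2 * q → q * p5 = p5 * q →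
    q * p3 * q = p4 → p5 * q ∈ D →
    d * (p1 * q) = p1 * q * d ∧ p5 * p1 * q * d ∉ D ∧ p5 * p1 * q ∈ D
  e6 : ∀ m ∈ D, ∀ p d q d', Nb D m p → Nb D m d → Nb D p d → Nb D m q → Nb D m d' → Nb D q d' →
    p * q = q * p → p * q ∈ D → d * q ≠ q * d → d' * p ≠ p * d' → d * d' = d' * d

/-- conjugation by an involution -/
def cv (g x : G) : G := g * x * g

/-- the points `p₂, p₃, p₄` (`p₁ = a`, `p₅ = b2`) and the reflection moving `p₂` to `p₃` -/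
def wP4 (b1 b2 : G) : G := cv b1 b2
def wP3 (b0 b1 b2 : G) : G := cv b0 (wP4 b1 b2)
def wB (b1 b2 b3 : G) : G := cv b3 (cv b2 b1)
def wP2 (b0 b1 b2 b3 : G) : G := cv (wB b1 b2 b3) (wP3 b0 b1 b2)

/-- the points `q₂, q₃, q₄` (`q₁ = a`, `q₅ = b0`) and the reflections `c₂, c₃` (`c₁ = b2`) -/
def wC3 (b2 b3 : G) : G := cv b2 b3
def wC2 (b1 b2 b3 : G) : G := cv b1 (wC3 b2 b3)
def wQ4 (b0 b1 b2 b3 : G) : G := cv (wC2 b1 b2 b3) b0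
def wQ3 (b0 b1 b2 b3 : G) : G := cv b2 (wQ4 b0 b1 b2 b3)
def wQ2 (b0 b1 b2 b3 : G) : G := cv (wC3 b2 b3) (wQ3 b0 b1 b2 b3)

/-- facts on words in the Coxeter generators -/
structure Wd (D : Set G) (a b0 b1 b2 b3 : G) : Prop where
  w0 : (b0 * b1 * b2 * b3) ^ 6 = a
  lnP : Ln D a (wP2 b0 b1 b2 b3) (wP3 b0 b1 b2) (wP4 b1 b2) b2
  lnQ : Ln D a (wQ2 b0 b1 b2 b3) (wQ3 b0 b1 b2 b3) (wQ4 b0 b1 b2 b3) b0
  s0 : Sw D (a * b0) (wP3 b0 b1 b2) (wP4 b1 b2) a (wP2 b0 b1 b2 b3) b2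
  s1 : Sw D (a * b1) (wP4 b1 b2) b2 a (wP2 b0 b1 b2 b3) (wP3 b0 b1 b2)
  sB : Sw D (a * wB b1 b2 b3) (wP2 b0 b1 b2 b3) (wP3 b0 b1 b2) a (wP4 b1 b2) b2
  t1 : Sw D (a * b2) (wQ3 b0 b1 b2 b3) (wQ4 b0 b1 b2 b3) a (wQ2 b0 b1 b2 b3) b0
  t2 : Sw D (a * wC2 b1 b2 b3) (wQ4 b0 b1 b2 b3) b0 a (wQ2 b0 b1 b2 b3) (wQ3 b0 b1 b2 b3)
  t3 : Sw D (a * wC3 b2 b3) (wQ2 b0 b1 b2 b3) (wQ3 b0 b1 b2 b3) a (wQ4 b0 b1 b2 b3) b0
  m20 : b2 * b0 ∈ D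
  c22 : wP2 b0 b1 b2 b3 * wQ2 b0 b1 b2 b3 = wQ2 b0 b1 b2 b3 * wP2 b0 b1 b2 b3
  m23 : wP2 b0 b1 b2 b3 * wQ3 b0 b1 b2 b3 * wP2 b0 b1 b2 b3 = wQ4 b0 b1 b2 b3
  m02 : b0 * wP2 b0 b1 b2 b3 ∈ D
  cls : ∀ x ∈ D, x * a = a * x → x = a ∨ ∃ g ∈ closure {b0, b1, b2, b3},
    x = g * wP2 b0 b1 b2 b3 * g⁻¹ ∨ x = g * wQ2 b0 b1 b2 b3 * g⁻¹ ∨
      x = g * (a * b2 * wQ2 b0 b1 b2 b3) * g⁻¹

/-- a presentation of `L₄(3)` -/
structure Rel7 (a b0 b1 b2 b3 d e : G) : Prop where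
  sa : a * a = 1
  s0 : b0 * b0 = 1
  s1 : b1 * b1 = 1
  s2 : b2 * b2 = 1
  s3 : b3 * b3 = 1
  sd : d * d = 1
  se : e * e = 1
  r01 : (b0 * b1) ^ 3 = 1
  r12 : (b1 * b2) ^ 4 = 1
  r23 : (b2 * b3) ^ 3 = 1
  r02 : b0 * b2 = b2 * b0
  r03 : b0 * b3 = b3 * b0
  r13 : b1 * b3 = b3 * b1
  w0 : (b0 * b1 * b2 * b3) ^ 6 = a
  a0 : a * b0 = b0 * a
  a1 : a * b1 = b1 * a
  a2 : a * b2 = b2 * a
  a3 : a * b3 = b3 * a
  d0 : b2 * d * (a * b0) = a * b0 * (b2 * d)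
  d1 : b2 * d * (a * b1) = a * b1 * (b2 * d)
  d2 : b2 * d = d * b2
  dB : (b2 * d * (a * wB b1 b2 b3)) ^ 3 = 1
  da : d * a * d = wP2 b0 b1 b2 b3
  e1 : b0 * e * (a * b2) = a * b2 * (b0 * e)
  e2 : b0 * e * (a * wC2 b1 b2 b3) = a * wC2 b1 b2 b3 * (b0 * e)
  e0 : b0 * e = e * b0
  e3 : (b0 * e * (a * wC3 b2 b3)) ^ 3 = 1
  ea : e * a * e = wQ2 b0 b1 b2 b3
  de : d * e = e * d
  glob : (cv (cv e b1) a * cv b1 d) ^ 4 = 1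

end grp

end XS
end H6
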