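import Mathlib
import Cfsg.Agent.H6.XEDefs

/-! Type L4(3): centralisers of the other involutions -/

set_option autoImplicit false
set_option linter.unusedSectionVars false

namespace H6
namespace XS

open Subgroup H24 H15 H15.XP Module
open scoped commutatorElement

variable {G : Type*} [Group G] [Finite G] {D : Set G} {R : G → G → Prop} {t x y : G}

section dih

variable {g u v : G}

theorem cjc₃ (h : g * t = t * g) : g * (x * t) * g⁻¹ = g * x * g⁻¹ * t := by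
  rw [mul_assoc (g * x), show g⁻¹ * t = t * g⁻¹ from (Commute.inv_left h).eq]
  simp only [mul_assoc]

theorem cjm₃ (g x y : G) : g * x * g⁻¹ * (g * y * g⁻¹) = g * (x * y) * g⁻¹ := by group

theorem cjcm₃ (g : G) (h : x * y = y * x) :
    g * x * g⁻¹ * (g * y * g⁻¹) = g * y * g⁻¹ * (g * x * g⁻¹) := by rw [cjm₃, cjm₃, h]

theorem cjt₃ (h : g * t = t * g) (e : x * t = t * x) : g * x * g⁻¹ * t = t * (g * x * g⁻¹) :=
  ((Commute.mul_left (Commute.mul_left h e) (Commute.inv_left h)) : Commute _ _)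

theorem inv₃ (h : x * x = 1) : x⁻¹ = x := inv_eq_of_mul_eq_one_right h

theorem comm_of_sq₃ (hx : x * x = 1) (hy : y * y = 1) (h : x * y * (x * y) = 1) : x * y = y * x := by
  rw [← inv₃ h, mul_inv_rev, inv₃ hx, inv₃ hy]

theorem invert₃ (hx : x * x = 1) (hy : y * y = 1) (k : ℕ) :
    (x * y) ^ k * x * (x * y) ^ k = x ∧ (x * y) ^ k * y * (x * y) ^ k = y := by
  induction k with
  | zero => simp
  | succ k ih =>
    constructor
    · calc _ = x * y * ((x * y) ^ k * x * (x * y) ^ k) * (x * y) := by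
            nth_rw 1 [pow_succ']; rw [pow_succ]; simp only [mul_assoc]
        _ = x * (y * (x * x) * y) := by rw [ih.1]; simp only [mul_assoc]
        _ = x := by rw [hx, mul_one, hy, mul_one]
    · calc _ = x * y * ((x * y) ^ k * y * (x * y) ^ k) * (x * y) := by
            nth_rw 1 [pow_succ']; rw [pow_succ]; simp only [mul_assoc]
        _ = x * (y * y) * x * y := by rw [ih.2]; simp only [mul_assoc]
        _ = y := by rw [hy, mul_one, hx, one_mul]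

theorem cjk₃ {r : G} {j : ℕ} (h : r ^ j * x * r ^ j = x) :
    (r ^ j)⁻¹ * x * (r ^ j)⁻¹⁻¹ = x * r ^ (2 * j) := by
  rw [inv_inv, two_mul, pow_add]
  conv_lhs => rw [← h]
  group

theorem dihP₃ (hx : x * x = 1) (hy : y * y = 1) {H : Subgroup G} (h1 : x ∈ H) (h2 : y ∈ H) (k : ℕ) :
    (Even k ∧ (∃ g ∈ H, g * x * g⁻¹ = x * (x * y) ^ k) ∧ ∃ g ∈ H, g * y * g⁻¹ = y * (x * y) ^ k) ∨
      (Odd k ∧ (∃ g ∈ H, g * y * g⁻¹ = x * (x * y) ^ k) ∧
        ∃ g ∈ H, g * x * g⁻¹ = y * (x * y) ^ k) := by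
  have m : ∀ j : ℕ, ((x * y) ^ j)⁻¹ ∈ H := fun j => inv_mem (pow_mem (mul_mem h1 h2) j)
  have e : y = x * (x * y) := by rw [← mul_assoc, hx, one_mul]
  rcases Nat.even_or_odd' k with ⟨j, rfl | rfl⟩
  · exact .inl ⟨even_two_mul j, ⟨_, m j, cjk₃ (invert₃ hx hy j).1⟩, _, m j, cjk₃ (invert₃ hx hy j).2⟩
  · refine .inr ⟨odd_two_mul_add_one j, ⟨_, m j, (cjk₃ (invert₃ hx hy j).2).trans ?_⟩, _, m (j + 1),
      (cjk₃ (invert₃ hx hy (j + 1)).1).trans ?_⟩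
    · rw [pow_succ', ← mul_assoc, ← e]
    · rw [show 2 * (j + 1) = 2 * j + 1 + 1 by ring, pow_succ', ← mul_assoc, ← e]

theorem dihQ₃ (hx : x * x = 1) (hy : y * y = 1) {H : Subgroup G} (h1 : x ∈ H) (h2 : y ∈ H) :
    (∃ g ∈ H, g * y * g⁻¹ = x) ∨ ∃ k : ℕ, (x * y) ^ k ≠ 1 ∧ (x * y) ^ k * (x * y) ^ k = 1 := by
  have p := orderOf_pos (x * y)
  rcases dihP₃ hx hy h1 h2 (orderOf (x * y)) with ⟨⟨k, e⟩, -⟩ | ⟨-, k, -⟩
  · exact .inr ⟨k, pow_ne_one_of_lt_orderOf (by omega) (by omega), by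
      rw [← pow_add, ← e, pow_orderOf_eq_one]⟩
  · exact .inl (by simpa using k)

theorem cmk₃ {r : G} (h : r * x * r = x) (h2 : r * r = 1) : r * x = x * r := by
  rw [eq_mul_inv_of_mul_eq h, inv₃ h2]

end dih

section cj

variable {g e f a : G}

theorem Nb.symm (ha : a ∈ D) (k : Nb D a x) : Nb D x a :=
  ⟨ha, k.comm.symm, k.comm ▸ k.not, k.ne.symm⟩

theorem Nb.col (ha : a ∈ D) (k : Nb D a x) : Col D a x := ⟨ha, k.mem, k.ne.symm, k.comm⟩

theorem Yt.mul' (ht : NI D t) (hx : Yt D t x) : Yt D t (x * t) :=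
  ⟨hx.mul, by rw [← mul_assoc, hx.comm], by rw [mul_assoc, ht.sq, mul_one]; exact hx.mem⟩

theorem Zt.ne (he : Zt D t e) (hx : Yt D t x) : x ≠ e := fun k => he.not (k ▸ hx.mul)

theorem Lam.nb (k : Lam D t x e) (hx : Yt D t x) : Nb D e x := ⟨hx.mem, k.cy, k.ny, k.toZt.ne hx⟩

namespace LF

variable (h : LF D R)
include h

theorem ncj (g : G) (k : x ∉ D) : g * x * g⁻¹ ∉ D := fun c => k (by simpa [mul_assoc] using h.conj _ c g⁻¹)

theorem nbcj (g : G) (k : Nb D a x) : Nb D (g * a * g⁻¹) (g * x * g⁻¹) :=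
  ⟨h.conj _ k.mem g, cjcm₃ g k.comm, cjm₃ g a x ▸ h.ncj g k.not, fun e => k.ne (by simpa using e)⟩

theorem ytcj (hg : g * t = t * g) (k : Yt D t x) : Yt D t (g * x * g⁻¹) :=
  ⟨h.conj _ k.mem g, cjt₃ hg k.comm, cjc₃ hg ▸ h.conj _ k.mul g⟩

theorem ztcj (hg : g * t = t * g) (k : Zt D t x) : Zt D t (g * x * g⁻¹) :=
  ⟨h.conj _ k.mem g, cjt₃ hg k.comm, cjc₃ hg ▸ h.ncj g k.not⟩

theorem lamcj (hg : g * t = t * g) (k : Lam D t x f) : Lam D t (g * x * g⁻¹) (g * f * g⁻¹) :=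
  ⟨h.ztcj hg k.toZt, cjcm₃ g k.cy, cjm₃ g f x ▸ h.ncj g k.ny, by
    rw [cjm₃, ← cjc₃ hg]; exact h.ncj g k.nyt⟩

theorem famcj (hg : g * t = t * g) : R (g * x * g⁻¹) (g * x * g⁻¹ * t) ↔ R x (x * t) :=
  ⟨fun k => by
    have := h.rcj _ _ g⁻¹ k
    rw [← cjc₃ hg] at this
    simpa [mul_assoc] using this, fun k => cjc₃ hg ▸ h.rcj _ _ g k⟩

theorem rs (ha : a ∈ D) (k : Nb D a x) : R a x ↔ R x a :=
  ⟨h.rsymm a ha x k, h.rsymm x k.mem a (k.symm ha)⟩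

theorem nbt (ht : NI D t) (hx : Yt D t x) : Nb D x (x * t) :=
  ⟨hx.mul, by rw [mul_assoc, ← hx.comm], by rw [← mul_assoc, h.sq x hx.mem, one_mul]; exact ht.not,
    fun e => ht.ne (mul_eq_left.1 e)⟩

theorem fam_mul (ht : NI D t) (hx : Yt D t x) : R (x * t) (x * t * t) ↔ R x (x * t) := by
  rw [mul_assoc, ht.sq, mul_one]
  exact (h.rs hx.mem (h.nbt ht hx)).symm

theorem fam_aux (ht : NI D t) (hx : Yt D t x) (hy : Yt D t y) (c : x * y = y * x) (n : y ≠ x)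
    (k1 : x * y ∉ D) (k2 : x * y * t ∈ D) : R x (x * t) ↔ ¬ R x y := by
  have e : x * t * y = x * y * t := by rw [mul_assoc, ← hy.comm, mul_assoc]
  have := h.phi1 x hx.mem (x * t) y (h.nbt ht hx) ⟨hy.mem, c, k1, n⟩ (by rw [e, c, mul_assoc])
  rw [e] at this
  tauto

theorem fam_eq' (ht : NI D t) (hx : Yt D t x) (hy : Yt D t y) (c : x * y = y * x) (n : y ≠ x)
    (k1 : x * y ∉ D) (k2 : x * y * t ∈ D) : R x (x * t) ↔ R y (y * t) := by
  rw [h.fam_aux ht hx hy c n k1 k2, h.fam_aux ht hy hx c.symm n.symm (c ▸ k1) (c ▸ k2),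
    h.rs hx.mem ⟨hy.mem, c, k1, n⟩]

theorem fam_eq (ht : NI D t) (hx : Yt D t x) (hy : Yt D t y) (c : x * y = y * x) :
    R x (x * t) ↔ R y (y * t) := by
  by_cases n1 : y = x
  · rw [n1]
  by_cases n2 : y = x * t
  · rw [n2, h.fam_mul ht hx]
  have k := h.f1 t x y ht hx hy c n1 n2
  by_cases k1 : x * y ∈ D
  · rw [← h.fam_mul ht hy]
    refine h.fam_eq' ht hx (hy.mul' ht) (by rw [← mul_assoc, c, mul_assoc, hx.comm, mul_assoc])
      (fun e => n2 (by rw [← e, mul_assoc, ht.sq, mul_one])) (by rw [← mul_assoc]; exact k.1 k1) ?_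
    rwa [mul_assoc, mul_assoc, ht.sq, mul_one]
  · exact h.fam_eq' ht hx hy c n1 k1 (by tauto)

theorem fam_lam (ht : NI D t) (hx : Yt D t x) (k : Lam D t x e) : R x (x * t) ↔ R e x := by
  have e1 : x * t * e = e * x * t := by rw [mul_assoc, ← k.comm, ← mul_assoc, k.cy]
  rw [h.rs k.mem (k.nb hx)]
  exact (h.phi1 x hx.mem (x * t) e (h.nbt ht hx) ((k.nb hx).symm k.mem)
    (by rw [e1, mul_assoc])).2 (e1 ▸ k.nyt)

theorem lam_mul (ht : NI D t) (k : Lam D t (x * t) e) : Lam D t x e :=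
  ⟨k.toZt, by
    have := k.cy
    rw [mul_assoc, ← k.comm, ← mul_assoc, ← mul_assoc] at this
    exact mul_right_cancel this, by simpa [mul_assoc, ht.sq] using k.nyt, by
    simpa [mul_assoc] using k.ny⟩

theorem cl (ht : NI D t) (hx : Yt D t x) (hy : Yt D t y) (e : (x * y) ^ 2 = t) :
    ∃ f, Lam D t x f ∧ Lam D t y f := by
  have y2 := h.sq y hy.mem
  have e1 : y * x * y = x * t := by
    rw [← e, pow_two, ← mul_assoc x, ← mul_assoc x, h.sq x hx.mem, one_mul, mul_assoc]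
  have e2 : ∀ f, Lam D t x f → Lam D t x (y * f * y) := fun f k => by
    have := h.lamcj hy.comm k
    rw [inv₃ y2, e1] at this
    exact h.lam_mul ht this
  have e3 : ∀ u v : G, y * u * y = v → y * v * y = u := fun u v k => by
    rw [← k, ← mul_assoc, ← mul_assoc, y2, one_mul, mul_assoc, y2, mul_one]
  obtain ⟨f, k1, k2⟩ : ∃ f, Lam D t x f ∧ y * f * y = f := by
    obtain ⟨f1, f2, f3, n1, n2, n3, k⟩ := h.f3a t x ht hx
    have l1 := (k f1).2 (.inl rfl)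
    have l2 := (k f2).2 (.inr (.inl rfl))
    have l3 := (k f3).2 (.inr (.inr rfl))
    rcases (k _).1 (e2 f1 l1) with a | a | a
    · exact ⟨f1, l1, a⟩
    · rcases (k _).1 (e2 f3 l3) with b | b | b
      · exact absurd (a.symm.trans (e3 _ _ b)) n3
      · exact absurd ((e3 _ _ a).symm.trans (e3 _ _ b)) n2
      · exact ⟨f3, l3, b⟩
    · rcases (k _).1 (e2 f2 l2) with b | b | b
      · exact absurd ((e3 _ _ b).symm.trans a) n3
      · exact ⟨f2, l2, b⟩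
      · exact absurd ((e3 _ _ a).symm.trans (e3 _ _ b)) n1
  exact h.f3b t x y f ht hx hy e1 k1 (cmk₃ k2 y2).symm

end LF

end cj

theorem LF.diff (h : LF D R) (ht : NI D t) (hx : Yt D t x) (hy : Yt D t y) (e : (x * y) ^ 2 = t) :
    ¬ (R x (x * t) ↔ R y (y * t)) := by
  obtain ⟨f, k1, k2⟩ := h.cl ht hx hy e
  rw [h.fam_lam ht hx k1, h.fam_lam ht hy k2]
  intro k
  have x2 := h.sq x hx.mem
  have y2 := h.sq y hy.mem
  refine ht.ne ?_
  rcases h.phi3 f k1.mem x y (k1.nb hx) (k2.nb hy) k with c | c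
  · rw [← e, pow_two, mul_assoc, ← mul_assoc y, ← c, mul_assoc, y2, mul_one, x2]
  · have e3 : (x * y) ^ 3 = 1 := by
      calc _ = x * y * x * (y * x * y) := by simp only [pow_succ, pow_zero, one_mul, mul_assoc]
        _ = y * (x * (y * y) * x) * y := by rw [c]; simp only [mul_assoc]
        _ = 1 := by rw [y2, mul_one, x2, mul_one, y2]
    have e4 : (x * y) ^ 4 = 1 := by rw [show 4 = 2 + 2 from rfl, pow_add, e, ht.sq]
    rw [pow_succ, e3, one_mul] at e4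
    rw [← e, e4, one_pow]

/-- the centres of the pairs with product `σ` -/
def WS (D : Set G) (t σ e : G) : Prop :=
  Zt D t e ∧ ∃ x y, Yt D t x ∧ Yt D t y ∧ Nb D e x ∧ Nb D e y ∧ x * y = σ

namespace LF

variable (h : LF D R) (ht : NI D t) {σ e e' g : G} (hσ : σ ^ 2 = t)
include h ht hσ

omit h ht hσ in
theorem ws_c (k : WS D t σ e) : e ∈ C{σ} := by
  obtain ⟨-, x, y, -, -, k1, k2, rfl⟩ := k
  exact mem_C1.2 ((Commute.mul_right k1.comm k2.comm : Commute _ _))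

theorem ws_cj (hg : g ∈ C{σ}) (k : WS D t σ e) : WS D t σ (g * e * g⁻¹) := by
  have c : g * t = t * g := hσ ▸ (Commute.pow_right (mem_C1.1 hg) 2 : Commute _ _)
  obtain ⟨k0, x, y, k1, k2, k3, k4, k5⟩ := k
  exact ⟨h.ztcj c k0, _, _, h.ytcj c k1, h.ytcj c k2, h.nbcj g k3, h.nbcj g k4, by
    rw [cjm₃, k5, mem_C1_iff_conj.1 hg]⟩

theorem ws_a (k : WS D t σ e) (k' : WS D t σ e') (c : e' * e = e * e') : e' = e := by
  have c1 := mem_C1.1 (ws_c k)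
  obtain ⟨k0, x, y, k1, k2, k3, k4, k5⟩ := k
  obtain ⟨l0, x', y', l1, l2, l3, l4, l5⟩ := k'
  obtain ⟨a1, a2⟩ := h.f4a t e' x' y' e ht l0 l1 l2 l3 l4 (l5 ▸ hσ) k0 c.symm (l5 ▸ c1)
  exact h.f4b t e x y e' x' y' ht k0 k1 k2 k3 k4 (k5 ▸ hσ) l0 l1 l2 l3 l4 (l5.trans k5.symm) c a1 a2

theorem ws_b (k : WS D t σ e) (k' : WS D t σ e') (c : (e * e') ^ 4 = 1) : e' = e := by
  have l := h.ws_cj ht hσ (ws_c k') k
  have := h.ws_a ht hσ k l (comm_of_sq₃ (h.sq _ k.1.mem) (h.sq _ l.1.mem) (by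
    rw [inv₃ (h.sq _ k'.1.mem), ← c]; simp only [pow_succ, pow_zero, one_mul, mul_assoc])).symm
  exact h.ws_a ht hσ k k' (mul_inv_eq_iff_eq_mul.1 this)

theorem ws_f (k : WS D t σ e) (k' : WS D t σ e') {f : G} (hf : Zt D t f) (n : f ≠ e)
    (c : f * e = e * f) (cσ : f ∈ C{σ}) : f * e * e' = e' * (f * e) := by
  have nf : ¬ WS D t σ f := fun l => n (h.ws_a ht hσ k l c)
  have f2 := h.sq f hf.mem
  have e2 := h.sq e' k'.1.mem
  rcases dihQ₃ f2 e2 cσ (ws_c k') with ⟨g, g1, g2⟩ | ⟨j, j1, j2⟩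
  · exact absurd (g2 ▸ h.ws_cj ht hσ g1 k') nf
  have c1 := cmk₃ (invert₃ f2 e2 j).1 j2
  have c2 := cmk₃ (invert₃ f2 e2 j).2 j2
  rcases dihP₃ f2 e2 cσ (ws_c k') j with ⟨-, -, g, g1, g2⟩ | ⟨-, ⟨g, g1, g2⟩, -⟩
  · exact absurd (mul_eq_left.1 (h.ws_a ht hσ k' (g2 ▸ h.ws_cj ht hσ g1 k')
      (by rw [mul_assoc, c2]))) j1
  have l := g2 ▸ h.ws_cj ht hσ g1 k'
  have := h.ws_b ht hσ k l (h.f7 t f e _ ht hf k.1.mem l.1.mem c (by rw [mul_assoc, c1])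
    k.1.comm l.1.comm)
  rw [← this, ← mul_assoc f, f2, one_mul, c2]

theorem ws_eq (k : WS D t σ e) (k' : WS D t σ e') : e' = e := by
  obtain ⟨k0, x, y, k1, k2, k3, k4, k5⟩ := id k
  obtain ⟨f1, f2, a1, a2, a3, a4, a5, a6, a7, a8, a9⟩ := h.f6 t e x y ht k0 k1 k2 k3 k4 (k5 ▸ hσ)
  have b1 := h.ws_f ht hσ k k' a1 a3 a5 (mem_C1.2 (k5 ▸ a7))
  have b2 := h.ws_f ht hσ k k' a2 a4 a6 (mem_C1.2 (k5 ▸ a8))
  have b3 : Commute (f1 * e * (f2 * e) * t) e' :=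
    Commute.mul_left (Commute.mul_left b1 b2) k'.1.comm.symm
  have : f1 * e * (f2 * e) * t = e := by
    rw [a5, ← mul_assoc, a9, ← k0.comm, mul_assoc, ht.sq, mul_one]
  exact h.ws_a ht hσ k k' (this ▸ b3).symm

end LF

theorem LF.ha (h : LF D R) (ht : NI D t) (hx : Yt D t x) (hy : Yt D t y)
    (n : ¬ (R x (x * t) ↔ R y (y * t))) : ∃ f, Zt D t f ∧ f * x = x * f ∧ f * y = y * f := by
  have x2 := h.sq x hx.mem
  have y2 := h.sq y hy.mem
  have cx : x ∈ C{t} := mem_C1.2 hx.comm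
  have cy : y ∈ C{t} := mem_C1.2 hy.comm
  have yk : ∀ j : ℕ, Yt D t (x * (x * y) ^ j) ∧ Yt D t (y * (x * y) ^ j) := fun j => by
    rcases dihP₃ x2 y2 cx cy j with ⟨-, ⟨g, g1, g2⟩, g', g3, g4⟩ | ⟨-, ⟨g, g1, g2⟩, g', g3, g4⟩
    · exact ⟨g2 ▸ h.ytcj (mem_C1.1 g1) hx, g4 ▸ h.ytcj (mem_C1.1 g3) hy⟩
    · exact ⟨g2 ▸ h.ytcj (mem_C1.1 g1) hy, g4 ▸ h.ytcj (mem_C1.1 g3) hx⟩
  rcases dihQ₃ x2 y2 cx cy with ⟨g, g1, g2⟩ | ⟨j, j1, j2⟩
  · exact absurd (g2 ▸ h.famcj (mem_C1.1 g1)) n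
  have c1 := cmk₃ (invert₃ x2 y2 j).1 j2
  have c2 := cmk₃ (invert₃ x2 y2 j).2 j2
  have c3 : x * (x * (x * y) ^ j) = x * (x * y) ^ j * x := by rw [mul_assoc, c1]
  rcases dihP₃ x2 y2 cx cy j with ⟨⟨i, rfl⟩, -⟩ | ⟨-, ⟨g, g1, g2⟩, -⟩
  swap
  · exact absurd ((h.fam_eq ht hx (yk j).1 c3).trans (g2 ▸ h.famcj (mem_C1.1 g1))) n
  by_cases e : (x * y) ^ (i + i) = t
  · have hσ : ((x * y) ^ i) ^ 2 = t := by rw [pow_two, ← pow_add, e]
    have a1 : x * (x * (x * y) ^ i) = (x * y) ^ i := by rw [← mul_assoc, x2, one_mul]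
    have a2 : y * (y * (x * y) ^ i) = (x * y) ^ i := by rw [← mul_assoc, y2, one_mul]
    obtain ⟨f, k1, k2⟩ := h.cl ht hx (yk i).1 (a1.symm ▸ hσ)
    obtain ⟨f', l1, l2⟩ := h.cl ht hy (yk i).2 (a2.symm ▸ hσ)
    have := h.ws_eq ht hσ ⟨k1.toZt, _, _, hx, (yk i).1, k1.nb hx, k2.nb (yk i).1, a1⟩
      ⟨l1.toZt, _, _, hy, (yk i).2, l1.nb hy, l2.nb (yk i).2, a2⟩
    exact ⟨f, k1.toZt, k1.cy, this ▸ l1.cy⟩
  have k := h.f1 t x _ ht hx (yk (i + i)).1 c3 (fun c => j1 (mul_eq_left.1 c))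
    fun c => e (mul_left_cancel c)
  rw [← mul_assoc, x2, one_mul] at k
  have ct : (x * y) ^ (i + i) * t = t * (x * y) ^ (i + i) := mem_C1.1 (pow_mem (mul_mem cx cy) _)
  generalize (x * y) ^ (i + i) = τ at *
  by_cases k1 : τ ∈ D
  · exact ⟨τ, ⟨k1, ct, k.1 k1⟩, c1, c2⟩
  · exact ⟨τ * t, ⟨by tauto, by rw [← mul_assoc, ct], by rwa [mul_assoc, ht.sq, mul_one]⟩,
      (Commute.mul_left c1 hx.comm.symm : Commute _ _), (Commute.mul_left c2 hy.comm.symm : Commute _ _)⟩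

theorem LF.conn (h : LF D R) (ht : NI D t) (hx : Yt D t x) (hy : Yt D t y) :
    Relation.ReflTransGen (Col D) x y := by
  have df : ∀ {x y}, Yt D t x → Yt D t y → ¬ (R x (x * t) ↔ R y (y * t)) →
      Relation.ReflTransGen (Col D) x y := fun {x y} hx hy n => by
    obtain ⟨f, k1, k2, k3⟩ := h.ha ht hx hy n
    exact .head ⟨hx.mem, k1.mem, k1.ne hx, k2.symm⟩ (.single ⟨k1.mem, hy.mem, (k1.ne hy).symm, k3⟩)
  by_cases n : R x (x * t) ↔ R y (y * t)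
  swap
  · exact df hx hy n
  obtain ⟨e, _, _, -, -, -, k⟩ := h.f3a t x ht hx
  have l := (k e).2 (.inl rfl)
  obtain ⟨x', y', a1, a2, a3, a4, a5⟩ := h.f8 t e ht l.toZt
  rw [← h.fam_lam ht a1 a3, ← h.fam_lam ht a2 a4] at a5
  have s := ((l.nb hx).symm l.mem).col hx.mem
  by_cases m : R x' (x' * t) ↔ R y (y * t)
  · exact .head s (.head ((a4.nb a2).col l.mem) (df a2 hy (by tauto)))
  · exact .head s (.head ((a3.nb a1).col l.mem) (df a1 hy m))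

end XS
end H6
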