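import Mathlib
import Cfsg.Agent.H6.XL3

/-! Type L4(3): the relations -/

set_option autoImplicit false
set_option linter.unusedSectionVars false

namespace H6
namespace XS

open Subgroup H24 H15 H15.XP Module
open scoped commutatorElement

variable {G : Type*} [Group G] [Finite G] {D : Set G} {R : G → G → Prop} {a b0 b1 b2 b3 : G}

section

variable {p1 p2 p3 p4 p5 d x y u : G}

theorem Ln.rot (l : Ln D p1 p2 p3 p4 p5) : Ln D p1 p2 p4 p5 p3 :=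
  ⟨l.mem, l.n12, l.n14, l.n15, l.n13, l.n24, l.n25, l.n23, l.n45, l.n34.symm l.n13.mem,
    l.n35.symm l.n13.mem, by
      rw [← l.prod, mul_assoc _ p5, ← l.n35.comm, ← mul_assoc, mul_assoc _ p4, ← l.n34.comm,
        ← mul_assoc]⟩

theorem Sw.rot {ρ : G} (s : Sw D ρ p1 p2 p3 p4 p5) : Sw D ρ p1 p2 p4 p5 p3 :=
  ⟨s.toNI, s.map, s.cv, s.cf, s.cu⟩

theorem cancel₅ (h : x * y * u = u * (x * y)) (h' : x * u = u * x) : y * u = u * y := by
  have : Commute (x⁻¹ * (x * y)) u := Commute.mul_left (Commute.inv_left h') h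
  simpa using this.eq

theorem LF.sw (h : LF D R) (l : Ln D p1 p2 p3 p4 p5) (k : Nb D p5 d) (k1 : d * p1 * d = p2)
    (k3 : d * p3 = p3 * d) (k4 : d * p4 = p4 * d) : Sw D (p5 * d) p1 p2 p3 p4 p5 := by
  have a := h.sq _ l.n15.mem
  have b := h.sq _ k.mem
  refine ⟨⟨?_, fun e => k.ne ?_, k.not⟩, ?_, (Commute.mul_left l.n35.comm.symm k3 : Commute _ _),
    (Commute.mul_left l.n45.comm.symm k4 : Commute _ _), by rw [mul_assoc, ← k.comm]⟩
  · rw [mul_assoc, ← mul_assoc d, ← k.comm, mul_assoc, b, mul_one, a]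
  · rw [eq_inv_of_mul_eq_one_right e, inv₃ a]
  · rw [← k1]
    nth_rw 1 [k.comm]
    rw [mul_assoc d, ← l.n15.comm, mul_assoc, mul_assoc, ← mul_assoc p5, a, one_mul, mul_assoc]

end

theorem LF.rel7 (h : LF D R) (s : Sys D a b0 b1 b2 b3) (w : Wd D a b0 b1 b2 b3) :
    ∃ d e, Rel7 a b0 b1 b2 b3 d e ∧ ∀ x ∈ D, x * a = a * x →
      ∃ g ∈ closure {a, b0, b1, b2, b3, d, e}, g * a * g⁻¹ = x := by
  obtain ⟨d, d1, d2, d3, d4⟩ := h.e1 _ _ _ _ _ w.lnP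
  obtain ⟨e, e1, e2, e3, e4⟩ := h.e1 _ _ _ _ _ w.lnQ
  have sd := h.sw w.lnP d1 d2 d3 d4
  have se := h.sw w.lnQ e1 e2 e3 e4
  have qa := h.sq _ s.mem
  have q0 := h.sq _ s.n0.mem
  have q1 := h.sq _ s.n1.mem
  have q2 := h.sq _ s.n2.mem
  have q3 := h.sq _ s.n3.mem
  have qd := h.sq _ d1.mem
  have qe := h.sq _ e1.mem
  have mv : ∀ {b x y : G}, a * b = b * a → a * y = y * a → a * b * x * (a * b) = y → b * x * b = y :=
    fun {b x y} k1 k2 k3 => by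
      calc b * x * b = a * (a * b * x * (b * a)) * a := by
            simp only [← mul_assoc, qa, one_mul]; rw [mul_assoc _ a, qa, mul_one]
        _ = y := by rw [← k1, k3, k2, mul_assoc, qa, mul_one]
  have c0p : b0 * wP2 b0 b1 b2 b3 = wP2 b0 b1 b2 b3 * b0 := cancel₅ w.s0.cv w.lnP.n12.comm
  have c1p : b1 * wP2 b0 b1 b2 b3 = wP2 b0 b1 b2 b3 * b1 := cancel₅ w.s1.cv w.lnP.n12.comm
  have c2q : b2 * wQ2 b0 b1 b2 b3 = wQ2 b0 b1 b2 b3 * b2 := cancel₅ w.t1.cv w.lnQ.n12.comm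
  obtain ⟨f1, f2, f3⟩ := h.e5 _ _ _ _ _ d b0 w.lnP d1 d2 d3 d4 s.n0 c0p s.r02
    (mv s.n0.comm w.lnP.n14.comm w.s0.map) w.m20
  obtain ⟨g1, g2, -⟩ := h.e5 _ _ _ _ _ e b2 w.lnQ e1 e2 e3 e4 s.n2 c2q s.r02.symm
    (mv s.n2.comm w.lnQ.n14.comm w.t1.map) (s.r02 ▸ w.m20)
  obtain ⟨g3, -, -⟩ := h.e5 _ _ _ _ _ e _ w.lnQ e1 e2 e3 e4 w.lnP.n12 w.c22 c0p.symm w.m23 w.m02
  have nd : d * a ≠ a * d := fun c => w.lnP.n12.ne (by rw [← d2, c, mul_assoc, qd, mul_one])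
  have ne : e * a ≠ a * e := fun c => w.lnQ.n12.ne (by rw [← e2, c, mul_assoc, qe, mul_one])
  have ca : Commute a (b2 * a * b0) := ((Commute.mul_right s.n2.comm rfl).mul_right s.n0.comm)
  have em : b0 * a * b2 = b2 * a * b0 := by
    rw [← s.n0.comm, mul_assoc, s.r02, ← mul_assoc, s.n2.comm]
  have de : d * e = e * d := by
    refine h.e6 _ f3 b2 d b0 e ⟨s.n2.mem, ?_, ?_, fun c => w.s0.ne ?_⟩ ⟨d1.mem, ?_, f2, fun c => nd ?_⟩ d1
      ⟨s.n0.mem, ?_, ?_, fun c => w.t1.ne ?_⟩ ⟨e1.mem, ?_, em ▸ g2, fun c => ne ?_⟩ e1 s.r02.symm w.m20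
      (fun c => nd ?_) fun c => ne ?_
    · exact ((Commute.mul_left rfl s.n2.comm).mul_left s.r02 : Commute _ _)
    · rw [mul_assoc, s.r02, ← mul_assoc, ← s.n2.comm, mul_assoc a, q2, mul_one]; exact w.s0.not
    · rw [mul_assoc] at c; exact left_eq_mul.1 c
    · rw [mul_assoc b2]; exact (Commute.mul_left d1.comm f1.symm : Commute _ _)
    · rw [c]; exact ca.symm
    · exact ((Commute.mul_left s.r02.symm s.n0.comm).mul_left rfl : Commute _ _)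
    · rw [mul_assoc, q0, mul_one, ← s.n2.comm]; exact w.t1.not
    · rw [← em, mul_assoc] at c; exact left_eq_mul.1 c
    · rw [← em, mul_assoc b0]; exact (Commute.mul_left e1.comm g1.symm : Commute _ _)
    · rw [c]; exact ca.symm
    · exact (cancel₅ (s.n0.comm ▸ f1.symm) c.symm).symm
    · exact (cancel₅ (s.n2.comm ▸ g1.symm) c.symm).symm
  have gl : (cv (cv e b1) a * cv b1 d) ^ 4 = 1 := by
    have n := w.lnP.n12
    generalize wP2 b0 b1 b2 b3 = p at n d2 g3 c1p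
    have qp := h.sq _ n.mem
    have ht : NI D (a * p) := ⟨by rw [mul_assoc, ← mul_assoc p, ← n.comm, mul_assoc, qp, mul_one, qa],
      fun c => n.ne (by rw [eq_inv_of_mul_eq_one_right c, inv₃ qa]), n.not⟩
    have ya : Yt D (a * p) a := ⟨s.mem, by rw [mul_assoc, ← n.comm],
      by rw [← mul_assoc, qa, one_mul]; exact n.mem⟩
    have yd : Yt D (a * p) d := ⟨d1.mem, by
      calc d * (a * p) = d * a * d * a * d := by rw [← d2]; simp only [mul_assoc]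
        _ = a * p * d := by rw [d2, n.comm], by
      have := h.conj d d1.mem (d * a)
      rwa [mul_inv_rev, inv₃ qa, inv₃ qd, mul_assoc, mul_assoc, ← mul_assoc d a d, d2] at this⟩
    have c1 : b1 * (a * p) = a * p * b1 := (Commute.mul_right s.n1.comm.symm c1p : Commute _ _)
    have c2 : cv e b1 * (a * p) = a * p * cv e b1 := ((Commute.mul_left g3 c1).mul_left g3 : Commute _ _)
    have i1 : cv (cv e b1) a = cv e b1 * a * (cv e b1)⁻¹ := by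
      rw [inv₃ (x := cv e b1) (by simp only [cv, ← mul_assoc]; rw [mul_assoc _ e e, qe, mul_one,
        mul_assoc e b1 b1, q1, mul_one, qe])]; rfl
    have i2 : cv b1 d = b1 * d * b1⁻¹ := by rw [inv₃ q1]; rfl
    have df := h.diff ht ya yd (by rw [pow_two, ← d2]; simp only [mul_assoc])
    rw [← h.famcj c2, ← h.famcj (x := d) c1] at df
    obtain ⟨f, k1, k2, k3⟩ := h.ha ht (h.ytcj c2 ya) (h.ytcj c1 yd) df
    rw [i1, i2]
    exact h.f7 _ f _ _ ht k1 (h.ytcj c2 ya).mem (h.ytcj c1 yd).mem k2 k3 (h.ytcj c2 ya).comm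
      (h.ytcj c1 yd).comm
  refine ⟨d, e, ⟨qa, q0, q1, q2, q3, qd, qe, s.r01, s.r12, s.r23, s.r02, s.r03, s.r13, w.w0, s.n0.comm,
    s.n1.comm, s.n2.comm, s.n3.comm, h.e3 _ _ _ _ _ _ _ w.lnP sd w.s0, h.e3 _ _ _ _ _ _ _ w.lnP.rot sd.rot w.s1,
    d1.comm, h.e4 _ _ _ _ _ _ _ w.lnP sd w.sB, d2, h.e3 _ _ _ _ _ _ _ w.lnQ se w.t1,
    h.e3 _ _ _ _ _ _ _ w.lnQ.rot se.rot w.t2, e1.comm, h.e4 _ _ _ _ _ _ _ w.lnQ se w.t3, e2, de, gl⟩,
    fun x hx c => ?_⟩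
  generalize hL : closure {a, b0, b1, b2, b3, d, e} = L
  have m : ∀ y ∈ ({a, b0, b1, b2, b3, d, e} : Set G), y ∈ L := fun y hy => hL ▸ subset_closure hy
  have m0 := m b0 (by simp)
  have m1 := m b1 (by simp)
  have m2 := m b2 (by simp)
  have m3 := m b3 (by simp)
  have md := m d (by simp)
  have me := m e (by simp)
  have st : ∀ {g y : G}, g ∈ L → (∃ k ∈ L, k * a * k⁻¹ = y) → ∃ k ∈ L, k * a * k⁻¹ = g * y * g⁻¹ :=
    fun {g y} hg ⟨k, k1, k2⟩ => ⟨g * k, mul_mem hg k1, by rw [← k2]; group⟩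
  have sc : ∀ {g y : G}, g ∈ L → g * g = 1 → (∃ k ∈ L, k * a * k⁻¹ = cv g y) → ∃ k ∈ L, k * a * k⁻¹ = y :=
    fun {g y} hg q k => by
      have := st hg k
      rwa [inv₃ q, cv, ← mul_assoc, ← mul_assoc, q, one_mul, mul_assoc, q, mul_one] at this
  have a1 : ∃ k ∈ L, k * a * k⁻¹ = wP2 b0 b1 b2 b3 := ⟨d, md, by rw [inv₃ qd, d2]⟩
  have a2 : ∃ k ∈ L, k * a * k⁻¹ = wQ2 b0 b1 b2 b3 := ⟨e, me, by rw [inv₃ qe, e2]⟩
  have a3 : ∃ k ∈ L, k * a * k⁻¹ = a * b2 * wQ2 b0 b1 b2 b3 := by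
    have qB : wB b1 b2 b3 * wB b1 b2 b3 = 1 := by
      have := w.sB.sq
      rwa [mul_assoc, ← mul_assoc _ a, cancel₅ w.sB.cu rfl, mul_assoc, ← mul_assoc, qa, one_mul] at this
    have := st me (sc m1 q1 (sc m0 q0 (sc (mul_mem (mul_mem m3 (mul_mem (mul_mem m2 m1) m2)) m3) qB a1)))
    rwa [inv₃ qe, show e * b2 * e = a * b2 * wQ2 b0 b1 b2 b3 by
      rw [← e2, ← mul_assoc, ← mul_assoc, ← g1, s.n2.comm, mul_assoc e _ a, mul_assoc b2, qa,
        mul_one]] at this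
  rcases w.cls x hx c with rfl | ⟨g, hg, k⟩
  · exact ⟨1, one_mem _, by simp⟩
  have hg' : g ∈ L := (closure_le _).2 (by
    rintro y (rfl | rfl | rfl | rfl) <;> assumption) hg
  rcases k with rfl | rfl | rfl
  exacts [st hg' a1, st hg' a2, st hg' a3]

end XS
end H6
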