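import Mathlib
import Cfsg.Agent.H6.XU5
import Cfsg.Agent.H6.XL5

/-! Large extraspecial subgroups: connectedness, restriction to a normal subgroup -/

set_option autoImplicit false
set_option linter.unusedSectionVars false

namespace H6
namespace XS

open Subgroup H24 H15 H15.XP Module
open scoped commutatorElement

variable {G : Type*} [Group G] [Finite G] {D : Set G} {Q : G → Subgroup G} {w : ℕ}

namespace Sit

variable (h : Sit D Q w) {d e p r z : G} {N : Subgroup G}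
include h

theorem col_cj (c : Col D d e) (g : G) : Col D (g * d * g⁻¹) (g * e * g⁻¹) :=
  ⟨h.conj _ c.l g, h.conj _ c.r g, fun k => c.ne (by simpa using k), cjcm₃ g c.comm⟩

theorem rtg_cj (g : G) (hr : Relation.ReflTransGen (Col D) d e) :
    Relation.ReflTransGen (Col D) (g * d * g⁻¹) (g * e * g⁻¹) := by
  induction hr with
  | refl => exact .refl
  | tail _ k ih => exact ih.tail (h.col_cj k g)

omit h in
theorem rtg_symm (hr : Relation.ReflTransGen (Col D) d e) : Relation.ReflTransGen (Col D) e d := by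
  induction hr with
  | refl => exact .refl
  | tail _ k ih => exact .trans (.single k.symm) ih

theorem exists_stab (d : G) :
    ∃ M : Subgroup G, ∀ g, g ∈ M ↔ Relation.ReflTransGen (Col D) d (g * d * g⁻¹) := by
  refine ⟨⟨⟨⟨{g | Relation.ReflTransGen (Col D) d (g * d * g⁻¹)}, fun {x y} hx hy => ?_⟩, ?_⟩,
    fun {x} hx => ?_⟩, fun _ => Iff.rfl⟩
  · refine Relation.ReflTransGen.trans hx ?_
    have := h.rtg_cj x hy
    convert this using 1
    group
  · simpa using Relation.ReflTransGen.refl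
  · have := rtg_symm (h.rtg_cj x⁻¹ hx)
    simpa [mul_assoc] using this

theorem conn (hO : NoOdd G) (k : Col D p r) (n : p * r ∉ D)
    (H : ∀ u v f, Col D u v → f ∈ D → f ∈ C{u * v} → Relation.ReflTransGen (Col D) f u)
    (hd : d ∈ D) (he : e ∈ D) : Relation.ReflTransGen (Col D) d e := by
  obtain ⟨M, hM⟩ := h.exists_stab d
  have CM : C{d} ≤ M := fun g hg => (hM g).2 (by rw [mem_C1_iff_conj.1 hg])
  have sq : ∀ {u v}, Col D u v → u * v * (u * v) = 1 := fun {u v} c => by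
    rw [mul_assoc, ← mul_assoc v, ← c.comm, mul_assoc, h.sq c.r, mul_one, h.sq c.l]
  have F : ∀ t ∈ M, t * t = 1 → ∃ m ∈ M, t ∈ C{m * d * m⁻¹} := fun t ht t2 => by
    obtain ⟨S, hS⟩ := Sylow_exists Nat.prime_two C{d}
    have h1 : Syl 2 ⊤ S := hS.of_idx le_top ((piNat_compl_singleton Nat.prime_two).2
      (by rw [relIndex_top_right]; exact ZD.not_two_dvd (h.odd_index hd)))
    obtain ⟨m, hm, e⟩ := Sylow_subJ Nat.prime_two (h1.of_le (hS.le.trans CM) le_top)
      (piElt_of_pow_eq_one (piNat_self Nat.prime_two) (by rwa [pow_two])).isPi (zpowers_le.2 ht)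
    exact ⟨m, hm, cj_C1 m d ▸ cj_mono m hS.le (e (mem_zpowers t))⟩
  have F1 : ∀ z ∈ D, ∀ m ∈ M, z ∈ C{m * d * m⁻¹} → Relation.ReflTransGen (Col D) d z := fun z hz m hm hc => by
    by_cases e : m * d * m⁻¹ = z
    · exact e ▸ (hM m).1 hm
    · exact ((hM m).1 hm).tail ⟨h.conj d hd m, hz, e, (mem_C1.1 hc).symm⟩
  have F2 : ∀ z ∈ D, z ∈ M → Relation.ReflTransGen (Col D) d z := fun z hz hm => by
    obtain ⟨m, m1, m2⟩ := F z hm (h.sq hz)
    exact F1 z hz m m1 m2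
  have F3 : ∀ z ∈ D, Relation.ReflTransGen (Col D) d z → ∃ m ∈ M, m * d * m⁻¹ = z := fun z hz hr => by
    obtain ⟨m, rfl⟩ := h.trans d hd z hz
    exact ⟨m, (hM m).2 hr, rfl⟩
  have fx : ∀ x g : G, x • (g : G ⧸ M) = g ↔ g⁻¹ * x * g ∈ M := fun x g => by
    rw [MulAction.Quotient.smul_coe, eq_comm, QuotientGroup.eq, smul_eq_mul, mul_assoc]
  have cD : ∀ z ∈ D, ∀ g : G, g⁻¹ * z * g ∈ D := fun z hz g => by simpa using h.conj z hz g⁻¹
  have nar : ∀ z ∈ D, ZD.Nar (G ⧸ M) z := fun z hz x y => by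
    refine QuotientGroup.induction_on x fun g => QuotientGroup.induction_on y fun g' e1 e2 => ?_
    obtain ⟨m, m1, m2⟩ := F3 _ (cD z hz g) (F2 _ (cD z hz g) ((fx z g).1 e1))
    obtain ⟨m', m1', m2'⟩ := F3 _ (cD z hz g') (F2 _ (cD z hz g') ((fx z g').1 e2))
    have : m⁻¹ * (g⁻¹ * g') * m' ∈ C{d} := mem_C1_iff_conj.2 (by
      calc _ = m⁻¹ * (g⁻¹ * (g' * (m' * d * m'⁻¹) * g'⁻¹) * g) * m := by group
        _ = m⁻¹ * (g⁻¹ * z * g) * m := by rw [m2']; group
        _ = d := by rw [← m2]; group)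
    exact QuotientGroup.eq.2 ((conj_mem_iff' (norm_self M m1)).1 (by
      simpa [mul_assoc] using mul_mem (CM this) (mul_mem (inv_mem m1') m1)))
  have ze : ZD.ZE (G ⧸ M) D := by
    refine ⟨fun z hz => ⟨h.ne_one hz, h.sq hz⟩, h.conj, fun z hz => ?_, nar, fun x => ?_,
      fun u hu v hv ne hc x y e1 e2 => ?_⟩
    · obtain ⟨g, rfl⟩ := h.trans d hd z hz
      exact ⟨g, (fx _ g).2 (by simpa [mul_assoc] using CM (self_mem_C1 d))⟩
    · exact QuotientGroup.induction_on x fun g => ⟨_, h.conj d hd g, (fx _ g).2 (by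
        simpa [mul_assoc] using CM (self_mem_C1 d))⟩
    suffices ∀ x : G ⧸ M, (u * v) • x = x → u • x = x from nar u hu x y (this x e1) (this y e2)
    intro x
    refine QuotientGroup.induction_on x fun g e1 => (fx u g).2 ?_
    have k1 := h.col_cj ⟨hu, hv, ne, hc⟩ g⁻¹
    have e3 : g⁻¹ * u * g⁻¹⁻¹ * (g⁻¹ * v * g⁻¹⁻¹) = g⁻¹ * (u * v) * g := by group
    obtain ⟨m, m1, m2⟩ := F _ ((fx _ g).1 e1) (e3 ▸ sq k1)
    obtain ⟨m', m3, m4⟩ := F3 _ k1.l (((hM m).1 m1).trans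
      (H _ _ _ k1 (h.conj d hd m) (e3 ▸ mem_C1_comm.1 m2)))
    rw [inv_inv] at m4
    exact m4 ▸ conj_mem (norm_self M m3) (CM (self_mem_C1 d))
  refine F2 e he ?_
  by_cases hk : (MulAction.toPermHom G (G ⧸ M)).ker = ⊥
  swap
  · have := congrArg (fun σ : Equiv.Perm (G ⧸ M) => σ (1 : G)) (MonoidHom.mem_ker.1 (h.minN hO he inferInstance hk))
    simpa using (fx e 1).1 this
  rcases subsingleton_or_nontrivial (G ⧸ M) with hs | hs
  · simpa using (fx e 1).1 (Subsingleton.elim _ _)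
  exact absurd (ze.mem_of_nar' (fun g hg => mem_bot.1 (hk ▸ MonoidHom.mem_ker.2 (Equiv.ext hg)))
    ⟨fun c => k.ne (by rw [eq_inv_of_mul_eq_one_left c, inv₃ (h.sq k.r)]), sq k⟩
    (ze.pd p k.l r k.r k.ne k.comm)) n

theorem normal0 : (closure D).Normal := ⟨fun x hx g => by
  have : (closure D).map (MulAut.conj g).toMonoidHom ≤ closure D := by
    rw [MonoidHom.map_closure, closure_le]
    rintro _ ⟨d, hd, rfl⟩
    exact subset_closure (h.conj d hd g)
  exact this ⟨x, hx, rfl⟩⟩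

theorem le_all [hN : N.Normal] (hz : z ∈ D) (hQ : Q z ≤ N) (hd : d ∈ D) : Q d ≤ N := by
  obtain ⟨g, rfl⟩ := h.trans z hz d hd
  rw [h.eqv z hz]
  rintro _ ⟨x, hx, rfl⟩
  exact hN.conj_mem x (hQ hx) g

theorem cent_two (hd : d ∈ D) {T : Subgroup G} (hT : IsPi {2} T) (hQ : Q d ≤ T) : d ∈ C[T] := by
  have hT' := (isPi_iff_isPGroup Nat.prime_two).1 hT
  have := Fact.mk Nat.prime_two
  have := hT'.isNilpotent
  have : Nontrivial T := (nontrivial_iff_ne_bot T).2 (ne_bot_of_mem (hQ (h.mem hd)) (h.ne_one hd))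
  obtain ⟨x, hx, x1⟩ := exists_ne_one (H2.inf_center_ne_bot (top_ne_bot : (⊤ : Subgroup T) ≠ ⊥))
  have c : (x : G) ∈ C[T] := mem_C.2 fun y hy => congrArg Subtype.val (mem_center_iff.1 hx.2 ⟨y, hy⟩)
  exact (h.eq_or hd (C_anti hQ c)).elim (fun e => absurd (Subtype.ext e) x1) fun e => e ▸ c

theorem trans_in [N.Normal] (hz : z ∈ D) (hQ : Q z ≤ N) (hd : d ∈ D) (he : e ∈ D) :
    ∃ g ∈ N, g * d * g⁻¹ = e := by
  obtain ⟨S, hS, k⟩ := Sylow_superset Nat.prime_two ((isPi_iff_isPGroup Nat.prime_two).2 (h.two hd))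
    (h.le_all hz hQ hd)
  obtain ⟨g, g1, g2⟩ := Sylow_subJ Nat.prime_two hS ((isPi_iff_isPGroup Nat.prime_two).2 (h.two he))
    (h.le_all hz hQ he)
  have := conj_mem_cj g (h.cent_two hd hS.pi k)
  rw [cj_C] at this
  exact ⟨g, g1, (h.eq_or he (C_anti g2 this)).resolve_left (h.ne_one (h.conj d hd g))⟩

theorem restrict [N.Normal] (hz : z ∈ D) (hQ : Q z ≤ N) :
    Sit (N.subtype ⁻¹' D) (fun d => (Q d).subgroupOf N) w := by
  have zp : ∀ {x d : N}, (x : G) ∈ zpowers (d : G) → x ∈ zpowers d := fun {x d} k => by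
    obtain ⟨i, hi⟩ := mem_zpowers_iff.1 k
    exact mem_zpowers_iff.2 ⟨i, Subtype.ext (by simpa using hi)⟩
  have cc : ∀ {x d : N}, x ∈ C{d} ↔ (x : G) ∈ C{(d : G)} := fun {x d} => by
    rw [mem_C1, mem_C1, Subtype.ext_iff]; rfl
  refine ⟨fun d hd g => h.conj d hd g, fun d hd e he => ?_, fun d hd => ?_, fun d hd g => ?_,
    fun d hd => ?_, fun d hd M h1 h2 h3 => ?_, h.two_le⟩
  · obtain ⟨g, g1, g2⟩ := h.trans_in hz hQ hd he
    exact ⟨⟨g, g1⟩, Subtype.ext g2⟩
  · have l := h.lx d hd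
    have q : Q d ≤ N := h.le_all hz hQ hd
    refine ⟨⟨by rw [← orderOf_coe]; exact l.xs.ord, l.xs.mem, fun x hx => Subtype.ext (l.xs.central x hx),
      fun x hx y hy => zp (l.xs.comm x hx y hy), fun x hx => zp (l.xs.pow x hx), fun x hx k =>
        zp (l.xs.center_le x hx fun y hy => congrArg Subtype.val (k ⟨y, q hy⟩ hy))⟩, fun k => l.ne ?_,
      fun g hg => mem_normalizer_iff.2 fun x => mem_normalizer_iff.1 (l.norm (cc.1 hg)) x,
      fun x hx => zp (l.cent (mem_C.2 fun y hy => congrArg Subtype.val (mem_C.1 hx ⟨y, q hy⟩ hy)))⟩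
    rw [← map_subgroupOf_eq_of_le q, ← k, MonoidHom.map_zpowers]; rfl
  · ext x
    rw [mem_subgroupOf, mem_cj, mem_subgroupOf]
    change (x : G) ∈ Q (g * d * (g : G)⁻¹) ↔ _
    rw [h.eqv d hd, mem_cj]; rfl
  · exact (Nat.card_congr (subgroupOfEquivOfLe (h.le_all hz hQ hd)).toEquiv).trans (h.card d hd)
  · have a1 : M.map N.subtype ≤ O[{2}, N ⊓ C{(d : G)}] :=
      pcore_max ((isPi_iff_isPGroup Nat.prime_two).2 (h3.map _)) ⟨by
        rintro _ ⟨x, hx, rfl⟩; exact ⟨x.2, cc.1 (h1 hx)⟩, fun g hg => mem_normalizer_iff.2 fun x => ?_⟩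
    · exact fun x hx => h.o2 d hd _ ((pcore_le _ _).trans inf_le_right)
        (norm_pcore _ (H23.le_normalizer_inf le_normalizer_of_normal le_normalizer))
        ((isPi_iff_isPGroup Nat.prime_two).1 (pcore_pi _ _)) (a1 ⟨x, hx, rfl⟩)
    · have k := mem_normalizer_iff.1 (h2 (cc.2 (show ((⟨g, hg.1⟩ : N) : G) ∈ _ from hg.2)))
      constructor
      · rintro ⟨y, hy, rfl⟩
        exact ⟨_, (k y).1 hy, rfl⟩
      · rintro ⟨y, hy, e⟩
        have m : x ∈ N := by
          have := mul_mem (mul_mem (inv_mem (mem_inf.1 hg).1) y.2) (mem_inf.1 hg).1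
          rwa [show (y : G) = g * x * g⁻¹ from e, show g⁻¹ * (g * x * g⁻¹) * g = x by group] at this
        exact ⟨⟨x, m⟩, (k _).2 ((Subtype.ext e : y = ⟨g, hg.1⟩ * ⟨x, m⟩ * ⟨g, hg.1⟩⁻¹) ▸ hy), rfl⟩

theorem fstar_eq (hO : NoOdd G) [hn : N.Normal] [hs : IsSimpleGroup N] (hz : z ∈ D) (hQ : Q z ≤ N) :
    closure D = N ∧ N = Cfsg.generalizedFittingSubgroup G := by
  have sm : ∀ M : Subgroup G, M ≤ N → N ≤ N[M] → M = N ∨ M = ⊥ := fun M h1 h2 =>
    (((normal_subgroupOf_iff_le_normalizer h1).2 h2).eq_bot_or_eq_top).symm.imp (fun e => le_antisymm h1 (subgroupOf_eq_top.1 e))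
      fun e => by rw [← map_subgroupOf_eq_of_le h1, e, Subgroup.map_bot]
  have nab : ¬ N ≤ C[N] := fun e => by
    obtain ⟨x, hx, y, hy, n⟩ := h.not_abl hz
    exact n (mem_C.1 (e (hQ hy)) x (hQ hx))
  have hC : C[N] = ⊥ := by
    by_contra n
    rcases sm (N ⊓ C[N]) inf_le_left (H23.le_normalizer_inf le_normalizer le_normalizer_of_normal) with e | e
    · exact nab (e.ge.trans inf_le_right)
    · exact h.ne_one hz (mem_bot.1 (e ▸ mem_inf.2 ⟨hQ (h.mem hz), h.minN hO hz inferInstance n⟩))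
  have hp : ⁅N, N⁆ = N := (sm _ (der1_nml _).le (der1_nml _).norm).resolve_right fun e =>
    nab (H23.le_centralizer_of_comm_bot e)
  have comp : Cfsg.IsComponent N := ⟨hn.isSubnormal, H23.isQuasisimple_subgroup_iff.2
    ⟨hp, fun e => nab (e ▸ bot_le), fun M h1 h2 => (sm M h1 h2).imp_right
      fun e => by rw [e, commutator_bot_left]⟩⟩
  have := h.normal0
  refine ⟨(sm _ ((closure_le _).2 fun d hd => h.le_all hz hQ hd (h.mem hd))
    le_normalizer_of_normal).resolve_right (ne_bot_of_mem (subset_closure hz) (h.ne_one hz)),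
    le_antisymm ((H23.le_layer comp).trans le_sup_left) (sup_le
    (H23.layer_le_of_centralizer_le hn.isSubnormal (hC ▸ bot_le)) ?_)⟩
  exact (H23.le_centralizer_of_comm_bot (H23.comm_bot_symm (H23.comm_bot_mono
      (H23.layer_comm_fitting G) (H23.le_layer comp) le_rfl))).trans (hC ▸ bot_le)

end Sit

theorem NoOdd.sub (hO : NoOdd G) (N : Subgroup G) [N.Normal] : NoOdd N := fun M hM k => by
  have h3 : O[{2}ᶜ, N] = ⊥ := hO _ (nml_top_iff.1 ⟨le_top,
    norm_pcore _ le_normalizer_of_normal⟩) (Nat.not_even_iff_odd.1 fun k' =>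
      (piNat_compl_singleton Nat.prime_two).1 (pcore_pi _ _) (even_iff_two_dvd.1 k'))
  have : M.map N.subtype ≤ ⊥ := h3 ▸ pcore_max ((piNat_compl_singleton Nat.prime_two).2 (by
    rw [card_subtype]; exact ZD.not_two_dvd k)) (nml_map_subtype M)
  exact (map_eq_bot_iff_of_injective _ (subtype_injective _)).1 (le_bot_iff.1 this)

theorem LF.link {R : G → G → Prop} (h : LF D R) (u v f : G) (k : Col D u v) (hf : f ∈ D)
    (c : f ∈ C{u * v}) : Relation.ReflTransGen (Col D) f u := by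
  have st : ∀ {x y}, x ∈ D → y ∈ D → x * y = y * x → Relation.ReflTransGen (Col D) x y :=
    fun {x y} hx hy c => by
      by_cases e : x = y
      · exact e ▸ .refl
      · exact .single ⟨hx, hy, e, c⟩
  have cu : u * (u * v) = u * v * u := by rw [mul_assoc, ← k.comm]
  by_cases m : u * v ∈ D
  · exact (st hf m (mem_C1.1 c)).trans (st m k.l cu.symm)
  have ht : NI D (u * v) := ⟨by
    rw [mul_assoc, ← mul_assoc v, ← k.comm, mul_assoc, h.sq _ k.r, mul_one, h.sq _ k.l],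
    fun c => k.ne (by rw [eq_inv_of_mul_eq_one_left c, inv₃ (h.sq _ k.r)]), m⟩
  have yu : Yt D (u * v) u := ⟨k.l, cu, by rw [← mul_assoc, h.sq _ k.l, one_mul]; exact k.r⟩
  by_cases n : f * (u * v) ∈ D
  · exact h.conn ht ⟨hf, mem_C1.1 c, n⟩ yu
  · obtain ⟨x, -, a1, -, a3, -⟩ := h.f8 _ f ht ⟨hf, mem_C1.1 c, n⟩
    exact (st hf a1.mem a3.cy).trans (h.conn ht a1 yu)

end XS
end H6
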