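import Mathlib
import Cfsg.Agent.H6.XEDefs
import Cfsg.Agent.H6.XN
import Cfsg.Agent.H6.XP2
import Cfsg.Agent.H3.XLa

/-! Type L4(3): Coxeter generators of the centraliser -/

set_option autoImplicit false
set_option linter.unusedSectionVars false

namespace H6
namespace XS

open Subgroup H24 H15 H15.XP Module
open scoped commutatorElement

variable {G : Type*} [Group G] [Finite G] {D : Set G} {Q : G → Subgroup G} {a b : G}

theorem Sit.tl_le (h : Sit D Q 2) (wc : WC D Q) (k : Col D a b) (t : TL Q a b) :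
    Q a ≤ closure D := by
  obtain ⟨b0, b1, b2, b3, h0, h1, h2, h3, h4, -⟩ := H3.XL.all h wc k t
  exact h4.trans (closure_mono (by rintro _ (rfl | rfl | rfl | rfl) <;> assumption))

theorem Sit.sys (hG : ∀ K : Subgroup G, K.index ≠ 2) (h : Sit D Q 2) (wc : WC D Q) (k : Col D a b)
    (t : TL Q a b) : ∃ b0 b1 b2 b3, Sys D a b0 b1 b2 b3 := by
  obtain ⟨b0, b1, b2, b3, -, -, -, -, -, h5⟩ := H3.XL.all h wc k t
  exact ⟨b0, b1, b2, b3, h5 hG⟩

end XS
end H6
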