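import Mathlib
import Cfsg.Agent.H6.XEDefs
import Cfsg.Agent.H6.XB
import Cfsg.Agent.H28.XW3

/-! Type L4(3): facts read off in W(F4) -/

set_option autoImplicit false
set_option linter.unusedSectionVars false
set_option maxRecDepth 100000
set_option synthInstance.maxSize 100000

namespace H6
namespace XS

open Subgroup H24 H15 H15.XP Module
open scoped commutatorElement

variable {G : Type*} [Group G] [Finite G] {D : Set G} {Q : G → Subgroup G} {a b0 b1 b2 b3 : G}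

open H28.XW in
theorem Sit.lf (h : Sit D Q 2) (wc : WC D Q) (s : Sys D a b0 b1 b2 b3) : ∃ R, LF D R := by
  obtain ⟨φ, m, -⟩ := base h wc s
  set R : G → G → Prop := fun x y => ∃ g, g * a * g⁻¹ = x ∧ g * φ 42 * g⁻¹ = y
  have hR : ∀ x y g : G, R x y → R (g * x * g⁻¹) (g * y * g⁻¹) := fun x y g ⟨k, h1, h2⟩ =>
    ⟨g * k, by rw [← h1]; group, by rw [← h2]; group⟩
  have hM : ∀ z ∈ D, ∃ φ, Md D R z φ := fun z hz => by
    obtain ⟨g, rfl⟩ := h.trans a s.mem z hz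
    exact ⟨_, m.cj h.conj hR g⟩
  exact ⟨R, fun d => h.sq, fun k => h.ne_one k rfl, h.conj, hR, rsymm hM hR, phi1 hM, phi3 hM, f1 hM,
    f3a hM, f3b hM, f4a hM, f4b hM fun d => h.sq, f6 hM, f7 hM, f8 hM, e1 hM, e3 hM, e4 hM, e5 hM,
    e6 hM⟩

open H28.XW in
theorem Sit.wd (h : Sit D Q 2) (wc : WC D Q) (s : Sys D a b0 b1 b2 b3) : Wd D a b0 b1 b2 b3 := by
  obtain ⟨φ, m, rfl, rfl, rfl, rfl⟩ := base h wc s
  obtain rfl := m.cen
  refine ⟨?_, ?_, ?_, ?_, ?_, ?_, ?_, ?_, ?_, ?_, ?_, ?_, ?_, fun x hx k => ?_⟩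
  rotate_right
  · obtain ⟨c, kc, rfl⟩ := m.getD hx k
    suffices φ c = φ 1151 ∨ ∃ p ∈ W1 ++ W2 ++ H28.XW.W3, p.1 = c ∧ φ p.2 * φ 1151 = φ 1151 * φ p.2 ∧
        (φ c * φ p.2 = φ p.2 * wP2 (φ 1) (φ 2) (φ 3) (φ 48) ∨
          φ c * φ p.2 = φ p.2 * wQ2 (φ 1) (φ 2) (φ 3) (φ 48) ∨
          φ c * φ p.2 = φ p.2 * (φ 1151 * φ 3 * wQ2 (φ 1) (φ 2) (φ 3) (φ 48))) from
      this.imp id fun ⟨p, _, _, h1, h2⟩ => ⟨φ p.2, s.top ▸ mem_C1.2 h1, by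
        simpa only [eq_mul_inv_iff_mul_eq] using h2⟩
    clear hx k
    revert c
    simp only [wP2, wP3, wP4, wB, wQ2, wQ3, wQ4, wC2, wC3, cv, m.mul, m.eq]
    decide +kernel
  all_goals
    simp only [wP2, wP3, wP4, wB, wQ2, wQ3, wQ4, wC2, wC3, cv, ln_def, nb_def, ni_def, sw_def, m.mul, m.eq,
      m.eq1, m.memD, ne_eq, pow_succ, pow_zero, one_mul]
    decide +kernel

end XS
end H6
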