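import Mathlib
import Cfsg.Agent.H6.XEDefs
import Cfsg.Agent.H13.L4M

/-! The presentation `Rel7` defines `L₄(3)`. -/

set_option autoImplicit false
set_option linter.unusedSectionVars false

namespace H6
namespace XS

open Subgroup H24 H15 H15.XP Module
open scoped commutatorElement

variable {G : Type*} [Group G] [Finite G] {a b0 b1 b2 b3 d e : G}

theorem Rel7.iso [Nontrivial G] (h : Rel7 a b0 b1 b2 b3 d e)
    (ht : closure {a, b0, b1, b2, b3, d, e} = ⊤) :
    Nonempty (G ≃* Matrix.ProjectiveSpecialLinearGroup (Fin 4) (ZMod 3)) := by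
  let f : ℕ → G := fun c => [b0, b1, b2, b3, a, d, e].getD c 1
  have iv : ∀ {x : G}, x * x = 1 → x⁻¹ = x := fun hx => inv_eq_of_mul_eq_one_right hx
  have cc : ∀ {x : G}, x * x = 1 → ∀ y, x * (x * y) = y := fun hx y => by
    rw [← mul_assoc, hx, one_mul]
  have f0 : f 0 = b0 := rfl
  have f1 : f 1 = b1 := rfl
  have f2 : f 2 = b2 := rfl
  have f3 : f 3 = b3 := rfl
  have f4 : f 4 = a := rfl
  have f5 : f 5 = d := rfl
  have f6 : f 6 = e := rfl
  refine H13.L4.iso (e := f) (fun c => ?_) ?_ ?_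
  · change f c = (f c)⁻¹
    match c with
    | 0 => exact (iv h.s0).symm
    | 1 => exact (iv h.s1).symm
    | 2 => exact (iv h.s2).symm
    | 3 => exact (iv h.s3).symm
    | 4 => exact (iv h.sa).symm
    | 5 => exact (iv h.sd).symm
    | 6 => exact (iv h.se).symm
    | c + 7 => exact inv_one.symm
  · have key : ∀ {x y z : G}, x = y → x * y⁻¹ = z → z = 1 := fun h1 h2 => by
      rw [← h2, h1, mul_inv_cancel]
    simp only [H13.L4T0.R0, H13.L4T0.G0, List.forall_mem_cons, H29.ev_cons, H29.ev_nil, f0, f1, f2,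
      f3, f4, f5, f6, mul_one, List.not_mem_nil, false_imp_iff, implies_true, and_true]
    refine ⟨key h.r01 ?_, key h.r12 ?_, key h.r23 ?_, key h.r02 ?_, key h.r03 ?_, key h.r13 ?_,
      key h.w0 ?_, key h.a0 ?_, key h.a1 ?_, key h.a2 ?_, key h.a3 ?_, key h.d0 ?_, key h.d1 ?_,
      key h.d2 ?_, key h.dB ?_, key h.da ?_, key h.e1 ?_, key h.e2 ?_, key h.e0 ?_, key h.e3 ?_,
      key h.ea ?_, key h.de ?_, key h.glob ?_⟩ <;>
    simp only [cv, wP2, wP3, wP4, wB, wC2, wC3, wQ2, wQ3, wQ4, pow_succ, pow_zero, one_mul,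
      mul_one, inv_one, mul_inv_rev, iv h.s0, iv h.s1, iv h.s2, iv h.s3, iv h.sa, iv h.sd, iv h.se,
      mul_assoc, cc h.s2]
  · rw [eq_top_iff, ← ht, closure_le]
    rintro x (rfl | rfl | rfl | rfl | rfl | rfl | rfl)
    · exact H29.mem_gen (e := f) (c := 4) (by decide)
    · exact H29.mem_gen (e := f) (c := 0) (by decide)
    · exact H29.mem_gen (e := f) (c := 1) (by decide)
    · exact H29.mem_gen (e := f) (c := 2) (by decide)
    · exact H29.mem_gen (e := f) (c := 3) (by decide)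
    · exact H29.mem_gen (e := f) (c := 5) (by decide)
    · exact H29.mem_gen (e := f) (c := 6) (by decide)

end XS
end H6
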