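import Mathlib
import Cfsg.Agent.H6.XEDefs
import Cfsg.Agent.H28.XL

/-! The Pfaffian -/

set_option autoImplicit false
set_option linter.unusedSectionVars false

namespace H6
namespace XS

open Subgroup H24 H15 H15.XP Module H28.XL
open scoped commutatorElement

attribute [-simp] ofQuad_B

variable {V : Type*} [AddCommGroup V] [Module (ZMod 2) V] [Finite V] {q : QuadraticForm (ZMod 2) V}
variable {W : Submodule (ZMod 2) V} {c x y z g : (ofQuad q).Isom}

theorem UW.one : UW W (1 : (ofQuad q).Isom) :=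
  ⟨fun _ _ => rfl, fun v => by rw [Form.Isom.one_apply, vv]; exact zero_mem _⟩

theorem UW.mul_apply (hx : UW W x) (hy : UW W y) (v : V) :
    (x * y).1 v + v = (x.1 v + v) + (y.1 v + v) := by
  rw [Form.Isom.mul_apply, ← hx.1 _ (hy.2 v), add_right_comm, ← g_add, vv4]

theorem UW.mul (hx : UW W x) (hy : UW W y) : UW W (x * y) :=
  ⟨fun v hv => by rw [Form.Isom.mul_apply, hy.1 v hv, hx.1 v hv],
    fun v => hx.mul_apply hy v ▸ add_mem (hx.2 v) (hy.2 v)⟩

theorem UW.sq (hx : UW W x) : x * x = 1 :=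
  Form.Isom.ext fun v => veq.1 ((hx.mul_apply hx v).trans (vv _))

theorem UW.comm (hx : UW W x) (hy : UW W y) : x * y = y * x :=
  Form.Isom.ext fun v => add_right_cancel (by rw [hx.mul_apply hy v, hy.mul_apply hx v, add_comm])

theorem UW.symm (hx : UW W x) (u v : V) : pol q (x.1 u + u) v = pol q u (x.1 v + v) := by
  rw [pl, pr, g_pol_l, inv_eq_of_mul_eq_one_right hx.sq]

theorem UW.alt (hW : TS q W) (hx : UW W x) (u : V) : pol q (x.1 u + u) u = 0 := by
  have := quad_add q (x.1 u + u) u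
  rw [vv2, g_q, hW _ (hx.2 u), zero_add] at this
  simpa using this

theorem mem_Fix_conj {v : V} : g.1 v ∈ Fix (g * c * g⁻¹) ↔ v ∈ Fix c := by
  simp [mem_Fix, Form.Isom.mul_apply]

theorem UW.conj (hx : UW (Fix c) x) : UW (Fix (g * c * g⁻¹)) (g * x * g⁻¹) := by
  constructor <;> intro v <;> obtain ⟨v, rfl⟩ := g.1.surjective v
  · exact fun h => mem_Fix_conj.2 (hx.1 v (mem_Fix_conj.1 h))
  · have := mem_Fix_conj (g := g).2 (hx.2 v)
    simpa [Form.Isom.mul_apply] using this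

theorem ND_conj : ND (Fix (g * c * g⁻¹)) (g * x * g⁻¹) ↔ ND (Fix c) x :=
  ⟨fun h v hv => mem_Fix_conj.1 (h _ (mem_Fix_conj.2 hv)), fun h v => by
    obtain ⟨v, rfl⟩ := g.1.surjective v
    exact fun hv => mem_Fix_conj.2 (h v (mem_Fix_conj.1 hv))⟩

/-- the Pfaffian of an alternating `4 × 4` matrix -/
def pf6 (p : Fin 6 → ZMod 2) : ZMod 2 := p 0 * p 5 + p 1 * p 4 + p 2 * p 3

/-- the entries above the diagonal of the alternating matrix of `y + 1` -/
def J6 (f : Fin 4 → V) (y : (ofQuad q).Isom) : Fin 6 → ZMod 2 := fun k =>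
  pol q (y.1 (f (![0, 0, 0, 1, 1, 2] k)) + f (![0, 0, 0, 1, 1, 2] k)) (f (![1, 2, 3, 2, 3, 3] k))

theorem UW.J6_mul (hx : UW W x) (hy : UW W y) (f : Fin 4 → V) : J6 f (x * y) = J6 f x + J6 f y :=
  funext fun k => by simp only [J6, hx.mul_apply hy, Pi.add_apply]; rw [pl]

theorem nd6 : ∀ a b c d e f : ZMod 2, (∀ x y z w : ZMod 2, y * a + z * b + w * c = 0 →
    x * a + z * d + w * e = 0 → x * b + y * d + w * f = 0 → x * c + y * e + z * f = 0 →
    x = 0 ∧ y = 0 ∧ z = 0 ∧ w = 0) ↔ a * f + b * e + c * d = 1 := by decide +kernel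

theorem card6 : ∀ c : Fin 6 → ZMod 2, pf6 c = 1 →
    (Finset.univ.filter fun p => pf6 p = 1 ↔ ¬ pf6 (p + c) = 1).card = 32 := by decide +kernel

theorem uw_eich (hW : TS q W) {e e' : V} (he : e ∈ W) (he' : e' ∈ W) : ∃ y : (ofQuad q).Isom, UW W y ∧
    ∀ v, y.1 v + v = pol q e' v • e + pol q e v • e' := by
  have h : ∀ v, (eich q e e' (hW e he) (ts_pol hW he he')).1 v + v = pol q e' v • e + pol q e v • e' :=
    fun v => by
      rw [eich_apply, hW e' he', zero_mul, zero_smul, sub_zero, sub_eq_add_neg,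
        neg_eq_of_add_eq_zero_left (vv _), add_assoc v, vv3]
  refine ⟨_, ⟨fun v hv => veq.1 ?_, fun v => ?_⟩, h⟩ <;> rw [h]
  · simp [ts_pol hW he hv, ts_pol hW he' hv]
  · exact add_mem (W.smul_mem _ he) (W.smul_mem _ he')

variable (hq : (ofQuad q).Nondeg) (hd : finrank (ZMod 2) V = 8) (hW : TS q W)
  (h4 : finrank (ZMod 2) W = 4)
include hq hd hW h4

theorem ts_perp {v : V} (h : ∀ w ∈ W, pol q w v = 0) : v ∈ W :=
  perp_self hq (fun _ h _ h' => ts_pol hW h h') (by omega) h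

theorem exists_J6 : ∃ f : Fin 4 → V, (∀ y, UW W y → (ND W y ↔ pf6 (J6 (q := q) f y) = 1)) ∧
    Set.BijOn (J6 (q := q) f) {y | UW W y} Set.univ := by
  obtain ⟨e, f, H, he⟩ := hq.exists_hyp_of_totSing (U := W) ⟨fun _ h _ h' => ts_pol hW h h', hW⟩ h4
  have ef : ∀ i j, pol q (e i) (f j) = if i = j then 1 else 0 := H.ef
  have eW : ∀ i, e i ∈ W := fun i => he ▸ Submodule.subset_span ⟨i, rfl⟩
  have h1 : ∀ v, (∀ i, pol q (e i) v = 0) → v ∈ W := fun v h => ts_perp hq hd hW h4 <| by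
    rw [← he]; exact (ofQuad q).mem_perp_span.2 (by rintro _ ⟨i, rfl⟩; exact h i)
  have h2 : ∀ v, v + ∑ i, pol q (e i) v • f i ∈ W := fun v => h1 _ fun i => by simp [ef, z2add]
  have h3 : ∀ w ∈ W, (∀ j, pol q w (f j) = 0) → w = 0 := fun w hw h => hq w fun v => by
    have := ts_pol hW hw (h2 v)
    simpa [h] using this
  have h5 : ∀ y : (ofQuad q).Isom, UW W y → ∀ v,
      y.1 v + v = ∑ i, pol q (e i) v • (y.1 (f i) + f i) := fun y hy v => by
    have := hy.1 _ (h2 v)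
    rw [map_add, map_sum] at this
    simp only [smul_add, Finset.sum_add_distrib, ← map_smul]
    rw [veq'.1 this, add_right_comm, add_right_comm v, vv, zero_add, add_comm]
  have hs : ∀ y : (ofQuad q).Isom, UW W y → ∀ i j,
      pol q (y.1 (f i) + f i) (f j) = pol q (y.1 (f j) + f j) (f i) := fun y hy i j => by
    rw [hy.symm, pol_comm]
  have h6 : ∀ y : (ofQuad q).Isom, UW W y → ∀ v, y.1 v = v ↔
      ∀ j, ∑ i, pol q (e i) v * pol q (y.1 (f i) + f i) (f j) = 0 := fun y hy v => by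
    refine veq.symm.trans ⟨fun h j => ?_, fun h => h3 _ (hy.2 v) fun j => ?_⟩
    · simpa [mul_add] using congrArg (pol q · (f j)) ((h5 y hy v).symm.trans h)
    · rw [h5 y hy v, ← h j]; simp [mul_add]
  have h7 : ∀ y : (ofQuad q).Isom, UW W y → ∀ v, y.1 v = v ↔
      pol q (e 1) v * J6 f y 0 + pol q (e 2) v * J6 f y 1 + pol q (e 3) v * J6 f y 2 = 0 ∧
      pol q (e 0) v * J6 f y 0 + pol q (e 2) v * J6 f y 3 + pol q (e 3) v * J6 f y 4 = 0 ∧
      pol q (e 0) v * J6 f y 1 + pol q (e 1) v * J6 f y 3 + pol q (e 3) v * J6 f y 5 = 0 ∧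
      pol q (e 0) v * J6 f y 2 + pol q (e 1) v * J6 f y 4 + pol q (e 2) v * J6 f y 5 = 0 := fun y hy v => by
    rw [h6 y hy v]
    simp only [Fin.forall_fin_succ, Fin.sum_univ_four, Fin.succ_zero_eq_one, Fin.succ_one_eq_two,
      Fin.reduceSucc, IsEmpty.forall_iff, and_true, hy.alt hW, mul_zero, zero_add, add_zero, hs y hy 1 0,
      hs y hy 2 0, hs y hy 3 0, hs y hy 2 1, hs y hy 3 1, hs y hy 3 2]
    rfl
  refine ⟨f, fun y hy => Iff.trans ⟨fun h a b c d e1 e2 e3 e4 => ?_, fun h v hv => h1 v ?_⟩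
    (nd6 _ _ _ _ _ _), fun _ _ => trivial, fun x hx y hy h => ?_, fun p _ => ?_⟩
  · have h8 : ∀ i, pol q (e i) (∑ j, ![a, b, c, d] j • f j) = ![a, b, c, d] i := fun i => by simp [ef]
    have := h _ ((h7 y hy _).2 (by rw [h8, h8, h8, h8]; exact ⟨e1, e2, e3, e4⟩))
    have h9 := fun i => (h8 i).symm.trans (ts_pol hW (eW i) this)
    exact ⟨h9 0, h9 1, h9 2, h9 3⟩
  · obtain ⟨e1, e2, e3, e4⟩ := (h7 y hy v).1 hv
    simpa [Fin.forall_fin_succ] using h _ _ _ _ e1 e2 e3 e4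
  · have h8 : J6 f (x * y) = 0 := by rw [hx.J6_mul hy, h]; exact vv _
    have h9 : x * y = 1 := Form.Isom.ext fun v => (h7 _ (hx.mul hy) v).2 <| by simp [h8]
    rw [← mul_one x, ← hy.sq, ← mul_assoc, h9, one_mul]
  · let T : Submodule (ZMod 2) (Fin 6 → ZMod 2) := mkSub (J6 (q := q) f '' {y | UW W y})
      ⟨1, UW.one, funext fun k => by simp [J6, vv]⟩
      (by rintro _ ⟨x, hx, rfl⟩ _ ⟨y, hy, rfl⟩; exact ⟨_, hx.mul hy, hx.J6_mul hy f⟩)
    change p ∈ T
    rw [pi_eq_sum_univ p]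
    refine T.sum_mem fun k _ => T.smul_mem _ ?_
    obtain ⟨y, hy, h⟩ := uw_eich hW (eW (![0, 0, 0, 1, 1, 2] k)) (eW (![1, 2, 3, 2, 3, 3] k))
    refine ⟨y, hy, funext fun l => ?_⟩
    simp only [J6, h, pl, psl, ef]
    clear * -
    revert k l; decide

theorem pf_one : pf W (1 : (ofQuad q).Isom) = 0 := if_neg fun h => by
  have : W = ⊤ := eq_top_iff.2 fun v _ => h v rfl
  rw [this, finrank_top] at h4; omega

theorem ND.surj (hx : UW W x) (hn : ND W x) {e : V} (he : e ∈ W) : ∃ v, x.1 v + v = e := by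
  set n : V →ₗ[ZMod 2] V := x.1.toLinearMap + LinearMap.id
  have h1 : LinearMap.ker n = W := by ext v; exact veq.trans ⟨hn v, hx.1 v⟩
  have h2 := n.finrank_range_add_finrank_ker
  have h3 : LinearMap.range n = W := eq_of_fr (by rintro _ ⟨v, rfl⟩; exact hx.2 v) (by
    rw [h1] at h2; omega)
  exact (h3 ▸ he : e ∈ LinearMap.range n)

theorem pf_add3 (hx : UW W x) (hy : UW W y) (hz : UW W z) : pf W (x * y * z) =
    pf W (x * y) + pf W (x * z) + pf W (y * z) + pf W x + pf W y + pf W z := by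
  obtain ⟨f, h, -⟩ := exists_J6 hq hd hW h4
  have e : ∀ y, UW W y → pf W y = pf6 (J6 (q := q) f y) := fun y hy => by
    rw [pf]; split_ifs with h1
    exacts [((h y hy).1 h1).symm, (z2ne' (mt (h y hy).2 h1)).symm]
  simp only [e, hx, hy, hz, hx.mul hy, hx.mul hz, hy.mul hz, (hx.mul hy).mul hz, UW.J6_mul (W := W), pf6,
    Pi.add_apply]
  have := z2add (pf6 (J6 f x) + pf6 (J6 f y) + pf6 (J6 f z))
  simp only [pf6] at this
  linear_combination -this

theorem ncard_perp (hc : UW W c) (hn : ND W c) :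
    {y : (ofQuad q).Isom | UW W y ∧ (ND W y ↔ ¬ ND W (y * c))}.ncard = 32 := by
  obtain ⟨f, h, hb⟩ := exists_J6 hq hd hW h4
  rw [← card6 _ ((h c hc).1 hn), ← Set.ncard_coe_finset,
    ← Set.ncard_image_of_injOn (hb.injOn.mono fun y hy => hy.1)]
  congr 1; ext p
  obtain ⟨y, hy, rfl⟩ := hb.surjOn (Set.mem_univ p)
  rw [hb.injOn.mem_image_iff (fun y hy => hy.1) hy]
  simp [show UW W y from hy, h y hy, h _ (hy.mul hc), hy.J6_mul hc]

end XS
end H6
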