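import Mathlib
import Cfsg.Agent.H6.XO0
import Cfsg.Agent.H6.XI

/-! Conway type: the linear shadow -/

set_option autoImplicit false
set_option linter.unusedSectionVars false

namespace H27.XO

open Subgroup H24 H15 H15.XP Module H6.XS H3.XP

variable {G : Type*} [Group G] [Finite G] {D : Set G} {Q : G → Subgroup G} {z b c g r s u x y : G}
variable {V : Type*} [AddCommGroup V] [Module (ZMod 2) V] [Finite V]

theorem pf_eq_one {q : QuadraticForm (ZMod 2) V} {W : Submodule (ZMod 2) V}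
    {y : (ofQuad q).Isom} : pf W y = 1 ↔ ND W y := by
  unfold pf; split_ifs with e <;> simp [e]

theorem pf_eq_zero {q : QuadraticForm (ZMod 2) V} {W : Submodule (ZMod 2) V}
    {y : (ofQuad q).Isom} : pf W y = 0 ↔ ¬ ND W y := by
  unfold pf; split_ifs with e <;> simp [e]

section
variable (h : Sit D Q 4) (wc : WC D Q)
include h wc

theorem alpha (k : Col D z b) : ∀ x ∈ Q z, x * b * x⁻¹ ≠ z * b := fun x hx e =>
  absurd (h.beta wc k ⟨x, hx, e⟩).1 (by norm_num)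

theorem to_of_bot (k : Col D z b) (hI : Q z ⊓ Q b = ⊥) : TO Q z b :=
  (to' h k wc (alpha h wc k) (alpha h wc (csymm k)) hI).2

theorem tsymm (k : Col D z b) (t : TO Q z b) : TO Q b z :=
  to_of_bot h wc (csymm k) (inf_comm (Q z) _ ▸ t.bot)

theorem card128 (k : Col D z b) (hI : Q z ⊓ Q b ≠ ⊥) : ♯(Q z ⊓ C{b}) = 128 := by
  have := (card4 h k wc (alpha h wc k) hI).1
  rw [h.card z k.l] at this
  omega

theorem exists_out (k : Col D z b) (t : TO Q z b) : ∃ x ∈ Q z, x ∉ C{b} := by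
  by_contra! e
  have := t.carda
  rw [inf_eq_left.2 e, h.card z k.l] at this
  omega

theorem surj (k : Col D z b) (t : TO Q z b) (hu : u ∈ Q z ⊓ C{b}) :
    ∃ x ∈ Q z, κ[x, b] = u ∨ κ[x, b] = z * u :=
  (h.al wc k t.nea).surj u ((abl_eq h k wc t.nea t.ea.le_C).ge hu)

theorem k_A (k : Col D z b) (t : TO Q z b) (hx : x ∈ Q z) : κ[x, b] ∈ Q z ⊓ C{b} :=
  (abl_eq h k wc t.nea t.ea.le_C).le ((h.al wc k t.nea).comm x hx)

theorem lem4 (k : Col D z c) (hy : y ∈ C[Q z ⊓ C{c}]) (ha : y * c⁻¹ ∈ Q z) :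
    ∃ x ∈ Q z, x * c * x⁻¹ = y ∨ x * c * x⁻¹ = z * y := by
  obtain ⟨x, hx, e⟩ := (h.al wc k (alpha h wc k)).surj _
    (mem_inf.2 ⟨ha, mul_mem hy (inv_mem (mem_C_iff_le_C1.2 inf_le_right))⟩)
  exact ⟨x, hx, e.imp (fun e => by simpa using e) fun e => by
    rwa [← mul_assoc, mul_left_inj] at e⟩

end

section
variable (F : Fr z (Q z) V)

theorem ap_π (hg : g ∈ C{z}) (hx : x ∈ Q z) : (ap F.ρ g).1 (F.π x) = F.π (g * x * g⁻¹) := by
  rw [ap_of_mem _ hg]; exact F.ρ_π ⟨g, hg⟩ x hx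

theorem ap_eq_one (hg : g ∈ C{z}) : ap F.ρ g = 1 ↔ g ∈ Q z := by
  rw [ap_of_mem _ hg]; exact F.ker ⟨g, hg⟩

theorem ap_eq (hg : g ∈ C{z}) (hy : y ∈ C{z}) : ap F.ρ g = ap F.ρ y ↔ g * y⁻¹ ∈ Q z := by
  rw [← ap_eq_one F (mul_mem hg (inv_mem hy)), ap_mul _ hg (inv_mem hy), ap_inv _ hy,
    mul_inv_eq_one]

theorem ap_range (hg : g ∈ C{z}) : ap F.ρ g ∈ F.ρ.range := ⟨⟨g, hg⟩, (ap_of_mem _ hg).symm⟩

variable (h : Sit D Q 4)
include h

theorem ap_n (hz : z ∈ D) (hg : g ∈ C{z}) (hx : x ∈ Q z) :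
    (ap F.ρ g).1 (F.π x) + F.π x = F.π κ[g, x] := by
  rw [ap_π F hg hx, F.π_mul _ (conj_mem (h.norm hz hg) hx) _ (inv_mem hx), F.π_inv hx]

theorem ap_fix (hz : z ∈ D) (hg : g ∈ C{z}) (hx : x ∈ Q z) :
    (ap F.ρ g).1 (F.π x) = F.π x ↔ κ[g, x] ∈ zpowers z := by
  rw [ap_π F hg hx, F.π_eq h hz (conj_mem (h.norm hz hg) hx) hx, h.mem_zp hz, mul_inv_eq_one,
    mul_inv_eq_iff_eq_mul (c := z)]

variable (wc : WC D Q) (k : Col D z b)
include wc k

theorem mem_W (hx : x ∈ Q z) : F.π x ∈ Fix (ap F.ρ b) ↔ x ∈ C{b} := by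
  rw [mem_Fix, ap_fix F h k.l (cC k) hx]
  exact ⟨fun e => al_cent h k wc (alpha h wc k) hx (k_symm e),
    fun e => k_one.2 (mem_C1_comm.1 e) ▸ one_mem _⟩

theorem sub_W : F.sub (Fix (ap F.ρ b)) = Q z ⊓ C{b} := by
  ext x
  exact and_congr_right fun hx => mem_W F h wc k hx

theorem nd_iff (hg : g ∈ C{z}) :
    ND (Fix (ap F.ρ b)) (ap F.ρ g) ↔ ∀ x ∈ Q z, κ[g, x] ∈ zpowers z → x ∈ C{b} := by
  refine ⟨fun H x hx e => (mem_W F h wc k hx).1 (H _ ((ap_fix F h k.l hg hx).2 e)), fun H v e => ?_⟩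
  obtain ⟨x, hx, rfl⟩ := F.π_surj v
  exact (mem_W F h wc k hx).2 (H x hx ((ap_fix F h k.l hg hx).1 e))

variable (t : TO Q z b)
include t

theorem dim_W : finrank (ZMod 2) (Fix (ap F.ρ b)) = 4 := by
  have := F.card_sub h k.l (W := Fix (ap F.ρ b))
  rw [sub_W F h wc k, t.carda] at this
  have := Nat.pow_right_injective le_rfl (show 2 ^ 5 = _ from this)
  omega

theorem ts_W : TS F.q (Fix (ap F.ρ b)) := (F.ea_sub h k.l).1 (sub_W F h wc k ▸ t.ea)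

theorem uw (hy : y ∈ Q b ⊓ C{z}) : UW (Fix (ap F.ρ b)) (ap F.ρ y) := by
  refine ⟨fun v hv => ?_, fun v => ?_⟩ <;> obtain ⟨x, hx, rfl⟩ := F.π_surj v
  · rw [ap_π F hy.2 hx, conj_eq_of_mem_C (B_CA h k wc t.bot hy) ⟨hx, (mem_W F h wc k hx).1 hv⟩]
  · have := to_W h wc k t hy hx
    rw [ap_n F h k.l hy.2 hx, mem_W F h wc k this.1]
    exact this.2

theorem p3 (hx : x ∈ Q b ⊓ C{z}) (hy : y ∈ Q b ⊓ C{z}) (hu : u ∈ Q b ⊓ C{z}) :
    pf (Fix (ap F.ρ b)) (ap F.ρ (x * y * u)) = pf (Fix (ap F.ρ b)) (ap F.ρ (x * y)) +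
      pf (Fix (ap F.ρ b)) (ap F.ρ (x * u)) + pf (Fix (ap F.ρ b)) (ap F.ρ (y * u)) +
      pf (Fix (ap F.ρ b)) (ap F.ρ x) + pf (Fix (ap F.ρ b)) (ap F.ρ y) +
      pf (Fix (ap F.ρ b)) (ap F.ρ u) := by
  rw [ap_mul _ (mul_mem hx.2 hy.2) hu.2, ap_mul _ hx.2 hy.2, ap_mul _ hx.2 hu.2, ap_mul _ hy.2 hu.2]
  exact pf_add3 F.nondeg (F.dim h k.l) (ts_W F h wc k t) (dim_W F h wc k t) (uw F h wc k t hx)
    (uw F h wc k t hy) (uw F h wc k t hu)

theorem p_k (hr : r ∈ Q b) : pf (Fix (ap F.ρ b)) (ap F.ρ κ[r, z]) = 0 := by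
  have k' := csymm k
  have t' := tsymm h wc k t
  rw [pf_eq_zero, nd_iff F h wc k (k_A h wc k' t' hr).2]
  intro H
  by_cases n : r ∈ C{z}
  · obtain ⟨x, hx, e⟩ := exists_out h wc k t
    exact e (H x hx (by simp [k_one.2 n]))
  have k1 := (sw h k' wc t'.nea hr n rfl).1
  have h1 := card128 h wc k1 (ne_bot_of_le (bot_ker h k wc t.nea t'.nea t.bot hr n)
    (CB_le h k' wc t'.nea rfl))
  have h2 := card_le (show Q z ⊓ C{r * z * r⁻¹} ≤ Q z ⊓ C{b} from fun x hx => ⟨hx.1, H x hx.1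
    (k_one.2 (mul_mem (mem_C1_comm.1 hx.2) (inv_mem (mem_C1_comm.1 (h.le k.l hx.1)))) ▸ one_mem _)⟩)
  rw [h1, t.carda] at h2
  omega

end

/-- the form `β(·, b)` vanishes -/
theorem lam (h : Sit D Q 4) (wc : WC D Q) (k : Col D b z) (t : TO Q b z) (p : G → ZMod 2)
    (p3 : ∀ x ∈ Q b ⊓ C{z}, ∀ y ∈ Q b ⊓ C{z}, ∀ u ∈ Q b ⊓ C{z},
      p (x * y * u) = p (x * y) + p (x * u) + p (y * u) + p x + p y + p u)
    (p1 : p 1 = 0) (pb : p b = 1) (pk : ∀ r ∈ Q b, p κ[r, z] = 0) (hy : y ∈ Q b ⊓ C{z}) :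
    p (y * b) = p y + 1 := by
  classical
  have hb := a_A h k
  have cm := fun {x y} => t.ea.comm (x := x) (y := y)
  have kA := fun {r} => k_A h wc k t (x := r)
  have two : ∀ a : ZMod 2, a = 0 ∨ a = 1 := by decide
  obtain ⟨l, hl⟩ : ∃ l : G → ZMod 2, ∀ y, p (y * b) = l y + p y + 1 :=
    ⟨fun y => p (y * b) + p y + 1, fun y => by
      beta_reduce; generalize p (y * b) = a; generalize p y = b; revert a b; decide⟩
  have lmul : ∀ x ∈ Q b ⊓ C{z}, ∀ y ∈ Q b ⊓ C{z}, l (x * y) = l x + l y := fun x hx y hy => by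
    have := p3 x hx y hy b hb
    rw [hl, hl, hl, pb] at this
    revert this
    generalize l (x * y) = a1; generalize p (x * y) = a2; generalize l x = a3; generalize l y = a4
    generalize p x = a5; generalize p y = a6; revert a1 a2 a3 a4 a5 a6; decide
  have lb : l b = 0 := by
    have := hl b
    rw [h.sq k.l, p1, pb] at this
    revert this; generalize l b = a; revert a; decide
  have km : ∀ r ∈ Q b, ∀ s ∈ Q b, κ[r * s, z] =
      if r ∈ C{κ[s, z]} then κ[r, z] * κ[s, z] else κ[r, z] * κ[s, z] * b := fun r hr s hs => by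
    rw [k_mul]
    split_ifs with e
    · rw [cj1 e, cm (kA hs) (kA hr)]
    · rw [cj_ne h k.l hr (kA hs).1 e, mul_assoc, cm hb (mul_mem (kA hs) (kA hr)), cm (kA hs) (kA hr)]
  have lk : ∀ r ∈ Q b, ∀ s ∈ Q b, l κ[r * s, z] = l κ[r, z] + l κ[s, z] := fun r hr s hs => by
    rw [km r hr s hs]
    split_ifs
    · exact lmul _ (kA hr) _ (kA hs)
    · rw [lmul _ (mul_mem (kA hr) (kA hs)) _ hb, lmul _ (kA hr) _ (kA hs), lb, add_zero]
  have b2 : ∀ r ∈ Q b, ∀ s ∈ Q b, p (κ[r, z] * κ[s, z]) =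
      if r ∈ C{κ[s, z]} then 0 else 1 + l κ[r, z] + l κ[s, z] := fun r hr s hs => by
    have := pk _ (mul_mem hr hs)
    rw [km r hr s hs] at this
    split_ifs at this ⊢
    · exact this
    · rw [hl, lmul _ (kA hr) _ (kA hs)] at this
      revert this
      generalize l κ[r, z] = a1; generalize l κ[s, z] = a2; generalize p (κ[r, z] * κ[s, z]) = a3
      revert a1 a2 a3; decide
  have key : ∀ r ∈ Q b, l κ[r, z] = 0 := by
    by_contra! H
    obtain ⟨w, hw, e⟩ := H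
    have e1 := (two _).resolve_left e
    have J : ∀ r ∈ Q b, ∀ s ∈ Q b, l κ[r, z] = 0 → l κ[s, z] = 0 → r ∈ C{κ[s, z]} :=
      fun r hr s hs e2 e3 => by
        by_contra n
        have h1 := b2 _ (mul_mem hr hs) w hw
        have h2 := mul_iff h k.l hr hs (kA hw).1
        have h3 := p3 _ (mul_mem (kA hr) (kA hs)) _ hb _ (kA hw)
        have h4 := p3 _ (kA hr) _ (kA hs) _ (kA hw)
        rw [lk r hr s hs, km r hr s hs, if_neg n, h3, h4, cm hb (kA hw), hl, hl,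
          lmul _ (kA hr) _ (kA hs), b2 r hr s hs, b2 r hr w hw, b2 s hs w hw, if_neg n, pk r hr,
          pk s hs, pk w hw, pb, e1, e2, e3] at h1
        by_cases c1 : r ∈ C{κ[w, z]} <;> by_cases c2 : s ∈ C{κ[w, z]} <;>
          simp only [c1, c2, h2, if_true, if_false, iff_true, iff_false, not_true] at h1 <;>
          revert h1 <;> decide
    let Y : Subgroup G :=
      { carrier := {y | y ∈ Q b ⊓ C{z} ∧ l y = 0}
        one_mem' := ⟨one_mem _, by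
          have := lmul b hb b hb
          rwa [h.sq k.l, lb, add_zero] at this⟩
        mul_mem' := fun {x y} hx hy => ⟨mul_mem hx.1 hy.1, by
          rw [lmul x hx.1 y hy.1, hx.2, hy.2, add_zero]⟩
        inv_mem' := fun {x} hx => by rwa [t.ea.inv hx.1] }
    have c1 := idx_le (X := Q b ⊓ C{z}) (N := Y) fun x hx y hy nx ny => ⟨mul_mem hx hy, by
      rw [lmul x hx y hy, (two _).resolve_left fun e => nx ⟨hx, e⟩,
        (two _).resolve_left fun e => ny ⟨hy, e⟩]; rfl⟩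
    have cY : ∀ r ∈ Q b, l κ[r, z] = 0 → r ∈ C[Y] := fun r hr e2 => mem_C_iff_le_C1.2 fun y hy => by
      obtain ⟨s, hs, e3 | e3⟩ := surj h wc k t hy.1
      · exact mem_C1_comm.1 (e3 ▸ J r hr s hs e2 (e3 ▸ hy.2))
      · have := mem_C1_comm.1 (J r hr s hs e2 (by rw [e3, lmul _ hb _ hy.1, lb, hy.2, add_zero]))
        rwa [e3, mul_mem_cancel_left (mem_C1_comm.1 (h.le k.l hr))] at this
    have c2 := idx_le (X := Q b) (N := C[Y]) fun x hx y hy nx ny => cY _ (mul_mem hx hy) (by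
      rw [lk x hx y hy, (two _).resolve_left fun e => nx (cY x hx e),
        (two _).resolve_left fun e => ny (cY y hy e)]; rfl)
    have c3 := h.dual k.l (A := Y) (fun y hy => hy.1.1) ⟨hb, lb⟩
    rw [t.carda, inf_eq_right.2 (show Y ≤ _ from fun y hy => hy.1)] at c1
    rw [h.card b k.l] at c2
    have := Nat.mul_le_mul c1 c2
    rw [mul_mul_mul_comm, c3] at this
    norm_num at this
  obtain ⟨r, hr, e | e⟩ := surj h wc k t hy
  · rw [hl, ← e, key r hr, zero_add]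
  · have := key r hr
    rw [e, lmul _ hb _ hy, lb, zero_add] at this
    rw [hl, this, zero_add]

section
variable (F : Fr z (Q z) V) (h : Sit D Q 4) (wc : WC D Q) (k : Col D z b) (t : TO Q z b)
include h wc k t

theorem p_b : pf (Fix (ap F.ρ b)) (ap F.ρ b) = 1 := pf_eq_one.2 fun _ e => e

theorem p_mul (hy : y ∈ Q b ⊓ C{z}) :
    pf (Fix (ap F.ρ b)) (ap F.ρ (y * b)) = pf (Fix (ap F.ρ b)) (ap F.ρ y) + 1 :=
  lam h wc (csymm k) (tsymm h wc k t) (fun y => pf (Fix (ap F.ρ b)) (ap F.ρ y))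
    (fun _ hx _ hy _ hu => p3 F h wc k t hx hy hu) (by
      simp only [ap_one]
      exact pf_one F.nondeg (F.dim h k.l) (ts_W F h wc k t) (dim_W F h wc k t))
    (p_b F h wc k t) (fun _ hr => p_k F h wc k t hr) hy

theorem to_mem {y : (ofQuad F.q).Isom} (hy : UW (Fix (ap F.ρ b)) y)
    (hn : ND (Fix (ap F.ρ b)) y ↔ ¬ ND (Fix (ap F.ρ b)) (y * ap F.ρ b)) :
    ∃ u ∈ Q b ⊓ C{z}, ap F.ρ u = y := by
  have hb := a_A h (csymm k)
  have h1 := ncard_perp F.nondeg (F.dim h k.l) (ts_W F h wc k t) (dim_W F h wc k t)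
    (uw F h wc k t hb) (fun _ e => e)
  have h2 : (ap F.ρ '' (Q b ⊓ C{z} : Subgroup G)).ncard = 32 := by
    rw [Set.InjOn.ncard_image, ← card_ncard, t.cardb]
    intro x hx u hu e
    exact mul_inv_eq_one.1 (mem_bot.1 (t.bot.le (mem_inf.2
      ⟨(ap_eq F hx.2 hu.2).1 e, mul_mem (mem_inf.1 hx).1 (inv_mem (mem_inf.1 hu).1)⟩)))
  have h3 := Set.eq_of_subset_of_ncard_le (s := ap F.ρ '' (Q b ⊓ C{z} : Subgroup G)) (by
    rintro _ ⟨u, hu, rfl⟩
    refine ⟨uw F h wc k t hu, ?_⟩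
    rw [← ap_mul _ hu.2 hb.2, ← pf_eq_one, ← pf_eq_zero, p_mul F h wc k t hu]
    generalize pf (Fix (ap F.ρ b)) (ap F.ρ u) = a; revert a; decide) (h1.trans h2.symm).le
    (Set.finite_of_ncard_ne_zero (by rw [h1]; norm_num))
  exact h3.ge ⟨hy, hn⟩

theorem fix_eq {y : (ofQuad F.q).Isom} (hy : UW (Fix (ap F.ρ b)) y) (hn : ND (Fix (ap F.ρ b)) y) :
    Fix y = Fix (ap F.ρ b) := le_antisymm hn hy.1

include F in
theorem zb_not : z * b ∉ D := fun hD => by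
  have k' := csymm k
  have t' := tsymm h wc k t
  have hb := a_A h k'
  obtain ⟨r, hr, n⟩ := exists_out h wc k' t'
  have hy := k_A h wc k' t' hr
  have p0 := p_k F h wc k t hr
  have p1 := p_mul F h wc k t hy
  have e0 : r * (z * b) * r⁻¹ = z * (κ[r, z] * b) := by
    rw [cjm, cj1 (h.le k.r hr), ← mul_assoc, ← mem_C1.1 hy.2]; group
  generalize hk : κ[r, z] = y at hy p0 p1 e0
  have hyb := mul_mem hy hb
  have kc : Col D z (z * (y * b)) := ⟨k.l, e0 ▸ h.conj _ hD r, fun e => by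
    rw [eq_inv_of_mul_eq_one_left (left_eq_mul.1 e), inv_sq (h.sq k.r), p_b F h wc k t] at p0
    exact one_ne_zero p0, by rw [mul_assoc, mem_C1.1 hyb.2]⟩
  have e1 : ap F.ρ (z * (y * b)) = ap F.ρ (y * b) := by
    rw [ap_mul _ (self_mem_C1 z) hyb.2, (ap_eq_one F (self_mem_C1 z)).2 (h.mem k.l), one_mul]
  generalize z * (y * b) = c at kc e1
  rw [p0, zero_add, pf_eq_one] at p1
  have e2 : Fix (ap F.ρ c) = Fix (ap F.ρ b) := e1 ▸ fix_eq F h wc k t (uw F h wc k t hyb) p1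
  have e3 : Q z ⊓ C{c} = Q z ⊓ C{b} := by rw [← sub_W F h wc kc, e2, sub_W F h wc k]
  have tc : TO Q z c := to_of_bot h wc kc (by
    by_contra e
    have := card128 h wc kc e
    rw [e3, t.carda] at this
    omega)
  obtain ⟨u, hu, e4⟩ := to_mem F h wc kc tc (y := ap F.ρ b) (e2 ▸ uw F h wc k t hb) (by
    rw [e2, e1, ← ap_mul _ hb.2 hyb.2, t'.ea.comm hb hyb, mmr (h.sq k.r), ← pf_eq_zero]
    exact iff_of_true (fun _ e => e) p0)
  have uD : u ∈ D := by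
    obtain ⟨x, hx, e | e⟩ := lem4 h wc k (e3 ▸ B_CA h kc wc tc.bot hu) ((ap_eq F hu.2 hb.2).1 e4)
    · exact e ▸ h.conj b k.r x
    · have := h.conj _ hD x
      rwa [cjm, cj1 (h.le k.l hx), e, mml (h.sq k.l)] at this
  rw [wc c kc.r u uD hu.1, e1, ap_eq F hyb.2 hb.2, mul_inv_cancel_right] at e4
  exact n (k_one.1 (hk.trans (mem_bot.1 (t.bot.le ⟨e4, hy.1⟩))))

theorem prop_P (kc : Col D z c) (tc : TO Q z c) (hu : UW (Fix (ap F.ρ b)) (ap F.ρ c))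
    (hne : ap F.ρ c ≠ ap F.ρ b) : ND (Fix (ap F.ρ b)) (ap F.ρ b * ap F.ρ c) := by
  by_contra n
  have k' := csymm k
  have t' := tsymm h wc k t
  have hb := a_A h k'
  have e2 : Fix (ap F.ρ b) = Fix (ap F.ρ c) := Submodule.eq_of_le_of_finrank_eq hu.1
    ((dim_W F h wc k t).trans (dim_W F h wc kc tc).symm)
  have nd : ND (Fix (ap F.ρ b)) (ap F.ρ c) := e2 ▸ fun _ e => e
  obtain ⟨y, hy, e4⟩ := to_mem F h wc k t hu
    (iff_of_true nd (by rwa [hu.comm (uw F h wc k t hb)]))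
  have e3 : Q z ⊓ C{b} = Q z ⊓ C{c} := by rw [← sub_W F h wc kc, ← e2, sub_W F h wc k]
  obtain ⟨r, hr, e | e⟩ := surj h wc k' t' hy
  · exact pf_eq_zero.1 (p_k F h wc k t hr) (by rwa [e, e4])
  obtain ⟨x, hx, e' | e'⟩ := lem4 h wc kc (e3 ▸ B_CA h k wc t.bot hy) ((ap_eq F hy.2 (cC kc)).1 e4)
  · exact hne (by rw [← e4, wc b k.r y (e' ▸ h.conj c kc.r x) hy.1])
  · have := h.conj _ (e' ▸ h.conj c kc.r x : z * y ∈ D) r⁻¹
    refine zb_not F h wc k t (by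
      rwa [show z * y = r * (z * b) * r⁻¹ by
        rw [cjm, cj1 (h.le k.r hr), k_eq e, mul_assoc, mul_assoc, ← mul_assoc y, mem_C1.1 hy.2,
          ← mul_assoc, ← mul_assoc, ← k.comm, mul_assoc z, mul_assoc z, t'.ea.comm hb hy,
          mmr (h.sq k.r)], show r⁻¹ * (r * (z * b) * r⁻¹) * r⁻¹⁻¹ = z * b by group] at this)

end

end H27.XO

namespace H6
namespace XS

open Subgroup H24 H15 H15.XP Module
open scoped commutatorElement

variable {G : Type*} [Group G] [Finite G] {D : Set G} {Q : G → Subgroup G} {z b : G}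
variable {V : Type*} [AddCommGroup V] [Module (ZMod 2) V] [Finite V]

open H27.XO H3.XP in
theorem Sit.co (h : Sit D Q 4) (wc : WC D Q) (k : Col D z b) (t : TO Q z b) (F : Fr z (Q z) V) :
    ∃ S, CO F.ρ.range S := by
  refine ⟨{s | ∃ d, Col D z d ∧ TO Q z d ∧ ap F.ρ d = s}, F.nondeg, F.dim h k.l, F.o2V h k.l,
    ⟨_, b, k, t, rfl⟩, ?_, ?_, ?_, ?_, ?_, ?_, ?_, ?_⟩
  · rintro _ ⟨d, k, -, rfl⟩
    exact ap_range F (cC k)
  · rintro _ ⟨⟨g, hg⟩, rfl⟩ _ ⟨d, k, t, rfl⟩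
    have k' := ccj h k g
    rw [cj1 hg] at k'
    refine ⟨_, k', to_of_bot h wc k' ?_, by rw [ap_conj _ hg (cC k), ap_of_mem _ hg]⟩
    rw [h.eqv d k.r, ← cj_of_mem_N (h.norm k.l hg), ← cj_inf, t.bot, cj_bot]
  · rintro _ ⟨d, k, t, rfl⟩
    exact dim_W F h wc k t
  · rintro _ ⟨d, k, t, rfl⟩
    exact ts_W F h wc k t
  · rintro _ ⟨d, k, t, rfl⟩
    exact uw F h wc k t (a_A h (csymm k))
  · rintro _ ⟨d, k, t, rfl⟩ y hy hn
    obtain ⟨u, hu, rfl⟩ := to_mem F h wc k t hy hn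
    exact ap_range F hu.2
  · rintro _ ⟨d, k, t, rfl⟩ u v
    choose a ha ea using fun i => F.π_surj (u i)
    choose c hc ec using fun i => F.π_surj (v i)
    obtain ⟨y, hy, n, p⟩ := to_four h wc k t (hc 0) (ha 0) (hc 1) (ha 1) (hc 2) (ha 2) (hc 3) (ha 3)
    refine ⟨_, ap_range F hy.2, fun e => n ((ap_eq_one F hy.2).1 e), uw F h wc k t hy, fun i => ?_⟩
    rw [← ea, ← ec, ap_n F h k.l hy.2 (ha i), F.pol_π _ (k_mem h k.l hy.2 (ha i)) _ (hc i), eq_comm,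
      ← mem_C1]
    fin_cases i
    exacts [p.1, p.2.1, p.2.2.1, p.2.2.2]
  · rintro _ ⟨d, k, t, rfl⟩ _ ⟨c, kc, tc, rfl⟩
    exact prop_P F h wc k t kc tc

end XS
end H6
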