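import Mathlib
import Cfsg.Agent.H6.XO0

/-! Conway type: commuting pairs -/

set_option autoImplicit false
set_option linter.unusedSectionVars false

namespace H27
namespace XO2

open Subgroup H24 H15 H15.XP Module H28.XL H6 H6.XS

attribute [-simp] ofQuad_B

variable {V : Type*} [AddCommGroup V] [Module (ZMod 2) V] [Finite V] {q : QuadraticForm (ZMod 2) V}
variable {H : Subgroup (ofQuad q).Isom} {S : Set (ofQuad q).Isom} {c c' : (ofQuad q).Isom}

theorem ind_sup {B : Submodule (ZMod 2) V} {v : V} {P : V → Prop}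
    (ha : ∀ x y, P x → P y → P (x + y)) (hB : ∀ x ∈ B, P x) (hv : P v) :
    ∀ x ∈ B ⊔ Submodule.span (ZMod 2) {v}, P x := fun x hx => by
  rcases mem_sup_sp.1 hx with h | h
  · exact hB x h
  · have := ha _ _ (hB _ h) hv
    rwa [vv2] at this

theorem ind_sup2 {A B : Submodule (ZMod 2) V} {P : V → Prop}
    (ha : ∀ x y, P x → P y → P (x + y)) (hA : ∀ x ∈ A, P x) (hB : ∀ x ∈ B, P x) :
    ∀ x ∈ A ⊔ B, P x := fun x hx => by
  obtain ⟨a, h1, b, h2, rfl⟩ := Submodule.mem_sup.1 hx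
  exact ha _ _ (hA a h1) (hB b h2)

theorem ext1 {U T : Submodule (ZMod 2) V} (h : U ≤ T) {k : ℕ}
    (hd : finrank (ZMod 2) T ≤ finrank (ZMod 2) U + (k + 1)) :
    ∃ u ∈ T, U ⊔ Submodule.span (ZMod 2) {u} ≤ T ∧
      finrank (ZMod 2) T ≤ finrank (ZMod 2) ↥(U ⊔ Submodule.span (ZMod 2) {u}) + k := by
  by_cases hc : T ≤ U
  · refine ⟨0, zero_mem _, by simpa using h, ?_⟩
    have := Submodule.finrank_mono (hc.trans (le_sup_left (b := Submodule.span (ZMod 2) {(0 : V)})))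
    omega
  · obtain ⟨u, h1, h2⟩ := SetLike.not_le_iff_exists.1 hc
    refine ⟨u, h1, sup_le h ((Submodule.span_singleton_le_iff_mem _ _).2 h1), ?_⟩
    have := fr_sup_sp' h2
    omega

theorem span1 {U T : Submodule (ZMod 2) V} (h : U ≤ T)
    (hd : finrank (ZMod 2) T ≤ finrank (ZMod 2) U + 1) :
    ∃ u ∈ T, ∀ P : V → Prop, (∀ x y, P x → P y → P (x + y)) → (∀ x ∈ U, P x) → P u →
      ∀ x ∈ T, P x := by
  obtain ⟨u, h1, h2, h3⟩ := ext1 h (k := 0) hd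
  refine ⟨u, h1, fun P ha hU hu x hx => ind_sup ha hU hu x ?_⟩
  rwa [eq_of_fr h2 (by omega)]

theorem span2 {U T : Submodule (ZMod 2) V} (h : U ≤ T)
    (hd : finrank (ZMod 2) T ≤ finrank (ZMod 2) U + 2) :
    ∃ u ∈ T, ∃ u' ∈ T, ∀ P : V → Prop, (∀ x y, P x → P y → P (x + y)) → (∀ x ∈ U, P x) → P u →
      P u' → ∀ x ∈ T, P x := by
  obtain ⟨u, h1, h2, h3⟩ := ext1 h (k := 1) hd
  obtain ⟨u', h4, h5⟩ := span1 h2 h3
  exact ⟨u, h1, u', h4, fun P ha hU hu hu' => h5 P ha (ind_sup ha hU hu) hu'⟩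

theorem span3 {U T : Submodule (ZMod 2) V} (h : U ≤ T)
    (hd : finrank (ZMod 2) T ≤ finrank (ZMod 2) U + 3) :
    ∃ u ∈ T, ∃ u' ∈ T, ∃ u'' ∈ T, ∀ P : V → Prop, (∀ x y, P x → P y → P (x + y)) →
      (∀ x ∈ U, P x) → P u → P u' → P u'' → ∀ x ∈ T, P x := by
  obtain ⟨u, h1, h2, h3⟩ := ext1 h (k := 2) hd
  obtain ⟨u', h4, u'', h5, h6⟩ := span2 h2 h3
  exact ⟨u, h1, u', h4, u'', h5, fun P ha hU hu hu' hu'' => h6 P ha (ind_sup ha hU hu) hu' hu''⟩

/-- `y + 1` -/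
def nn (y : (ofQuad q).Isom) (v : V) : V := y.1 v + v

theorem nn_add (y : (ofQuad q).Isom) (u v : V) : nn y (u + v) = nn y u + nn y v := by
  simp only [nn, g_add]; abel

theorem nn_smul (y : (ofQuad q).Isom) (a : ZMod 2) (v : V) : nn y (a • v) = a • nn y v := by
  simp only [nn, g_smul, smul_add]

theorem nn_eq {y : (ofQuad q).Isom} {v : V} : nn y v = 0 ↔ v ∈ Fix y := veq

theorem ap_eq (y : (ofQuad q).Isom) (v : V) : y.1 v = nn y v + v := (vv2 _ _).symm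

variable {W : Submodule (ZMod 2) V} {y : (ofQuad q).Isom}

theorem nn_mem (h : UW W y) (v : V) : nn y v ∈ W := h.2 v
theorem nn_zero (h : UW W y) {v : V} (hv : v ∈ W) : nn y v = 0 := veq.2 (h.1 v hv)
theorem nn_symm (h : UW W y) (u v : V) : pol q (nn y u) v = pol q u (nn y v) := h.symm u v
theorem nn_symm' (h : UW W y) (u v : V) : pol q (nn y u) v = pol q (nn y v) u := by
  rw [nn_symm h, pol_comm]
theorem nn_alt (hW : TS q W) (h : UW W y) (u : V) : pol q (nn y u) u = 0 := h.alt hW u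

theorem eq_one_of (h : ∀ v, nn y v = 0) : y = 1 := Form.Isom.ext fun v => veq.1 (h v)

theorem perp (h : CO H S) (h1 : c ∈ S) {v : V} (hv : ∀ w ∈ Fix c, pol q w v = 0) : v ∈ Fix c :=
  ts_perp h.nondeg h.dim (h.ts c h1) (h.dimF c h1) hv

theorem perp' (h : CO H S) (h1 : c ∈ S) {v : V} (hv : ∀ w ∈ Fix c, pol q v w = 0) : v ∈ Fix c :=
  perp h h1 fun w hw => pc (hv w hw)

theorem nperp (h : CO H S) (h1 : c ∈ S) {v : V} (hv : v ∉ Fix c) : ∃ w ∈ Fix c, pol q w v = 1 := by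
  by_contra hc
  push Not at hc
  exact hv (perp h h1 fun w hw => z2ne' (hc w hw))

theorem tp (h : CO H S) (h1 : c ∈ S) {u v : V} (hu : u ∈ Fix c) (hv : v ∈ Fix c) : pol q u v = 0 :=
  ts_pol (h.ts c h1) hu hv

theorem surj (h : CO H S) (h1 : c ∈ S) {e : V} (he : e ∈ Fix c) : ∃ v, nn c v = e :=
  ND.surj h.nondeg h.dim (h.ts c h1) (h.dimF c h1) (h.uw c h1) (fun _ hx => hx) he

theorem lemR (h : CO H S) (h1 : c ∈ S) (h2 : c' ∈ S) (hu : UW (Fix c) c') {u : V}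
    (hn : u ∉ Fix c) (he : c'.1 u = c.1 u) : c' = c := by
  by_contra hne
  refine hn (h.P c h1 c' h2 hu hne u ?_)
  rw [Form.Isom.mul_apply, he, g_sq (h.uw c h1).sq]

theorem fix_conj {g : (ofQuad q).Isom} (hg : ∀ x ∈ Fix c, g.1 x ∈ Fix c) :
    Fix (g * c * g⁻¹) = Fix c := by
  have h1 : Fix (g * c * g⁻¹) = (Fix c).map g.1.toLinearMap := by
    ext v
    obtain ⟨v, rfl⟩ := g.1.surjective v
    rw [mem_Fix_conj]
    exact ⟨fun h => ⟨v, h, rfl⟩, fun ⟨w, hw, e⟩ => g_inj g e ▸ hw⟩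
  rw [h1]
  refine eq_of_fr (by rintro _ ⟨w, hw, rfl⟩; exact hg w hw) ?_
  rw [LinearEquiv.finrank_map_eq]

theorem lemT (h : CO H S) (h1 : c ∈ S) (hy : y ∈ H) {e v : V} (he : e ∈ Fix c) (h0 : e ≠ 0)
    (hv : v ∉ Fix c) (ha : ∀ x ∈ Fix c, nn y x = pol q x v • e) : nn c v = e := by
  have hc := h.uw c h1
  have hF : Fix (y * c * y⁻¹) = Fix c := fix_conj fun x hx => by
    rw [ap_eq, ha x hx]; exact add_mem (Submodule.smul_mem _ _ he) hx
  have hu : UW (Fix c) (y * c * y⁻¹) := hF ▸ hc.conj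
  have key : ∀ u, nn (y * c * y⁻¹) u = nn c u + (pol q e u • nn c v + pol q (nn c v) u • e) := by
    intro u
    have e1 : (y⁻¹).1 u + (u + pol q e u • v) ∈ Fix c := perp h h1 fun w hw => by
      rw [pr, ← g_pol_l, ap_eq y w, ha w hw, pl, psl, pr, psr, mul_comm, add_comm (pol q w u), z2add]
    have e2 : nn c ((y⁻¹).1 u) = nn c u + pol q e u • nn c v := by
      have := nn_eq.2 e1
      rw [nn_add, nn_add, nn_smul] at this
      exact veq.1 this
    have e3 : nn (y * c * y⁻¹) u = y.1 (nn c ((y⁻¹).1 u)) := by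
      simp [nn, Form.Isom.mul_apply]
    rw [e3, ap_eq y, ha _ (nn_mem hc _), e2, pl, psl, nn_alt (h.ts c h1) hc, mul_zero, add_zero,
      nn_symm' hc u v]
    abel
  obtain ⟨u, -, hu1, hu2⟩ := exists_perp (q := q) ⊤ (Fix c) [e, nn c v] (by
    rw [h.dimF c h1, finrank_top, h.dim]; simp)
  have e4 : y * c * y⁻¹ = c := lemR h h1 (h.conj y hy c h1) hu hu1 (by
    rw [ap_eq, key, hu2 e (by simp), hu2 (nn c v) (by simp), ap_eq c u]; simp)
  obtain ⟨x, hx⟩ := sep0 h.nondeg h0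
  have e5 := key x
  rw [e4, hx, one_smul, left_eq_add, veq] at e5
  rcases z2 (pol q (nn c v) x) with h6 | h6 <;> rw [h6] at e5
  · exact absurd (nn_eq.1 (by simpa using e5)) hv
  · simpa using e5

theorem b4' (h : CO H S) (h1 : c ∈ S) (u1 v1 u2 v2 u3 v3 u4 v4 : V) : ∃ y ∈ H, y ≠ 1 ∧
    UW (Fix c) y ∧ pol q (nn y u1) v1 = 0 ∧ pol q (nn y u2) v2 = 0 ∧ pol q (nn y u3) v3 = 0 ∧
      pol q (nn y u4) v4 = 0 := by
  obtain ⟨y, a1, a2, a3, a4⟩ := h.b4 c h1 ![u1, u2, u3, u4] ![v1, v2, v3, v4]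
  exact ⟨y, a1, a2, a3, a4 0, a4 1, a4 2, a4 3⟩

theorem not3 (h : CO H S) (h1 : c ∈ S) (h2 : c' ∈ S)
    (hd : finrank (ZMod 2) ↥(Fix c ⊓ Fix c') = 3) : False := by
  have d1 := h.dimF c h1
  have d2 := h.dimF c' h2
  have ex : ∀ {A B : Submodule (ZMod 2) V}, finrank (ZMod 2) A = 4 →
      finrank (ZMod 2) ↥(A ⊓ B) = 3 → ∃ a ∈ A, a ∉ B ∧ ∀ P : V → Prop,
        (∀ x y, P x → P y → P (x + y)) → (∀ x ∈ A ⊓ B, P x) → P a → ∀ x ∈ A, P x := by
    intro A B e1 e2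
    obtain ⟨a, a1, a2⟩ := span1 (U := A ⊓ B) (T := A) inf_le_left (by omega)
    refine ⟨a, a1, fun hb => ?_, a2⟩
    have := Submodule.finrank_mono (show A ≤ A ⊓ B from
      a2 (· ∈ A ⊓ B) (fun _ _ => add_mem) (fun _ hx => hx) ⟨a1, hb⟩)
    omega
  obtain ⟨a, a1, a2, a3⟩ := ex d1 hd
  obtain ⟨b, b1, b2, b3⟩ := ex (B := Fix c) d2 (by rwa [inf_comm])
  have hab : pol q a b = 1 := z2ne fun h0 => a2 (perp' h h2 (b3 (pol q a · = 0)
    (fun x y hx hy => by rw [pr, hx, hy, add_zero]) (fun x hx => tp h h1 a1 hx.2) h0))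
  obtain ⟨u, hu⟩ := sep0 h.nondeg (u := nn c b) fun h0 => b2 (nn_eq.1 h0)
  obtain ⟨u1, -, u2, -, u3, -, hs⟩ := span3 (U := Fix c' ⊔ Submodule.span (ZMod 2) {a}) (T := ⊤)
    le_top (by rw [fr_sup_sp' a2, finrank_top, h.dim, d2])
  obtain ⟨y, y1, y2, y3, j1, j2, j3, j4⟩ := b4' h h2 a u u1 u2 u1 u3 u2 u3
  have alt := nn_alt (h.ts c' h2) y3
  have ey : nn y a ∈ Fix c := perp' h h1 (a3 (pol q (nn y a) · = 0)
    (fun x y hx hy => by rw [pr, hx, hy, add_zero])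
    (fun x hx => tp h h2 (nn_mem y3 a) hx.2) (alt a))
  have e0 : nn y a = 0 := by
    by_contra h0
    have := lemT h h1 y1 ey h0 b2 (a3 (fun x => nn y x = pol q x b • nn y a)
      (fun x y hx hy => by rw [nn_add, hx, hy, pl, add_smul])
      (fun x hx => by rw [nn_zero y3 hx.2, tp h h2 hx.2 b1, zero_smul]) (by rw [hab, one_smul]))
    rw [this, j1] at hu
    exact zero_ne_one hu
  have hU : ∀ x ∈ Fix c' ⊔ Submodule.span (ZMod 2) {a}, nn y x = 0 :=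
    ind_sup (fun x y hx hy => by rw [nn_add, hx, hy, add_zero]) (fun x hx => nn_zero y3 hx) e0
  have hz : ∀ w, pol q (nn y w) u1 = 0 → pol q (nn y w) u2 = 0 → pol q (nn y w) u3 = 0 →
      nn y w = 0 := fun w e1 e2 e3 => h.nondeg _ fun x => hs (pol q (nn y w) · = 0)
    (fun x y hx hy => by rw [pr, hx, hy, add_zero])
    (fun x hx => by rw [nn_symm y3, hU x hx, p0r]) e1 e2 e3 x trivial
  refine y2 (eq_one_of fun x => hs (nn y · = 0)
    (fun x y hx hy => by rw [nn_add, hx, hy, add_zero]) hU (hz _ (alt _) j2 j3)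
    (hz _ ((nn_symm' y3 _ _).trans j2) (alt _) j4)
    (hz _ ((nn_symm' y3 _ _).trans j3) ((nn_symm' y3 _ _).trans j4) (alt _)) x trivial)

theorem not1 (h : CO H S) (h1 : c ∈ S) (h2 : c' ∈ S)
    (hd : finrank (ZMod 2) ↥(Fix c ⊓ Fix c') = 1) : False := by
  have d1 := h.dimF c h1
  have d2 := h.dimF c' h2
  obtain ⟨f, f1, f2⟩ := span1 (U := ⊥) (T := Fix c ⊓ Fix c') bot_le (by omega)
  have f0 : f ≠ 0 := fun h0 => by
    have := Submodule.finrank_mono (show Fix c ⊓ Fix c' ≤ ⊥ from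
      f2 (· ∈ (⊥ : Submodule (ZMod 2) V)) (fun _ _ => add_mem) (fun _ hx => hx) (h0 ▸ zero_mem _))
    rw [finrank_bot] at this; omega
  obtain ⟨u, hu⟩ := sep0 h.nondeg f0
  have f3 : ∀ x ∈ Fix c ⊓ Fix c', x = pol q x u • f := f2 (fun x => x = pol q x u • f)
    (fun x y hx hy => by rw [pl, add_smul, ← hx, ← hy])
    (fun x hx => by rw [(Submodule.mem_bot _).1 hx]; simp) (by rw [hu, one_smul])
  obtain ⟨x1, -, x2, -, x3, -, hs⟩ := span3 (U := Fix c ⊓ Fix c') (T := Fix c) inf_le_left (by omega)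
  obtain ⟨v0, hv0⟩ := surj h h1 f1.1
  obtain ⟨x0, x01, x02⟩ := nperp h h1 (v := v0) fun h0 => f0 (hv0 ▸ nn_eq.2 h0)
  obtain ⟨y, y1, y2, y3, j1, j2, j3, j4⟩ := b4' h h2 x1 x2 x1 x3 x2 x3 x0 u
  have alt := nn_alt (h.ts c' h2) y3
  have hz : ∀ w, pol q (nn y w) x1 = 0 → pol q (nn y w) x2 = 0 → pol q (nn y w) x3 = 0 →
      nn y w ∈ Fix c := fun w e1 e2 e3 => perp' h h1 (hs (pol q (nn y w) · = 0)
    (fun x y hx hy => by rw [pr, hx, hy, add_zero])
    (fun x hx => tp h h2 (nn_mem y3 w) hx.2) e1 e2 e3)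
  have hW : ∀ x ∈ Fix c, nn y x ∈ Fix c := hs (nn y · ∈ Fix c)
    (fun x y hx hy => by rw [nn_add]; exact add_mem hx hy)
    (fun x hx => by rw [nn_zero y3 hx.2]; exact zero_mem _) (hz _ (alt _) j1 j2)
    (hz _ ((nn_symm' y3 _ _).trans j1) (alt _) j3)
    (hz _ ((nn_symm' y3 _ _).trans j2) ((nn_symm' y3 _ _).trans j3) (alt _))
  have ha : ∀ x ∈ Fix c, nn y x = pol q x (nn y u) • f := fun x hx => by
    rw [← nn_symm y3]; exact f3 _ ⟨hW x hx, nn_mem y3 x⟩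
  by_cases hv : nn y u ∈ Fix c
  · have e1 : nn y u = 0 := by rw [f3 _ ⟨hv, nn_mem y3 u⟩, alt, zero_smul]
    have e2 : u ∉ Fix c ⊔ Fix c' := fun hm => by
      have := ind_sup2 (P := (pol q f · = 0)) (fun x y hx hy => by rw [pr, hx, hy, add_zero])
        (fun x hx => tp h h1 f1.1 hx) (fun x hx => tp h h2 f1.2 hx) u hm
      rw [hu] at this; exact one_ne_zero this
    have e3 : Fix c ⊔ Fix c' ⊔ Submodule.span (ZMod 2) {u} = ⊤ := eq_of_fr le_top (by
      have := fr_si (Fix c) (Fix c')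
      rw [fr_sup_sp' e2, finrank_top, h.dim]; omega)
    have ad : ∀ a b, nn y a = 0 → nn y b = 0 → nn y (a + b) = 0 := fun a b hx hy => by
      rw [nn_add, hx, hy, add_zero]
    exact y2 (eq_one_of fun x => ind_sup ad (ind_sup2 ad
      (fun x hx => by rw [ha x hx, e1, p0r, zero_smul]) fun x hx => nn_zero y3 hx) e1 x
      (e3 ▸ Submodule.mem_top))
  · have e1 := lemT h h1 y1 f1.1 f0 hv ha
    have e2 : nn y u + v0 ∈ Fix c := nn_eq.1 (by rw [nn_add, e1, hv0, vv])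
    have e3 := tp h h1 x01 e2
    rw [pr, x02, ← nn_symm y3, j4] at e3
    simp at e3

theorem dim2 (h : CO H S) (h1 : c ∈ S) (h2 : c' ∈ S)
    (hd : finrank (ZMod 2) ↥(Fix c ⊓ Fix c') = 2) :
    ∃ v ∈ Fix c', v ∉ Fix c ∧ nn c v ∈ Fix c' := by
  have d1 := h.dimF c h1
  have d2 := h.dimF c' h2
  obtain ⟨f1, m1, n1, -⟩ := exists_perp0 (q := q) (Fix c ⊓ Fix c') [] (by simp [hd])
  obtain ⟨f2, m2, n2, n3, -⟩ := exists_perp1 (q := q) (Fix c ⊓ Fix c') f1 [] (by simp [hd])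
  obtain ⟨u1, p21, p11⟩ := sep1 h.nondeg n1 n3.symm
  obtain ⟨u2, p12, p22⟩ := sep1 h.nondeg n2 n3
  have hF : (⊥ : Submodule (ZMod 2) V) ⊔ Submodule.span (ZMod 2) {f1} ⊔
      Submodule.span (ZMod 2) {f2} = Fix c ⊓ Fix c' := eq_of_fr
    (sup_le (sup_le bot_le ((Submodule.span_singleton_le_iff_mem _ _).2 m1))
      ((Submodule.span_singleton_le_iff_mem _ _).2 m2)) (by
    rw [fr_sup_sp' (by rw [bot_sup_eq, mem_sp]; tauto), fr_sup_sp' (by simpa using n1), hd]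
    omega)
  have f3 : ∀ x ∈ Fix c ⊓ Fix c', x = pol q x u1 • f1 + pol q x u2 • f2 := by
    rw [← hF]
    have ad : ∀ a b : V, a = pol q a u1 • f1 + pol q a u2 • f2 → b = pol q b u1 • f1 + pol q b u2 • f2 →
        a + b = pol q (a + b) u1 • f1 + pol q (a + b) u2 • f2 := fun a b ha hb => by
      rw [pl, pl, add_smul, add_smul, add_add_add_comm, ← ha, ← hb]
    exact ind_sup ad (ind_sup ad (fun x hx => by rw [(Submodule.mem_bot _).1 hx]; simp)
      (by rw [p11, p12]; simp)) (by rw [p21, p22]; simp)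
  obtain ⟨x1, -, x2, -, hs⟩ := span2 (U := Fix c ⊓ Fix c') (T := Fix c) inf_le_left (by omega)
  obtain ⟨y, y1, y2, y3, j1, j2, j3, j4⟩ := b4' h h2 x1 x2 x1 u1 x2 u1 u1 u2
  have alt := nn_alt (h.ts c' h2) y3
  have hz : ∀ w, pol q (nn y w) x1 = 0 → pol q (nn y w) x2 = 0 →
      nn y w ∈ Fix c := fun w e1 e2 => perp' h h1 (hs (pol q (nn y w) · = 0)
    (fun x y hx hy => by rw [pr, hx, hy, add_zero])
    (fun x hx => tp h h2 (nn_mem y3 w) hx.2) e1 e2)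
  have hW : ∀ x ∈ Fix c, nn y x ∈ Fix c := hs (nn y · ∈ Fix c)
    (fun x y hx hy => by rw [nn_add]; exact add_mem hx hy)
    (fun x hx => by rw [nn_zero y3 hx.2]; exact zero_mem _) (hz _ (alt _) j1)
    (hz _ ((nn_symm' y3 _ _).trans j1) (alt _))
  have hW1 : ∀ x ∈ Fix c, pol q (nn y x) u1 = 0 := hs (fun x => pol q (nn y x) u1 = 0)
    (fun x y hx hy => by rw [nn_add, pl, hx, hy, add_zero])
    (fun x hx => by rw [nn_zero y3 hx.2, p0l]) j2 j3
  have ha : ∀ x ∈ Fix c, nn y x = pol q x (nn y u2) • f2 := fun x hx => by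
    rw [← nn_symm y3]
    have := f3 _ ⟨hW x hx, nn_mem y3 x⟩
    rwa [hW1 x hx, zero_smul, zero_add] at this
  by_cases hv : nn y u2 ∈ Fix c
  · exfalso
    have e1 : nn y u2 = 0 := by
      rw [f3 _ ⟨hv, nn_mem y3 u2⟩, alt, nn_symm' y3, j4]; simp
    have e1' : nn y u1 = 0 := by
      rw [f3 _ ⟨hz u1 ((nn_symm' y3 _ _).trans j2) ((nn_symm' y3 _ _).trans j3), nn_mem y3 u1⟩,
        alt, j4]; simp
    have pa : ∀ f a b : V, pol q f a = 0 → pol q f b = 0 → pol q f (a + b) = 0 :=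
      fun f a b hx hy => by rw [pr, hx, hy, add_zero]
    have e2 : u1 ∉ Fix c ⊔ Fix c' := fun hm => by
      have := ind_sup2 (pa f1) (fun x hx => tp h h1 m1.1 hx) (fun x hx => tp h h2 m1.2 hx) u1 hm
      rw [p11] at this; exact one_ne_zero this
    have e2' : u2 ∉ Fix c ⊔ Fix c' ⊔ Submodule.span (ZMod 2) {u1} := fun hm => by
      have := ind_sup (pa f2) (ind_sup2 (pa f2) (fun x hx => tp h h1 m2.1 hx)
        (fun x hx => tp h h2 m2.2 hx)) p21 u2 hm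
      rw [p22] at this; exact one_ne_zero this
    have e3 : Fix c ⊔ Fix c' ⊔ Submodule.span (ZMod 2) {u1} ⊔ Submodule.span (ZMod 2) {u2} = ⊤ :=
      eq_of_fr le_top (by
        have := fr_si (Fix c) (Fix c')
        rw [fr_sup_sp' e2', fr_sup_sp' e2, finrank_top, h.dim]; omega)
    have ad : ∀ a b, nn y a = 0 → nn y b = 0 → nn y (a + b) = 0 := fun a b hx hy => by
      rw [nn_add, hx, hy, add_zero]
    exact y2 (eq_one_of fun x => ind_sup ad (ind_sup ad (ind_sup2 ad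
      (fun x hx => by rw [ha x hx, e1, p0r, zero_smul]) fun x hx => nn_zero y3 hx) e1') e1 x
      (e3 ▸ Submodule.mem_top))
  · exact ⟨_, nn_mem y3 u2, hv, lemT h h1 y1 m2.1 n2 hv ha ▸ m2.2⟩

theorem comm2 (h : CO H S) (h1 : c ∈ S) (h2 : c' ∈ S)
    (hd : finrank (ZMod 2) ↥(Fix c ⊓ Fix c') = 2) : c * c' = c' * c := by
  have d1 := h.dimF c h1
  have hc := h.uw c h1
  have hc' := h.uw c' h2
  obtain ⟨v, v1, v2, v3⟩ := dim2 h h1 h2 hd
  obtain ⟨w, w1, w2, w3⟩ := dim2 h h2 h1 (by rwa [inf_comm])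
  have e1 : w ∉ Fix c ⊓ Fix c' := fun hm => w2 hm.2
  obtain ⟨x, x1, hs⟩ := span1 (U := Fix c ⊓ Fix c' ⊔ Submodule.span (ZMod 2) {w}) (T := Fix c)
    (sup_le inf_le_left ((Submodule.span_singleton_le_iff_mem _ _).2 w1))
    (by rw [fr_sup_sp' e1]; omega)
  have pa : ∀ f a b : V, pol q f a = 0 → pol q f b = 0 → pol q f (a + b) = 0 :=
    fun f a b hx hy => by rw [pr, hx, hy, add_zero]
  have ad : ∀ a b, nn c' a ∈ Fix c → nn c' b ∈ Fix c → nn c' (a + b) ∈ Fix c := fun a b hx hy => by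
    rw [nn_add]; exact add_mem hx hy
  have e2 : ∀ a ∈ Fix c, nn c' a ∈ Fix c := hs _ ad
    (ind_sup ad (fun a ha => by rw [nn_zero hc' ha.2]; exact zero_mem _) w3)
    (perp' h h1 (hs _ (pa _) (ind_sup (pa _) (fun a ha => tp h h2 (nn_mem hc' x) ha.2)
      (by rw [nn_symm hc']; exact tp h h1 x1 w3)) (nn_alt (h.ts c' h2) hc' x)))
  have hF : Fix (c' * c * c'⁻¹) = Fix c := fix_conj fun a ha => by
    rw [ap_eq]; exact add_mem (e2 a ha) ha
  have hu : UW (Fix c) (c' * c * c'⁻¹) := hF ▸ hc.conj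
  have e3 := lemR h h1 (h.conj c' (h.le c' h2) c h1) hu v2 (by
    rw [inv_eq_of_mul_eq_one_right hc'.sq, Form.Isom.mul_apply, Form.Isom.mul_apply,
      show c'.1 v = v from v1, ap_eq c v]
    exact add_mem v3 v1)
  rw [mul_inv_eq_iff_eq_mul] at e3
  exact e3.symm

theorem comm (h : CO H S) (h1 : c ∈ S) (h2 : c' ∈ S) (hF : Fix c ⊓ Fix c' ≠ ⊥) :
    c * c' = c' * c := by
  have d1 := h.dimF c h1
  have d2 := h.dimF c' h2
  have d3 := Submodule.finrank_mono (inf_le_left : Fix c ⊓ Fix c' ≤ _)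
  have d0 : finrank (ZMod 2) ↥(Fix c ⊓ Fix c') ≠ 0 := fun h0 => hF (bot_of_fr h0)
  have c1 := mt (not1 h h1 h2) id
  have c3 := mt (not3 h h1 h2) id
  by_cases c2 : finrank (ZMod 2) ↥(Fix c ⊓ Fix c') = 2
  · exact comm2 h h1 h2 c2
  have e1 : Fix c ⊓ Fix c' = Fix c := eq_of_fr inf_le_left (by omega)
  have e2 : Fix c ⊓ Fix c' = Fix c' := eq_of_fr inf_le_right (by omega)
  exact (h.uw c h1).comm (by rw [← e1, e2]; exact h.uw c' h2)

theorem lemO (h : CO H S) (h1 : c ∈ S) (h2 : c' ∈ S) {u v : V} (huv : pol q (nn c u) v = 0) :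
    pol q (nn c v) (nn c' (nn c u)) = 0 := by
  have hc := h.uw c h1
  have hc' := h.uw c' h2
  have alt := nn_alt (h.ts c h1) hc
  obtain ⟨y, hy, hm⟩ := uw_eich (h.ts c h1) (nn_mem hc u) (nn_mem hc v)
  change ∀ x, nn y x = _ at hm
  have n1 : ¬ ND (Fix c) y := fun hn => by
    obtain ⟨x, -, x1, x2⟩ := exists_perp (q := q) ⊤ (Fix c) [nn c u, nn c v] (by
      rw [h.dimF c h1, finrank_top, h.dim]; simp)
    exact x1 (hn x (nn_eq.1 (by rw [hm, x2 (nn c u) (by simp), x2 (nn c v) (by simp)]; simp)))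
  have n2 : ND (Fix c) (y * c) := fun x hx => by
    have e1 : nn y x + nn c x = 0 := (hy.mul_apply hc x).symm.trans (veq.2 hx)
    have e2 : pol q (nn c v) x • u + pol q (nn c u) x • v + x ∈ Fix c := nn_eq.1 (by
      rw [nn_add, nn_add, nn_smul, nn_smul, ← hm, e1])
    have e3 := tp h h1 (nn_mem hc u) e2
    have e4 := tp h h1 (nn_mem hc v) e2
    rw [pr, pr, psr, psr, alt, huv] at e3
    rw [pr, pr, psr, psr, alt, nn_symm' hc v u, huv] at e4
    simp only [mul_zero, zero_add] at e3 e4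
    simpa [e3, e4] using e2
  have yH : y ∈ H := h.memB c h1 y hy (iff_of_false n1 (not_not.2 n2))
  obtain ⟨x, x1, x0, x2⟩ := exists_perp0 (q := q) (Fix c') [nn c u, nn c v] (by
    rw [h.dimF c' h2]; simp)
  have x3 : y.1 x = x := nn_eq.1 (by
    rw [hm, x2 (nn c u) (by simp), x2 (nn c v) (by simp)]; simp)
  have cm := comm h h2 (h.conj y yH c' h2) fun h0 => x0 (by
    have : x ∈ Fix c' ⊓ Fix (y * c' * y⁻¹) := ⟨x1, x3 ▸ mem_Fix_conj.2 x1⟩
    rwa [h0] at this)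
  rw [inv_eq_of_mul_eq_one_right hy.sq] at cm
  refine z2ne' fun ht => ?_
  set e := nn c u with he
  set a := nn c' e with ha
  have e1 : y.1 e = e := hy.1 e (nn_mem hc u)
  have e2 : y.1 a = e + a := by
    rw [ap_eq y, hm, ht, pc (nn_alt (h.ts c' h2) hc' e)]; simp
  have e3 : y.1 (c'.1 e) = a := by rw [ap_eq c' e, g_add, e1, e2, vv3]
  have e4 : c'.1 a = a := nn_mem hc' e
  have e5 := congrArg (fun g : (ofQuad q).Isom => g.1 e) cm
  simp only [Form.Isom.mul_apply, e1, e3, e4, e2, right_eq_add] at e5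
  rw [ha, e5] at ht
  simp [nn] at ht

theorem lemO2 (h : CO H S) (h1 : c ∈ S) (h2 : c' ∈ S) (hF : Fix c ⊓ Fix c' = ⊥) {u : V}
    (hu : u ∈ Fix c') : nn c' (nn c u) = u := by
  have hc := h.uw c h1
  have hc' := h.uw c' h2
  have z : ∀ x ∈ Fix c, x ∈ Fix c' → x = 0 := fun x a b => by
    have : x ∈ Fix c ⊓ Fix c' := ⟨a, b⟩
    rwa [hF] at this
  by_cases u0 : u = 0
  · simp [u0, nn]
  have k : ∀ w ∈ Fix c, pol q w u = 0 → pol q w (nn c' (nn c u)) = 0 := fun w hw h0 => by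
    obtain ⟨v, rfl⟩ := surj h h1 hw
    exact lemO h h1 h2 ((nn_symm' hc u v).trans h0)
  obtain ⟨w0, w1, w2⟩ := nperp h h1 (v := nn c' (nn c u)) fun hm =>
    u0 (z u (nn_eq.1 (z _ (nn_mem hc u) (nn_eq.1 (z _ hm (nn_mem hc' _))))) hu)
  have w3 : pol q w0 u = 1 := z2ne fun h0 => by
    rw [k w0 w1 h0] at w2; exact zero_ne_one w2
  refine veq.1 (z _ (perp h h1 fun w hw => ?_) (add_mem (nn_mem hc' _) hu))
  rw [pr]
  rcases z2 (pol q w u) with h0 | h0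
  · rw [k w hw h0, h0, add_zero]
  · have := k _ (add_mem hw w1) (by rw [pl, h0, w3, z11])
    rw [pl, w2] at this
    rwa [h0]

theorem opp1 (h : CO H S) (h1 : c ∈ S) (h2 : c' ∈ S) (hF : Fix c ⊓ Fix c' = ⊥) {u : V}
    (hu : u ∈ Fix c') : c.1 (c'.1 u) + c'.1 (c.1 u) = u := by
  have e := lemO2 h h1 h2 hF hu
  rw [show c'.1 u = u from hu, ap_eq c u, g_add, show c'.1 u = u from hu, add_add_add_comm, vv,
    add_zero, add_comm]
  exact e

end XO2
end H27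

namespace H6
namespace XS

open Subgroup H24 H15 H15.XP Module
open scoped commutatorElement

variable {V : Type*} [AddCommGroup V] [Module (ZMod 2) V] [Finite V] {q : QuadraticForm (ZMod 2) V}
variable {H : Subgroup (ofQuad q).Isom} {S : Set (ofQuad q).Isom} {c c' : (ofQuad q).Isom}

theorem CO.comm (h : CO H S) (h1 : c ∈ S) (h2 : c' ∈ S) (hF : Fix c ⊓ Fix c' ≠ ⊥) :
    c * c' = c' * c := H27.XO2.comm h h1 h2 hF

theorem CO.opp (h : CO H S) (h1 : c ∈ S) (h2 : c' ∈ S) (hF : Fix c ⊓ Fix c' = ⊥) (v : V) :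
    c.1 (c'.1 v) + c'.1 (c.1 v) = v := by
  have e : Fix c ⊔ Fix c' = ⊤ := H28.XL.eq_of_fr le_top (by
    have := H28.XL.fr_si (Fix c) (Fix c')
    rw [hF, finrank_bot, h.dimF c h1, h.dimF c' h2] at this
    rw [finrank_top, h.dim]; omega)
  refine H27.XO2.ind_sup2 (P := fun v => c.1 (c'.1 v) + c'.1 (c.1 v) = v) (fun x y hx hy => ?_)
    (fun x hx => ?_) (fun x hx => H27.XO2.opp1 h h1 h2 hF hx) v (e ▸ Submodule.mem_top)
  · simp only [H28.XL.g_add]
    rw [add_add_add_comm, hx, hy]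
  · rw [add_comm]; exact H27.XO2.opp1 h h2 h1 (by rwa [inf_comm]) hx

theorem CO.exists_opp (h : CO H S) : ∃ c ∈ S, ∃ c' ∈ S, Fix c ⊓ Fix c' = ⊥ := by
  by_contra hc
  push Not at hc
  have cm : ∀ a ∈ S, ∀ b ∈ S, a * b = b * a := fun a ha b hb => h.comm ha hb (hc a ha b hb)
  have c1 : ∀ a ∈ S, ∀ b ∈ closure S, a * b = b * a := fun a ha b hb =>
    ((closure_le (C{a})).2 (fun x hx => mem_centralizer_singleton_iff.2 (cm x hx a ha)) hb) a rfl
  have c2 : ∀ a ∈ closure S, ∀ b ∈ closure S, a * b = b * a := fun a ha b hb =>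
    ((closure_le (C{a})).2
      (fun x hx => mem_centralizer_singleton_iff.2 (c1 x hx a ha)) hb) a rfl
  have sq : ∀ a ∈ closure S, a * a = 1 := fun a ha => by
    induction ha using closure_induction with
    | mem x hx => exact (h.uw x hx).sq
    | one => exact one_mul _
    | mul x y hx hy e1 e2 =>
      rw [mul_assoc, ← mul_assoc y, ← c2 x hx y hy, mul_assoc, e2, mul_one, e1]
    | inv x _ e1 => rw [← mul_inv_rev, e1, inv_one]
  have cj : ∀ g ∈ H, ∀ a ∈ closure S, g * a * g⁻¹ ∈ closure S := fun g hg a ha => by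
    induction ha using closure_induction with
    | mem x hx => exact subset_closure (h.conj g hg x hx)
    | one => simp
    | mul x y _ _ e1 e2 => convert mul_mem e1 e2 using 1; group
    | inv x _ e1 => convert inv_mem e1 using 1; group
  have := h.o2 (closure S) ((closure_le _).2 h.le) (fun g hg => mem_normalizer_iff.2 fun a =>
    ⟨cj g hg a, fun ha => by simpa [mul_assoc] using cj g⁻¹ (inv_mem hg) _ ha⟩)
    fun a => ⟨1, Subtype.ext (by simpa [pow_two] using sq a.1 a.2)⟩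
  obtain ⟨c, hc⟩ := h.nonempty
  have e : c = 1 := by
    have h1 := subset_closure hc
    rwa [this] at h1
  have d := h.dimF c hc
  have e2 : Fix c = ⊤ := eq_top_iff.2 fun v _ => by rw [e]; rfl
  rw [e2, finrank_top, h.dim] at d
  omega

end XS
end H6
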