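import Mathlib
import Cfsg.Agent.H6.XO2
import Cfsg.Agent.H15.Transv
import Cfsg.Agent.H8.XO3a

/-! Conway type: the symplectic group -/

set_option autoImplicit false
set_option linter.unusedSectionVars false

namespace H6
namespace XS

open Subgroup H24 H15 H15.XP Module H28.XL
open scoped commutatorElement

attribute [-simp] ofQuad_B

variable {V : Type*} [AddCommGroup V] [Module (ZMod 2) V] [Finite V] {q : QuadraticForm (ZMod 2) V}
variable {H : Subgroup (ofQuad q).Isom} {S : Set (ofQuad q).Isom} {c d y : (ofQuad q).Isom}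

/-- an isometry as an endomorphism -/
def o3e : (ofQuad q).Isom →* End (ZMod 2) V :=
  LinearEquiv.automorphismGroup.toLinearMapMonoidHom.comp (ofQuad q).Isom.subtype

/-- `g + 1` -/
def o3n (g : (ofQuad q).Isom) : End (ZMod 2) V := o3e g + 1

/-- the span of `1` and `S` -/
def o3N (S : Set (ofQuad q).Isom) : Submodule (ZMod 2) (End (ZMod 2) V) :=
  Submodule.span (ZMod 2) (insert 1 (o3e '' S))

theorem o3_z2 : ∀ a w : ZMod 2, a ≠ w → a = w + 1 := by decide
theorem o3e_app (g : (ofQuad q).Isom) (v : V) : o3e g v = g.1 v := rfl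
theorem o3n_app (g : (ofQuad q).Isom) (v : V) : o3n g v = g.1 v + v := rfl
theorem o3e_inj : Function.Injective (o3e (q := q)) := fun _ _ h => Form.Isom.ext (LinearMap.ext_iff.1 h)
theorem o3e_eq (g : (ofQuad q).Isom) : o3e g = o3n g + 1 := (vv2 _ _).symm
theorem o3_one : (1 : End (ZMod 2) V) ∈ o3N S := Submodule.subset_span (Set.mem_insert _ _)
theorem o3e_mem (h : c ∈ S) : o3e c ∈ o3N S := Submodule.subset_span (Set.mem_insert_of_mem _ ⟨c, h, rfl⟩)
theorem o3n_mem (h : c ∈ S) : o3n c ∈ o3N S := add_mem (o3e_mem h) o3_one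

theorem UW.o3_zero {W : Submodule (ZMod 2) V} (h : UW W c) (h' : UW W d) : o3n c * o3n d = 0 :=
  LinearMap.ext fun v => veq.2 (h.1 _ (h'.2 v))

theorem UW.o3_mul {W : Submodule (ZMod 2) V} (h : UW W c) (h' : UW W d) : o3n (c * d) = o3n c + o3n d :=
  LinearMap.ext (h.mul_apply h')

theorem o3_conj {g : (ofQuad q).Isom} (hg : ∀ c ∈ S, g * c * g⁻¹ ∈ S) {x : End (ZMod 2) V}
    (hx : x ∈ o3N S) : o3e g * x * o3e g⁻¹ ∈ o3N S := by
  induction hx using Submodule.span_induction with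
  | mem x hx =>
    obtain rfl | ⟨c, hc, rfl⟩ := hx
    · rw [mul_one, ← map_mul, mul_inv_cancel, map_one]; exact o3_one
    · rw [← map_mul, ← map_mul]; exact o3e_mem (hg c hc)
  | zero => simp
  | add x y _ _ h1 h2 => rw [mul_add, add_mul]; exact add_mem h1 h2
  | smul a x _ h => rw [mul_smul_comm, smul_mul_assoc]; exact Submodule.smul_mem _ _ h

namespace CO

variable (h : CO H S)
include h

theorem o3_nt : (1 : End (ZMod 2) V) ≠ 0 := by
  have : Nontrivial V := Module.nontrivial_of_finrank_pos (R := ZMod 2) (by rw [h.dim]; norm_num)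
  exact one_ne_zero

theorem o3_opp (h1 : c ∈ S) (h2 : d ∈ S) (hF : Fix c ⊓ Fix d = ⊥) :
    o3n c * o3n d + o3n d * o3n c = 1 := by
  have : o3e c * o3e d + o3e d * o3e c = 1 := LinearMap.ext (h.opp h1 h2 hF)
  unfold o3n
  linear_combination (norm := noncomm_ring) this + vv (o3e c + o3e d + 1)

theorem o3_sc {x z : End (ZMod 2) V} (hx : x ∈ o3N S) (hz : z ∈ o3N S) :
    x * z + z * x ∈ Submodule.span (ZMod 2) {(1 : End (ZMod 2) V)} := by
  induction hx, hz using Submodule.span_induction₂ with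
  | mem_mem x z hx hz =>
    obtain rfl | ⟨c, hc, rfl⟩ := hx
    · simp [vv]
    obtain rfl | ⟨d, hd, rfl⟩ := hz
    · simp [vv]
    by_cases e : Fix c ⊓ Fix d = ⊥
    · exact mem_sp.2 (Or.inr (LinearMap.ext (h.opp hc hd e)))
    · rw [← map_mul, ← map_mul, h.comm hc hd e, vv]; exact zero_mem _
  | zero_left => simp
  | zero_right => simp
  | add_left x y z _ _ _ h1 h2 => convert add_mem h1 h2 using 1; noncomm_ring
  | add_right x y z _ _ _ h1 h2 => convert add_mem h1 h2 using 1; noncomm_ring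
  | smul_left a x z _ _ h => simpa using Submodule.smul_mem _ a h
  | smul_right a x z _ _ h => simpa using Submodule.smul_mem _ a h

theorem o3_smul {a b : ZMod 2} (e : a • (1 : End (ZMod 2) V) = b • 1) : a = b :=
  smul_left_injective _ h.o3_nt e

theorem o3_form : ∃ ω : LinearMap.BilinForm (ZMod 2) (o3N S),
    ∀ x z : o3N S, x.1 * z.1 + z.1 * x.1 = ω x z • (1 : End (ZMod 2) V) := by
  choose f hf using fun x z : o3N S => Submodule.mem_span_singleton.1 (h.o3_sc x.2 z.2)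
  refine ⟨LinearMap.mk₂ _ f (fun x y z => h.o3_smul ?_) (fun a x z => h.o3_smul ?_)
    (fun x y z => h.o3_smul ?_) (fun a x z => h.o3_smul ?_), fun x z => (hf x z).symm⟩
  · simp only [add_smul, hf, Submodule.coe_add]; noncomm_ring
  · simp [mul_smul, hf]
  · simp only [add_smul, hf, Submodule.coe_add]; noncomm_ring
  · simp [mul_smul, hf]

variable (h1 : c ∈ S) (h2 : d ∈ S) (hF : Fix c ⊓ Fix d = ⊥)
include h1 h2 hF

theorem o3_eich {e f : V} (he : e ∈ Fix c) (hf : f ∈ Fix c) (J : pol q (o3n d e) f = 0) :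
    ∃ y ∈ H, UW (Fix c) y ∧ o3n y * o3n d + o3n d * o3n y ∈ o3N S ∧
      ∀ v, o3n y v = pol q f v • e + pol q e v • f := by
  obtain ⟨y, hy, hv⟩ := uw_eich (h.ts c h1) he hf
  change ∀ v, o3n y v = _ at hv
  have sy : ∀ u v, pol q u (o3n d v) = pol q (o3n d u) v := fun u v => ((h.uw d h2).symm u v).symm
  have al : ∀ u, pol q (o3n d u) u = 0 := (h.uw d h2).alt (h.ts d h2)
  have J' : pol q (o3n d f) e = 0 := by rw [pol_comm, sy, J]
  have k : ∀ u ∈ Fix c, o3n c (o3n d u) = u := fun u hu => by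
    have := LinearMap.ext_iff.1 (h.o3_opp h1 h2 hF) u
    simpa [show o3n c u = 0 from veq.2 hu] using this
  have hH : y ∈ H := h.memB c h1 y hy (iff_of_false (fun hn => ?_) (not_not.2 fun v hv' => ?_))
  · refine ⟨y, hH, hy, ?_, hv⟩
    have e0 : o3n y * o3n d * o3n y = 0 := LinearMap.ext fun v => by simp [hv, sy, al, J, J']
    have := add_mem (o3e_mem (h.conj y hH d h2)) (o3e_mem h2)
    rw [inv_eq_of_mul_eq_one_right hy.sq, map_mul, map_mul, o3e_eq, o3e_eq d] at this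
    convert this using 1
    linear_combination (norm := noncomm_ring) -e0 - hy.o3_zero hy - vv (o3n y + o3n d + 1)
  · obtain ⟨s, -, s1, s2⟩ := exists_perp (q := q) ⊤ (Fix c) [e, f] (by simp [h.dim, h.dimF c h1])
    exact s1 (hn s (veq.1 ((hv s).trans (by simp [s2]))))
  · have e1 : o3n y v + o3n c v = 0 := by rw [← LinearMap.add_apply, ← hy.o3_mul (h.uw c h1)]; exact veq.2 hv'
    have e2 : v + (pol q f v • o3n d e + pol q e v • o3n d f) ∈ Fix c := veq.1 <| by
      change o3n c _ = 0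
      rw [map_add, map_add, map_smul, map_smul, k e he, k f hf, ← hv, add_comm, e1]
    have e3 := ts_pol (h.ts c h1) he e2
    have e4 := ts_pol (h.ts c h1) hf e2
    simp only [pr, psr, sy, al, J, J', mul_zero, add_zero] at e3 e4
    simpa [e3, e4] using e2

theorem o3_comm {X : End (ZMod 2) V} (x1 : X * o3n c = o3n c * X) (x2 : X * o3n d = o3n d * X)
    (x3 : ∀ y ∈ H, UW (Fix c) y → o3n y * o3n d + o3n d * o3n y ∈ o3N S →
      Commute X (o3n y * o3n d + o3n d * o3n y)) : X = 0 ∨ X = 1 := by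
  have ho := h.o3_opp h1 h2 hF
  have sy : ∀ u v, pol q u (o3n d v) = pol q (o3n d u) v := fun u v => ((h.uw d h2).symm u v).symm
  have al : ∀ u, pol q (o3n d u) u = 0 := (h.uw d h2).alt (h.ts d h2)
  have dd : ∀ u v, pol q (o3n d u) (o3n d v) = 0 := fun u v =>
    ts_pol (h.ts d h2) ((h.uw d h2).2 u) ((h.uw d h2).2 v)
  have inj : ∀ u ∈ Fix c, o3n d u = 0 → u = 0 := fun u hu e =>
    (Submodule.eq_bot_iff _).1 hF u ⟨hu, veq.1 e⟩
  have pj : ∀ u x, pol q (o3n d u) (o3n c (o3n d x)) = pol q (o3n d u) x := fun u x => by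
    simpa [dd] using congrArg (fun T : End (ZMod 2) V => pol q (o3n d u) (T x)) ho
  have XW : ∀ u ∈ Fix c, X u ∈ Fix c := fun u hu => veq.1 <| by
    have := LinearMap.ext_iff.1 x1 u
    change o3n c (X u) = 0
    simpa [show o3n c u = 0 from veq.2 hu] using this.symm
  have key : ∀ e ∈ Fix c, X e = 0 ∨ X e = e := fun e he => by
    by_cases e0 : e = 0
    · simp [e0]
    obtain ⟨f, hf, f0, fe, f1⟩ := exists_perp1 (q := q) (Fix c) e [o3n d e] (by simp [h.dimF c h1])
    obtain ⟨g, g1, g2⟩ := sep1 h.nondeg (mt (inj f hf) f0) (v := o3n d e) fun e' => fe (veq.1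
      (inj _ (add_mem hf he) (by rw [map_add, e', vv])))
    obtain ⟨x, hx⟩ := sep0 h.nondeg (mt (inj e he) e0)
    rw [← pj] at g1 g2 hx
    have hg : o3n c (o3n d g) ∈ Fix c := (h.uw c h1).2 _
    have hx' : o3n c (o3n d x) ∈ Fix c := (h.uw c h1).2 _
    generalize o3n c (o3n d g) = g at *
    generalize o3n c (o3n d x) = x at *
    obtain ⟨y, hy, uy, ny, vy⟩ := h.o3_eich h1 h2 hF he hf (f1 _ (by simp))
    obtain ⟨z, hz, uz, nz, vz⟩ := h.o3_eich h1 h2 hF he hg g1
    have e1 : ∀ u ∈ Fix c, ((o3n y * o3n d + o3n d * o3n y) * (o3n z * o3n d + o3n d * o3n z)) u =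
        pol q (o3n d e) u • e := fun u hu => by
      have t : ∀ a ∈ Fix c, ∀ b ∈ Fix c, pol q a b = 0 := fun a ha b hb => ts_pol (h.ts c h1) ha hb
      simp [vy, vz, sy, al, g1, g2, pc (sy e f ▸ f1 _ (by simp) : pol q e (o3n d f) = 0), t, he, hf, hg, hu]
    have := LinearMap.ext_iff.1 ((x3 y hy uy ny).mul_right (x3 z hz uz nz)).eq x
    rw [End.mul_apply X, End.mul_apply _ X, e1 x hx', e1 _ (XW x hx'), hx, one_smul] at this
    rcases z2 (pol q (o3n d e) (X x)) with e2 | e2 <;> simp [this, e2]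
  have fin : ∀ Y : End (ZMod 2) V, Y * o3n d = o3n d * Y → (∀ e ∈ Fix c, Y e = 0) → Y = 0 := fun Y y2 y0 => by
    have : Y * o3n c = 0 := LinearMap.ext fun v => y0 _ ((h.uw c h1).2 v)
    linear_combination (norm := noncomm_ring) -Y * ho + this * o3n d + o3n d * this + y2 * o3n c
  by_cases h0 : ∀ e ∈ Fix c, X e = 0
  · exact Or.inl (fin X x2 h0)
  push Not at h0
  obtain ⟨e, he, h0⟩ := h0
  have h3 := (key e he).resolve_left h0
  refine Or.inr (veq.1 (fin _ (by rw [add_mul, mul_add, x2]; simp) fun u hu => veq.2 ?_))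
  rcases key u hu with h4 | h4
  · rcases key _ (add_mem hu he) with h5 | h5 <;> rw [map_add, h4, h3, zero_add] at h5
    · exact (h0 (h3.trans h5)).elim
    · exact h4.trans (add_eq_right.1 h5.symm).symm
  · exact h4

theorem o3_cj (hy : UW (Fix c) y) : o3e (y * d * y⁻¹) =
    o3n d + 1 + (o3n y * o3n d + o3n d * o3n y) + o3n y * o3n d * o3n y := by
  rw [inv_eq_of_mul_eq_one_right hy.sq, map_mul, map_mul, o3e_eq, o3e_eq d]
  linear_combination (norm := noncomm_ring) hy.o3_zero hy + vv (o3n y)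

theorem o3_inj {y' : (ofQuad q).Isom} (hy : UW (Fix c) y) (hy' : UW (Fix c) y')
    (e : y * d * y⁻¹ = y' * d * y'⁻¹) : y = y' := by
  have hu := hy'.mul hy
  have e1 : y' * y * d = d * (y' * y) := by
    rw [inv_eq_of_mul_eq_one_right hy.sq, inv_eq_of_mul_eq_one_right hy'.sq] at e
    calc _ = y' * (y * d * y) * y := by simp only [mul_assoc, hy.sq, mul_one]
      _ = (y' * y') * d * (y' * y) := by rw [e]; simp only [mul_assoc]
      _ = _ := by rw [hy'.sq, one_mul]
  have e2 := congrArg o3e e1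
  rw [map_mul _ _ d, map_mul _ d, o3e_eq, o3e_eq d] at e2
  have e3 : o3n (y' * y) = 0 := by
    have := (h.uw c h1).o3_zero hu
    linear_combination (norm := noncomm_ring) -h.o3_opp h1 h2 hF * o3n (y' * y) - o3n c * e2 +
      this * o3n d + o3n d * this
  rw [← one_mul y, ← hy'.sq, mul_assoc, o3e_inj ((veq.1 e3).trans (map_one _).symm), mul_one]

theorem o3_cover {x : End (ZMod 2) V} (hx : x ∈ o3N S) (e : o3n c * x + x * o3n c = 1) {a b : ZMod 2}
    (hH : y ∈ H) (hy : UW (Fix c) y) (ex : x = a • o3n c + b • o3n d + (o3n y * o3n d + o3n d * o3n y)) :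
    ∃ y ∈ H, UW (Fix c) y ∧ (x = o3e (y * d * y⁻¹) ∨ x + 1 = o3e (y * d * y⁻¹)) := by
  have ho := h.o3_opp h1 h2 hF
  have uc := h.uw c h1
  have cc := uc.o3_zero uc
  have cy := uc.o3_zero hy
  have yc := hy.o3_zero uc
  obtain rfl : b = 1 := z2ne fun hb => h.o3_nt <| by
    rw [← e, ex, hb, zero_smul, add_zero, mul_add, add_mul, mul_smul_comm, smul_mul_assoc, cc, smul_zero]
    linear_combination (norm := noncomm_ring) cy * o3n d + o3n d * yc + ho * o3n y - o3n d * cy +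
      o3n y * ho - yc * o3n d + vv (o3n y)
  have ad : o3n y * o3n d + o3n d * o3n y ∈ o3N S := mem_r (ex ▸ hx)
    (add_mem (Submodule.smul_mem _ _ (o3n_mem h1)) (Submodule.smul_mem _ _ (o3n_mem h2)))
  have ej := h.o3_cj h1 h2 hF hy
  obtain ⟨w, hw⟩ := Submodule.mem_span_singleton.1 (h.o3_sc (mem_r (ej ▸ o3e_mem (h.conj y hH d h2))
    (add_mem (add_mem (o3n_mem h2) o3_one) ad)) (o3n_mem h2))
  have ek : o3n y * o3n d * o3n y = w • o3n c := by
    have : o3n c * (w • 1) = w • o3n c := by simp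
    linear_combination (norm := noncomm_ring) this - o3n c * hw - ho * (o3n y * o3n d * o3n y) -
      cy * o3n d * o3n y * o3n d + o3n d * cy * o3n d * o3n y
  by_cases haw : a = w
  · refine ⟨y, hH, hy, Or.inr ?_⟩
    rw [ej, ek, ex, haw, one_smul]; abel
  · refine ⟨y * c, mul_mem hH (h.le c h1), hy.mul uc, Or.inl ?_⟩
    obtain rfl : a = w + 1 := o3_z2 _ _ haw
    rw [h.o3_cj h1 h2 hF (hy.mul uc), hy.o3_mul uc, ex, one_smul, add_smul, one_smul]
    linear_combination (norm := noncomm_ring) -ek - ho - o3n y * ho - ho * o3n y - o3n c * ho +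
      yc * o3n d + o3n d * cy + cc * o3n d - vv (o3n y + 1)

end CO

theorem CO.iso (h : CO H S) : Nonempty (H ≃* Matrix.symplecticGroup (Fin 3) (ZMod 2)) := by
  obtain ⟨c, h1, d, h2, hF⟩ := h.exists_opp
  obtain ⟨ω, hω⟩ := h.o3_form
  have : Finite (End (ZMod 2) V) := Finite.of_injective _ DFunLike.coe_injective
  have uc := h.uw c h1
  have ho := h.o3_opp h1 h2 hF
  have w0 : ∀ x z, ω x z = 0 ↔ x.1 * z.1 = z.1 * x.1 := fun x z =>
    ⟨fun e => veq.1 (by rw [hω, e, zero_smul]), fun e => h.o3_smul (by rw [← hω, e, vv, zero_smul])⟩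
  have hA : ω.IsAlt := fun x => (w0 x x).2 rfl
  set r : o3N S := ⟨1, o3_one⟩
  have hr : ∀ x, ω r x = 0 := fun x => (w0 r x).2 (by simp [r])
  let Z : Submodule (ZMod 2) (o3N S) := mkSub {x | ∃ a b : ZMod 2, ∃ y ∈ H, UW (Fix c) y ∧
      x.1 = a • o3n c + b • o3n d + (o3n y * o3n d + o3n d * o3n y)}
    ⟨0, 0, 1, one_mem _, UW.one, by simp [o3n, vv]⟩ (by
      rintro x ⟨a, b, y, hy, uy, e⟩ x' ⟨a', b', y', hy', uy', e'⟩
      refine ⟨a + a', b + b', _, mul_mem hy hy', uy.mul uy', ?_⟩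
      rw [Submodule.coe_add, e, e', uy.o3_mul uy', add_smul, add_smul]; noncomm_ring)
  have sc : ∀ X : End (ZMod 2) V, (∀ z ∈ Z, z.1 * X = X * z.1) → X = 0 ∨ X = 1 := fun X hX =>
    h.o3_comm h1 h2 hF (hX ⟨_, o3n_mem h1⟩ ⟨1, 0, 1, one_mem _, UW.one, by simp [o3n, vv]⟩).symm
      (hX ⟨_, o3n_mem h2⟩ ⟨0, 1, 1, one_mem _, UW.one, by simp [o3n, vv]⟩).symm
      fun y hy uy hN => (hX ⟨_, hN⟩ ⟨0, 0, y, hy, uy, by simp⟩).symm
  have rad : ∀ x, (∀ z ∈ Z, ω z x = 0) → x = 0 ∨ x = r := fun x hx =>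
    (sc x.1 fun z hz => (w0 z x).1 (hx z hz)).imp Subtype.ext Subtype.ext
  have hZ := H8.XO.eq_top hA hr (Z := Z) ⟨0, 0, c, h.le c h1, uc, by simp [ho, r]⟩ rad
  set c' : o3N S := ⟨_, o3e_mem h1⟩
  set d' : o3N S := ⟨_, o3e_mem h2⟩
  have wc : ∀ x, ω c' x = 1 ↔ o3n c * x.1 + x.1 * o3n c = 1 := fun x => by
    have : o3n c * x.1 + x.1 * o3n c = ω c' x • 1 := by
      rw [← hω]; unfold o3n; linear_combination (norm := noncomm_ring) vv x.1
    rw [this]; exact ⟨fun e => by rw [e, one_smul], fun e => h.o3_smul (by rw [e, one_smul])⟩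
  have cov : ∀ x, ω c' x = 1 → ∃ y ∈ H, UW (Fix c) y ∧
      (x.1 = o3e (y * d * y⁻¹) ∨ x.1 + 1 = o3e (y * d * y⁻¹)) := fun x hx => by
    obtain ⟨a, b, y, hy, uy, e⟩ : x ∈ Z := hZ ▸ Submodule.mem_top
    exact h.o3_cover h1 h2 hF x.2 ((wc x).1 hx) hy uy e
  have iv : ∀ g : (ofQuad q).Isom, o3e g⁻¹ * o3e g = 1 := fun g => by
    rw [← map_mul, inv_mul_cancel, map_one]
  let ρ : H →* (o3N S ≃ₗ[ZMod 2] o3N S) := MonoidHom.mk' (fun g =>
    { toFun x := ⟨_, o3_conj (h.conj g g.2) x.2⟩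
      map_add' x y := Subtype.ext (by simp [mul_add, add_mul])
      map_smul' a x := Subtype.ext (by simp)
      invFun x := ⟨_, o3_conj (h.conj _ (inv_mem g.2)) x.2⟩
      left_inv x := Subtype.ext (by simp only [← mul_assoc, iv, one_mul, inv_inv]; rw [mul_assoc, iv, mul_one])
      right_inv x := Subtype.ext (by
        have := iv g.1⁻¹
        simp only [inv_inv] at this
        simp only [← mul_assoc, this, one_mul, inv_inv]; rw [mul_assoc, this, mul_one]) })
    fun g k => LinearEquiv.ext fun x => Subtype.ext (by simp [mul_assoc])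
  have hρ : ∀ g x, (ρ g x).1 = o3e g.1 * x.1 * o3e g.1⁻¹ := fun _ _ => rfl
  have ρr : ∀ g, ρ g r = r := fun g => Subtype.ext (by
    rw [hρ, mul_one, ← map_mul, mul_inv_cancel, map_one])
  have ρω : ∀ g x y, ω (ρ g x) (ρ g y) = ω x y := fun g x y => h.o3_smul <| by
    have := congrArg Subtype.val (map_smul (ρ g) (ω x y) r)
    rw [ρr, hρ, Submodule.coe_smul, ← hω] at this
    rw [← hω, ← hω, ← this, hρ, hρ]
    linear_combination (norm := noncomm_ring) o3e g.1 * x.1 * iv g.1 * y.1 * o3e g.1⁻¹ +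
      o3e g.1 * y.1 * iv g.1 * x.1 * o3e g.1⁻¹
  have ne : ∀ s ∈ S, ∀ s' ∈ S, o3e s ≠ o3e s' + 1 := fun s hs s' hs' e => h.o3_nt <| by
    rw [← map_one (o3e (q := q)), ← (h.uw s hs).sq, map_mul, e]; exact (h.uw s' hs').o3_zero (h.uw s' hs')
  have cd : ω c' d' = 1 := (wc d').2 (by
    change _ * o3e d + o3e d * _ = _
    rw [o3e_eq]; linear_combination (norm := noncomm_ring) ho + vv (o3n c))
  have cdy : ∀ y : H, UW (Fix c) y.1 → ω c' (ρ y d') = 1 := fun y uy => by
    rw [← cd, ← ρω y c' d']; congr 2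
    exact Subtype.ext (by rw [hρ, ← map_mul, ← map_mul, uy.comm uc, mul_inv_cancel_right])
  have card : Nat.card (o3N S) = Nat.card {y : H // UW (Fix c) y.1} * 4 := by
    rw [← Nat.card_congr (Equiv.ofBijective (fun p : {y : H // UW (Fix c) y.1} × ZMod 2 × ZMod 2 =>
      ρ p.1 d' + p.2.1 • r + p.2.2 • d') ⟨?_, fun x => ?_⟩)]
    · simp
    · rintro ⟨⟨y, uy⟩, a, b⟩ ⟨⟨y', uy'⟩, a', b'⟩ e
      have := congrArg (ω c') e
      simp only [map_add, map_smul, cdy y uy, cdy y' uy', hA.isRefl _ _ (hr c'), cd, smul_eq_mul,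
        mul_zero, mul_one, add_zero, add_right_inj] at this
      subst this
      have e1 := congrArg Subtype.val (add_right_cancel e)
      simp only [Submodule.coe_add, hρ, d', ← map_mul, Submodule.coe_smul, r] at e1
      obtain rfl : a = a' := by
        by_contra haa
        obtain rfl : a' = a + 1 := o3_z2 _ _ (Ne.symm haa)
        rw [add_smul, one_smul, add_comm _ (1 : End (ZMod 2) V), ← add_assoc] at e1
        exact ne _ (h.conj _ y.2 d h2) _ (h.conj _ y'.2 d h2) (add_right_cancel e1)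
      obtain rfl : y = y' := Subtype.ext (h.o3_inj h1 h2 hF uy uy' (o3e_inj (add_right_cancel e1)))
      rfl
    · obtain ⟨b, hb⟩ : ∃ b : ZMod 2, ω c' (x + b • d') = 1 := ⟨ω c' x + 1, by simp [cd, ← add_assoc, z2add]⟩
      obtain ⟨y, hy, uy, e | e⟩ := cov _ hb
      · refine ⟨(⟨⟨y, hy⟩, uy⟩, 0, b), (veq'.1 (Subtype.ext ?_)).symm⟩
        rw [e]; simp [hρ, d']
      · refine ⟨(⟨⟨y, hy⟩, uy⟩, 1, b), (veq'.1 (Subtype.ext ?_)).symm⟩
        rw [veq'.1 e]; simp [hρ, d', r]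
  have l1 : 32 ≤ Nat.card {y : H // UW (Fix c) y.1} := by
    rw [← ncard_perp h.nondeg h.dim (h.ts c h1) (h.dimF c h1) uc fun _ hx => hx, ← Nat.card_coe_set_eq]
    exact Nat.card_le_card_of_injective (fun y => ⟨⟨y.1, h.memB c h1 _ y.2.1 y.2.2⟩, y.2.1⟩)
      fun y y' e => Subtype.ext (congrArg (·.1.1) e)
  have l2 : Nat.card {y : H // UW (Fix c) y.1} ≤ 64 := by
    obtain ⟨f, -, hb⟩ := exists_J6 h.nondeg h.dim (h.ts c h1) (h.dimF c h1)
    simpa using Nat.card_le_card_of_injective (fun y : {y : H // UW (Fix c) y.1} => J6 f y.1.1)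
      fun y y' e => Subtype.ext (Subtype.ext (hb.injOn y.2 y'.2 e))
  refine H8.XO.recog hA hr (fun e => h.o3_nt (congrArg Subtype.val e))
    (fun x hx => rad x fun z _ => hA.isRefl _ _ (hx z)) ρ ρω ρr (fun g hg => ?_)
    (S := {x | x.1 ∈ o3e '' S}) ?_ ?_ (c := c') ⟨c, h1, rfl⟩ ⟨d', cd⟩ (fun x hx => ?_) (by omega) (by omega)
  · have k : ∀ x ∈ o3N S, x * o3e g.1 = o3e g.1 * x := fun x hx => by
      induction hx using Submodule.span_induction with
      | mem x hx =>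
        obtain rfl | ⟨s, hs, rfl⟩ := hx
        · simp
        rcases hg ⟨_, o3e_mem hs⟩ with e | e <;> have e := congrArg Subtype.val e <;>
          rw [hρ, ← map_mul, ← map_mul] at e
        · rw [← map_mul, ← map_mul, ← mul_inv_eq_iff_eq_mul.1 (o3e_inj e)]
        · exact (ne _ (h.conj _ g.2 s hs) _ hs e).elim
      | zero => simp
      | add x y _ _ h1 h2 => rw [mul_add, add_mul, h1, h2]
      | smul a x _ h => simp [h]
    rcases sc _ fun z _ => k z.1 z.2 with e | e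
    · exact (h.o3_nt (by rw [← iv g.1, e, mul_zero])).elim
    · exact Subtype.ext (o3e_inj (e.trans (map_one _).symm))
  · rintro ⟨_, hx⟩ ⟨s, hs, rfl⟩
    refine ⟨⟨s, h.le s hs⟩, fun x => Subtype.ext ?_⟩
    have e := congrArg (· * o3e s) (hω ⟨_, hx⟩ x)
    simp only [smul_mul_assoc, one_mul] at e
    have ss : o3e s * o3e s = 1 := by rw [← map_mul, (h.uw s hs).sq, map_one]
    rw [hρ, inv_eq_of_mul_eq_one_right (h.uw s hs).sq, Submodule.coe_add, Submodule.coe_smul, ← e]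
    linear_combination (norm := noncomm_ring) -x.1 * ss - vv x.1
  · rintro g ⟨_, hx⟩ ⟨s, hs, rfl⟩
    exact ⟨_, h.conj _ g.2 s hs, by simp [hρ]⟩
  · obtain ⟨y, hy, -, e | e⟩ := cov x hx
    exacts [Or.inl ⟨_, h.conj y hy d h2, e.symm⟩, Or.inr ⟨_, h.conj y hy d h2, e.symm⟩]

end XS
end H6
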