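import Mathlib
import Cfsg.Agent.H6.XE1
import Cfsg.Agent.H6.XA
import Cfsg.Agent.H6.XL1
import Cfsg.Agent.H6.XL2
import Cfsg.Agent.H6.XL4
import Cfsg.Agent.H6.XO1
import Cfsg.Agent.H6.XO3
import Cfsg.Agent.H13.PConstrained
import Cfsg.Agent.H1.QTMat
import Cfsg.Agent.S0249

/-! Large extraspecial subgroups: the weakly closed case -/

set_option autoImplicit false
set_option linter.unusedSectionVars false

namespace H6
namespace XS

open Subgroup H24 H15 H15.XP Module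
open scoped commutatorElement

universe u

variable {G : Type u} [Group G] [Finite G] {D : Set G} {Q : G → Subgroup G} {w : ℕ} {z b : G}

theorem Sit.l43' (h : Sit D Q 2) (wc : WC D Q) (hO : NoOdd G) (ht : closure D = ⊤) (k : Col D z b)
    (t : TL Q z b) : Nonempty (G ≃* Matrix.ProjectiveSpecialLinearGroup (Fin 4) (ZMod 3)) := by
  have hG : ∀ K : Subgroup G, K.index ≠ 2 := fun K hK => by
    have := normal_of_index_eq_two hK
    obtain ⟨x, -, e, -⟩ := t.exa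
    have : closure D ≤ K := (closure_le _).2 fun d hd => by
      obtain ⟨g, rfl⟩ := h.trans z k.l d hd
      exact this.conj_mem z (e ▸ mul_self_mem_of_index_two hK x) g
    rw [ht, top_le_iff] at this
    simp [this] at hK
  obtain ⟨b0, b1, b2, b3, s⟩ := h.sys hG wc k t
  obtain ⟨R, l⟩ := h.lf wc s
  obtain ⟨d, e, r, c⟩ := l.rel7 s (h.wd wc s)
  have : Nontrivial G := ⟨⟨z, 1, h.ne_one k.l⟩⟩
  refine r.iso (top_le_iff.1 (ht ▸ (closure_le _).2 fun x hx => ?_))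
  generalize hL : closure {z, b0, b1, b2, b3, d, e} = L at c
  have zL : z ∈ L := hL ▸ subset_closure (by simp)
  suffices ∃ g ∈ L, g * z * g⁻¹ = x by
    obtain ⟨g, g1, rfl⟩ := this
    exact mul_mem (mul_mem g1 zL) (inv_mem g1)
  have := h.conn hO (s.n0.col k.l) s.n0.not l.link k.l hx
  clear hx
  induction this with
  | refl => exact ⟨1, one_mem _, by simp⟩
  | @tail x y _ m ih =>
    obtain ⟨g, g1, rfl⟩ := ih
    obtain ⟨g', g2, g3⟩ := c _ (h.conj y m.r g⁻¹) (by simpa [mul_assoc] using cjcm₃ g⁻¹ m.comm.symm)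
    exact ⟨g * g', mul_mem g1 g2, by
      rw [show g * g' * z * (g * g')⁻¹ = g * (g' * z * g'⁻¹) * g⁻¹ by group, g3]; group⟩

theorem Sit.l43 (h : Sit D Q 2) (wc : WC D Q) (hO : NoOdd G) (k : Col D z b) (t : TL Q z b) :
    closure D = Cfsg.generalizedFittingSubgroup G ∧
      Nonempty (closure D ≃* Matrix.ProjectiveSpecialLinearGroup (Fin 4) (ZMod 3)) := by
  have := h.normal0
  have hQ := h.tl_le wc k t
  have h' := h.restrict k.l hQ
  have wc' : WC ((closure D).subtype ⁻¹' D) (fun d => (Q d).subgroupOf (closure D)) :=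
    fun d hd e he m => Subtype.ext (wc d hd e he m)
  have k' : Col ((closure D).subtype ⁻¹' D) ⟨z, subset_closure k.l⟩ ⟨b, subset_closure k.r⟩ :=
    ⟨k.l, k.r, fun e => k.ne (congrArg Subtype.val e), Subtype.ext k.comm⟩
  obtain ⟨x, hx, -, e⟩ := t.exa
  obtain ⟨φ⟩ := h'.l43' wc' (hO.sub _) (closure_preimage_eq_top D) k'
    (h'.beta wc' k' ⟨⟨x, hQ hx⟩, hx, Subtype.ext e⟩).2
  have := Cfsg.Agent.S0249.result (F := ZMod 3) 4 (by omega)
  have := φ.isSimpleGroup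
  exact ⟨(h.fstar_eq hO k.l hQ).2, ⟨φ⟩⟩

theorem s1760 (H : ∀ {G : Type u} [Group G] [Finite G], Cfsg.oddCore G = ⊥ → center G = ⊥ → ∀ t : G,
      orderOf t = 2 → Cfsg.IsPConstrained 2 C{t} → Cfsg.IsExtraspecial 2 (Cfsg.pCore 2 C{t}) →
      Nat.card (Cfsg.pCore 2 C{t}) = 2 ^ 9 →
      (C{t} ⧸ Cfsg.pCore 2 C{t} ≃* Matrix.symplecticGroup (Fin 3) (ZMod 2)) → Cfsg.Spor.IsoCo2 G)
    (hO : Cfsg.oddCore G = ⊥) (hz : orderOf z = 2)
    (hE : Cfsg.IsExtraspecial 2 (Cfsg.generalizedFittingSubgroup C{z}))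
    (h32 : 32 ≤ Nat.card (Cfsg.generalizedFittingSubgroup C{z})) (h1 : z ∉ center G)
    (h2 : ¬ ∃ g : G, g * z * g⁻¹ ≠ z ∧
      g * z * g⁻¹ ∈ (Cfsg.generalizedFittingSubgroup C{z}).map C{z}.subtype) :
    normalClosure {z} = Cfsg.generalizedFittingSubgroup G ∧
      ((∃ m, 4 ≤ m ∧ Nonempty (Cfsg.generalizedFittingSubgroup G ≃* Cfsg.PSU m H0.F4 2)) ∨
        Cfsg.Spor.IsoCo2 (Cfsg.generalizedFittingSubgroup G) ∨
        Nonempty (Cfsg.generalizedFittingSubgroup G ≃*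
          Matrix.ProjectiveSpecialLinearGroup (Fin 4) (ZMod 3))) := by
  have := Fact.mk Nat.prime_two
  obtain ⟨w, -, hc⟩ := H3.IsExtraspecial.card_eq hE
  have hw : 2 ≤ w := by
    by_contra n
    obtain rfl | rfl : w = 0 ∨ w = 1 := by omega
    all_goals omega
  have h := sit_of hz hE hw hc
  have zD : z ∈ conjugatesOf z := IsConj.refl z
  have nO : NoOdd G := fun N hN k => le_bot_iff.1 (hO ▸ le_sSup ⟨hN, k.coprime_two_right⟩)
  have wc := h.wc_of zD fun ⟨d, a1, a2, a3⟩ => by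
    obtain ⟨g, rfl⟩ := isConj_iff.1 a1
    exact h2 ⟨g, a3, a2⟩
  have nc : normalClosure {z} = closure (conjugatesOf z) := by
    rw [normalClosure, Group.conjugatesOfSet]; simp
  rw [nc]
  obtain ⟨b, hb⟩ := h.exists_col nO zD h1
  rcases h.cases wc zD with u | ⟨rfl, b, k, t⟩ | ⟨rfl, b, k, t⟩
  · obtain ⟨e, n, n4, -, φ⟩ := u.ident nO hb ((by omega : w = 2 ∨ 3 ≤ w).imp_right fun w3 => u.irr w3 hb)
    exact ⟨e, .inl ⟨n, n4, e ▸ φ⟩⟩
  · obtain ⟨V, _, _, _, -, ⟨F⟩⟩ := h.exists_fr zD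
    obtain ⟨S, c⟩ := h.co wc k t F
    obtain ⟨φ⟩ := c.iso
    have e : Cfsg.pCore 2 C{z} = Cfsg.generalizedFittingSubgroup C{z} :=
      le_antisymm (fun g hg => (mem_map_sub _ g).2 (h.o2 z zD _ (map_subtype_le _)
        (nml_map_subtype (Cfsg.pCore 2 C{z})).norm ((H2.pCore_isPGroup 2 _).map _) ⟨g, hg, rfl⟩))
        (le_sSup ⟨inferInstance, IsPGroup.of_card hc⟩)
    have a4 : Cfsg.pCore 2 C{z} = F.ρ.ker := Subgroup.ext fun g => by
      rw [e]; exact (mem_map_sub _ g).trans (F.ker g).symm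
    obtain ⟨ψ⟩ := H hO (by_contra fun n => h1 (h.minN nO zD inferInstance n)) z hz
      (H13.isPConstrained_of_centralizer_le (e ▸ H23.centralizer_fstar_le)) (e ▸ hE) (e ▸ hc)
      ((QuotientGroup.quotientMulEquivOfEq a4).trans ((QuotientGroup.quotientKerEquivRange F.ρ).trans φ))
    obtain ⟨χ⟩ := H1.QT.equiv_C2
    have := H10.simple_C2
    have := (topEquiv.trans (ψ.trans χ)).isSimpleGroup
    obtain ⟨e1, e2⟩ := h.fstar_eq (N := ⊤) nO zD le_top
    exact ⟨e1.trans e2, .inr (.inl (e2 ▸ ⟨topEquiv.trans ψ⟩))⟩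
  · obtain ⟨e, φ⟩ := h.l43 wc nO k t
    exact ⟨e, .inr (.inr (e ▸ φ))⟩

end XS
end H6
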