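import Mathlib
import Cfsg.Agent.H6.XE

/-! Large extraspecial subgroups: width two, weakly closed case -/

set_option autoImplicit false
set_option linter.unusedSectionVars false

namespace H6
namespace XS

open Subgroup H24 H15 H15.XP Module

universe u

variable {G : Type u} [Group G] [Finite G] {D : Set G} {Q : G → Subgroup G} {w : ℕ} {z b : G}

theorem Sit.not_dvd₂ (h : Sit D Q 2) (hz : z ∈ D) : ¬ 2 ^ 9 ∣ Nat.card G := fun e => by
  have := Fact.mk Nat.prime_two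
  obtain ⟨V, _, _, _, hV, ⟨F⟩⟩ := h.exists_fr hz
  have h1 := F.card_C h hz
  have h2 := card_subgroup_dvd_card F.ρ.range
  have h3 := H7.card_isom_quad_even 1 V F.q F.nondeg hV
  rw [← C{z}.card_mul_index] at e
  have h4 := (Nat.Coprime.pow_left 9 (h.odd_index hz).coprime_two_left).dvd_of_dvd_mul_right e
  rw [h1] at h4
  have h5 : 2 ^ 4 ∣ Nat.card F.ρ.range :=
    Nat.dvd_of_mul_dvd_mul_left (by norm_num : 0 < 2 ^ (2 * 2 + 1)) h4
  have h6 := h5.trans h2
  simp [ZMod.card] at h3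
  omega

theorem Sit.wc2 (h : Sit D Q 2) (wc : WC D Q) (hO : NoOdd G) (k : Col D z b) :
    closure D = Cfsg.generalizedFittingSubgroup G ∧
      (Nonempty (closure D ≃* Cfsg.PSU 4 H0.F4 2) ∨
        Nonempty (closure D ≃* Matrix.ProjectiveSpecialLinearGroup (Fin 4) (ZMod 3))) := by
  rcases h.cases wc k.l with u | ⟨e, -⟩ | ⟨-, b, k, t⟩
  · obtain ⟨e, n, n4, -, ⟨φ⟩⟩ := u.ident hO k (.inl rfl)
    refine ⟨e, .inl ?_⟩
    obtain rfl | n5 := n4.eq_or_lt
    · exact ⟨φ⟩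
    refine absurd (Dvd.dvd.trans ?_ (card_subgroup_dvd_card (closure D))) (h.not_dvd₂ k.l)
    have h1 := H7.card_psu H0.F4.card n (by omega)
    rw [Nat.card_congr φ.toEquiv]
    have h2 : 2 ^ 9 ∣ Nat.gcd n (2 + 1) * ((2 + 1) * Nat.card (Cfsg.PSU n H0.F4 2)) := by
      rw [h1]
      refine Dvd.dvd.mul_right (pow_dvd_pow 2 ?_) _
      have : 5 * 4 ≤ n * (n - 1) := Nat.mul_le_mul n5 (by omega)
      omega
    have h3 : Nat.Coprime (2 ^ 9) (Nat.gcd n (2 + 1)) :=
      Nat.Coprime.coprime_dvd_right (Nat.gcd_dvd_right _ _) (by norm_num)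
    exact Nat.Coprime.dvd_of_dvd_mul_left (by norm_num) (h3.dvd_of_dvd_mul_left h2)
  · omega
  · exact (h.l43 wc hO k t).imp_right .inr

end XS
end H6
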