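import Mathlib
import Cfsg.Agent.H6.XZW
import Cfsg.Agent.H6.XU3
import Cfsg.Agent.H6.XA
import Cfsg.Agent.H25.ZCA

/-! Width four: generation. -/

set_option autoImplicit false
set_option linter.unusedSectionVars false
set_option linter.unusedVariables false

namespace H6
namespace XS

open Subgroup H24 H15 H15.XP Module

variable {G : Type*} [Group G] [Finite G] {D : Set G} {Q : G → Subgroup G} {z : G}
variable {V : Type*} [AddCommGroup V] [Module (ZMod 2) V] [Finite V]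
variable {F : Fr z (Q z) V} {E : V → Submodule (ZMod 2) V} {R : V → Subgroup (ofQuad F.q).Isom}
variable {c : ℕ → V}

theorem Sit.conn4 [IsSimpleGroup G] (h : Sit D Q 4) (hz : z ∈ D)
    (hv : VD F.ρ.range (F.VV D) E R 4) (hl : Lift D Q F E R)
    (h1 : ∀ v ∈ F.VV D, ∀ y ∈ R v, y ≠ 1 → Fu E v y)
    (h2 : ∀ d : C{z}, (d : G) ∈ D → F.ρ d = 1 ∨ ∃ u ∈ F.VV D, F.ρ d ∈ R u)
    (h3 : ∀ v ∈ F.VV D, ∀ y ∈ R v, y ≠ 1 → Gd (F.VV D) E v y → (∀ a, y.1 a = a → F.q a = 0) →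
      (∀ s, y.1 s = s → s ≠ 0 → s ∉ F.VV D → ∃ u ∈ F.VV D, y ∈ R u ∧ s ∈ E u) ∧
      ∀ x x', y.1 x + x ≠ 0 → y.1 x + x ∉ F.VV D → y.1 x' + x' ≠ 0 → y.1 x' + x' ∉ F.VV D →
        y.1 (x + x') + (x + x') ≠ 0 → y.1 (x + x') + (x + x') ∉ F.VV D →
          pol F.q x (y.1 x' + x') = 1)
    (h4 : ∃ s, s ≠ 0 ∧ F.q s = 0 ∧ s ∉ F.VV D) {X : Subgroup G} (hQ : Q z ≤ X) {v t : G}
    (vD : v ∈ D) (vQ : v ∈ Q z) (vz : v ≠ z) (tX : t ∈ X) (tQ : t ∈ Q v) (tz : t ∉ C{z})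
    (tr : ∀ u ∈ F.VV D, ∃ g : C{z}, (g : G) ∈ X ∧ (F.ρ g).1 (F.π v) = u) : X = ⊤ :=
  ZO.Hy.top ⟨h, hz, hl, h1, h2, h3⟩ h4 hQ vD vQ vz tX tQ tz tr

end XS
end H6
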