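import Mathlib
import Cfsg.Agent.H6.XZC
import Cfsg.Agent.H6.XZO

/-! Width four: generation in the cases `27, 81, 15, 9`. -/

set_option autoImplicit false
set_option linter.unusedSectionVars false

namespace H6
namespace XS

open Subgroup H24 H15 H15.XP Module

variable {G : Type*} [Group G] [Finite G] {D : Set G} {Q : G → Subgroup G} {z : G}
variable {V : Type*} [AddCommGroup V] [Module (ZMod 2) V] [Finite V]
variable {F : Fr z (Q z) V} {E : V → Submodule (ZMod 2) V} {R : V → Subgroup (ofQuad F.q).Isom}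
variable {c : ℕ → V}

/-- `X` contains `Q`, lifts of `R` at the points `1` and `128`, and an element `t` of `Q_v` -/
structure Gen (Q : G → Subgroup G) {z : G} (F : Fr z (Q z) V) (R : V → Subgroup (ofQuad F.q).Isom)
    (c : ℕ → V) (X : Subgroup G) : Prop where
  le : Q z ≤ X
  r1 : R (c 1) ≤ F.img X
  r128 : R (c 128) ≤ F.img X
  ex : ∃ v ∈ Q z, F.π v = c 1 ∧ ∃ t ∈ X, t ∈ Q v ∧ t ∉ C{z}

theorem FC.fu81 (h : FC D Q z F E R c d81) : ∀ v ∈ F.VV D, ∀ y ∈ R v, y ≠ 1 → Fu E v y :=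
  fun _ hv _ hy => ZO.ck81.h1 h.cs h.vd hv hy
theorem FC.fu27 (h : FC D Q z F E R c d27) : ∀ v ∈ F.VV D, ∀ y ∈ R v, y ≠ 1 → Fu E v y :=
  fun _ hv _ hy => ZO.ck27.h1 h.cs h.vd hv hy
theorem FC.fu15 (h : FC D Q z F E R c d15) : ∀ v ∈ F.VV D, ∀ y ∈ R v, y ≠ 1 → Fu E v y :=
  fun _ hv _ hy => ZO.ck15.h1 h.cs h.vd hv hy
theorem FC.fu9 (h : FC D Q z F E R c d9) : ∀ v ∈ F.VV D, ∀ y ∈ R v, y ≠ 1 → Fu E v y :=
  fun _ hv _ hy => ZO.ck9.h1 h.cs h.vd hv hy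

variable [IsSimpleGroup G] {X : Subgroup G}

theorem FC.top_of {dt : Dat} {t : ZO.Tb} (h : FC D Q z F E R c dt) (k : ZO.Ck dt t)
    (g : Gen Q F R c X) : X = ⊤ := by
  obtain ⟨v, v1, v2, x, x1, x2, x3⟩ := g.ex
  obtain ⟨v3, v4⟩ := (F.mem_VV h.sit h.mem v1).1 (v2 ▸ k.v0 h.cs)
  refine h.sit.conn4 h.mem h.vd h.lift (fun v hv y hy => k.h1 h.cs h.vd hv hy) (ZO.inner h k)
    (fun v hv y hy => k.h3 h.cs h.vd hv hy) (k.h4 h.cs) g.le v3 v1 v4 x1 x2 x3 fun u hu => ?_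
  obtain ⟨_, ⟨y, y1, rfl⟩, y2⟩ := k.trans h.cs h.vd (K := F.img X)
    (by rintro _ ⟨y, -, rfl⟩; exact ⟨y, rfl⟩) g.r1 g.r128 hu
  exact ⟨y, y1, v2 ▸ y2⟩

theorem FC.top27 (h : FC D Q z F E R c d27) (g : Gen Q F R c X) : X = ⊤ := h.top_of ZO.ck27 g
theorem FC.top81 (h : FC D Q z F E R c d81) (g : Gen Q F R c X) : X = ⊤ := h.top_of ZO.ck81 g
theorem FC.top15 (h : FC D Q z F E R c d15) (g : Gen Q F R c X) : X = ⊤ := h.top_of ZO.ck15 g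
theorem FC.top9 (h : FC D Q z F E R c d9) (g : Gen Q F R c X) : X = ⊤ := h.top_of ZO.ck9 g

end XS
end H6
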