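import Mathlib
import Cfsg.Agent.H6.M81b
import Cfsg.Agent.H7.OmegaSimple
import Cfsg.Agent.S0293

/-! A model of the presentation of the orthogonal group in dimension eight over the field with
three elements. -/

set_option autoImplicit false
set_option maxRecDepth 100000
set_option Elab.async false
set_option linter.all false

namespace H6.M81

open H29 H19 H3.Z0 Matrix

theorem Pok : P.OK := PM.ok_of_chk (by decide +kernel)
noncomputable def lc : ℕ → ℕ := nth P.one lcl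
abbrev I : Type := Fin 4 ⊕ Fin 4
def ε : I ≃ Fin P.n := (finSumFinEquiv : Fin 4 ⊕ Fin 4 ≃ Fin (4 + 4))
abbrev q : (I → ZMod 3) → ZMod 3 := Cfsg.quadFormPlus 4 (ZMod 3)
noncomputable def τ (c : ℕ) : GL I (ZMod 3) := P.gl ε (lc c)

theorem him : ∀ c, ivOf ivm (ivOf ivm c) = c := fun c => by
  by_cases h : c < 50
  · exact (by decide +kernel : ∀ c < 50, ivOf ivm (ivOf ivm c) = c) c h
  · rw [ivOf_ge (l := ivm) (c := c) (not_lt.1 h), ivOf_ge (l := ivm) (c := c) (not_lt.1 h)]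

theorem hl : (∀ c, P.Rep ε (τ c) (lc c)) ∧ IvOK τ (ivOf ivm) :=
  Pok.letters (w := 2) him (by decide +kernel) (allN_true.1 (by decide +kernel))

noncomputable def dd (c : ℕ) : Matrix I I (ZMod 3) := P.dec ε c
noncomputable def de (c : ℕ) (i j : I) : ZMod 3 := P.dec ε c i j
abbrev Bm : Matrix I I (ZMod 3) := fromBlocks 0 1 0 0
def Be (i j : I) : ZMod 3 := Bm i j

theorem hq (v : I → ZMod 3) : q v = v ⬝ᵥ dd Bc *ᵥ v := by
  have : dd Bc = Bm := Matrix.ext (by decide +kernel : ∀ i j, de Bc i j = Be i j)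
  rw [this]
  simp [Cfsg.quadFormPlus, dotProduct, Fintype.sum_sum_type, fromBlocks_mulVec]

noncomputable def Ac (c : ℕ) : ℕ := P.mul (P.mul (nth 0 ltl c) Bc) (lc c)

def LL : List ℕ := [0, 1, 2, 3, 4, 5, 6, 7, 8, 9, 10, 11, 12, 13, 14, 15, 16, 17, 18, 19, 20]
def LS : List ℕ := [0, 1, 2, 3, 4, 5, 6, 7, 8, 9, 10, 11]

theorem chkI : ∀ c ∈ LL, P.chkRed 2 (nth 0 ltl c) = true ∧ P.chkRed 2 Bc = true ∧
    (∀ i j, de (nth 0 ltl c) i j = de (lc c) j i) ∧
    (∀ i j, de (Ac c) i j + de (Ac c) j i = de Bc i j + de Bc j i) ∧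
    ∀ i, de (Ac c) i i = de Bc i i := by decide +kernel

abbrev O : Subgroup (GL I (ZMod 3)) := Cfsg.isometryGroup (ZMod 3) q

theorem le_iso : gen τ LL ≤ O := gen_le.2 fun c hc => by
  obtain ⟨a1, a2, a3, a4, a5⟩ := chkI c hc
  have b1 := Pok.red_of_chk a1
  have b2 := Pok.red_of_chk a2
  have e : (τ c).valᵀ * dd Bc * (τ c).val = dd (Ac c) := by
    rw [dd, dd, Ac, Pok.dec_mul (Pok.red_mul b1 b2) (hl.1 c).1, Pok.dec_mul b1 b2, (hl.1 c).2,
      show P.dec ε (nth 0 ltl c) = (P.dec ε (lc c))ᵀ from Matrix.ext a3]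
  exact mem_isometry hq (by rw [e]; exact a4) (by rw [e]; exact a5)

theorem rep (w : List ℕ) : P.Rep ε (ev τ w) (evC P.mul P.one lc w) := (Pok.codes ε 2).rep_evC hl.1 w

theorem chkC : (allN 22 fun c => and2
    (allL (nth [] cms c) fun a => and2 (okW (ivOf ivm) LL a.1) (okW (ivOf ivm) LL a.2))
    (Nat.beq (evC P.mul P.one lc (cw (ivOf ivm) (nth [] cms c))) (lc c))) = true := by decide +kernel

theorem mem_comm {c : ℕ} (hc : c < 22) : τ c ∈ ⁅O, O⁆ := by
  have h := and2_true.1 (allN_true.1 chkC c hc)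
  have : τ c = ev τ (cw (ivOf ivm) (nth [] cms c)) :=
    PM.Rep.eq (hl.1 c) (H29.beq_true.1 h.2 ▸ rep _)
  rw [this]
  exact cw_mem hl.2 le_iso h.1

abbrev Om : Type := Cfsg.Omega (ZMod 3) q
/-- The matrix of an element of `Ω`. -/
def φ : Om →* GL I (ZMod 3) := O.subtype.comp (Cfsg.Omega (ZMod 3) q).subtype

theorem φ_inj : Function.Injective φ := fun _ _ h => Subtype.ext (Subtype.ext h)

theorem ex_om (c : ℕ) : ∃ x : Om, φ x = if c < 22 then τ c else 1 := by
  split_ifs with h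
  · have := mem_comm h
    rw [← Subgroup.map_subtype_commutator] at this
    obtain ⟨x, hx, e⟩ := this
    exact ⟨⟨x, hx⟩, e⟩
  · exact ⟨1, map_one _⟩

noncomputable def ω (c : ℕ) : Om := (ex_om c).choose

theorem φω {c : ℕ} (h : c < 22) : φ (ω c) = τ c := by rw [ω, (ex_om c).choose_spec, if_pos h]

def Ne (i j : I) : ZMod 3 := (-1 : Matrix I I (ZMod 3)) i j

theorem neg : (τ 21).val = -1 := by
  rw [(hl.1 21).2]
  exact Matrix.ext (by decide +kernel : ∀ i j, de (lc 21) i j = Ne i j)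

theorem cen : ω 21 ∈ Subgroup.center Om := Subgroup.mem_center_iff.2 fun g => φ_inj (by
  rw [map_mul, map_mul, φω (by norm_num)]
  exact Units.ext (by rw [Units.val_mul, Units.val_mul, neg]; simp))

abbrev PO : Type := Cfsg.POmega (ZMod 3) q
abbrev mk : Om →* PO := QuotientGroup.mk' _
noncomputable def σ (c : ℕ) : PO := if c < 21 then mk (ω c) else 1

/-- The words have the values `±1`. -/
noncomputable def chkR (R : List (List ℕ)) : Bool :=
  allL R fun w => and2 (allL w fun c => Nat.ble c 20)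
    (seqN (evC P.mul P.one lc w) fun y => Bool.rec (Nat.beq y (lc 21)) true (Nat.beq y P.one))

theorem rel_of {R : List (List ℕ)} (h : chkR R = true) : ∀ w ∈ R, ev σ w = 1 := fun w hw => by
  have h1 := and2_true.1 (allL_true.1 h w hw)
  have h2 : ∀ c ∈ w, c < 21 := fun c hc => Nat.lt_succ_of_le (Nat.le_of_ble_eq_true (allL_true.1 h1.1 c hc))
  have h3 : ev σ w = mk (ev ω w) := by
    rw [map_ev]; exact ev_congr fun c hc => if_pos (h2 c hc)
  have h4 : φ (ev ω w) = ev τ w := by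
    rw [map_ev]; exact ev_congr fun c hc => φω ((h2 c hc).trans (by norm_num))
  have h5 := h1.2
  rw [seqN_eq] at h5
  rw [h3]
  refine (QuotientGroup.eq_one_iff _).2 ?_
  cases k : Nat.beq (evC P.mul P.one lc w) P.one
  · rw [k] at h5
    have : ev ω w = ω 21 := φ_inj (by
      rw [h4, φω (by norm_num)]
      exact PM.Rep.eq (H29.beq_true.1 h5 ▸ rep w) (hl.1 21))
    rw [this]; exact cen
  · have : ev ω w = 1 := φ_inj (by
      rw [h4, map_one]
      exact PM.Rep.eq (H29.beq_true.1 k ▸ rep w) Pok.rep_one)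
    rw [this]; exact Subgroup.one_mem _

theorem iv_ok : IvOK σ (ivOf ivl) := fun c => by
  by_cases h : c < 21
  · have := rel_of (R := (List.range 21).map fun c => [c, ivOf ivl c]) (by decide +kernel) _
      (List.mem_map_of_mem (List.mem_range.2 h))
    simp only [ev_cons, ev_nil, mul_one] at this
    exact eq_inv_of_mul_eq_one_right this
  · rw [ivOf_ge (l := ivl) (c := c) (not_lt.1 h), σ, if_neg h, inv_one]

theorem rels_ok : ∀ w ∈ rels, ev σ w = 1 := rel_of (by decide +kernel)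
theorem extra_ok : ∀ w ∈ extra, ev σ w = 1 := rel_of (by decide +kernel)
theorem aux_ok : ∀ w ∈ aux, ev σ w = 1 := rel_of (by decide +kernel)
theorem braids_ok : ∀ w ∈ braids, ev σ w = 1 := rel_of (by decide +kernel)

theorem card_cen : Nat.card (Subgroup.center Om) = 2 := by
  have h2 : (2 : ZMod 3) ≠ 0 := by decide
  rw [← H7.card_center_omega_eq_two (H15.qPlus_nondeg 4 (ZMod 3)) h2 (by simp)
    ((H15.neg_one_mem_omega_plus h2 4).2 (by rw [ZMod.card]; decide))]
  exact Nat.card_congr (Subgroup.centerCongr (H7.omegaEquiv (H15.qPlus 4 (ZMod 3)))).toEquiv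

theorem card_le {L : List ℕ} (h : ∀ c ∈ L, c < 21) :
    Nat.card (gen τ L) ≤ 2 * Nat.card (gen σ L) := by
  have h1 := card_le_map mk (gen ω L)
  rw [QuotientGroup.ker_mk', card_cen, map_gen,
    gen_congr (e' := σ) fun c hc => (if_pos (h c hc)).symm] at h1
  rwa [← gen_congr (e := fun c => φ (ω c)) fun c hc => φω ((h c hc).trans (by norm_num)), ← map_gen,
    Subgroup.card_map_of_injective φ_inj]

theorem m0 : 2160 * Nat.card (gen τ (mD0.map Prod.fst)) ≤ Nat.card (gen τ LL) :=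
  stepV Pok hl.1 hl.2 (X := mX0) (ws := mW0) (by decide +kernel)
theorem m1 : 702 * Nat.card (gen τ (mD1.map Prod.fst)) ≤ Nat.card (gen τ (mD0.map Prod.fst)) :=
  stepV Pok hl.1 hl.2 (X := mX1) (ws := mW1) (by decide +kernel)
theorem m2 : 252 * Nat.card (gen τ (mD2.map Prod.fst)) ≤ Nat.card (gen τ (mD1.map Prod.fst)) :=
  stepV Pok hl.1 hl.2 (X := mX2) (ws := mW2) (by decide +kernel)
theorem m3 : 72 * Nat.card (gen τ (mD3.map Prod.fst)) ≤ Nat.card (gen τ (mD2.map Prod.fst)) :=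
  stepV Pok hl.1 hl.2 (X := mX3) (ws := mW3) (by decide +kernel)
theorem m4 : 30 * Nat.card (gen τ (mD4.map Prod.fst)) ≤ Nat.card (gen τ (mD3.map Prod.fst)) :=
  stepV Pok hl.1 hl.2 (X := mX4) (ws := mW4) (by decide +kernel)
theorem m5 : 12 * Nat.card (gen τ (([] : List (ℕ × List ℕ)).map Prod.fst)) ≤
    Nat.card (gen τ (mD4.map Prod.fst)) :=
  stepV Pok hl.1 hl.2 (X := P.one) (ws := mW5) (by decide +kernel)
theorem s0 : 128 * Nat.card (gen τ (sD0.map Prod.fst)) ≤ Nat.card (gen τ LS) :=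
  stepV Pok hl.1 hl.2 (X := sX0) (ws := sW0) (by decide +kernel)
theorem s1 : 64 * Nat.card (gen τ (([] : List (ℕ × List ℕ)).map Prod.fst)) ≤
    Nat.card (gen τ (sD0.map Prod.fst)) :=
  stepV Pok hl.1 hl.2 (X := P.one) (ws := sW1) (by decide +kernel)
theorem m6 : 0 < Nat.card (gen τ (([] : List (ℕ × List ℕ)).map Prod.fst)) := Nat.card_pos

theorem cardP : Nat.card PO = 4952179814400 := by
  have := Cfsg.Agent.S0293.result (F := ZMod 3) (q := 3) (ZMod.card 3) 4 le_rfl
  rw [show Nat.gcd 4 (3 ^ 4 - 1) = 4 by decide,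
    show 3 ^ (4 * (4 - 1)) * (3 ^ 4 - 1) * ∏ i ∈ Finset.range (4 - 1), (3 ^ (2 * (i + 1)) - 1) =
      4 * 4952179814400 by decide] at this
  exact Nat.eq_of_mul_eq_mul_left (by norm_num) this

theorem card_S : 4096 ≤ Nat.card (gen σ LS) := by
  have := card_le (L := LS) (by decide)
  have := s0; have := s1; have := m6
  omega

theorem card_L : 4952179814400 ≤ Nat.card (gen σ LL) := by
  have := card_le (L := LL) (by decide)
  have := m0; have := m1; have := m2; have := m3; have := m4; have := m5; have := m6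
  omega

theorem top : gen σ LL = ⊤ :=
  Subgroup.eq_top_of_le_card _ (by rw [cardP]; exact card_L)

/-- The model. -/
theorem model : ∃ σ : ℕ → Cfsg.POmega (ZMod 3) (Cfsg.quadFormPlus 4 (ZMod 3)),
    IvOK σ (ivOf ivl) ∧ (∀ r ∈ rels, ev σ r = 1) ∧ (∀ r ∈ extra, ev σ r = 1) ∧
    (∀ r ∈ aux, ev σ r = 1) ∧ (∀ r ∈ braids, ev σ r = 1) ∧
    4096 ≤ Nat.card (gen σ (List.range 12)) ∧ gen σ (List.range 21) = ⊤ :=
  ⟨σ, iv_ok, rels_ok, extra_ok, aux_ok, braids_ok, card_S, top⟩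

end H6.M81
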