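import Mathlib
import Cfsg.Agent.H6.XZA
import Cfsg.Agent.H6.XZG
import Cfsg.Agent.H13.ZR81x
import Cfsg.Agent.H3.Z81
import Cfsg.Agent.H6.M81

set_option autoImplicit false
set_option linter.unusedSectionVars false

namespace H6
namespace XS

open Subgroup H24 H15 H15.XP Module

variable {G : Type*} [Group G] [Finite G] {D : Set G} {Q : G → Subgroup G} {z : G}
variable {V : Type*} [AddCommGroup V] [Module (ZMod 2) V] [Finite V]
variable {F : Fr z (Q z) V} {E : V → Submodule (ZMod 2) V} {R : V → Subgroup (ofQuad F.q).Isom}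
variable {c : ℕ → V}

theorem md81 : H3.Z81.Md M81.σ :=
  ⟨M81.iv_ok, M81.rels_ok, M81.extra_ok, M81.aux_ok, M81.braids_ok, M81.card_S⟩

theorem FC.iso81 [IsSimpleGroup G] (h : FC D Q z F E R c d81) :
    Nonempty (G ≃* Cfsg.POmega (ZMod 3) (Cfsg.quadFormPlus 4 (ZMod 3))) := by
  obtain ⟨ψ, t, f, h1, h2, h3, h4, h5, h6⟩ := H13.ZR.Z81.main h
  exact H3.Z81.iso md81 M81.top h1.iv h2
    (H13.ZR.Z81.extra_ok h h1 h2 (H3.Z81.aux md81 h1.iv h2)) (h.top81 ⟨h3, h4, h5, h6⟩)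

end XS
end H6
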