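import Mathlib
import Cfsg.Agent.H6.XZDefs
import Cfsg.Agent.H6.XV6

set_option autoImplicit false
set_option linter.unusedSectionVars false

namespace H6
namespace XS

open Subgroup H24 H15 H15.XP Module H28.XL

variable {V : Type*} [AddCommGroup V] [Module (ZMod 2) V] [Finite V] {q : QuadraticForm (ZMod 2) V}
variable {H : Subgroup (ofQuad q).Isom} {S : Set V} {E : V → Submodule (ZMod 2) V}
  {R : V → Subgroup (ofQuad q).Isom}

namespace ZE

variable {P : V → Submodule (ZMod 2) V} {u v x s a : V}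

/-- width four: `R v = T_v(P v)` -/
structure W4 (H : Subgroup (ofQuad q).Isom) (S : Set V) (E : V → Submodule (ZMod 2) V)
    (R : V → Subgroup (ofQuad q).Isom) (P : V → Submodule (ZMod 2) V) : Prop
    extends VD H S E R 4 where
  irr : IrrV H
  memP : ∀ v ∈ S, ∀ s, s ∈ P v ↔ pol q v s = 0 ∧ ∃ y ∈ R v, Ei v s y
  exP : ∀ v ∈ S, ∀ y ∈ R v, ∃ s ∈ P v, Ei v s y
  inf : ∀ v ∈ S, P v ⊓ E v = Submodule.span (ZMod 2) {v}
  sup : ∀ v ∈ S, ∀ s, pol q v s = 0 → s ∈ P v ⊔ E v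
  eqP : ∀ h ∈ H, ∀ v ∈ S, ∀ s, h.1 s ∈ P (h.1 v) ↔ s ∈ P v

theorem exists_w4 (h : VD H S E R 4) (hi : IrrV H) (he : Eich S R) : ∃ P, W4 H S E R P := by
  let P : V → Submodule (ZMod 2) V := fun v =>
    mkSub {s | v ∈ S → pol q v s = 0 ∧ ∃ y ∈ R v, Ei v s y}
      (fun _ => ⟨by simp, 1, one_mem _, fun x => by simp⟩) fun a ha b hb hv => by
        obtain ⟨a1, y, hy, e⟩ := ha hv
        obtain ⟨b1, y', hy', e'⟩ := hb hv
        exact ⟨by rw [pr, a1, b1, add_zero], _, mul_mem hy hy', e.mul (h.sing hv) a1 b1 e'⟩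
  have mP : ∀ v ∈ S, ∀ s, s ∈ P v ↔ pol q v s = 0 ∧ ∃ y ∈ R v, Ei v s y := fun v hv s =>
    ⟨fun hs => hs hv, fun hs _ => hs⟩
  have cj : ∀ g ∈ H, ∀ v ∈ S, ∀ s ∈ P v, g.1 s ∈ P (g.1 v) := fun g hg v hv s hs _ => by
    obtain ⟨a1, y, hy, e⟩ := hs hv
    exact ⟨by rw [g_pol, a1], _, (h.eqR g hg v hv y).2 hy, e.conj g⟩
  refine ⟨P, h, hi, mP, fun v hv y hy => ?_, fun v hv => ?_, fun v hv s hs => ?_,
    fun g hg v hv s => ⟨fun hs => ?_, cj g hg v hv s⟩⟩
  · obtain ⟨s, h1, h2⟩ := he v hv y hy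
    exact ⟨s, fun _ => ⟨h1, y, hy, h2⟩, h2⟩
  · obtain ⟨x, hx⟩ := h.exists_x hv
    ext s
    rw [mem_sp]
    constructor
    · rintro ⟨h1, h2⟩
      obtain ⟨a1, y, hy, e⟩ := h1 hv
      rw [h.inj v hv y hy x hx (by
        rw [e.ap1 hx, add_assoc x, vv3]
        exact add_mem h2 (Submodule.smul_mem _ _ (h.memE v hv)))] at e
      exact e.eq_of_one hx
    · rintro (rfl | rfl)
      · exact zero_mem _
      · refine ⟨fun _ => ⟨pp _, 1, one_mem _, ?_⟩, h.memE _ hv⟩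
        have : Ei s 0 (1 : (ofQuad q).Isom) := fun x => by simp
        simpa using this.add_self (h.sing hv) (by simp)
  · obtain ⟨x, hx⟩ := h.exists_x hv
    obtain ⟨y, hy, e⟩ := h.surj v hv x s hx hs
    obtain ⟨t, h1, h2⟩ := he v hv y hy
    rw [h2.ap1 hx, add_assoc x, vv3, add_right_comm] at e
    exact mem_r (Submodule.mem_sup_right (mem_l e (Submodule.smul_mem _ _ (h.memE v hv))))
      (Submodule.mem_sup_left fun _ => ⟨h1, y, hy, h2⟩)
  · simpa using cj _ (inv_mem hg) _ (h.inv g hg v hv) _ hs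

theorem ob_opp (h : VD H S E R 4) (hi : IrrV H) (hv : v ∈ S) {n : V} (hn : n ≠ 0) :
    ∃ u, Ob H v u ∧ pol q u n = 1 := by
  by_contra hc
  push Not at hc
  rcases hi (Submodule.span (ZMod 2) {u | Ob H v u}) (inv_span fun g hg x hx => Ob.act hx hg)
    with e | e
  · have : v ∈ Submodule.span (ZMod 2) {u | Ob H v u} := Submodule.subset_span Ob.refl₄
    rw [e] at this
    exact absurd this (h.ne0 v hv)
  · have := ((ofQuad q).mem_perp_span (s := {u | Ob H v u})).2 fun u hu => z2ne' (hc u hu)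
    rw [e, h.nondeg.perp_top] at this
    exact hn this

theorem opp (h : VD H S E R 4) (hi : IrrV H) (hv : v ∈ S) : ∃ x ∈ S, pol q v x = 1 := by
  obtain ⟨_, ⟨g, hg, rfl⟩, e⟩ := ob_opp h hi hv (h.ne0 v hv)
  exact ⟨_, h.inv g hg v hv, pc e⟩

theorem ts_le (h : VD H S E R 4) {B : Submodule (ZMod 2) V} (hB : TS q B) : finrank (ZMod 2) B ≤ 4 := by
  have f1 := fr_perp h.nondeg B
  have f2 := Submodule.finrank_mono (show B ≤ (ofQuad q).perp B from fun b hb => mem_pp.2 fun a ha => ts_pol hB ha hb)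
  have := h.dim
  omega

namespace W4

variable (h : W4 H S E R P)
include h

theorem qS (hv : v ∈ S) : q v = 0 := h.toVD.sing hv

theorem perpP (hv : v ∈ S) (hs : s ∈ P v) : pol q v s = 0 := ((h.memP v hv s).1 hs).1

theorem exT (hv : v ∈ S) (hs : s ∈ P v) : ∃ y ∈ H, Ei v s y := by
  obtain ⟨y, hy, e⟩ := ((h.memP v hv s).1 hs).2
  exact ⟨y, h.le v hv hy, e⟩

theorem mem_PE (hv : v ∈ S) (h1 : s ∈ P v) (h2 : s ∈ E v) : s = 0 ∨ s = v := by
  rw [← mem_sp, ← h.inf v hv]; exact ⟨h1, h2⟩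

theorem zero_PE (hv : v ∈ S) (hx : pol q v x = 1) (h1 : s ∈ P v) (h2 : s ∈ E v) (h3 : pol q x s = 0) :
    s = 0 := (h.mem_PE hv h1 h2).resolve_right fun e => by
  rw [e, pc hx] at h3; exact one_ne_zero h3

theorem selfP (hv : v ∈ S) : v ∈ P v := by
  have : v ∈ P v ⊓ E v := by rw [h.inf v hv, mem_sp]; exact Or.inr rfl
  exact this.1

theorem perp_PE (hv : v ∈ S) (h1 : ∀ p ∈ P v, pol q s p = 0) (h2 : ∀ e ∈ E v, pol q s e = 0) :
    s = 0 ∨ s = v :=
  mem_sp_of_perp₄ h.nondeg fun z hz => by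
    obtain ⟨p, hp, e, he, rfl⟩ := Submodule.mem_sup.1 (h.sup v hv z hz)
    rw [pr, h1 p hp, h2 e he, add_zero]

theorem finrank_P (hv : v ∈ S) : finrank (ZMod 2) (P v) + finrank (ZMod 2) (E v) = 8 := by
  have e : P v ⊔ E v = (ofQuad q).perp (Submodule.span (ZMod 2) {v}) :=
    le_antisymm (sup_le (fun s hs => (Form.mem_perp_singleton _).2 (h.perpP hv hs))
      fun s hs => (Form.mem_perp_singleton _).2 (h.toVD.perpE hv (h.memE v hv) hs))
      fun s hs => h.sup v hv s ((Form.mem_perp_singleton _).1 hs)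
  have f1 := fr_si (P v) (E v)
  have f2 := fr_perp h.nondeg (Submodule.span (ZMod 2) {v})
  rw [e, h.inf v hv] at f1
  rw [fr_sp_eq₄ (h.ne0 v hv)] at f1 f2
  have := h.dim
  omega

theorem le_P (hv : v ∈ S) : 4 ≤ finrank (ZMod 2) (P v) := by
  have := h.finrank_P hv
  have := h.toVD.finrank_E_le hv
  omega

theorem one (hv : v ∈ S) (h1 : finrank (ZMod 2) (E v) ≤ 1) : OneV S E R := by
  have oS : ∀ u, Ob H v u → u ∈ S := by
    rintro _ ⟨g, hg, rfl⟩
    exact h.inv g hg v hv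
  have e1 : ∀ u, Ob H v u → E u = Submodule.span (ZMod 2) {u} := fun u hu =>
    (eq_of_fr ((Submodule.span_singleton_le_iff_mem _ _).2 (h.memE u (oS u hu))) (by
      rw [fr_sp_eq₄ (h.ne0 u (oS u hu))]
      obtain ⟨g, hg, rfl⟩ := hu
      rwa [fr_map₄ g (h.eqE g hg v hv)])).symm
  have e2 : ∀ u, Ob H v u → ∀ s, pol q u s = 0 → s ∈ P u := fun u hu s hs => by
    have := h.sup u (oS u hu) s hs
    rw [e1 u hu, mem_sup_sp] at this
    exact this.elim id fun e => mem_l e (h.selfP (oS u hu))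
  have e3 : ∀ x, x ≠ 0 → q x = 0 → Ob H v x := fun x x0 x1 => by
    obtain ⟨u, hu, e⟩ := ob_opp h.toVD h.irr hv x0
    have hu' := oS u hu
    obtain ⟨w, hw, e'⟩ := ob_opp h.toVD h.irr hv (h.ne0 u hu')
    obtain ⟨y, hy, ey⟩ := h.exT hu' (e2 u hu (w + x) (by rw [pr, e, pc e', z11]))
    have := hw.act hy
    rwa [ey.ap1 (pc e'), vv1, pl, pp, quad_add, h.qS (oS w hw), x1, pol_comm q x, zero_add, zero_add,
      zero_add, z2add, zero_smul, add_zero] at this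
  refine ⟨fun x x0 x1 => oS x (e3 x x0 x1), fun u hu => e1 u (e3 u (h.ne0 u hu) (h.qS hu)),
    fun u hu y => ⟨fun hy => ?_, ?_⟩⟩
  · obtain ⟨s, hs, e⟩ := h.exP u hu y hy
    exact ⟨s, h.perpP hu hs, e⟩
  · rintro ⟨s, hs, e⟩
    obtain ⟨y', hy', e'⟩ := ((h.memP u hu s).1 (e2 u (e3 u (h.ne0 u hu) (h.qS hu)) s hs)).2
    rwa [e.unique e']

theorem adj (hv : v ∈ S) (hx : pol q v x = 1) (ha : a ∈ P v) :
    a + pol q x a • v ∈ P v ∧ pol q x (a + pol q x a • v) = 0 :=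
  ⟨add_mem ha (Submodule.smul_mem _ _ (h.selfP hv)), by rw [pr, psr, pc hx, mul_one, z2add]⟩

variable (h2 : ∀ v ∈ S, 2 ≤ finrank (ZMod 2) (E v))
include h2

theorem s1 (hv : v ∈ S) (hx : x ∈ S) (hvx : pol q v x = 1) (hs : s ∈ P x) (sv : pol q v s = 0)
    (s0 : q s = 0) : s ∈ E v := by
  by_contra hn
  obtain ⟨y, hy, ey⟩ := h.exT hx hs
  have yv : y.1 v = v + s := by rw [ey.ap1 (pc hvx), pc sv, s0, add_zero, zero_smul, add_zero]
  have mE := h.memE v hv
  have k : ∀ a ∈ P v, pol q x a = 0 → pol q s a = 0 → ∀ e ∈ E v,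
      pol q a e • (v + s) + pol q s e • a + (q a * pol q s e) • (v + s) ∈ E v := fun a ha xa sa e he => by
    have := (h.eqP y hy v hv a).2 ha
    rw [ey.fix xa sa, yv] at this
    obtain ⟨t, ht, et⟩ := h.exT (yv ▸ h.inv y hy v hv) this
    have tv := et.fix (by rw [pl, pp, pc sv, add_zero]) (pc (h.perpP hv ha))
    have := (h.eqE t ht v hv e).2 he
    rw [tv, et e, pl, h.toVD.perpE hv mE he, zero_add, add_assoc, add_assoc] at this
    rw [add_assoc]
    exact mem_r this he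
  have f4 := h.le_P hv
  have sE : ∀ e ∈ E v, pol q s e = 0 := fun e he => z2ne' fun e1 => by
    have k1 : ∀ a ∈ P v, a ≠ 0 → pol q x a = 0 → pol q s a = 0 → a + s ∈ E v := fun a ha a0 xa sa => by
      have := k a ha xa sa e he
      rw [e1, one_smul, mul_one, add_right_comm, ← add_smul] at this
      rcases z2 (pol q a e + q a) with c | c <;> rw [c] at this
      · rw [zero_smul, zero_add] at this
        exact absurd (h.zero_PE hv hvx ha this xa) a0
      · rw [one_smul, add_assoc, add_comm s] at this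
        exact mem_r this mE
    obtain ⟨a, ha, a0, l⟩ := exists_perp0 (q := q) (P v) [x, s] (by simp; omega)
    obtain ⟨b, hb, b0, ba, l'⟩ := exists_perp1 (q := q) (P v) a [x, s] (by simp; omega)
    have := add_mem (k1 a ha a0 (l x (by simp)) (l s (by simp))) (k1 b hb b0 (l' x (by simp)) (l' s (by simp)))
    rw [add_add_add_comm, vv, add_zero] at this
    exact ba (veq.1 (h.zero_PE hv hvx (add_mem ha hb) this
      (by rw [pr, l x (by simp), l' x (by simp), add_zero]))).symm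
  have aE : ∀ a ∈ P v, pol q s a = 0 → ∀ e ∈ E v, pol q a e = 0 := fun a ha sa e he => z2ne' fun e1 => by
    obtain ⟨a1, a2⟩ := h.adj hv hvx ha
    have := k _ a1 a2 (by rw [pr, psr, sa, pc sv, mul_zero, add_zero]) e he
    rw [sE e he, pl, psl, e1, h.toVD.perpE hv mE he, mul_zero, mul_zero, add_zero, zero_smul, zero_smul,
      add_zero, add_zero, one_smul] at this
    exact hn (mem_r this mE)
  by_cases c : ∀ p ∈ P v, pol q s p = 0
  · rcases h.perp_PE hv c sE with rfl | rfl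
    exacts [hn (zero_mem _), hn mE]
  push Not at c
  obtain ⟨p, hp, c⟩ := c
  obtain ⟨e, he, e0, e1, -⟩ := exists_perp1 (q := q) (E v) v [] (by have := h2 v hv; simp; omega)
  have := h.perp_PE (s := e + pol q p e • s) hv (fun a ha => by
    rw [pl, psl]
    rcases z2 (pol q s a) with d | d
    · rw [d, mul_zero, add_zero, pc (aE a ha d e he)]
    · have := aE (a + p) (add_mem ha hp) (by rw [pr, d, z2ne c, z11]) e he
      rw [pl] at this
      rw [d, mul_one, pol_comm q e, this]) fun f hf => by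
    rw [pl, psl, sE f hf, mul_zero, add_zero, h.toVD.perpE hv he hf]
  rcases z2 (pol q p e) with d | d <;> rw [d] at this
  · rw [zero_smul, add_zero] at this; tauto
  · rw [one_smul] at this
    exact hn (mem_r (B := E v) (by rcases this with t | t <;> rw [t]; exacts [zero_mem _, mE]) he)

theorem s2 (hv : v ∈ S) (hx : x ∈ S) (hvx : pol q v x = 1) (ha : a ∈ P x) (av : pol q v a = 0)
    (a1 : q a = 1) (hs : s ∈ P v) (sx : pol q x s = 0) (sa : pol q a s = 0) (s0 : q s = 0) : s = 0 := by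
  obtain ⟨y, hy, ey⟩ := h.exT hx ha
  have := h.s1 h2 (h.inv y hy v hv) hv (s := s)
    (by rw [ey.ap1 (pc hvx), pl, pl, psl, pp, pc av, pc hvx, a1]; decide) hs
    (by rw [ey.ap1 (pc hvx), pl, pl, psl, h.perpP hv hs, sa, sx]; simp) s0
  rw [← ey.fix sx sa, h.eqE y hy v hv] at this
  exact h.zero_PE hv hvx hs this sx

theorem tsP (hv : v ∈ S) : TS q (P v) := fun a ha => z2ne' fun a1 => by
  obtain ⟨x, hx, hvx⟩ := opp h.toVD h.irr hv
  obtain ⟨b1, b2⟩ := h.adj hv hvx ha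
  have b3 : q (a + pol q x a • v) = 1 := by
    rw [quad_add, qs, psr, a1, h.qS hv, pc (h.perpP hv ha), mul_zero, add_zero, add_zero]
  generalize a + pol q x a • v = b at b1 b2 b3
  have f1 := h.le_P hv
  have f2 := h.le_P hx
  obtain ⟨K, k1, k2⟩ := exists_sub_perp (q := q) (P v) [x]
  simp only [List.length_singleton] at k2
  obtain ⟨c, hc, c0, -⟩ := exists_perp0 (q := q) K [] (by simp; omega)
  obtain ⟨d, hd, d0, d1, d2⟩ := exists_perp1 (q := q) K c [c] (by simp; omega)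
  obtain ⟨n, hn, n0, qn⟩ := exists_sing₄ hc hd c0 d0 d1 (d2 c (by simp))
  obtain ⟨n1, n2⟩ := (k1 n).1 hn
  obtain ⟨s, hs, s0, l⟩ := exists_perp0 (q := q) (P x) [v, n, b] (by simp; omega)
  rcases z2 (q s) with e | e
  · exact s0 (h.s2 h2 hx hv (pc hvx) b1 b2 b3 hs (l v (by simp)) (l b (by simp)) e)
  · exact n0 (h.s2 h2 hv hx hvx hs (l v (by simp)) e n1 (n2 x (by simp)) (pc (l n (by simp))) qn)

theorem dimE (hv : v ∈ S) : finrank (ZMod 2) (E v) = 4 := by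
  have := h.finrank_P hv
  have := h.toVD.finrank_E_le hv
  have := ts_le h.toVD (h.tsP h2 hv)
  omega

theorem toP (hv : v ∈ S) (hx : x ∈ S) (hvx : pol q v x = 1) (hs : s ∈ E v) (sx : pol q x s = 0) :
    s ∈ P x := by
  obtain ⟨K, k1, k2⟩ := exists_sub_perp (q := q) (P x) [v]
  obtain ⟨L, l1, -⟩ := exists_sub_perp (q := q) (E v) [x]
  have le : K ≤ L := fun a ha => (l1 a).2 ⟨h.s1 h2 hv hx hvx ((k1 a).1 ha).1 (((k1 a).1 ha).2 v (by simp))
    (h.tsP h2 hx a ((k1 a).1 ha).1), by simpa using h.perpP hx ((k1 a).1 ha).1⟩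
  have lt : L < E v := lt_of_le_of_ne (fun a ha => ((l1 a).1 ha).1) fun e => by
    have := ((l1 v).1 (e ▸ h.memE v hv)).2 x (by simp)
    rw [pc hvx] at this
    exact one_ne_zero this
  have := Submodule.finrank_lt_finrank_of_lt lt
  have := h.dimE h2 hv
  have := h.le_P hx
  rw [List.length_singleton] at k2
  have e := eq_of_fr le (by omega)
  exact ((k1 s).1 (e ▸ (l1 s).2 ⟨hs, by simpa using sx⟩)).1

theorem l1 (hv : v ∈ S) (hx : x ∈ S) (hvx : pol q v x = 1) (hu : u ∈ E v) (ux : pol q x u = 1) :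
    u ∈ S ∧ E u = E v := by
  have m := add_mem (h.memE v hv) hu
  obtain ⟨y, hy, ey⟩ := h.exT hx (h.toP h2 hv hx hvx m (by rw [pr, pc hvx, ux, z11]))
  have k : ∀ e ∈ E v, y.1 e = e + pol q x e • (v + u) := fun e he => by
    rw [ey e, h.toVD.perpE hv m he, h.ts v hv _ m, zero_mul, zero_smul, add_zero, add_zero]
  have yv : y.1 v = u := by rw [k v (h.memE v hv), pc hvx, one_smul, vv1]
  have uS := yv ▸ h.inv y hy v hv
  refine ⟨uS, (eq_of_fr (fun e he => ?_) (by rw [h.dimE h2 hv, h.dimE h2 uS])).symm⟩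
  have := (h.eqE y hy v hv (y.1 e)).2 (by rw [k e he]; exact add_mem he (Submodule.smul_mem _ _ m))
  rwa [yv, k _ (by rw [k e he]; exact add_mem he (Submodule.smul_mem _ _ m)), k e he, pr, psr, pr, pc hvx, ux,
    z11, mul_zero, add_zero, vv2] at this

theorem disj (hv : v ∈ S) (hx : x ∈ S) (hvx : pol q v x = 1) (h1 : s ∈ E v) (h3 : s ∈ E x) : s = 0 :=
  h.zero_PE hv hvx (h.toP h2 hx hv (pc hvx) h3 (h.toVD.perpE hv (h.memE v hv) h1)) h1
    (h.toVD.perpE hx (h.memE x hx) h3)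

theorem out (hv : v ∈ S) (hu : u ∉ E v) : ∃ a ∈ E v, pol q a u = 1 := by
  by_contra c
  push Not at c
  exact hu (perp_self h.nondeg (fun a ha b hb => h.toVD.perpE hv ha hb) (by rw [h.dimE h2 hv, h.dim])
    fun a ha => z2ne' (c a ha))

theorem l2 (hv : v ∈ S) (hu : u ∈ E v) (u0 : u ≠ 0) : u ∈ S ∧ E u = E v := by
  obtain ⟨x, hx, hvx⟩ := opp h.toVD h.irr hv
  obtain ⟨a, ha, a1, a2⟩ : ∃ a ∈ E x, pol q v a = 1 ∧ pol q a u = 1 := by
    obtain ⟨a, ha, e⟩ := h.out h2 hx fun e => u0 (h.disj h2 hv hx hvx hu e)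
    rcases z2 (pol q v a) with c | c
    · rcases z2 (pol q x u) with d | d
      · exact ⟨a + x, add_mem ha (h.memE x hx), by rw [pr, c, hvx, zero_add], by rw [pl, e, d, add_zero]⟩
      · exact ⟨x, h.memE x hx, hvx, d⟩
    · exact ⟨a, ha, c, e⟩
  exact h.l1 h2 hv (h.l1 h2 hx hv (pc hvx) ha a1).1 a1 hu a2

/-- the partner of a nonzero vector of `E v` in `E x` -/
theorem par (hv : v ∈ S) (hx : x ∈ S) (hvx : pol q v x = 1) (hu : u ∈ E v) (u0 : u ≠ 0) :
    ∃ a ∈ S, pol q u a = 1 ∧ E a = E x := by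
  obtain ⟨a, ha, e⟩ := h.out h2 hx fun e => u0 (h.disj h2 hv hx hvx hu e)
  have := h.l2 h2 hx ha fun c => by rw [c, p0l] at e; exact zero_ne_one e
  exact ⟨a, this.1, pc e, this.2⟩

theorem half (hv : v ∈ S) (hx : x ∈ S) (hvx : pol q v x = 1) (hu : u ∈ S) (ha : a ∈ E v)
    (au : pol q a u = 1) (hs : s ∈ E u) (as : pol q a s = 0) : s ∈ E x ∨ s + a ∈ E x := by
  have a0 : a ≠ 0 := fun c => by rw [c, p0l] at au; exact zero_ne_one au
  have aS := (h.l2 h2 hv ha a0).1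
  obtain ⟨b, hb, ab, e⟩ := h.par h2 hv hx hvx ha a0
  obtain ⟨c1, c2⟩ := h.adj aS ab (h.toP h2 hu aS (pc au) hs as)
  have := h.s1 h2 hb aS (pc ab) c1 c2 (h.tsP h2 aS _ c1)
  rw [e] at this
  rcases z2 (pol q b s) with d | d <;> rw [d] at this
  · left; rwa [zero_smul, add_zero] at this
  · right; rwa [one_smul] at this

theorem subE (hv : v ∈ S) (hx : x ∈ S) (hvx : pol q v x = 1) (hu : u ∈ S) : u ∈ E x ∨ u ∈ E v := by
  by_contra c
  push Not at c
  obtain ⟨a, ha, au⟩ := h.out h2 hv c.2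
  obtain ⟨b, hb, bu⟩ := h.out h2 hx c.1
  obtain ⟨s, hs, s0, s1, l⟩ := exists_perp1 (q := q) (E u) (a + b) [a, b] (by rw [h.dimE h2 hu]; simp)
  have su := h.toVD.perpE hu hs (h.memE u hu)
  rcases h.half h2 hv hx hvx hu ha au hs (l a (by simp)) with e1 | e1 <;>
    rcases h.half h2 hx hv (pc hvx) hu hb bu hs (l b (by simp)) with e2 | e2
  · exact s0 (h.disj h2 hv hx hvx e2 e1)
  · rw [veq.1 (h.disj h2 hv hx hvx e2 (add_mem e1 hb)), bu] at su
    exact one_ne_zero su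
  · rw [veq.1 (h.disj h2 hv hx hvx (add_mem e2 ha) e1), au] at su
    exact one_ne_zero su
  · have := h.disj h2 hv hx hvx (add_mem e2 ha) (by rw [add_right_comm]; exact add_mem e1 hb)
    rw [add_assoc, add_comm b] at this
    exact s1 (veq.1 this)

theorem swap : ∃ A A', Swap4 H S E A A' := by
  obtain ⟨v, hv⟩ := h.nonempty
  obtain ⟨x, hx, hvx⟩ := opp h.toVD h.irr hv
  have dv := h.dimE h2 hv
  have dx := h.dimE h2 hx
  have dj : E x ⊓ E v = ⊥ := eq_bot_iff.2 fun s hs => h.disj h2 hv hx hvx hs.2 hs.1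
  have mv : ∀ g ∈ H, ∀ u ∈ S, ∀ w ∈ S, g.1 u ∈ E w → ∀ a ∈ E u, g.1 a ∈ E w := fun g hg u hu w hw e a ha => by
    rw [← (h.l2 h2 hw e (g_ne g (h.ne0 u hu))).2]
    exact (h.eqE g hg u hu a).2 ha
  have pres : ∀ g ∈ H, ((∀ a ∈ E x, g.1 a ∈ E x) ∧ ∀ a ∈ E v, g.1 a ∈ E v) ∨
      ((∀ a ∈ E x, g.1 a ∈ E v) ∧ ∀ a ∈ E v, g.1 a ∈ E x) := fun g hg => by
    have ne : pol q (g.1 v) (g.1 x) ≠ 0 := by rw [g_pol, hvx]; exact one_ne_zero
    rcases h.subE h2 hv hx hvx (h.inv g hg x hx) with e1 | e1 <;>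
      rcases h.subE h2 hv hx hvx (h.inv g hg v hv) with e2 | e2
    · exact absurd (h.toVD.perpE hx e2 e1) ne
    · exact Or.inl ⟨mv g hg x hx x hx e1, mv g hg v hv v hv e2⟩
    · exact Or.inr ⟨mv g hg x hx v hv e1, mv g hg v hv x hx e2⟩
    · exact absurd (h.toVD.perpE hv e2 e1) ne
  refine ⟨E x, E v, h.ts x hx, h.ts v hv, ⟨disjoint_iff.2 dj, codisjoint_iff.2 (Submodule.eq_top_of_finrank_eq ?_)⟩,
    dx, dv, fun u => ⟨fun hu => ⟨h.ne0 u hu, h.subE h2 hv hx hvx hu⟩, fun hu => hu.2.elim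
      (fun e => (h.l2 h2 hx e hu.1).1) fun e => (h.l2 h2 hv e hu.1).1⟩, fun u hu u0 => (h.l2 h2 hx hu u0).2,
    fun u hu u0 => (h.l2 h2 hv hu u0).2, pres, ?_, fun u hu a ha e => ?_⟩
  · have := fr_si (E x) (E v)
    rw [dj, finrank_bot, dx, dv] at this
    rw [h.dim]; omega
  · by_contra c
    rcases h.irr (E x) fun g hg => ((pres g hg).resolve_right fun e => c ⟨g, hg, e.1⟩).1 with e | e
    · rw [e, finrank_bot] at dx; omega
    · rw [e, finrank_top, h.dim] at dx; omega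
  · by_cases u0 : u = 0
    · exact ⟨1, one_mem _, fun z => by simp [u0]⟩
    obtain ⟨b, hb, ub, eb⟩ := h.par h2 hv hx hvx hu u0
    have uS := (h.l2 h2 hv hu u0).1
    exact h.exT uS (h.toP h2 hb uS (pc ub) (eb ▸ ha) e)

end W4

end ZE

theorem VD.eich4 (hv : VD H S E R 4) (hi : IrrV H) (he : Eich S R) :
    OneV S E R ∨ ∃ A A', Swap4 H S E A A' := by
  obtain ⟨P, h⟩ := ZE.exists_w4 hv hi he
  by_cases c : ∀ v ∈ S, 2 ≤ finrank (ZMod 2) (E v)
  · exact Or.inr (h.swap c)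
  push Not at c
  obtain ⟨v, h1, h2⟩ := c
  exact Or.inl (h.one h1 (by omega))

end XS
end H6
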