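import Mathlib
import Cfsg.Agent.H6.XZB
import Cfsg.Agent.H16.ZH6
import Cfsg.Agent.H27.HSJ

set_option autoImplicit false
set_option linter.unusedSectionVars false

namespace H6
namespace XS

open Subgroup H24 H15 H15.XP Module

variable {G : Type*} [Group G] [Finite G] {D : Set G} {Q : G → Subgroup G} {z : G}
variable {V : Type*} [AddCommGroup V] [Module (ZMod 2) V] [Finite V]
variable {F : Fr z (Q z) V} {E : V → Submodule (ZMod 2) V} {R : V → Subgroup (ofQuad F.q).Isom}
variable {c : ℕ → V}

theorem FC.hn [IsSimpleGroup G] (h : FC D Q z F E R c d75) : Cfsg.Spor.IsoHN G := by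
  obtain ⟨e, b, k⟩ := H16.ZH.hd h
  obtain ⟨L, h1, h2⟩ := k.exists_std
  exact H27.HN.std L h1 h2

end XS
end H6
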