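import Mathlib
import Cfsg.Agent.H6.XZB
import Cfsg.Agent.H6.XV1
import Cfsg.Agent.H6.XZE

set_option autoImplicit false
set_option linter.unusedSectionVars false

namespace H6
namespace XS

open Subgroup H24 H15 H15.XP Module H28.XL

variable {V : Type*} [AddCommGroup V] [Module (ZMod 2) V] [Finite V] {q : QuadraticForm (ZMod 2) V}
variable {H : Subgroup (ofQuad q).Isom} {S : Set V} {E : V → Submodule (ZMod 2) V}
  {R : V → Subgroup (ofQuad q).Isom}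

/-- the generator `T(v, f_j + L_j) φ(j)` of the free group `R` with parameter `L < 512`
(`L_j = L / 8 ^ j % 8`), `j < 3` -/
def gR (L j : ℕ) : List ℕ :=
  let s := 2 ^ (4 + j) ^^^ 2 * (L / 8 ^ j % 8)
  let T : ℕ → ℕ := fun a => a ^^^ polN s a ^^^ polN 1 a * (s ^^^ qN s)
  let φ : ℕ → ℕ := fun i => if i = j then 0 else 2 ^ (4 - i - j)
  [1, T 2, T 4, T 8, T (16 ^^^ φ 0), T (32 ^^^ φ 1), T (64 ^^^ φ 2), T 128]

/-- the eight elements -/
def lR (L : ℕ) : List (List ℕ) :=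
  [[], [0], [1], [0, 1], [2], [0, 2], [1, 2], [0, 1, 2]].map (evM [gR L 0, gR L 1, gR L 2])

namespace ZL

variable {u v x b s : V} {y y' : (ofQuad q).Isom}

/-- all members of `R v` are Eichler transformations -/
def Ea (R : V → Subgroup (ofQuad q).Isom) (v : V) : Prop := ∀ y ∈ R v, ∃ s, pol q v s = 0 ∧ Ei v s y

/-- `y` fixes `b` modulo `v` -/
def Rd (v : V) (y : (ofQuad q).Isom) : Submodule (ZMod 2) V :=
  mkSub {b | pol q v b = 0 ∧ (y.1 b + b = 0 ∨ y.1 b + b = v)} ⟨p0r _, Or.inl (by rw [g_zero, add_zero])⟩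
    fun a ha b hb => ⟨by rw [pr, ha.1, hb.1, add_zero], by
      rw [g_add, add_add_add_comm, ← mem_sp]
      exact add_mem (mem_sp.2 ha.2) (mem_sp.2 hb.2)⟩

/-- the free case -/
structure Fe (S : Set V) (E : V → Submodule (ZMod 2) V) (R : V → Subgroup (ofQuad q).Isom) (v : V) :
    Prop where
  mem : v ∈ S
  dim : finrank (ZMod 2) (E v) = 4
  rd : ∀ y ∈ R v, y ≠ 1 → ∀ x, pol q v x = 1 → ∀ b ∈ Rd v y, b ∈ E v ∨ b + (y.1 x + x) ∈ E v

variable (h : VD H S E R 4)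
include h

theorem sy (hv : v ∈ S) (hy : y ∈ R v) (a b : V) : pol q (y.1 a + a) b = pol q a (y.1 b + b) := by
  rw [pl, pr, ← g_pol y a (y.1 b), g_sq (h.sq v hv y hy)]

theorem r1 (hv : v ∈ S) (hy : y ∈ R v) : (ofQuad q).perp (E v) ≤ Rd v y := fun b hb =>
  ⟨hb v (h.memE v hv), mem_sp_of_perp₄ h.nondeg fun z hz => by
    rw [sy h hv hy]; exact pc (hb _ (h.perp v hv y hy z hz))⟩

theorem r2 (hv : v ∈ S) (hy : y ∈ R v) (x : V) : y.1 x + x ∈ Rd v y :=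
  ⟨h.s_perp hv hy x, Or.inl (by rw [g_add, g_sq (h.sq v hv y hy), add_comm x, vv])⟩

theorem fr7 (hv : v ∈ S) : finrank (ZMod 2) ((ofQuad q).perp (Submodule.span (ZMod 2) {v})) = 7 := by
  have f := fr_perp h.nondeg (Submodule.span (ZMod 2) {v})
  rw [fr_sp_eq₄ (h.ne0 v hv), h.dim] at f
  omega

theorem r3 (hv : v ∈ S) (hy : y ∈ R v) (hb : pol q v b = 0) (hn : b ∉ Rd v y) :
    finrank (ZMod 2) (Rd v y) ≤ 5 := by
  obtain ⟨a, a1, a2⟩ := sep1 h.nondeg (fun e => hn ⟨hb, Or.inl e⟩) fun e => hn ⟨hb, Or.inr e⟩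
  obtain ⟨K, k1, -⟩ := exists_sub_perp (q := q) ((ofQuad q).perp (Submodule.span (ZMod 2) {v})) [y.1 b + b]
  have le : Rd v y ⊔ Submodule.span (ZMod 2) {b} ≤ K := by
    refine sup_le (fun z hz => (k1 z).2 ⟨(Form.mem_perp_singleton _).2 hz.1, ?_⟩) ?_
    · rw [List.forall_mem_singleton, sy h hv hy]
      rcases hz.2 with e | e <;> rw [e]
      exacts [p0r _, pc hb]
    · rw [Submodule.span_singleton_le_iff_mem, k1, List.forall_mem_singleton]
      have := h.ts v hv _ (h.perp v hv y hy b hb)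
      rw [quad_add, g_q, z2add, zero_add] at this
      exact ⟨(Form.mem_perp_singleton _).2 hb, by rw [pl, this, pp, add_zero]⟩
  have lt : K < (ofQuad q).perp (Submodule.span (ZMod 2) {v}) :=
    lt_of_le_of_ne (fun a ha => ((k1 a).1 ha).1) fun e => by
      have := ((k1 a).1 (e ▸ (Form.mem_perp_singleton _).2 a1)).2 _ List.mem_cons_self
      rw [a2] at this
      exact one_ne_zero this
  have f1 := Submodule.finrank_lt_finrank_of_lt lt
  have f2 := Submodule.finrank_mono le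
  rw [fr_sup_sp' hn] at f2
  rw [fr7 h hv] at f1
  omega

theorem r5 (hv : v ∈ S) (hy : y ∈ R v) (hy' : y' ∈ R v) (x : V) :
    (y * y').1 x + x + (y'.1 x + x) + (y.1 x + x) ∈ E v := by
  have := h.perp v hv y hy _ (h.s_perp hv hy' x)
  rw [g_add] at this
  convert this using 1
  change y.1 (y'.1 x) + x + (y'.1 x + x) + (y.1 x + x) = _
  linear_combination (norm := (match_scalars <;> grind)) (1 : ZMod 2) • vv x

theorem r4 (hv : v ∈ S) (hy : y ∈ R v) (hy' : y' ∈ R v) (ha : ∀ b, pol q v b = 0 → b ∈ Rd v y) (x : V) :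
    (y * y').1 x + x ∈ Rd v y' := by
  obtain ⟨h1, h2⟩ := r2 h hv (mul_mem hy hy') x
  generalize (y * y').1 x + x = b at h1 h2
  have k : pol q v (y'.1 b) = 0 := by rw [← h.fix v hv y' hy', g_pol, h1]
  refine ⟨h1, mem_sp.1 ?_⟩
  have := add_mem (mem_sp.2 h2) (mem_sp.2 (ha _ k).2)
  rwa [show (y * y').1 b = y.1 (y'.1 b) from rfl, add_add_add_comm, vv, zero_add, add_comm] at this

theorem exR (hv : v ∈ S) (hx : pol q v x = 1) {U : Submodule (ZMod 2) V} (hE : E v ≤ U)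
    (hU : finrank (ZMod 2) U ≤ 6) : ∃ y ∈ R v, y.1 x + x ∉ U := by
  obtain ⟨s, -, s1, s2⟩ := exists_perp (q := q) ⊤ U [v] (by rw [finrank_top, h.dim]; simp; omega)
  obtain ⟨y, hy, e⟩ := h.surj v hv x s hx (s2 v List.mem_cons_self)
  exact ⟨y, hy, fun c => s1 (mem_r (hE e) c)⟩

theorem fe_of (hv : v ∈ S) (hn : ¬ Ea R v) : Fe S E R v := by
  obtain ⟨x0, hx0⟩ := h.exists_x hv
  obtain ⟨y0, hy0, b0, c1, c2⟩ : ∃ y ∈ R v, ∃ b, pol q v b = 0 ∧ b ∉ Rd v y := by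
    by_contra c
    push Not at c
    exact hn fun y hy => ⟨_, ei_of_triv h.nondeg (h.sing hv) hx0 (h.fix v hv y hy) fun u hu =>
      (c y hy u hu).2.imp veq.1 fun e => by rw [veq'.1 e, add_comm]⟩
  have f1 := fr_perp h.nondeg (E v)
  have f2 := h.finrank_E_le hv
  have lp : E v ≤ (ofQuad q).perp (E v) := fun a ha b hb => h.perpE hv hb ha
  rw [h.dim] at f1
  have d : finrank (ZMod 2) (E v) = 4 := by
    by_contra d
    have k : ∀ y ∈ R v, ∀ b, pol q v b = 0 → b ∉ Rd v y → (ofQuad q).perp (E v) = Rd v y :=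
      fun y hy b b1 b2 => eq_of_fr (r1 h hv hy) (by have := r3 h hv hy b1 b2; omega)
    have e0 := k y0 hy0 b0 c1 c2
    obtain ⟨y, hy, e⟩ := exR h hv hx0 lp (by have := r3 h hv hy0 c1 c2; rw [e0]; omega)
    refine e (mem_r (lp (r5 h hv hy hy0 x0)) (e0 ▸ add_mem (r4 h hv hy hy0 (fun b b1 => ?_) x0) (r2 h hv hy0 x0)))
    by_contra b2
    exact e (k y hy b b1 b2 ▸ r2 h hv hy x0)
  have k : ∀ y ∈ R v, y ≠ 1 → ∀ x, pol q v x = 1 → ∀ b, pol q v b = 0 → b ∉ Rd v y →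
      E v ⊔ Submodule.span (ZMod 2) {y.1 x + x} = Rd v y := fun y hy y1 x hx b b1 b2 =>
    eq_of_fr (sup_le (lp.trans (r1 h hv hy)) ((Submodule.span_singleton_le_iff_mem _ _).2 (r2 h hv hy x))) (by
      rw [fr_sup_sp' fun e => y1 (h.inj v hv y hy x hx e), d]; exact r3 h hv hy b1 b2)
  refine ⟨hv, d, fun y hy y1 x hx b hb => ?_⟩
  by_cases c : ∀ b, pol q v b = 0 → b ∈ Rd v y
  · have e0 := k y0 hy0 (by rintro rfl; exact c2 ⟨c1, Or.inl (vv _)⟩) x hx b0 c1 c2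
    have := mem_r (B := Rd v y0) (e0 ▸ Submodule.mem_sup_left (r5 h hv hy hy0 x))
      (add_mem (r4 h hv hy hy0 c x) (r2 h hv hy0 x))
    rw [← e0, mem_sup_sp] at this
    rcases this with e | e
    · exact absurd (h.inj v hv y hy x hx e) y1
    · rw [add_add_add_comm, vv, add_zero] at e
      exact absurd (h.eq_of_s hv hy hy0 hx e ▸ c b0 c1) c2
  · push Not at c
    obtain ⟨b1, c3, c4⟩ := c
    rwa [← k y hy y1 x hx b1 c3 c4, mem_sup_sp] at hb

theorem nofix (hv : v ∈ S) (hb : ∀ y ∈ R v, y.1 b = b) : pol q v b = 0 := z2ne' fun e => by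
  obtain ⟨y, hy, k⟩ := exR h hv e le_rfl (by have := h.finrank_E_le hv; omega)
  rw [hb y hy, vv] at k
  exact k (zero_mem _)

theorem Fe.key (f : Fe S E R v) (hb : ∀ y ∈ R v, b ∈ Rd v y) : b ∈ E v := by
  obtain ⟨x, hx⟩ := h.exists_x f.mem
  obtain ⟨y, hy, k⟩ := exR h f.mem hx (U := E v ⊔ Submodule.span (ZMod 2) {b}) le_sup_left
    (by have := fr_sup_sp (E v) b; have := f.dim; omega)
  refine (f.rd y hy ?_ x hx b (hb y hy)).resolve_right fun e => k (mem_sup_sp.2 (Or.inr (add_comm b _ ▸ e)))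
  rintro rfl
  exact k (by rw [show (1 : (ofQuad q).Isom).1 x = x from rfl, vv]; exact zero_mem _)

theorem Fe.fix (f : Fe S E R v) (b0 : b ≠ 0) (hb : ∀ y ∈ R v, y.1 b = b) : b = v := by
  by_contra c
  obtain ⟨y, hy, e⟩ := h.shift f.mem
    (f.key h fun y hy => ⟨nofix h f.mem hb, Or.inl (veq.2 (hb y hy))⟩) b0 c
  exact h.ne0 v f.mem (by simpa [hb y hy] using e)

theorem Fe.ea (f : Fe S E R v) (hu : u ∈ S) (he : Ea R u) (hf : ∀ y ∈ R u, y.1 v = v) : u = v := by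
  by_contra ne
  have hv := f.mem
  have uv := nofix h hu hf
  have u0 := h.ne0 u hu
  let P : Submodule (ZMod 2) V := mkSub {s | pol q u s = 0 ∧ ∃ y ∈ R u, Ei u s y}
    ⟨by simp, 1, one_mem _, fun x => by simp⟩ fun a ha b hb => by
      obtain ⟨a1, y, hy, e⟩ := ha
      obtain ⟨b1, y', hy', e'⟩ := hb
      exact ⟨by rw [pr, a1, b1, add_zero], _, mul_mem hy hy', e.mul (h.sing hu) a1 b1 e'⟩
  have sup : P ⊔ E u = (ofQuad q).perp (Submodule.span (ZMod 2) {u}) :=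
    le_antisymm (sup_le (fun s hs => (Form.mem_perp_singleton _).2 hs.1)
      fun s hs => (Form.mem_perp_singleton _).2 (h.perpE hu (h.memE u hu) hs)) fun s hs => by
      obtain ⟨x, hx⟩ := h.exists_x hu
      obtain ⟨y, hy, e⟩ := h.surj u hu x s hx ((Form.mem_perp_singleton _).1 hs)
      obtain ⟨t, h1, h2⟩ := he y hy
      rw [h2.ap1 hx, add_assoc x, vv3, add_right_comm] at e
      exact mem_r (Submodule.mem_sup_right (mem_l e (Submodule.smul_mem _ _ (h.memE u hu))))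
        (Submodule.mem_sup_left ⟨h1, y, hy, h2⟩)
  have nE : u ∉ E v := fun c => by
    refine (mem_sp_of_perp₄ h.nondeg (v := u) (x := v) fun z hz => ?_).elim (h.ne0 v hv) (Ne.symm ne)
    obtain ⟨p, ⟨p1, y, hy, p2⟩, e, he, rfl⟩ := Submodule.mem_sup.1 (sup ▸ (Form.mem_perp_singleton _).2 hz)
    have := p2.ap0 uv
    rw [hf y hy, left_eq_add, smul_eq_zero_iff_left u0] at this
    rw [pr, pc this, h.perpE hu (h.symm u hu v hv c) he, add_zero]
  obtain ⟨e, he, ue⟩ : ∃ e ∈ E v, pol q e u = 1 := by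
    by_contra c
    push Not at c
    exact nE (perp_self h.nondeg (fun a ha b hb => h.perpE hv ha hb) (by rw [f.dim, h.dim])
      fun a ha => z2ne' (c a ha))
  obtain ⟨K, k1, k2⟩ := exists_sub_perp (q := q) P [e]
  obtain ⟨L, l1, -⟩ := exists_sub_perp (q := q) (E v) [u]
  have le : K ≤ L := fun s hs => by
    obtain ⟨⟨s1, y, hy, s2⟩, s3⟩ := (k1 s).1 hs
    have := (h.eqE y (h.le u hu hy) v hv e).2 he
    rw [hf y hy, s2.ap1 (pc ue), pc (s3 e List.mem_cons_self), zero_add, add_assoc] at this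
    have m := mem_r this he
    have := h.ts v hv _ m
    rw [quad_add, qs, psr, h.sing hu, pc s1, mul_zero, add_zero, add_zero] at this
    rw [this, zero_smul, add_zero] at m
    exact (l1 s).2 ⟨m, by simpa using s1⟩
  have lt : L < E v := lt_of_le_of_ne (fun a ha => ((l1 a).1 ha).1) fun c => by
    have := ((l1 e).1 (c ▸ he)).2 u List.mem_cons_self
    rw [pc ue] at this
    exact one_ne_zero this
  have f1 := Submodule.finrank_lt_finrank_of_lt lt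
  have f2 := fr_si P (E u)
  have f3 := Submodule.finrank_mono ((Submodule.span_singleton_le_iff_mem u (P ⊓ E u)).2 ⟨⟨pp _, 1, one_mem _, by
    have : Ei u 0 (1 : (ofQuad q).Isom) := fun x => by simp
    simpa using this.add_self (h.sing hu) (by simp)⟩, h.memE u hu⟩)
  have f4 := h.finrank_E_le hu
  rw [sup, fr7 h hu] at f2
  rw [fr_sp_eq₄ u0] at f3
  rw [f.dim] at f1
  rw [List.length_singleton] at k2
  have e0 := eq_of_fr le (by omega)
  obtain ⟨-, t, ht, et⟩ := ((k1 v).1 (e0 ▸ (l1 v).2 ⟨h.memE v hv, by simpa using uv⟩)).1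
  have et' := et.swap (h.sing hu) (h.sing hv)
  refine nE (f.key h fun y hy => ⟨pc uv, ?_⟩)
  obtain ⟨x, hx⟩ := h.exists_x hv
  have c1 := et'.conj y
  rw [h.fix v hv y hy] at c1
  have c2 := c1.mul (h.sing hv) (by rw [← h.fix v hv y hy, g_pol, pc uv]) (pc uv) et'
  have c3 : y * t * y⁻¹ * t ∈ R v := by
    have := (h.eqR t (h.le u hu ht) v hv y⁻¹).2 (inv_mem hy)
    rw [hf t ht, inv_eq_of_mul_eq_one_right (h.sq u hu t ht)] at this
    simpa only [mul_assoc] using mul_mem hy this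
  rw [h.inj v hv _ c3 x hx (by
    rw [c2.ap1 hx, add_assoc x, vv3]
    exact add_mem (h.perp v hv y hy u (pc uv)) (Submodule.smul_mem _ _ (h.memE v hv)))] at c2
  exact c2.eq_of_one hx

theorem Ea.conj (hu : u ∈ S) (he : Ea R u) (hy : y ∈ H) : Ea R (y.1 u) := fun t ht => by
  obtain ⟨s, s1, s2⟩ := he (y⁻¹ * t * y) ((h.eqR y hy u hu _).1 (by simpa [mul_assoc] using ht))
  exact ⟨y.1 s, by rw [g_pol, s1], by simpa [mul_assoc] using s2.conj y⟩

theorem Fe.trans (f : Fe S E R v) (hu : u ∈ S) : ∃ g ∈ H, g.1 u = v := by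
  have pi : ∀ u ∈ S, IsPi {2} (R u) := fun u hu => isPi_of_isPGroup Nat.prime_two fun y =>
    ⟨1, Subtype.ext (by simpa [pow_two] using h.sq u hu y y.2)⟩
  obtain ⟨T, hT, le⟩ := Sylow_superset Nat.prime_two (pi v f.mem) (h.le v f.mem)
  obtain ⟨g, hg, le'⟩ := Sylow_Jsub Nat.prime_two hT (pi u hu) (h.le u hu)
  obtain ⟨b, hb, b0⟩ := (hT.pi.isPGroup Nat.prime_two).exists_fixed_point_of_prime_dvd_card_of_fixed_point V
    (by rw [card_V, h.dim]; decide) (a := 0) fun t => g_zero t.1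
  obtain rfl := f.fix h b0.symm fun y hy => hb ⟨y, le hy⟩
  have k : ∀ y ∈ R (g.1 u), y.1 b = b := fun y hy => hb ⟨y, le' (mem_cj.2
    ((h.eqR g hg u hu _).1 (by simpa [mul_assoc] using hy)))⟩
  have gS := h.inv g hg u hu
  refine ⟨g, hg, ?_⟩
  by_cases c : Ea R (g.1 u)
  · exact f.ea h gS c k
  · exact ((fe_of h gS c).fix h b0.symm k).symm

theorem fe_all (hf : ¬ Eich S R) (hu : u ∈ S) : Fe S E R u := by
  obtain ⟨v, hv, c⟩ : ∃ v ∈ S, ¬ Ea R v := by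
    by_contra c
    push Not at c
    exact hf c
  obtain ⟨g, hg, rfl⟩ := (fe_of h hv c).trans h hu
  exact fe_of h hu fun e => c (e.conj h hu hg)

omit h in
theorem par (hq : (ofQuad q).Nondeg) {e a1 b1 a2 b2 a3 b3 : V} (e0 : e ≠ 0) (qe : q e = 0)
    (c1 : pol q a1 b1 = 1) (c2 : pol q a2 b2 = 1 ∨ a2 = 0 ∧ b2 = 0) (c3 : pol q a3 b3 = 1 ∨ a3 = 0 ∧ b3 = 0)
    (o : pol q e a1 = 0 ∧ pol q e a2 = 0 ∧ pol q e a3 = 0 ∧ pol q a1 a2 = 0 ∧ pol q a1 a3 = 0 ∧ pol q a2 a3 = 0)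
    (o' : pol q b1 b2 = 0 ∧ pol q b1 b3 = 0 ∧ pol q b2 b3 = 0)
    (m : pol q e b1 = 0 ∧ pol q e b2 = 0 ∧ pol q e b3 = 0 ∧ pol q a1 b2 = 0 ∧ pol q a1 b3 = 0 ∧
      pol q a2 b1 = 0 ∧ pol q a2 b3 = 0 ∧ pol q a3 b1 = 0 ∧ pol q a3 b2 = 0) :
    ∃ f, q f = 0 ∧ pol q e f = 1 ∧ pol q a1 f = 0 ∧ pol q a2 f = 0 ∧ pol q a3 f = 0 ∧
      pol q b1 f = 0 ∧ pol q b2 f = 0 ∧ pol q b3 f = 0 := by
  obtain ⟨z, hz⟩ := sep0 hq e0
  obtain ⟨m1, m2, m3, m4, m5, m6, m7, m8, m9⟩ := m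
  obtain ⟨o1, o2, o3, o4, o5, o6⟩ := o
  obtain ⟨o7, o8, o9⟩ := o'
  obtain ⟨w, hw⟩ : ∃ w, pol q e w = 1 ∧ pol q a1 w = 0 ∧ pol q a2 w = 0 ∧ pol q a3 w = 0 ∧
      pol q b1 w = 0 ∧ pol q b2 w = 0 ∧ pol q b3 w = 0 := by
    refine ⟨z + pol q a1 z • b1 + pol q b1 z • a1 + pol q a2 z • b2 + pol q b2 z • a2 + pol q a3 z • b3 +
      pol q b3 z • a3, ?_⟩
    simp only [pr, psr, pp, hz, c1, pc c1, m1, m2, m3, m4, m5, m6, m7, m8, m9, pc m4, pc m5, pc m6, pc m7, pc m8,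
      pc m9, o1, o2, o3, o4, o5, o6, o7, o8, o9, pc o4, pc o5, pc o6, pc o7, pc o8, pc o9, mul_zero, mul_one,
      add_zero, z2add, true_and]
    rw [pol_comm q b2 a2, pol_comm q b3 a3]
    rcases c2 with c2 | ⟨c2, d2⟩ <;> rcases c3 with c3 | ⟨c3, d3⟩ <;>
      simp only [*, p0l, mul_one, mul_zero, add_zero, z2add, and_self]
  obtain ⟨w1, w2, w3, w4, w5, w6, w7⟩ := hw
  exact ⟨w + q w • e, by rw [quad_add, qs, psr, qe, pc w1, mul_zero, mul_one, add_zero, z2add], by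
    simp only [pr, psr, pp, w1, w2, w3, w4, w5, w6, w7, pc o1, pc o2, pc o3, pc m1, pc m2, pc m3, mul_zero,
      add_zero, and_self]⟩

omit h in
theorem bt_ge : ∀ a < 256, (bt a 4 : ZMod 2) = 0 → (bt a 5 : ZMod 2) = 0 → (bt a 6 : ZMod 2) = 0 →
    (bt a 7 : ZMod 2) = 0 → a < 16 := by decide +kernel

omit h in
theorem bt_lt : ∀ a < 16, (bt a 4 = 0 ∧ bt a 5 = 0 ∧ bt a 6 = 0 ∧ bt a 7 = 0) ∧ ((bt a 0 : ZMod 2) = 0 →
    (bt a 1 : ZMod 2) = 0 → (bt a 2 : ZMod 2) = 0 → (bt a 3 : ZMod 2) = 0 → a = 0) := by decide +kernel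

theorem frame (f : Fe S E R v) (hx : pol q v x = 1) (qx : q x = 0) :
    ∃ c, Cd q c ∧ c 1 = v ∧ c 128 = x ∧ ∀ a < 256, c a ∈ E v ↔ a < 16 := by
  have hv := f.mem
  have d := f.dim
  have mv := h.memE v hv
  have pE := fun {a b} => h.perpE hv (e := a) (u := b)
  obtain ⟨e1, h1, n1, l1⟩ := exists_perp0 (q := q) (E v) [x] (by simp; omega)
  simp only [List.forall_mem_cons, List.not_mem_nil, false_imp_iff, implies_true, and_true] at l1
  obtain ⟨f1, a0, a1, a2, -, -, a3, -, -⟩ := par h.nondeg n1 (h.ts v hv _ h1) hx (Or.inr ⟨rfl, rfl⟩)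
    (Or.inr ⟨rfl, rfl⟩) (by simp only [pE h1 mv, p0r, and_self]) (by simp only [p0r, and_self])
    (by simp only [pc l1, p0l, p0r, and_self])
  obtain ⟨e2, h2, n2, l2⟩ := exists_perp0 (q := q) (E v) [x, f1] (by simp; omega)
  simp only [List.forall_mem_cons, List.not_mem_nil, false_imp_iff, implies_true, and_true] at l2
  obtain ⟨f2, b0, b1, b2, b3, -, b4, b5, -⟩ := par h.nondeg n2 (h.ts v hv _ h2) hx (Or.inl a1)
    (Or.inr ⟨rfl, rfl⟩) (by simp only [pE h2 mv, pE h2 h1, pE mv h1, p0r, and_self])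
    (by simp only [a3, p0r, and_self]) (by simp only [pc l1, pc l2.1, pc l2.2, a2, p0l, p0r, and_self])
  obtain ⟨e3, h3, n3, l3⟩ := exists_perp0 (q := q) (E v) [x, f1, f2] (by simp; omega)
  simp only [List.forall_mem_cons, List.not_mem_nil, false_imp_iff, implies_true, and_true] at l3
  obtain ⟨f3, c0, c1, c2, c3, c4, c5, c6, c7⟩ := par h.nondeg n3 (h.ts v hv _ h3) hx (Or.inl a1) (Or.inl b1)
    ⟨pE h3 mv, pE h3 h1, pE h3 h2, pE mv h1, pE mv h2, pE h1 h2⟩ ⟨a3, b4, b5⟩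
    ⟨pc l3.1, pc l3.2.1, pc l3.2.2, a2, b2, pc l1, b3, pc l2.1, pc l2.2⟩
  let c : ℕ → V := fun a => (bt a 0 : ZMod 2) • v + (bt a 1 : ZMod 2) • e1 + (bt a 2 : ZMod 2) • e2 +
    (bt a 3 : ZMod 2) • e3 + ((bt a 4 : ZMod 2) • f1 + (bt a 5 : ZMod 2) • f2 + (bt a 6 : ZMod 2) • f3 +
    (bt a 7 : ZMod 2) • x)
  have add : ∀ a b, c (a ^^^ b) = c a + c b := fun a b => by
    simp only [c, bt_xor, add_smul]; abel
  have mE : ∀ a < 256, c a ∈ E v ↔ a < 16 := fun a ha => by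
    have m : (bt a 0 : ZMod 2) • v + (bt a 1 : ZMod 2) • e1 + (bt a 2 : ZMod 2) • e2 +
        (bt a 3 : ZMod 2) • e3 ∈ E v := add_mem (add_mem (add_mem (Submodule.smul_mem _ _ mv)
      (Submodule.smul_mem _ _ h1)) (Submodule.smul_mem _ _ h2)) (Submodule.smul_mem _ _ h3)
    refine ⟨fun k => ?_, fun k => add_mem m ?_⟩
    · have k := mem_r k m
      have k0 := pE mv k
      have k1 := pE h1 k
      have k2 := pE h2 k
      have k3 := pE h3 k
      simp only [pr, psr, a1, a2, b1, b2, b3, c1, c2, c3, c4, hx, pc l1, pc l2.1, pc l2.2, pc l3.1, pc l3.2.1,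
        pc l3.2.2, mul_zero, mul_one, add_zero, zero_add] at k0 k1 k2 k3
      exact bt_ge a ha k1 k2 k3 k0
    · obtain ⟨k1, k2, k3, k4⟩ := (bt_lt a k).1
      simp [k1, k2, k3, k4]
  have inj : ∀ a < 256, c a = 0 → a = 0 := fun a ha k => by
    have lt := (mE a ha).1 (k ▸ zero_mem _)
    have k0 := congrArg (pol q x) k
    have k1 := congrArg (pol q f1) k
    have k2 := congrArg (pol q f2) k
    have k3 := congrArg (pol q f3) k
    simp only [c, pr, psr, pp, p0r, pc a1, pc a2, a3, pc a3, pc b1, pc b2, pc b3, b4, pc b4, b5, pc b5, pc c1, pc c2,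
      pc c3, pc c4, c5, c6, c7, pc c5, pc c6, pc c7, pc hx, l1, l2.1, l2.2, l3.1, l3.2.1, l3.2.2, mul_zero, mul_one,
      add_zero, zero_add] at k0 k1 k2 k3
    exact (bt_lt a lt).2 k0 k1 k2 k3
  refine ⟨c, ⟨fun a _ b _ => add a b, inj, fun z => ?_, fun a _ => ?_⟩, by simp [c, bt], by
    simp only [c, show bt 128 0 = 0 ∧ bt 128 1 = 0 ∧ bt 128 2 = 0 ∧ bt 128 3 = 0 ∧ bt 128 4 = 0 ∧ bt 128 5 = 0 ∧
      bt 128 6 = 0 ∧ bt 128 7 = 1 by decide]
    simp, mE⟩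
  · obtain ⟨a, ha⟩ := ((Nat.bijective_iff_injective_and_card fun a : Fin 256 => c a).2 ⟨fun a b e =>
      Fin.ext (Nat.eq_of_xor_eq_zero (inj _ (xor_lt a.2 b.2) (by rw [add]; exact veq.2 e))),
      by rw [card_V (V := V), h.dim, Nat.card_fin]; rfl⟩).2 z
    exact ⟨a, a.2, ha⟩
  · rw [qN, beN_cast]
    simp only [c, quad_add, qs, pl, pr, psl, psr, a0, a1, a2, b0, b1, b2, b3, b5, c0, c1, c2, c3, c4, c6, c7, hx, qx,
      pc a3, pc b4, pc c5, pc l1, pc l2.1, pc l2.2, pc l3.1, pc l3.2.1, pc l3.2.2, h.ts v hv _ mv, h.ts v hv _ h1,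
      h.ts v hv _ h2, h.ts v hv _ h3, pE mv h1, pE mv h2, pE mv h3, pE h1 h2, pE h1 h3, pE h2 h3, mul_zero, mul_one,
      add_zero, zero_add]
    ring

omit h in
theorem chk : ∀ j < 3, go (fun l => cmp (l.map Prod.snd) (l.map Prod.snd) != idM ||
    app (l.map Prod.snd) (2 ^ (4 + (j + 1) % 3)) / 2 == 2 ^ (4 + (j + 1) % 3) / 2 ||
    (List.range 8).any fun a => l.map Prod.snd == gR (a * 8 ^ j) j)
    (([128, 64, 32, 16, 8, 4, 2, 1].zip [2 ^ (4 + j), 0, 0, 0, 0, 0, 0, 0]).map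
      fun p => (p.1, (List.range 16).map (· ^^^ (p.1 ^^^ p.2)))) [] = true := by decide +kernel

theorem gen (f : Fe S E R v) {c : ℕ → V} (hc : Cd q c) (h1 : c 1 = v) (hE : ∀ a < 256, c a ∈ E v ↔ a < 16)
    {j : ℕ} (hj : j < 3) : ∃ a < 8, ∃ y ∈ R v, Rp c y (gR (a * 8 ^ j) j) := by
  have hv := f.mem
  have lt : ∀ i < 3, 2 ^ (4 + i) < 256 ∧ polN 1 (2 ^ (4 + i)) = 0 := by decide
  have hx : pol q v (c 128) = 1 := h1 ▸ (hc.pol1 (by decide) (by decide)).2 (by decide)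
  have p0 : ∀ a < 256, polN 1 a = 0 → pol q v (c a) = 0 := fun a ha e => h1 ▸ (hc.pol0 (by decide) ha).2 e
  obtain ⟨y, hy, e⟩ := h.surj v hv (c 128) (c (2 ^ (4 + j))) hx (p0 _ (lt j hj).1 (lt j hj).2)
  have k : ∀ b < 256, ∀ t < 256, y.1 (c b) + c b + c t ∈ E v →
      ∃ m ∈ (List.range 16).map (· ^^^ (b ^^^ t)), m < 256 ∧ y.1 (c b) = c m := fun b hb t ht m => by
    obtain ⟨a, ha, ea⟩ := hc.surj (y.1 (c b) + c b + c t)
    refine ⟨_, List.mem_map.2 ⟨a, List.mem_range.2 ((hE a ha).1 (ea ▸ m)), rfl⟩, xor_lt ha (xor_lt hb ht), ?_⟩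
    rw [hc.add _ ha _ (xor_lt hb ht), hc.add _ hb _ ht, ea, add_assoc (y.1 _), vv2]
  have k0 : ∀ b < 256, polN 1 b = 0 →
      ∃ m ∈ (List.range 16).map (· ^^^ (b ^^^ 0)), m < 256 ∧ y.1 (c b) = c m := fun b hb e =>
    k b hb 0 (by decide) (by rw [hc.zero, add_zero]; exact h.perp v hv y hy _ (p0 b hb e))
  obtain ⟨l, l1, l2, l3⟩ := hc.go (h := y) _ [] (by
    simp only [List.zip_cons_cons, List.zip_nil_right, List.map_cons, List.map_nil, List.forall_mem_cons]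
    exact ⟨⟨by decide, k _ (by decide) _ (lt j hj).1 e⟩, ⟨by decide, k0 _ (by decide) (by decide)⟩,
      ⟨by decide, k0 _ (by decide) (by decide)⟩, ⟨by decide, k0 _ (by decide) (by decide)⟩,
      ⟨by decide, k0 _ (by decide) (by decide)⟩, ⟨by decide, k0 _ (by decide) (by decide)⟩,
      ⟨by decide, k0 _ (by decide) (by decide)⟩, ⟨by decide, k0 _ (by decide) (by decide)⟩, by simp⟩)
    (by simp) (chk j hj)
  have l0 : l.map Prod.fst = idM := l1
  have rp : Rp c y (l.map Prod.snd) := ⟨⟨by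
    rw [List.length_map, ← List.length_map Prod.fst, l0]; rfl, fun m hm => by
      obtain ⟨p, hp, rfl⟩ := List.mem_map.1 hm
      exact (l2 p hp).2.1⟩, fun a ha => by rw [← hc.lin l l2 a, l0, app_idM ha]⟩
  generalize l.map Prod.snd = M at l3 rp
  simp only [Bool.or_eq_true, bne_iff_ne, beq_iff_eq, List.any_eq_true, List.mem_range] at l3
  rcases l3 with (l3 | l3) | ⟨a, ha, rfl⟩
  · exact absurd (hc.uniq (h.sq v hv y hy ▸ rp.mul rp) hc.rp_one) l3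
  · exfalso
    obtain ⟨i1, i2⟩ := lt _ (Nat.mod_lt (j + 1) (by decide : 0 < 3))
    have i3 : ¬ 2 ^ (4 + (j + 1) % 3) < 16 ∧ ¬ 2 ^ (4 + (j + 1) % 3) ^^^ 2 ^ (4 + j) < 16 ∧
        ¬ 2 ^ (4 + j) < 16 := by interval_cases j <;> decide
    generalize 2 ^ (4 + (j + 1) % 3) = n at l3 i1 i2 i3
    have i4 : app M n ^^^ n = 0 ∨ app M n ^^^ n = 1 := by
      have := Nat.xor_div_two (a := app M n) (b := n)
      rw [l3, Nat.xor_self] at this
      omega
    rcases f.rd y hy (by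
        rintro rfl
        rw [show (1 : (ofQuad q).Isom).1 (c 128) = c 128 from rfl, vv, zero_add, hE _ (lt j hj).1] at e
        exact i3.2.2 e) _ hx (c n) ⟨p0 n i1 i2, by
        rw [rp.2 n i1, ← hc.add _ (app_lt rp.1 n) _ i1]
        exact i4.imp (fun t => by rw [t, hc.zero]) fun t => by rw [t, h1]⟩ with t | t
    · exact i3.1 ((hE n i1).1 t)
    · have := add_mem t e
      rw [add_assoc, vv1, ← hc.add _ i1 _ (lt j hj).1, hE _ (xor_lt i1 (lt j hj).1)] at this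
      exact i3.2.1 this
  · exact ⟨a, ha, y, hy, rp⟩

omit h in
theorem chk2 : ∀ L < 512, (lR L).map (fun M => app M 128 / 16) = [8, 9, 10, 11, 12, 13, 14, 15] := by
  decide +kernel

end ZL

open ZL

variable (hv : VD H S E R 4) (hi : IrrV H) (hf : ¬ Eich S R)
include hv hi hf

theorem VD.free_dim {v : V} (h : v ∈ S) : finrank (ZMod 2) (E v) = 4 := (fe_all hv hf h).dim

theorem VD.free_trans {u v : V} (hu : u ∈ S) (h : v ∈ S) : ∃ g ∈ H, g.1 u = v :=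
  (fe_all hv hf h).trans hv hu

theorem VD.free_frame : ∃ c, Cd q c ∧ c 1 ∈ S ∧ c 128 ∈ S ∧ ∀ a < 256, c a ∈ E (c 1) ↔ a < 16 := by
  obtain ⟨v, h⟩ := hv.nonempty
  obtain ⟨x, hx, e⟩ := ZE.opp hv hi h
  obtain ⟨c, hc, rfl, rfl, k⟩ := frame hv (fe_all hv hf h) e (hv.sing hx)
  exact ⟨c, hc, h, hx, k⟩

theorem VD.free_nf {c : ℕ → V} (hc : Cd q c) (h1 : c 1 ∈ S)
    (hE : ∀ a < 256, c a ∈ E (c 1) ↔ a < 16) : ∃ L < 512, At c E R ⟨1, List.range 16, lR L⟩ := by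
  have f := fe_all hv hf h1
  obtain ⟨a0, b0, g0⟩ := gen hv f hc rfl hE (j := 0) (by decide)
  obtain ⟨a1, b1, g1⟩ := gen hv f hc rfl hE (j := 1) (by decide)
  obtain ⟨a2, b2, g2⟩ := gen hv f hc rfl hE (j := 2) (by decide)
  have e : ∀ {L L' j : ℕ}, L / 8 ^ j % 8 = L' / 8 ^ j % 8 → gR L j = gR L' j := fun e => by
    simp only [gR, e]
  have lt : a0 + 8 * a1 + 64 * a2 < 512 := by omega
  have toR : ∀ M ∈ lR (a0 + 8 * a1 + 64 * a2), ∃ y ∈ R (c 1), Rp c y M := fun M hM => by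
    obtain ⟨w, -, rfl⟩ := List.mem_map.1 hM
    refine hc.evM ?_ w
    simp only [List.forall_mem_cons]
    exact ⟨by rwa [e (L' := a0 * 8 ^ 0) (by norm_num; omega)], by rwa [e (L' := a1 * 8 ^ 1) (by norm_num; omega)],
      by rwa [e (L' := a2 * 8 ^ 2) (by norm_num; omega)], by simp⟩
  refine ⟨_, lt, (by decide : 1 < 256), (by decide : ∀ a ∈ List.range 16, a < 256), fun a ha => (hE a ha).trans List.mem_range.symm, fun y hy => ?_, toR⟩
  have hx : pol q (c 1) (c 128) = 1 := (hc.pol1 (by decide) (by decide)).2 (by decide)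
  obtain ⟨a, ha, ea⟩ := hc.surj (y.1 (c 128))
  have : ∀ a < 256, polN 1 a = 1 → a / 16 ∈ [8, 9, 10, 11, 12, 13, 14, 15] := by decide +kernel
  have := this a ha ((hc.pol1 (by decide) ha).1 (by rw [ea, ← hv.fix _ h1 y hy, g_pol, hx]))
  rw [← chk2 _ lt] at this
  obtain ⟨M, hM, eM⟩ := List.mem_map.1 this
  obtain ⟨y', hy', rp⟩ := toR M hM
  refine ⟨M, hM, hv.eq_of_s h1 hy hy' hx ?_ ▸ rp⟩
  rw [← ea, rp.2 _ (by decide), ← hc.add _ ha _ (app_lt rp.1 _), hE _ (xor_lt ha (app_lt rp.1 _))]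
  have := Nat.xor_div_two_pow (a := a) (b := app M 128) (n := 4)
  rw [show 2 ^ 4 = 16 from rfl, eM, Nat.xor_self] at this
  omega

end XS
end H6
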