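import Mathlib
import Cfsg.Agent.H6.XZL1
import Cfsg.Agent.H7.ZL3
import Cfsg.Agent.H7.ZL5
import Cfsg.Agent.H7.ZL6
import Cfsg.Agent.H7.ZLb0
import Cfsg.Agent.H7.ZLb1
import Cfsg.Agent.H7.ZLb2
import Cfsg.Agent.H7.ZLb3
import Cfsg.Agent.H7.ZLb4

set_option autoImplicit false
set_option linter.unusedSectionVars false

namespace H6
namespace XS

open Subgroup H24 H15 H15.XP Module H7.ZL

variable {V : Type*} [AddCommGroup V] [Module (ZMod 2) V] [Finite V] {q : QuadraticForm (ZMod 2) V}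
variable {H : Subgroup (ofQuad q).Isom} {S : Set V} {E : V → Submodule (ZMod 2) V}
  {R : V → Subgroup (ofQuad q).Isom}

theorem VD.free4 (hv : VD H S E R 4) (hi : IrrV H) (hf : ¬ Eich S R) (ax : AX S E R) :
    ∃ c, Cs c S E R d27 ∨ Cs c S E R d81 ∨ Cs c S E R d15 ∨ Cs c S E R d9 ∨ Cs c S E R d75 ∨
      Cs c S E R d135 := by
  have P0 : Pr S E R 0 XS0 := fun c a1 a2 a3 a4 => by
    obtain ⟨n, n1, n2⟩ := pair hv hf hi (by decide) bulk0 a1 a2 a3 a4
    rcases List.mem_append.1 (show n ∈ XS0 ++ XA0.map Prod.fst from n1) with k | k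
    · exact ⟨n, k, n2⟩
    · obtain ⟨t, t1, rfl⟩ := List.mem_map.1 k
      obtain ⟨_, e, -⟩ := (st2 a1 a2 a3 a4 n2).res hv ax (List.all_eq_true.1 xa0 t t1)
      cases e
  have P1 : Pr S E R 192 XS1 := fun c => pair hv hf hi (by decide) bulk1
  have P2 : Pr S E R 200 XS2 := fun c => pair hv hf hi (by decide) bulk2
  have P3 : Pr S E R 473 XS3 := fun c => pair hv hf hi (by decide) bulk3
  have P4 : Pr S E R 17 [] := fun c => pair hv hf hi (by decide) bulk4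
  have nm : ∀ {r X qs c} {l : List Ce}, Pr S E R r X →
      X.all (fun n => l.any (res [p0 r, pt n] (some qs))) = true → Cd q c → c 1 ∈ S →
      At c E R (p0 r) → c 128 ∈ S → ∃ c', St S E R c' qs := fun P e a1 a2 a3 a4 => by
    obtain ⟨n, n1, n2⟩ := P _ a1 a2 a3 a4
    obtain ⟨ce, -, k⟩ := List.any_eq_true.1 (List.all_eq_true.1 e n n1)
    obtain ⟨_, ⟨⟩, k⟩ := (st2 a1 a2 a3 a4 n2).res hv ax k
    exact k
  have fin : ∀ {d x r X c}, extB d x r X none = true → Pr S E R r X → St S E R c d.pts →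
      Cs c S E R d := fun e P h => (H7.ZL.ext hv ax e P h).resolve_right fun ⟨_, k, _⟩ => by cases k
  obtain ⟨c, hc, h1, hx, hE⟩ := hv.free_frame hi hf
  obtain ⟨L, hL, h0⟩ := hv.free_nf hi hf hc h1 hE
  have t : okA L (fld TA 136 (2 ^ 136) L) = true := by
    have : okAs (L / 32) = true := by
      have : L / 32 < 16 := by omega
      generalize L / 32 = k at this
      interval_cases k
      exacts [tabA0, tabA1, tabA2, tabA3, tabA4, tabA5, tabA6, tabA7, tabA8, tabA9, tabA10, tabA11, tabA12, tabA13, tabA14, tabA15]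
    have := allN_iff.1 this (L % 32) (by omega)
    rwa [Nat.div_add_mod] at this
  simp only [okA, Bool.and_eq_true, beq_iff_eq, List.any_eq_true] at t
  obtain ⟨⟨t1, t2⟩, r, r1, -, r2⟩ := t
  obtain ⟨c', a1, a2, a3, a4, -⟩ := chg E R hc t1
  have b0 := (a4 _ h0).same r2
  have b1 : c' 1 ∈ S := by rwa [← show app _ 1 = 1 from same_u r2, a3 1 (by decide)]
  have b2 : c' 128 ∈ S := by rwa [a2 128 (by decide), t2]
  simp only [List.mem_cons, List.not_mem_nil, or_false] at r1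
  rcases r1 with rfl | rfl | rfl | rfl | rfl
  · obtain ⟨c, h⟩ := nm P0 nm0 a1 b1 b0 b2
    rcases H7.ZL.ext hv ax x27 P0 h with k | ⟨_, ⟨⟩, c, k⟩
    exacts [⟨c, .inl k⟩, ⟨c, .inr (.inl (fin x81 P0 k))⟩]
  · obtain ⟨c, h⟩ := nm P1 nm1 a1 b1 b0 b2
    exact ⟨c, .inr (.inr (.inl (fin x15 P1 h)))⟩
  · obtain ⟨c, h⟩ := nm P2 nm2 a1 b1 b0 b2
    exact ⟨c, .inr (.inr (.inr (.inr (.inl (fin x75 P2 h)))))⟩
  · obtain ⟨c, h⟩ := nm P3 nm3 a1 b1 b0 b2
    rcases H7.ZL.ext hv ax x9 P3 h with k | ⟨_, ⟨⟩, c, k⟩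
    exacts [⟨c, .inr (.inr (.inr (.inl k)))⟩, ⟨c, .inr (.inr (.inr (.inr (.inr (fin x135 P3 k)))))⟩]
  · obtain ⟨_, ⟨⟩, -⟩ := P4 _ a1 b1 b0 b2

end XS
end H6
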