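import Mathlib
import Cfsg.Agent.H6.XZDefs
import Cfsg.Agent.H6.XS2
import Cfsg.Agent.H6.XM
import Cfsg.Agent.H14.ZM2

set_option autoImplicit false
set_option linter.unusedSectionVars false

namespace H6
namespace XS

open Subgroup H24 H15 H15.XP Module H20.XA H14.ZM
open scoped commutatorElement

variable {G : Type*} [Group G] [Finite G] {D : Set G} {Q : G → Subgroup G} {z : G}
variable {V : Type*} [AddCommGroup V] [Module (ZMod 2) V] [Finite V]
variable {F : Fr z (Q z) V} {E : V → Submodule (ZMod 2) V} {R : V → Subgroup (ofQuad F.q).Isom}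
variable {c : ℕ → V}

theorem Sit.one_plus (h : Sit D Q 4) (hz : z ∈ D) (hl : Lift D Q F E R)
    (hv : VD F.ρ.range (F.VV D) E R 4) (ho : OneV (F.VV D) E R) :
    ∃ A, TS F.q A ∧ finrank (ZMod 2) A = 4 := by
  by_contra hn
  obtain ⟨a, b, ha, hb, hab, P, tP, P3, P0⟩ := exists_minus F.nondeg hv.dim hn
  replace P0 : P ≤ V0 F.q a b := fun p hp => mem_V0.2 (P0 p hp)
  have ei : ∀ u s, F.q u = 0 → u ≠ 0 → pol F.q u s = 0 → ∀ y, Ei u s y → y ∈ F.ρ.range :=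
    fun u s hu u0 hs y hy => hv.le u (ho.memS u u0 hu) ((ho.memR u (ho.memS u u0 hu) _).2 ⟨s, hs, hy⟩)
  have ee : ∀ u s (hu : F.q u = 0) (hs : pol F.q u s = 0), Ei u s (eich F.q u s hu hs) :=
    fun u s hu hs x => by
      rw [eich_apply, sub_eq_add_neg, sub_eq_add_neg, neg_eq_of_add_eq_zero_left (vv _),
        neg_eq_of_add_eq_zero_left (vv _)]
  have a1 : commutator (ofQuad F.q).Isom ≤ F.ρ.range := by
    rw [commutator_eq_closure_eichSet F.nondeg (Or.inr (by rw [hv.dim]; decide))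
      (by rw [hv.dim]; decide), closure_le]
    rintro _ ⟨u, s, hu, hs, rfl⟩
    by_cases u0 : u = 0
    · subst u0; rw [eich_zero_left]; exact one_mem _
    exact ei u s hu u0 hs _ (ee u s hu hs)
  obtain ⟨ω, hω, w3⟩ : ∃ ω : C{z}, F.ρ ω = ta F.q a b ∧ (ω : G) ^ 3 = 1 := by
    obtain ⟨g, hg⟩ := a1 (ta_mem F.nondeg hv.dim ha hb hab)
    refine ⟨g ^ 4, by rw [map_pow, hg, pow_succ, ta_cube ha hb hab, one_mul], ?_⟩
    have := pow4 h hz ((F.ker (g ^ 3)).1 (by rw [map_pow, hg, ta_cube ha hb hab]))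
    rwa [coe_pow, ← pow_mul, mul_comm, pow_mul] at this
  have F1 : ∀ x ∈ Q z, x ∈ C{(ω : G)} ↔ F.π x ∈ V0 F.q a b := fun x hx => by
    rw [← ta_fix ha hb hab, ← hω]
    refine ⟨fun e => ρ_fix F h hz ω hx (mem_C1.1 e).symm, fun e => mem_C1_comm.1 (mem_C1_iff_conj.2
      ((H20.XA.cj_or F h hz ω hx e).resolve_right fun e' => h.ne_one hz ?_))⟩
    have : (ω : G) ^ 3 * x * ((ω : G) ^ 3)⁻¹ = z * x := by
      rw [show (ω : G) ^ 3 * x * ((ω : G) ^ 3)⁻¹ =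
        ω * (ω * (ω * x * (ω : G)⁻¹) * (ω : G)⁻¹) * (ω : G)⁻¹ by simp [pow_succ, mul_assoc], e',
        zc h hz ω.2, e', ← mul_assoc z, h.sq hz, one_mul, e']
    simpa [w3] using this.symm
  have cw : ∀ k : C{z}, (k : G) ∈ C{(ω : G)} → F.ρ k * ta F.q a b = ta F.q a b * F.ρ k := fun k hk => by
    rw [← hω, ← map_mul, ← map_mul]; exact congrArg _ (Subtype.ext (mem_C1.1 hk))
  obtain ⟨K, _, _, φ, φs, φw, φi⟩ := exists_quot w3
  let z' : C{(ω : G)} := ⟨z, mem_C1_comm.1 ω.2⟩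
  obtain ⟨im, mi⟩ : ∃ im : Subgroup G → Subgroup K,
      ∀ A y, y ∈ im A ↔ ∃ x : C{(ω : G)}, (x : G) ∈ A ∧ φ x = y :=
    ⟨fun A => (A.subgroupOf _).map φ, fun _ _ => Iff.rfl⟩
  have p4 : ∀ {x}, x ∈ Q z → x ^ 4 = 1 := pow4 h hz
  have ci : ∀ W ≤ V0 F.q a b, Nat.card (im (F.sub W)) = 2 ^ (finrank (ZMod 2) W + 1) := fun W hW => by
    rw [← F.card_sub h hz, ← card_subgroupOf_of_le (show F.sub W ≤ C{(ω : G)} from fun x hx =>
      (F1 x hx.1).2 (hW hx.2)), show Nat.card (im (F.sub W)) = (im (F.sub W) : Set K).ncard from rfl,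
      show (im (F.sub W) : Set K) = φ '' ((F.sub W).subgroupOf C{(ω : G)}) from Set.ext (mi _),
      Set.ncard_image_of_injOn fun x hx y hy => φi x y (p4 hx.1) (p4 hy.1)]
    rfl
  have iQ : im (F.sub (V0 F.q a b)) = im (Q z) := by
    ext y
    rw [mi, mi]
    exact exists_congr fun x => and_congr_left fun _ => ⟨fun k => k.1, fun k => ⟨k, (F1 x k).1 x.2⟩⟩
  have cj4 : ∀ (k : G) {x : G}, x ^ 4 = 1 → (k * x * k⁻¹) ^ 4 = 1 := fun k x e => by
    rw [conj_pow, e, mul_one, mul_inv_cancel]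
  have φc : ∀ k y : C{(ω : G)}, (y : G) ^ 4 = 1 → φ k * φ y = φ y * φ k → (k : G) * y = y * k :=
    fun k y e e' => mul_inv_eq_iff_eq_mul.1 (congrArg Subtype.val (φi (k * y * k⁻¹) y (cj4 k e) e (by
      rw [map_mul, map_mul, map_inv, e', mul_inv_cancel_right])))
  have zQ : (z' : G) ∈ Q z := h.mem hz
  have zp : ∀ x : C{(ω : G)}, (x : G) = 1 ∨ (x : G) = z → φ x ∈ zpowers (φ z') := by
    rintro x (e | e)
    · rw [show x = 1 from Subtype.ext e, map_one]; exact one_mem _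
    · rw [show x = z' from Subtype.ext e]; exact mem_zpowers _
  have z2' : φ z' * φ z' = 1 := by
    rw [← map_mul, show z' * z' = 1 from Subtype.ext (h.sq hz), map_one]
  have cl : ∀ x ∈ im (Q z), (∀ y ∈ im (Q z), Commute x y) → x ∈ zpowers (φ z') := fun x hx e => by
    obtain ⟨x, x1, rfl⟩ := (mi _ _).1 hx
    refine zp x ((F.π_eq_zero x x1).1 (nd0 F.nondeg hab ((F1 x x1).1 x.2) fun u hu => ?_))
    obtain ⟨y, y1, rfl⟩ := F.π_surj u
    exact (F.pol_π y y1 x x1).2 (φc x ⟨y, (F1 y y1).2 hu⟩ (p4 y1)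
      (e _ ((mi _ _).2 ⟨_, y1, rfl⟩))).symm
  have FX : ∀ (k : C{(ω : G)}) (kz : (k : G) ∈ C{z}),
      (∀ v ∈ V0 F.q a b, (F.ρ ⟨k, kz⟩).1 v = v) → φ k ∈ im (Q z) := fun k kz e => by
    obtain ⟨i, hi⟩ := eq_pow ha hb hab F.nondeg (fun u a1 a2 => e u (mem_V0.2 ⟨a1, a2⟩))
      (cw ⟨k, kz⟩ k.2)
    refine (mi _ _).2 ⟨k * (⟨ω, self_mem_C1 _⟩ ^ i)⁻¹, (F.ker (⟨k, kz⟩ * (ω ^ i)⁻¹)).1 (by
      rw [map_mul, map_inv, map_pow, hω, hi, mul_inv_cancel]), ?_⟩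
    rw [map_mul, map_inv, map_pow, φw, one_pow, inv_one, mul_one]
  have lx : LX (φ z') (im (Q z)) := by
    refine ⟨⟨orderOf_eq_prime (by rw [pow_two, z2']) fun e => h.ne_one hz (congrArg Subtype.val
      (φi z' 1 (p4 zQ) (one_pow _) (e.trans (map_one φ).symm))), (mi _ _).2 ⟨z', zQ, rfl⟩,
      fun x hx => ?_, fun x hx y hy => ?_, fun x hx => ?_, cl⟩, fun e => ?_, fun k hk => ?_,
      fun k hk => ?_⟩
    · obtain ⟨x, x1, rfl⟩ := (mi _ _).1 hx
      exact Commute.map (Subtype.ext (mem_C1.1 (h.le hz x1)).symm) φ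
    · obtain ⟨x, x1, rfl⟩ := (mi _ _).1 hx
      obtain ⟨y, y1, rfl⟩ := (mi _ _).1 hy
      rw [← map_commutatorElement]
      exact zp _ ((h.mem_zp hz).1 ((h.lx z hz).xs.comm x x1 y y1))
    · obtain ⟨x, x1, rfl⟩ := (mi _ _).1 hx
      rw [← map_pow]
      exact zp _ ((h.mem_zp hz).1 ((h.lx z hz).xs.pow x x1))
    · have h1 := ci _ le_rfl
      rw [iQ, ← e, dim_V0 hv.dim hab, Nat.card_zpowers] at h1
      have := orderOf_dvd_of_pow_eq_one ((pow_two _).trans z2')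
      rw [h1] at this
      exact absurd this (by decide)
    · obtain ⟨k, rfl⟩ := φs k
      refine mem_N_of_finite fun x hx => ?_
      obtain ⟨x, x1, rfl⟩ := (mi _ _).1 hx
      exact (mi _ _).2 ⟨k * x * k⁻¹, cQ h hz (mem_C1.2 (φc k z' (p4 zQ) (mem_C1.1 hk))) x1, by simp⟩
    · obtain ⟨k, rfl⟩ := φs k
      have k1 : ∀ y : C{(ω : G)}, (y : G) ∈ Q z → (k : G) * y = y * k := fun y y1 =>
        φc k y (p4 y1) (mem_C'.1 hk _ ((mi _ _).2 ⟨y, y1, rfl⟩))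
      refine cl _ (FX k (mem_C1.2 (k1 z' zQ)) fun v hv => ?_) fun y hy => mem_C'.1 hk y hy
      obtain ⟨y, y1, rfl⟩ := F.π_surj v
      exact ρ_fix F h hz _ y1 (k1 ⟨y, (F1 y y1).2 hv⟩ y1)
  have o2 : ∀ N : Subgroup K, N ≤ C{φ z'} → C{φ z'} ≤ N[N] → IsPGroup 2 N → N ≤ im (Q z) := by
    intro N n1 n2 n3
    let T : Subgroup C{z} :=
      { carrier := {k | ∃ hk : (k : G) ∈ C{(ω : G)}, φ ⟨k, hk⟩ ∈ N}
        one_mem' := ⟨one_mem _, (map_one φ).symm ▸ one_mem N⟩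
        mul_mem' := fun ⟨x1, x2⟩ ⟨y1, y2⟩ => ⟨mul_mem x1 y1, by
          have := mul_mem x2 y2
          rwa [← map_mul] at this⟩
        inv_mem' := fun ⟨x1, x2⟩ => ⟨inv_mem x1, by
          have := inv_mem x2
          rwa [← map_inv] at this⟩ }
    have pv : ∀ k : C{z}, (k : G) ∈ C{(ω : G)} → ∀ v ∈ V0 F.q a b, (F.ρ k).1 v ∈ V0 F.q a b :=
      fun k hk v hv => by
        rw [← ta_fix ha hb hab] at hv ⊢
        rw [← Form.Isom.mul_apply, ← cw k hk, Form.Isom.mul_apply, hv]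
    letI : MulAction T (V0 F.q a b) :=
      { smul := fun k v => ⟨(F.ρ k).1 v, pv k k.2.1 v v.2⟩
        one_smul := fun v => Subtype.ext (by
          show (F.ρ 1).1 v = v
          rw [map_one]; rfl)
        mul_smul := fun k k' v => Subtype.ext (by
          show (F.ρ (k * k')).1 v = (F.ρ k).1 ((F.ρ k').1 v)
          rw [map_mul]; rfl) }
    obtain ⟨v, v0, v1⟩ := fix_vec (T := T) (W := V0 F.q a b) (a := 0) (by
      rw [Module.natCard_eq_pow_finrank (K := ZMod 2), dim_V0 hv.dim hab]; simp) (fun t => by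
        obtain ⟨n, hn⟩ := n3 ⟨_, t.2.2⟩
        refine ⟨n, fun x => Subtype.ext ?_⟩
        have e1 : φ (⟨t, t.2.1⟩ ^ 2 ^ n) = 1 := by rw [map_pow]; exact congrArg Subtype.val hn
        obtain ⟨y, y1, y2⟩ := F.π_surj x
        have := φc _ ⟨y, (F1 y y1).2 (y2 ▸ x.2)⟩ (p4 y1) (by rw [e1, one_mul, mul_one])
        show (F.ρ (t ^ 2 ^ n : T)).1 x = x
        rw [← y2]
        exact ρ_fix F h hz _ y1 (by simpa using this)) fun t => Subtype.ext (map_zero _)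
    let W : Submodule (ZMod 2) V :=
      { carrier := {v | ∀ k ∈ T, (F.ρ k).1 v = v}
        zero_mem' := fun _ _ => map_zero _
        add_mem' := fun x y k hk => by rw [map_add, x k hk, y k hk]
        smul_mem' := fun c _ x k hk => by rw [map_smul, x k hk] }
    have hW := irr0 (W := W) F.nondeg hab tP P3 P0 (fun u u0 s s0 u1 u2 us x hx k hk => by
      obtain ⟨y, hy⟩ := ei u s u1 u2 us _ (ee u s u1 us)
      have e1 : Ei u s (F.ρ y) := hy ▸ ee u s u1 us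
      obtain ⟨t, t1, t2⟩ := cos_fix w3 (h.two hz) (h.norm hz ω.2) (y := (y : G))
        ((F.ker (y⁻¹ * (ω * y * ω⁻¹))).1 (by
          rw [map_mul, map_mul, map_mul, map_inv, map_inv, hω, ← ei_comm ha hb hab u0 s0 e1]; group))
      rw [← ρ_mul F h hz y t1] at e1
      generalize hr : y * ⟨t, h.le hz t1⟩ = r at e1
      replace t2 : (r : G) ∈ C{(ω : G)} := hr ▸ t2
      have k1 : r⁻¹ * k * r ∈ T := ⟨mul_mem (mul_mem (inv_mem t2) hk.1) t2, by
        have := conj_mem (inv_mem (n2 (mem_C1.2 (show φ ⟨r, t2⟩ * φ z' = φ z' * φ ⟨r, t2⟩ from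
          Commute.map (Subtype.ext (mem_C1.1 r.2)) φ)))) hk.2
        rwa [inv_inv, ← map_inv, ← map_mul, ← map_mul] at this⟩
      have := hx _ k1
      rw [map_mul, map_mul, map_inv, Form.Isom.mul_apply, Form.Isom.mul_apply,
        Form.Isom.inv_apply_eq] at this
      rw [← e1]; exact this.symm) (x := (v : V)) (fun k hk => congrArg Subtype.val (v1 ⟨k, hk⟩)) v.2
      fun e => v0 (Subtype.ext e)
    intro k hk
    obtain ⟨k, rfl⟩ := φs k
    have kz := mem_C1.2 (φc k z' (p4 zQ) (mem_C1.1 (n1 hk)))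
    exact FX k kz fun v hv => hW hv ⟨k, kz⟩ ⟨k.2, hk⟩
  have S := sit_mk (w := 3) lx (by rw [← iQ, ci _ le_rfl, dim_V0 hv.dim hab]) o2 (by decide)
  refine not_plus' S (IsConj.refl _) (fun v hv a1 a2 => ?_) (fun v hD hv a1 y hy => ?_) (P := im (F.sub P))
    (fun y hy => ?_) (fun y hy => ?_) (by rw [ci P P0, P3]; rfl)
  · rw [fam_self lx.norm] at hv
    obtain ⟨v, v1, rfl⟩ := (mi _ _).1 hv
    by_cases e : v = z'
    · rw [e]; exact IsConj.refl _
    have vz : (v : G) ≠ z := fun e' => e (Subtype.ext e')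
    have v0 : (v : G) ≠ 1 := fun e' => a2 (by rw [show v = 1 from Subtype.ext e', map_one])
    have vD := h.one_fused hz ho z hz v v1 (congrArg Subtype.val (φi (v * v) 1 (p4 (mul_mem v1 v1))
      (one_pow _) (by rw [map_mul, a1, map_one]))) v0
    obtain ⟨x, x1, x2⟩ := swap_fix h w3 hz v1 v0 vz ω.2 (mem_C1_comm.1 v.2)
    obtain ⟨t, t1, t2⟩ := swap_fix h w3 vD (h.symm hz vD v1) (h.ne_one hz) vz.symm
      (mem_C1_comm.1 v.2) ω.2
    refine isConj_iff.2 ⟨φ (⟨x, x1⟩⁻¹ * ⟨t, t1⟩), ?_⟩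
    rw [← map_inv, ← map_mul, ← map_mul]
    refine congrArg φ (Subtype.ext ?_)
    show x⁻¹ * t * z * (x⁻¹ * t)⁻¹ = v
    rw [show x⁻¹ * t * z * (x⁻¹ * t)⁻¹ = x⁻¹ * (t * z * t⁻¹) * x by group, t2,
      mem_C1.1 (h.le hz v1), ← x2]
    group
  · obtain ⟨k, rfl⟩ := isConj_iff.1 hD
    obtain ⟨k, rfl⟩ := φs k
    rw [fam_self lx.norm] at hv
    rw [fam_self lx.norm, fam_eq lx.norm] at hy
    obtain ⟨x, x1, x2⟩ := (mi _ _).1 hv
    have e1 : x = k * z' * k⁻¹ := φi _ _ (p4 x1) (cj4 k (p4 zQ)) (by simp [x2])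
    have xD : (x : G) ∈ D := e1 ▸ h.conj z hz k
    obtain ⟨y1, y2, rfl⟩ := (mi _ _).1 hy.1
    obtain ⟨_, y3, y4⟩ := mem_cj'.1 hy.2
    obtain ⟨y', y5, rfl⟩ := (mi _ _).1 y3
    have e2 : y1 = k * y' * k⁻¹ := φi _ _ (p4 y2) (cj4 k (p4 y5)) (by simp [y4])
    have y6 : (y1 : G) ∈ Q x := by
      rw [e1, e2, show ((k * z' * k⁻¹ : C{(ω : G)}) : G) = k * z * (k : G)⁻¹ from rfl, h.eqv z hz]
      exact conj_mem_cj _ y5
    rw [← x2]
    have m1 : φ z' ∈ zpowers (φ z') ⊔ zpowers (φ x) := mem_sup_left (mem_zpowers _)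
    have m2 : φ x ∈ zpowers (φ z') ⊔ zpowers (φ x) := mem_sup_right (mem_zpowers _)
    rcases four h (h.one_inf hz hl ho) hz xD x1 (fun e => a1 (by
      rw [← x2, show x = z' from Subtype.ext e])) y2 y6 with e | e | e | e
    · rw [show y1 = 1 from Subtype.ext e, map_one]; exact one_mem _
    · rwa [show y1 = z' from Subtype.ext e]
    · rwa [show y1 = x from Subtype.ext e]
    · rw [show y1 = z' * x from Subtype.ext e, map_mul]; exact mul_mem m1 m2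
  · rw [fam_self lx.norm]
    obtain ⟨x, x1, rfl⟩ := (mi _ _).1 hy
    exact (mi _ _).2 ⟨x, x1.1, rfl⟩
  · obtain ⟨x, x1, rfl⟩ := (mi _ _).1 hy
    rw [← map_mul, show x * x = 1 from Subtype.ext ((F.ea_sub h hz).2 tP x x1), map_one]

end XS
end H6
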