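import Mathlib
import Cfsg.Agent.H6.XZM

/-! Width four: the first Conway group -/

set_option autoImplicit false
set_option linter.unusedSectionVars false

namespace H6
namespace XS

open Subgroup H24 H15 H15.XP Module

variable {G : Type*} [Group G] [Finite G] {D : Set G} {Q : G → Subgroup G} {w : ℕ} {z : G}
variable {V : Type*} [AddCommGroup V] [Module (ZMod 2) V] [Finite V]
variable {F : Fr z (Q z) V} {E : V → Submodule (ZMod 2) V} {R : V → Subgroup (ofQuad F.q).Isom}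

theorem plus_of_ts {q : QuadraticForm (ZMod 2) V} (hq : (ofQuad q).Nondeg)
    (hd : finrank (ZMod 2) V = 2 * 4) {A : Submodule (ZMod 2) V} (hA : TS q A)
    (h4 : finrank (ZMod 2) A = 4) : ∃ g : V ≃ₗ[ZMod 2] (Fin 4 ⊕ Fin 4 → ZMod 2),
      ∀ v, H7.qPlus 4 (ZMod 2) (g v) = q v := by
  rcases H7.card_isom_quad_even 3 V q hq hd with ⟨k, -⟩ | ⟨k, -⟩
  · exact H7.exists_equiv_of_nz_eq 4 V _ q _ hq (H7.qPlus_nondeg 4 _) hd (by simp)
      (add_right_cancel (k.trans (H7.nz_qPlus 3).symm))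
  obtain ⟨g, hg⟩ := H7.exists_equiv_of_nz_eq 4 V _ q (H7.qMinus 3 (ZMod 2) 1 1) hq
    (H7.qMinus_nondeg 3 aniso) hd (by simp) (add_right_cancel (k.trans (H7.nz_qMinus 3 aniso).symm))
  let f : (Fin 3 → ZMod 2) →ₗ[ZMod 2] ((Fin 3 ⊕ Fin 3) ⊕ Fin 2 → ZMod 2) :=
    { toFun := fun a => Sum.elim (Sum.elim a 0) 0
      map_add' := fun a b => by ext ((i | i) | i) <;> simp
      map_smul' := fun a b => by ext ((i | i) | i) <;> simp }
  have := Form.Nondeg.finrank_le_of_maximal (H7.qMinus_nondeg 3 aniso) (U := LinearMap.range f)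
    (U' := A.map g.toLinearMap) ((totSing_ofQuad _).2 (by
      rintro _ ⟨a, rfl⟩; simp [f, H7.qMinus_apply])) (fun X h1 h2 => le_antisymm (fun x hx => ?_) h1)
    ((totSing_ofQuad _).2 (by rintro _ ⟨a, ha, rfl⟩; exact (hg a).trans (hA a ha)))
  · have k2 := LinearMap.finrank_range_le f
    rw [LinearEquiv.finrank_map_eq, h4] at this
    simp at k2
    omega
  have a1 : ∀ i, x (.inl (.inr i)) = 0 := fun i => by
    have : pol (H7.qMinus 3 (ZMod 2) 1 1) _ x = 0 := h2.1 _ (h1 ⟨Pi.single i 1, rfl⟩) x hx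
    rw [H7.pol_qMinus] at this
    simpa [f, Pi.single_apply] using this
  have a2 : H7.qMinus 3 (ZMod 2) 1 1 x = 0 := h2.2 x hx
  simp only [H7.qMinus_apply, a1, mul_zero, Finset.sum_const_zero, zero_add] at a2
  obtain ⟨a3, a4⟩ := aniso _ _ a2
  refine ⟨fun i => x (.inl (.inl i)), funext ?_⟩
  rintro ((i | i) | i)
  exacts [rfl, (a1 i).symm, by fin_cases i; exacts [a3.symm, a4.symm]]

theorem Sit.omega4 [IsSimpleGroup G] (h : Sit D Q 4) (hz : z ∈ D) (hl : Lift D Q F E R)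
    (hv : VD F.ρ.range (F.VV D) E R 4) (ho : OneV (F.VV D) E R) (K : Subgroup C{z}) [K.Normal]
    (hK : ∀ g : C{z}, g ∈ K ↔ (g : G) ∈ Q z) :
    Nonempty (C{z} ⧸ K ≃* Cfsg.Omega (ZMod 2) (Cfsg.quadFormPlus 4 (ZMod 2))) := by
  have h24 : NotTwoFour (ZMod 2) V := Or.inr (by rw [hv.dim]; decide)
  have i2 := index_commutator_even (Q := F.q) rfl F.nondeg h24 (by rw [hv.dim]; decide)
  obtain ⟨A, tA, dA⟩ := h.one_plus hz hl hv ho
  obtain ⟨g, hg⟩ := plus_of_ts F.nondeg hv.dim tA dA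
  have a1 : commutator (ofQuad F.q).Isom ≤ F.ρ.range := by
    rw [commutator_eq_closure_eichSet F.nondeg h24 (by rw [hv.dim]; decide), closure_le]
    rintro _ ⟨u, s, hu, hs, rfl⟩
    by_cases u0 : u = 0
    · subst u0; rw [eich_zero_left]; exact one_mem _
    have uS := ho.memS u u0 hu
    refine hv.le u uS ((ho.memR u uS _).2 ⟨s, hs, fun x => ?_⟩)
    rw [eich_apply, sub_eq_add_neg, sub_eq_add_neg, neg_eq_of_add_eq_zero_left (H20.XA.vv _),
      neg_eq_of_add_eq_zero_left (H20.XA.vv _)]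
  have a2 : F.ρ.range = commutator (ofQuad F.q).Isom := by
    refine le_antisymm (fun y hy => by_contra fun y0 => ?_) a1
    have a3 : closure (reflSet F.q) ≤ commutator (ofQuad F.q).Isom := (closure_le _).2 (by
      rintro _ ⟨n, hn, rfl⟩
      refine h.no_refl hz F i2 hn (by_contra fun k => ?_)
      have k1 : refl F.q n ∉ commutator (ofQuad F.q).Isom := fun e => k (a1 e)
      exact k ((mul_mem_cancel_right hy).1 (a1 ((mul_mem_iff_of_index_two i2).2 (iff_of_false k1 y0)))))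
    rw [closure_reflSet F.nondeg h24] at a3
    exact y0 (a3 trivial)
  have a4 : K = F.ρ.ker := Subgroup.ext fun g => (hK g).trans (F.ker g).symm
  exact ⟨(QuotientGroup.quotientMulEquivOfEq a4).trans ((QuotientGroup.quotientKerEquivRange F.ρ).trans
    ((MulEquiv.subgroupCongr a2).trans ((H7.commutatorCongr (H7.isomCongrQuad _ _ g hg)).trans
      (H7.omegaEquiv (H7.qPlus 4 (ZMod 2))).symm)))⟩

end XS
end H6
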