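import Mathlib
import Cfsg.Agent.H6.XZDefs
import Cfsg.Agent.H6.XS1
import Cfsg.Agent.H6.XN
import Cfsg.Agent.H14.ZS1

set_option autoImplicit false
set_option linter.unusedSectionVars false

namespace H6
namespace XS

open Subgroup H24 H15 H15.XP Module H20.XA H14.ZS

variable {G : Type*} [Group G] [Finite G] {D : Set G} {Q : G → Subgroup G} {z : G}
variable {V : Type*} [AddCommGroup V] [Module (ZMod 2) V] [Finite V]
variable {F : Fr z (Q z) V} {E : V → Submodule (ZMod 2) V} {R : V → Subgroup (ofQuad F.q).Isom}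
variable {c : ℕ → V}

theorem zs_cnt {B : Subgroup G} (h : 16 ≤ Nat.card B) (d x y w : G)
    (hB : ∀ b ∈ B, b ∈ ({1, x, y, w} : Set G) ∨ b * d ∈ ({1, x, y, w} : Set G)) : False := by
  have h4 : ({1, x, y, w} : Set G).ncard ≤ 4 := (Set.ncard_insert_le _ _).trans (Nat.succ_le_succ
    ((Set.ncard_insert_le _ _).trans (Nat.succ_le_succ ((Set.ncard_insert_le _ _).trans (by simp)))))
  have h1 : (B : Set G) ⊆ {1, x, y, w} ∪ (· * d⁻¹) '' {1, x, y, w} := fun b hb =>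
    (hB b hb).imp_right fun e => ⟨_, e, mul_inv_cancel_right _ _⟩
  have h2 := (Set.ncard_le_ncard h1).trans (Set.ncard_union_le _ _)
  have h3 := Set.ncard_image_le (f := (· * d⁻¹)) (s := ({1, x, y, w} : Set G))
  have h5 : Nat.card B = (B : Set G).ncard := rfl
  omega

theorem Sit.not_swap4 [IsSimpleGroup G] (h : Sit D Q 4) (hz : z ∈ D) (hl : Lift D Q F E R)
    {A A' : Submodule (ZMod 2) V} (hs : Swap4 F.ρ.range (F.VV D) E A A') : False := by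
  have sq : ∀ x : C{z}, (x : G) * x = 1 ∨ (x : G) * x = z → F.ρ x * F.ρ x = 1 := fun x e => by
    rw [← map_mul, F.ker, coe_mul]
    rcases e with c | c <;> rw [c]
    exacts [one_mem _, h.mem hz]
  have cm : ∀ x : C{z}, (x : G) * x = 1 ∨ (x : G) * x = z → ∀ a, ∃ c ∈ Q z, F.π c = a ∧ ∃ y ∈ Q z,
      y = c * x * c⁻¹ * (x : G)⁻¹ ∧ F.π y = a + (F.ρ x).1 a ∧ x * y * (x : G)⁻¹ = y⁻¹ := fun x e a => by
    obtain ⟨c, c1, rfl⟩ := F.π_surj a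
    have c2 := cQ h hz x.2 (inv_mem c1)
    refine ⟨c, c1, rfl, c * (x * c⁻¹ * (x : G)⁻¹), mul_mem c1 c2, by group,
      by rw [F.π_mul _ c1 _ c2, ← F.ρ_π x _ (inv_mem c1), F.π_inv c1], ?_⟩
    have : (x : G) * x * c⁻¹ = c⁻¹ * (x * x) := by
      rcases e with e | e <;> rw [e]
      exacts [by simp, (mem_C1.1 (h.le hz (inv_mem c1))).symm]
    calc _ = x * c * (x : G)⁻¹ * (x * x * c⁻¹) * ((x : G) * x)⁻¹ := by group
      _ = _ := by rw [this]; group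
  have qq : ∀ x : C{z}, ∀ a ∈ A, F.q (a + (F.ρ x).1 a) = pol F.q ((F.ρ x).1 a) a :=
    fun x a a1 => by rw [quad_add, mq, hs.tsA a a1, pol_comm]; simp
  have cw : ∀ x : C{z}, (x : G) * x = 1 ∨ (x : G) * x = z → ∀ a ∈ A, pol F.q ((F.ρ x).1 a) a = 0 →
      ∃ y ∈ Q z, F.π y = a + (F.ρ x).1 a ∧ x * y = y * x := fun x x2 a a1 a2 => by
    obtain ⟨c, -, -, y, y1, -, y2, y3⟩ := cm x x2 a
    refine ⟨y, y1, y2, mul_inv_eq_iff_eq_mul.1 (y3.trans (inv_eq_of_mul_eq_one_right ?_))⟩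
    rwa [← F.q_π y y1, y2, qq x a a1]
  have f0 : ∀ x : C{z}, F.ρ x ∉ KK hs → ∀ i ∈ D, i ∈ Q z → i ≠ z → x * i ≠ i * x :=
    fun x x1 i i1 i2 i3 e => ((F.π_eq_zero i i2).1 (fix0 hs ⟨x, rfl⟩ x1 (ρ_fix F h hz x i2 e)
      ((hs.memS _).1 ((F.mem_VV h hz i2).2 ⟨i1, i3⟩)).2)).elim (h.ne_one i1) i3
  have p1 : ∀ d : C{z}, (d : G) ∈ D → F.ρ d ∈ KK hs := fun d d1 => by_contra fun d2 => by
    have dQ : (d : G) ∉ Q z := fun c => d2 ((F.ker d).2 c ▸ one_mem _)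
    have zQ : z ∉ Q d := fun c => dQ (h.symm d1 hz c)
    have d3 := Or.inl (b := (d : G) * d = z) (h.sq d1)
    have dd := sq d d3
    have st : ∀ i ∈ Q z, i ∈ Q d → i * d ∈ D → i = 1 := fun i i1 i2 i5 => by_contra fun i3 => by
      have i4 := mem_C1.1 (h.le d1 i2)
      exact f0 d d2 i ((h.mul_mem_D d1 i2 i3 fun c => dQ (c ▸ i1)).1 (i4 ▸ i5)) i1
        (fun c => zQ (c ▸ i2)) i4.symm
    have fin : ∀ x y w : G, (∀ b : C{z}, (b : G) ∈ Q d → F.ρ b ∈ KK hs →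
        (b : G) ∈ ({1, x, y, w} : Set G)) → False := fun x y w hB => by
      refine zs_cnt (h.card_cent d1 (h.sq hz) (mem_C1_comm.1 d.2)) d x y w fun b hb => ?_
      by_cases c : F.ρ ⟨b, hb.2⟩ ∈ KK hs
      · exact Or.inl (hB ⟨b, hb.2⟩ hb.1 c)
      · exact Or.inr (hB (⟨b, hb.2⟩ * d) (mul_mem hb.1 (h.mem d1))
          (map_mul F.ρ _ _ ▸ mulK hs ⟨_, rfl⟩ c ⟨_, rfl⟩ d2))
    have fin2 : ∀ i : G, (∀ j ∈ Q z, j ∈ Q d → j = 1 ∨ j = i) → (∀ b b' : C{z}, (b : G) ∈ Q d →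
        F.ρ b ∈ KK hs → F.ρ b ≠ 1 → (b' : G) ∈ Q d → F.ρ b' ∈ KK hs → F.ρ b' ≠ 1 → F.ρ b = F.ρ b') →
        False := fun i hI hB => by
      by_cases hn : ∃ k : C{z}, (k : G) ∈ Q d ∧ F.ρ k ∈ KK hs ∧ F.ρ k ≠ 1
      · obtain ⟨k, k1, k2, k3⟩ := hn
        refine fin i k (k * i) fun b b1 b2 => ?_
        by_cases b3 : F.ρ b = 1
        · rcases hI b ((F.ker b).1 b3) b1 with e | e <;> simp [e]
        · rcases hI _ ((F.ker (k⁻¹ * b)).1 (by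
            rw [map_mul, map_inv, hB b k b1 b2 b3 k1 k2 k3, inv_mul_cancel]))
            (mul_mem (inv_mem k1) b1) with e | e
          · simp [(inv_mul_eq_one.1 e).symm]
          · simp [inv_mul_eq_iff_eq_mul.1 e]
      · push Not at hn
        refine fin i i i fun b b1 b2 => ?_
        rcases hI b ((F.ker b).1 (hn b b1 b2)) b1 with e | e <;> simp [e]
    have ex : ∀ i ∈ Q z, i ∈ Q d → i ≠ 1 → ∃ a ∈ A, F.π i = a + (F.ρ d).1 a ∧ ∃ c ∈ Q z, F.π c = a ∧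
        c * d * c⁻¹ = z * i * d := fun i i1 i2 i3 => by
      obtain ⟨a, a1, e⟩ := fixd hs ⟨d, rfl⟩ d2 (ρ_fix F h hz d i1 (mem_C1.1 (h.le d1 i2)).symm)
      obtain ⟨c, c1, c2, y, y1, y2, y3, -⟩ := cm d d3 a
      refine ⟨a, a1, e, c, c1, c2, ?_⟩
      rcases (F.π_eq h hz i1 y1).1 (e.trans y3.symm) with c' | c'
      · exact absurd (st i i1 i2 (by rw [c', y2, inv_mul_cancel_right]; exact h.conj _ d1 _)) i3
      · rw [c', ← mul_assoc, h.sq hz, one_mul, y2, inv_mul_cancel_right]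
    by_cases alt : ∀ a ∈ A, pol F.q ((F.ρ d).1 a) a = 0
    swap
    · push Not at alt
      obtain ⟨a', a1, a2⟩ := alt
      replace a2 := z1 a2
      obtain ⟨-, -, -, m, m1, -, m2, m3⟩ := cm d d3 a'
      have m4 : m * d * m⁻¹ = z * d := by
        rw [show m * d * m⁻¹ = m * (d * d) * m * (d : G)⁻¹ by rw [← m3]; group, h.sq d1, mul_one,
          (F.q_one h hz m1).1 (by rw [m2, qq d a' a1, a2]), inv_eq_of_mul_eq_one_right (h.sq d1)]
      have hI : ∀ i ∈ Q z, i ∈ Q d → i = 1 := fun i i1 i2 => by_contra fun i3 => by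
        obtain ⟨-, -, -, c, c1, -, c2⟩ := ex i i1 i2 i3
        refine i3 (st i i1 i2 ?_)
        convert h.conj _ (h.conj _ d1 m) c using 1
        rw [m4, zc h hz (h.le hz c1), c2, ← mul_assoc, ← mul_assoc, h.sq hz, one_mul]
      have fx : ∀ b : C{z}, (b : G) ∈ Q d → ∀ a ∈ A, pol F.q ((F.ρ d).1 a) a = 0 →
          (F.ρ b).1 (a + (F.ρ d).1 a) = a + (F.ρ d).1 a := fun b b1 a a1 a2 => by
        obtain ⟨y, y1, y2, y3⟩ := cw d d3 a a1 a2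
        rw [← y2]
        exact ρ_fix F h hz b y1 (comm_of_bot h hz d1 hI y1 (mem_C1.2 y3.symm) b1 b.2)
      exact fin2 1 (fun j j1 j2 => Or.inl (hI j j1 j2)) fun b b' b1 b2 b3 b1' b2' b3' =>
        two1 hs F.nondeg ⟨d, rfl⟩ d2 dd a1 a2 b2 b2' (fx b b1) (fx b' b1') b3 b3'
    -- the alternating case
    have pr : ∀ i ∈ Q z, i ∈ Q d → i ≠ 1 → ∀ j ∈ Q z, j ∈ Q d → j ≠ 1 → j ≠ i → ∀ a ∈ A,
        F.π i = a + (F.ρ d).1 a → pol F.q a (F.π j) = 1 := fun i i1 i2 i3 j j1 j2 j3 j4 a a1 e => by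
      obtain ⟨a', a1', e', c, c1, c2, c3⟩ := ex i i1 i2 i3
      obtain ⟨-, -, -, c', c1', -, c3'⟩ := ex j j1 j2 j3
      have ea := (comp hs a1 a1' ((sw hs ⟨d, rfl⟩ d2).1 a a1) ((sw hs ⟨d, rfl⟩ d2).1 a' a1')
        (e.symm.trans e')).1
      rw [ea, ← c2]
      refine z1 fun p => j4 ?_
      have p1 := (F.pol_π c c1 j j1).1 p
      have p2 := st (j * i) (mul_mem j1 i1) (mul_mem j2 i2) (by
        convert h.conj _ (h.conj _ d1 c') c using 1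
        rw [c3', mul_assoc z j, zc h hz (h.le hz c1), ← mul_assoc c, p1, mul_assoc j c,
          mul_assoc j (c * d), c3, mul_assoc z i, ← mul_assoc j z, mem_C1.1 (h.le hz j1), mul_assoc z j,
          ← mul_assoc z z, h.sq hz, one_mul, mul_assoc])
      have p3 : i * i = 1 := by
        rw [← F.q_π i i1, e, qq d a a1, alt a a1]
      exact mul_right_cancel (p2.trans p3.symm)
    have dl : ∀ b : C{z}, (b : G) ∈ Q d → F.ρ b ∈ KK hs → ∀ a ∈ A, ∃ i ∈ Q z, i ∈ Q d ∧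
        F.π i = ((F.ρ b).1 a + a) + (F.ρ d).1 ((F.ρ b).1 a + a) := fun b b1 b2 a a1 => by
      obtain ⟨y, y1, y2, y3⟩ := cw d d3 a a1 (alt a a1)
      have c1 : F.ρ b * F.ρ d = F.ρ d * F.ρ b := by
        rw [← map_mul, ← map_mul]; exact congrArg _ (Subtype.ext (mem_C1.1 (h.le d1 b1)))
      refine ⟨b * y * (b : G)⁻¹ * y⁻¹, mul_mem (cQ h hz b.2 y1) (inv_mem y1), ?_, ?_⟩
      · rw [show b * y * (b : G)⁻¹ * y⁻¹ = b * (y * (b : G)⁻¹ * y⁻¹) by group]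
        exact mul_mem b1 (cQ h d1 (mem_C1.2 y3.symm) (inv_mem b1))
      · rw [F.π_mul _ (cQ h hz b.2 y1) _ (inv_mem y1), F.π_inv y1, ← F.ρ_π b y y1, y2, map_add,
          map_add, ← Form.Isom.mul_apply, c1, Form.Isom.mul_apply, add_add_add_comm]
    have fI : ∀ b : C{z}, (b : G) ∈ Q d → ∀ j ∈ Q z, j ∈ Q d → (F.ρ b).1 (F.π j) = F.π j :=
      fun b b1 j j1 j2 => ρ_fix F h hz b j1 (mul_inv_eq_iff_eq_mul.1 ((h.cj_or d1 b1 j2).resolve_right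
        fun e => dQ ((mul_mem_cancel_right j1).1 (e ▸ cQ h hz b.2 j1))))
    by_cases hn : ∃ i ∈ Q z, i ∈ Q d ∧ i ≠ 1 ∧ ∃ j ∈ Q z, j ∈ Q d ∧ j ≠ 1 ∧ j ≠ i
    · obtain ⟨i, i1, i2, i3, j, j1, j2, j3, j4⟩ := hn
      obtain ⟨a, a1, e, -⟩ := ex i i1 i2 i3
      refine fin i j (i * j) fun b b1 b2 => ?_
      have b3 : (b : G) ∈ Q z := (F.ker b).1 (faith hs F.nondeg b2 fun x x1 => by
        obtain ⟨l, l1, l2, l3⟩ := dl b b1 b2 x x1
        have x2 := add_mem (b2.2.1 x x1) x1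
        by_contra x3
        have l4 : l ≠ 1 := fun c => x3 (aez.1 (comp hs x2 (zero_mem _)
          ((sw hs ⟨d, rfl⟩ d2).1 _ x2) (zero_mem _) (by rw [← l3, c, F.π_one, add_zero])).1)
        have key : ∀ t ∈ Q z, t ∈ Q d → t ≠ 1 → t = l := fun t t1 t2 t3 => by_contra fun t4 => by
          have := pr l l1 l2 l4 t t1 t2 t3 t4 _ x2 l3
          rw [map_add, LinearMap.add_apply] at this
          nth_rw 1 [← fI b b1 t t1 t2] at this
          rw [mp, zz] at this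
          exact zero_ne_one this
        exact j4 ((key j j1 j2 j3).trans (key i i1 i2 i3).symm))
      by_contra hb
      simp only [Set.mem_insert_iff, Set.mem_singleton_iff, not_or] at hb
      have q1 := pr i i1 i2 i3 j j1 j2 j3 j4 a a1 e
      have q2 := pr i i1 i2 i3 b b3 b1 hb.1 hb.2.1 a a1 e
      have q3 := pr i i1 i2 i3 (b * j⁻¹) (mul_mem b3 (inv_mem j1)) (mul_mem b1 (inv_mem j2))
        (fun c => hb.2.2.1 (mul_inv_eq_one.1 c)) (fun c => hb.2.2.2 (mul_inv_eq_iff_eq_mul.1 c)) a a1 e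
      rw [F.π_mul _ b3 _ (inv_mem j1), F.π_inv j1, map_add, q1, q2, zz] at q3
      exact zero_ne_one q3
    push Not at hn
    obtain ⟨i, a0, a1, hI, ha⟩ : ∃ i : G, ∃ a0 ∈ A, (∀ j ∈ Q z, j ∈ Q d → j = 1 ∨ j = i) ∧
        ∀ j ∈ Q z, j ∈ Q d → F.π j = 0 ∨ F.π j = a0 + (F.ρ d).1 a0 := by
      by_cases hi : ∃ i ∈ Q z, i ∈ Q d ∧ i ≠ 1
      · obtain ⟨i, i1, i2, i3⟩ := hi
        obtain ⟨a, a1, e, -⟩ := ex i i1 i2 i3
        have : ∀ j ∈ Q z, j ∈ Q d → j = 1 ∨ j = i := fun j j1 j2 =>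
          or_iff_not_imp_left.2 (hn i i1 i2 i3 j j1 j2)
        exact ⟨i, a, a1, this, fun j j1 j2 => (this j j1 j2).imp
          (fun c => by rw [c, F.π_one]) fun c => by rw [c, e]⟩
      · push Not at hi
        exact ⟨1, 0, zero_mem _, fun j j1 j2 => Or.inl (hi j j1 j2),
          fun j j1 j2 => Or.inl (by rw [hi j j1 j2, F.π_one])⟩
    have key : ∀ b : C{z}, (b : G) ∈ Q d → F.ρ b ∈ KK hs → F.ρ b ≠ 1 → ∀ a ∈ A,
        (F.ρ b).1 a = a + pol F.q ((F.ρ d).1 a0) a • a0 := fun b b1 b2 b3 => by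
      refine two2 hs F.nondeg ⟨d, rfl⟩ d2 dd alt a1 b2 (by
        rw [← map_mul, ← map_mul]; exact congrArg _ (Subtype.ext (mem_C1.1 (h.le d1 b1))))
        (fun x x1 => ?_) b3
      obtain ⟨l, l1, l2, l3⟩ := dl b b1 b2 x x1
      have x2 := add_mem (b2.2.1 x x1) x1
      have x3 := (sw hs ⟨d, rfl⟩ d2).1 _ x2
      rcases ha l l1 l2 with e | e <;> rw [l3] at e
      · exact Or.inl (aez.1 (comp hs x2 (zero_mem _) x3 (zero_mem _) (by rw [e, add_zero])).1)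
      · right
        rw [← (comp hs x2 a1 x3 ((sw hs ⟨d, rfl⟩ d2).1 _ a1) e).1, add_comm ((F.ρ b).1 x), vv']
    exact fin2 i hI fun b b' b1 b2 b3 b1' b2' b3' => faith2 hs F.nondeg b2 b2' fun a a2 =>
      (key b b1 b2 b3 a a2).trans (key b' b1' b2' b3' a a2).symm
  obtain ⟨_, ⟨t, rfl⟩, t1, t2, t4⟩ := outer hs F.nondeg
  have t3 : (t : G) * t ∈ Q z := (F.ker (t * t)).1 (by rw [map_mul, t2])
  obtain ⟨a, -, e⟩ := fixd hs ⟨t, rfl⟩ t1 (ρ_fix F h hz t t3 (mul_assoc _ _ _).symm)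
  obtain ⟨y, y1, rfl⟩ := F.π_surj a
  have x0 := ρ_mul F h hz t y1
  have x1 : F.ρ (t * ⟨y, h.le hz y1⟩) ∉ KK hs := x0.symm ▸ t1
  have x2 : t * y * (t * y) = 1 ∨ t * y * (t * y) = z := by
    have c := cQ h hz t.2 y1
    have c' := cQ h hz (mul_mem t.2 t.2) y1
    rw [show t * y * (t * y) = t * y * (t : G)⁻¹ * (t * t * y * ((t : G) * t)⁻¹) * (t * t) by group,
      ← F.π_eq_zero _ (mul_mem (mul_mem c c') t3), F.π_mul _ (mul_mem c c') _ t3, F.π_mul _ c _ c', e,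
      ← F.ρ_π t y y1, show F.π (t * t * y * ((t : G) * t)⁻¹) = _ from (F.ρ_π (t * t) y y1).symm,
      map_mul, t2, add_comm (F.π y)]
    exact vv _
  obtain ⟨d, d1, d2, d3, d4, d5⟩ := tf F h hz (KK hs) (fun a b a1 => mulK hs ⟨a, rfl⟩ a1 ⟨b, rfl⟩) _ x1
    (x2.imp_right fun c => ⟨c, p1⟩)
  refine f0 _ x1 d d1 ((F.ker ⟨d, d3⟩).1 (faith hs F.nondeg (p1 _ d1) fun a a1 => ?_)) d2 d4.symm
  obtain ⟨y', y1', y2', y3'⟩ := cw (t * ⟨y, h.le hz y1⟩) x2 a a1 (x0.symm ▸ t4 a a1)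
  exact (fixW hs ⟨_, rfl⟩ x1 (p1 ⟨d, d3⟩ d1) a1 (y2' ▸ ρ_fix F h hz ⟨d, d3⟩ y1' (d5 y' y1' y3'))).1

end XS
end H6
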