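import Mathlib
import Cfsg.Agent.H6.XZB
import Cfsg.Agent.S1671

/-!
The case of the spread with nine members: `C(z) / Q` is the alternating group of degree nine.
-/

set_option autoImplicit false
set_option linter.unusedSectionVars false
set_option maxRecDepth 100000

namespace H6
namespace XS

open Subgroup H24 H15 H15.XP Module

namespace ZT

/-- the member of the spread through a code (`9` for codes outside `S`) -/
def ix (a : ℕ) : ℕ := (40426138982949732412083763650786645057001619521841811519309288644431984399480203826715983511394113772396898132757374870186883408917319818657735659395261441598614411787113818145508586050298513804231515810208900663783858057011033422951744023887990947316788385909790151767668817336942496410592712417026097807369 >>> (4 * a)) % 16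

def Ms : List (List ℕ) := [[1, 3, 4, 8, 17, 40, 68, 147], [1, 2, 5, 8, 25, 33, 66, 167], [1, 2, 4, 9, 21, 35, 65, 207], [147, 170, 90,
  32, 184, 8, 54, 128], [167, 108, 218, 56, 160, 144, 112, 128], [189, 236, 156, 16, 8, 184, 182, 128], [144,
  192, 68, 63, 67, 96, 64, 66], [165, 66, 134, 29, 54, 226, 64, 192], [190, 162, 211, 42, 250, 128, 194, 32]]

def ws : List (List ℕ) := [[], [], [7, 6, 0, 3], [5, 6, 3], [4, 2, 6], [8, 4, 7], [0, 4, 7, 3], [4, 7, 3], [8, 7, 5], [5, 1, 6, 5], [3,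
  6, 5], [8, 6, 4], [5, 8, 2, 3], [6, 4, 3], [7, 2, 3], [3, 7, 4], [0, 7, 3], [7, 3], [], [], [2, 7, 3], [1, 8,
  5], [], [], [1, 7, 3], [5, 7], [], [], [0, 8, 5], [8, 5], [], [], [4, 6], [1, 4, 6], [5, 8, 4, 3], [0, 7, 5],
  [], [], [], [], [2, 7, 5], [6, 2, 0, 3], [7, 5], [3, 7, 3], [], [], [], [], [2, 6, 4], [0, 3, 6], [], [], [],
  [], [6, 4], [1, 4, 8], [3, 6], [5, 8, 5], [], [], [], [], [4, 8], [1, 6, 4], [3, 6, 4], [3, 7], [6, 0, 3], [7,
  4], [8, 7, 3], [0, 3, 7], [3, 8, 3], [0, 6, 0, 3], [], [], [], [], [], [], [], [], [5, 8], [6, 3], [], [], [8,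
  4, 3], [2, 6, 3], [], [], [], [], [1, 6, 3], [1, 5, 8], [], [], [1, 8, 4, 3], [3, 8, 7], [6, 4, 6], [0, 4, 7],
  [0, 8, 4], [4, 3, 7, 3], [], [], [], [], [], [], [], [], [2, 8, 4], [4, 7], [2, 4, 7], [8, 4], [2, 4, 6, 3],
  [5, 4, 7, 4], [], [], [], [], [4, 7, 6], [4, 6, 3], [], [], [4, 2, 7, 3], [0, 4, 6, 3], [5, 6, 5], [3, 8, 4],
  [], [], [0, 3], [], [0, 6], [], [3, 2, 6], [], [8, 6, 3], [], [5, 6], [], [6, 5], [], [8, 2, 3], [], [7, 5,
  7], [], [6], [], [], [3], [0, 8, 6, 3], [], [], [6, 1, 8, 5], [7, 4, 3], [], [], [0, 5, 6], [7, 4, 7], [], [],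
  [7, 6, 5], [5, 3, 6], [], [2, 6, 2, 3], [], [], [7], [], [4], [8, 6, 5], [], [1, 8, 2, 3], [], [], [1, 6, 5],
  [], [1, 5, 6], [8, 1, 6, 3], [], [], [8, 3, 8, 3], [], [5, 7, 3], [3, 7, 0, 3], [], [5, 4, 6], [], [], [4, 7,
  4], [], [5], [8], [], [7, 0, 3], [], [5, 2, 6], [], [2, 6, 5], [], [8, 3], [], [], [4, 8, 4], [], [6, 4, 7],
  [], [8, 7], [], [2, 0, 3], [0, 8, 3], [], [], [7, 6, 3], [4, 6, 5], [], [], [4, 3, 7], [], [2, 3], [2, 6], [],
  [], [7, 5, 6], [8, 7, 4], [], [3, 8], [], [1, 8, 3], [], [], [4, 8, 5], [], [5, 7, 4], [], [2, 7], [], [4, 3],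
  [4, 0, 6], [], [6, 2, 3], [], [4, 7, 0, 3], [], [], [3, 1, 6, 4], [], [5, 4], [7, 6], [], [], [5, 3, 7, 3],
  [3, 8, 2, 3], [], [7, 2, 0, 3], [], [], [4, 2, 7]]

def tw : List (List ℕ) := [[], [], [0, 7, 0, 4, 0, 7], [4, 3, 1, 3, 7, 4], [3, 7, 0, 7, 3, 2], [1, 7, 5, 8, 6, 5, 7, 0], [1, 8, 4, 8], [2, 5, 4, 7, 6, 2], [5, 8, 4, 8, 1, 5]]

def rp (i : Fin 9) : ℕ := [1, 16, 17, 20, 21, 24, 25, 28, 29].getD i 0

def chk (a : ℕ) (W : List ℕ) : Bool :=
  app W 1 == a && (List.range 256).all fun e =>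
    (fun x => decide (9 ≤ x) || (decide (e < 16) == (x == ix a))) (ix (app W e))

def ok (a b : ℕ) : Bool := decide (7 ≤ ix a) || ix b == ix a

def srch : List ℕ → List (ℕ × ℕ) → Bool
  | [], acc => acc.all fun p => p.1 == p.2
  | b :: bs, acc => (List.range 256).all fun m =>
      !(acc.all fun p => ok (p.1 ^^^ b) (p.2 ^^^ m)) ||
        srch bs (acc ++ acc.map fun p => (p.1 ^^^ b, p.2 ^^^ m))

theorem c1 : ∀ a < 256, a ∈ d135.S ↔ ix a < 9 := by decide +kernel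

theorem c2 : ((List.range 256).all fun a => decide (9 ≤ ix a) || chk a (evM Ms (ws.getD a []))) = true := by
  decide +kernel

theorem c3 : srch [16, 32, 1, 128, 4, 2, 8, 64] [(0, 0)] = true := by decide +kernel

theorem c4 : ∀ i, rp i < 256 ∧ ix (rp i) = i := by decide +kernel

theorem c5 : ∀ k : Fin 9, k ≠ 0 → ∀ i, ix (app (evM Ms (tw.getD k [])) (rp i)) =
    (Equiv.swap 0 1 * Equiv.swap 0 k : Equiv.Perm (Fin 9)) i := by decide +kernel

theorem c6 : ∀ M ∈ Ms, ∃ p ∈ d135.pts, M ∈ p.R := by decide +kernel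

theorem c7 : ∃ p ∈ d135.pts, p.u = 1 ∧ ∀ e < 256, e ∈ p.E ↔ e < 16 := by decide +kernel

/-- the products `(0 1)(0 k)` generate the alternating group -/
theorem alt_le {P : Subgroup (Equiv.Perm (Fin 9))}
    (h : ∀ k, k ≠ 0 → Equiv.swap 0 1 * Equiv.swap 0 k ∈ P) : alternatingGroup (Fin 9) ≤ P := by
  have k1 : ∀ {σ τ : Equiv.Perm (Fin 9)}, σ * σ = 1 → Equiv.swap 0 1 * σ ∈ P → Equiv.swap 0 1 * τ ∈ P →
      σ * τ ∈ P := fun {σ τ} e a b => by
    have := mul_mem (inv_mem a) b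
    rwa [mul_inv_rev, mul_assoc, inv_mul_cancel_left, inv_eq_of_mul_eq_one_right e] at this
  have k2 : ∀ a b : Fin 9, a ≠ b → Equiv.swap 0 1 * Equiv.swap a b ∈ P := fun a b n => by
    by_cases a0 : a = 0
    · subst a0; exact h b n.symm
    by_cases b0 : b = 0
    · subst b0; rw [Equiv.swap_comm a]; exact h a n
    have := mul_mem (h a a0) (k1 (Equiv.swap_mul_self _ _) (h b b0) (h a a0))
    rwa [mul_assoc, ← mul_assoc (Equiv.swap 0 a), Equiv.swap_comm 0 b,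
      Equiv.swap_mul_swap_mul_swap b0 n.symm] at this
  rw [← Equiv.Perm.closure_three_cycles_eq_alternating, closure_le]
  intro σ hσ
  have hσ : σ.IsThreeCycle := hσ
  obtain ⟨x, hx⟩ := Finset.card_pos.1 (hσ.card_support ▸ three_pos : 0 < σ.support.card)
  have n := (Equiv.Perm.mem_support.1 hx).symm
  rw [hσ.eq_swap_mul_swap_iff_mem_support.2 hx]
  exact k1 (Equiv.swap_mul_self _ _) (k2 _ _ n) (k2 _ _ (σ.injective.ne n))

section lin

variable {V : Type*} [AddCommGroup V] [Module (ZMod 2) V] [Finite V] {q : QuadraticForm (ZMod 2) V}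
variable {H : Subgroup (ofQuad q).Isom} {S : Set V} {E : V → Submodule (ZMod 2) V}
  {R : V → Subgroup (ofQuad q).Isom} {c : ℕ → V} {a b : ℕ} {h : (ofQuad q).Isom}

theorem srch_ok (hc : Cd q c) (hk : ∀ a < 256, ∀ b < 256, h.1 (c a) = c b → ok a b = true) :
    ∀ (bs : List ℕ) (acc : List (ℕ × ℕ)), (∀ b ∈ bs, b < 256) →
    (∀ p ∈ acc, p.1 < 256 ∧ p.2 < 256 ∧ h.1 (c p.1) = c p.2) → (0, 0) ∈ acc → srch bs acc = true →
    (∀ p ∈ acc, p.1 = p.2) ∧ ∀ b ∈ bs, h.1 (c b) = c b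
  | [], acc, _, _, _, e => ⟨by simpa [srch] using e, by simp⟩
  | b :: bs, acc, h1, h2, h0, e => by
    have hb := h1 b (by simp)
    obtain ⟨m, hm, em⟩ := hc.surj (h.1 (c b))
    have n : ∀ p ∈ acc, p.1 ^^^ b < 256 ∧ p.2 ^^^ m < 256 ∧ h.1 (c (p.1 ^^^ b)) = c (p.2 ^^^ m) :=
      fun p hp => by
        obtain ⟨a1, a2, a3⟩ := h2 p hp
        exact ⟨xor_lt a1 hb, xor_lt a2 hm, by rw [hc.add _ a1 _ hb, hc.add _ a2 _ hm, map_add, a3, em]⟩
    have e1 := List.all_eq_true.1 e m (List.mem_range.2 hm)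
    rw [List.all_eq_true.2 fun p hp => hk _ (n p hp).1 _ (n p hp).2.1 (n p hp).2.2, Bool.not_true,
      Bool.false_or] at e1
    obtain ⟨r1, r2⟩ := srch_ok hc hk bs _ (fun x hx => h1 x (by simp [hx])) (fun p hp => by
      rcases List.mem_append.1 hp with hp | hp
      · exact h2 p hp
      · obtain ⟨p', hp', rfl⟩ := List.mem_map.1 hp
        exact n p' hp') (List.mem_append_left _ h0) e1
    refine ⟨fun p hp => r1 p (List.mem_append_left _ hp), fun x hx => ?_⟩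
    rcases List.mem_cons.1 hx with rfl | hx
    · have := r1 _ (List.mem_append_right _ (List.mem_map_of_mem h0))
      simp only [Nat.zero_xor] at this
      rw [← em, this]
    · exact r2 x hx

theorem fix7 (hc : Cd q c) (hk : ∀ a < 256, ∀ b < 256, h.1 (c a) = c b → ix a < 7 → ix b = ix a) :
    h = 1 := by
  have := (srch_ok (h := h) hc (fun a ha b hb e => by
    by_cases n : ix a < 7
    · simp [ok, hk a ha b hb e n]
    · simp [ok, not_lt.1 n]) _ _ (by decide) (by simp [hc.zero]) (by simp) c3).2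
  refine hc.ext (hc.rp idM_ok fun i hi => ?_) hc.rp_one
  rw [app_idM (by interval_cases i <;> norm_num)]
  exact this _ (by interval_cases i <;> simp)

variable (hv : VD H S E R 4) (hc : Cs c S E R d135)
include hv hc

theorem memS (ha : a < 256) : c a ∈ S ↔ ix a < 9 := (hc.memS a ha).trans (c1 a ha)

theorem wd (w : List ℕ) : ∃ y ∈ H, Rp c y (evM Ms w) := hc.cd.evM (fun M hM => by
  obtain ⟨p, hp, e⟩ := c6 M hM
  obtain ⟨h1, h2⟩ := hc.pt p hp
  obtain ⟨y, hy, f⟩ := h2.toR M e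
  exact ⟨y, hv.le _ ((hc.memS _ h2.lt).2 h1) hy, f⟩) w

theorem memE (ha : a < 256) (hb : b < 256) (h1 : ix a < 9) (h2 : ix b < 9) :
    c b ∈ E (c a) ↔ ix b = ix a := by
  obtain ⟨y, hy, f⟩ := wd hv hc (ws.getD a [])
  have e := List.all_eq_true.1 c2 a (List.mem_range.2 ha)
  rw [decide_eq_false (not_le.2 h1), Bool.false_or, chk, Bool.and_eq_true, beq_iff_eq] at e
  obtain ⟨k, hk, ek⟩ := hc.cd.surj (y⁻¹.1 (c b))
  have e2 : y.1 (c k) = c b := by rw [ek]; exact y.1.apply_symm_apply _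
  have e3 := (hc.cd.eq_iff (app_lt f.1 _) hb).1 ((f.2 k hk).symm.trans e2)
  have e4 := List.all_eq_true.1 e.2 k (List.mem_range.2 hk)
  obtain ⟨p, hp, p1, p2⟩ := c7
  have := (hc.pt p hp).2.memE k hk
  rw [p1, p2 k hk, ← hv.eqE y hy _ ((memS hv hc (by norm_num)).2 (by decide +kernel)), e2,
    f.2 1 (by norm_num), e.1] at this
  rw [this]
  rw [e3] at e4
  simp only [decide_eq_false (not_le.2 h2), Bool.false_or, beq_iff_eq] at e4
  rw [← decide_eq_true_iff (p := k < 16), e4, beq_iff_eq]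

/-- the action on the spread -/
theorem exists_f {Γ : Type*} [Group Γ] (ρ : Γ →* (ofQuad q).Isom) (hρ : ∀ g, ρ g ∈ H) :
    ∃ f : Γ →* Equiv.Perm (Fin 9), ∀ g, ∀ a < 256, ∀ b < 256, ∀ i : Fin 9, ix a = i →
      (ρ g).1 (c a) = c b → ix b = f g i := by
  choose cd c1 c2 using hc.cd.surj
  have s : ∀ g a, a < 256 → ix a < 9 → ix (cd ((ρ g).1 (c a))) < 9 := fun g a ha h =>
    (memS hv hc (c1 _)).1 (by rw [c2]; exact hv.inv _ (hρ g) _ ((memS hv hc ha).2 h))
  have r9 : ∀ i, ix (rp i) < 9 := fun i => (c4 i).2 ▸ i.2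
  let φ : Γ → Fin 9 → Fin 9 := fun g i => ⟨_, s g _ (c4 i).1 (r9 i)⟩
  have key : ∀ g, ∀ a < 256, ∀ b < 256, ∀ i : Fin 9, ix a = i → (ρ g).1 (c a) = c b → ix b = φ g i :=
    fun g a ha b hb i hi e => by
      have a9 : ix a < 9 := hi ▸ i.2
      have := (hv.eqE _ (hρ g) _ ((memS hv hc (c4 i).1).2 (r9 i)) _).2
        ((memE hv hc (c4 i).1 ha (r9 i) a9).2 (hi.trans (c4 i).2.symm))
      rw [e, ← c2 ((ρ g).1 _)] at this
      exact (memE hv hc (c1 _) hb (φ g i).2 ((memS hv hc hb).1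
        (e ▸ hv.inv _ (hρ g) _ ((memS hv hc ha).2 a9)))).1 this
  exact ⟨MonoidHom.toHomPerm (G := Γ) ⟨⟨φ, funext fun i => Fin.ext
      ((key 1 _ (c4 i).1 _ (c4 i).1 i (c4 i).2 (by rw [map_one]; rfl)).symm.trans (c4 i).2)⟩,
    fun g k => funext fun i => Fin.ext (key g _ (c1 _) _ (c1 _) (φ k i) rfl (by rw [c2, c2, map_mul]; rfl))⟩,
    key⟩

end lin

end ZT

open ZT

variable {G : Type*} [Group G] [Finite G] {D : Set G} {Q : G → Subgroup G} {z : G}
variable {V : Type*} [AddCommGroup V] [Module (ZMod 2) V] [Finite V]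
variable {F : Fr z (Q z) V} {E : V → Submodule (ZMod 2) V} {R : V → Subgroup (ofQuad F.q).Isom}
variable {c : ℕ → V}

theorem FC.th [IsSimpleGroup G] (h : FC D Q z F E R c d135) : Cfsg.Spor.IsoTh G := by
  obtain ⟨f, hf⟩ := exists_f h.vd h.cs F.ρ fun g => ⟨g, rfl⟩
  have lx := h.sit.lx z h.mem
  have f7 : ∀ g, (∀ i : Fin 9, i.1 < 7 → f g i = i) → F.ρ g = 1 := fun g e =>
    fix7 h.cs.cd fun a ha b hb e1 n => by
      rw [hf g a ha b hb ⟨ix a, by omega⟩ rfl e1, e _ n]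
  have f1 : ∀ g, F.ρ g = 1 → f g = 1 := fun g e => Equiv.ext fun i => Fin.ext
    ((hf g _ (c4 i).1 _ (c4 i).1 i (c4 i).2 (by rw [e]; rfl)).symm.trans (c4 i).2)
  have hk : (Q z).subgroupOf C{z} = f.ker := Subgroup.ext fun g =>
    ⟨fun a => f1 g ((F.ker g).2 a), fun a => (F.ker g).1 (f7 g fun i _ => by rw [show f g = 1 from a]; rfl)⟩
  have ge : alternatingGroup (Fin 9) ≤ f.range := alt_le fun k k0 => by
    obtain ⟨_, ⟨g, rfl⟩, e⟩ := wd h.vd h.cs (tw.getD k [])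
    exact ⟨g, Equiv.ext fun i => Fin.ext ((hf g _ (c4 i).1 _ (app_lt e.1 _) i (c4 i).2
      (e.2 _ (c4 i).1)).symm.trans (c5 k k0 i))⟩
  have hr : f.range = alternatingGroup (Fin 9) := le_antisymm (fun σ hσ => by
    rcases Int.units_eq_one_or (Equiv.Perm.sign σ) with e | e
    · exact e
    obtain ⟨g, hg⟩ := mul_mem (ge (x := Equiv.swap 7 8 * σ⁻¹) (by
      rw [Equiv.Perm.mem_alternatingGroup, map_mul, map_inv, e, Equiv.Perm.sign_swap (by decide)]; rfl)) hσ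
    rw [inv_mul_cancel_right] at hg
    exact absurd (hg.symm.trans (f1 g (f7 g (by rw [hg]; decide)))) (by decide)) ge
  have xs : H3.XS 2 (⟨z, self_mem_C1 z⟩ : C{z}) ((Q z).subgroupOf C{z}) := by
    have key : ∀ x : C{z}, (x : G) ∈ zpowers z → x ∈ zpowers (⟨z, self_mem_C1 z⟩ : C{z}) := by
      rintro x ⟨k, hk⟩
      exact ⟨k, Subtype.ext hk⟩
    exact ⟨by rw [← orderOf_coe, lx.xs.ord], lx.xs.mem, fun x hx => Subtype.ext (lx.xs.central x hx),
      fun x hx y hy => key _ (lx.xs.comm x hx y hy), fun x hx => key _ (lx.xs.pow x hx),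
      fun x hx e => key _ (lx.xs.center_le x hx fun y hy => congrArg Subtype.val (e ⟨y, lx.le hy⟩ hy).eq)⟩
  have : ((Q z).subgroupOf C{z}).Normal := hk ▸ inferInstance
  exact (H28.Th.recog z lx.xs.ord ((Q z).subgroupOf C{z}) (xs.isExtraspecial fun e => lx.ne (by
      have := congrArg (map C{z}.subtype) e
      rwa [MonoidHom.map_zpowers, subgroupOf_map_subtype, inf_eq_left.2 lx.le] at this))
    ((Nat.card_congr (subgroupOfEquivOfLe lx.le).toEquiv).trans (h.sit.card z h.mem))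
    (fun g hg => lx.zle (lx.cent (mem_C.2 fun x hx => congrArg Subtype.val (mem_C.1 hg ⟨x, lx.le hx⟩ hx))))
    (((QuotientGroup.quotientMulEquivOfEq hk).trans (QuotientGroup.quotientKerEquivRange f)).trans
      (MulEquiv.subgroupCongr hr))).1

end XS
end H6
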