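import Mathlib
import Cfsg.Agent.H6.XA

/-! Width four, unitary case -/

set_option autoImplicit false
set_option linter.unusedSectionVars false

namespace H6
namespace XS

open Subgroup H24 H15 H15.XP Module H18.XU

variable {G : Type*} [Group G] [Finite G] {D : Set G} {Q : G → Subgroup G} {z b : G}

theorem su_seven {n : ℕ} (hn : 7 ≤ n) {φ : G → (Fin n → H0.F4)}
    (h : H0.Model D (unForm H0.F4.card n) φ) : ∃ x : Fin 9 → G, (∀ i, x i ∈ D) ∧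
      ∀ i j, Commute (x i) (x j) ↔ i = j ∨ (i < 3 ∨ j < 3) ∧ i.1 + j ≠ 2 := by
  let ι : (Fin 7 → H0.F4) → Fin n → H0.F4 := fun v i => if h : i.1 < 7 then v ⟨i, h⟩ else 0
  have hι : ∀ v w, (unForm H0.F4.card n).B (ι v) (ι w) = ∑ i, w i * (v i * v i) := by
    intro v w
    rw [unForm_B']
    symm
    refine Finset.sum_of_injOn (Fin.castLE hn) (Fin.castLE_injective hn).injOn
      (fun _ _ => Finset.mem_univ _) (fun i _ hi => ?_) fun i _ => ?_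
    · have : ¬ i.1 < 7 := fun h => hi ⟨⟨i, h⟩, Finset.mem_univ _, rfl⟩
      simp [ι, this]
    · simp [ι, H0.F4.frob_eq]
  let w : H0.F4 := (2 : Fin 4)
  let v : Fin 9 → Fin 7 → H0.F4 := ![![1, 1, 0, 0, 0, 0, 0], ![0, 0, 1, 1, 0, 0, 0],
    ![1, w, 0, 0, 0, 0, 0], ![0, 0, 0, 0, 1, 1, 0], ![0, 0, 0, 0, 1, w, 0], ![0, 0, 0, 0, 1, 0, 1],
    ![0, 0, 0, 0, 1, 0, w], ![0, 0, 0, 0, 0, 1, 1], ![0, 0, 0, 0, 0, 1, w]]
  have k : ∀ i j, (v i ≠ 0 ∧ ∑ k, v i k * (v i k * v i k) = 0) ∧ (∑ k, v j k * (v i k * v i k) = 0 ↔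
    i = j ∨ (i < 3 ∨ j < 3) ∧ i.1 + j ≠ 2) := by decide +kernel
  choose x h1 c h2 h3 using fun i => h.2 (ι (v i)) ⟨fun e => (k i i).1.1 (funext fun i => by
      simpa [ι] using congrFun e (Fin.castLE hn i)), by rw [hι, (k i i).1.2], rfl⟩
  refine ⟨x, h1, fun i j => ?_⟩
  rw [← (k i j).2, ← hι, h3, h3, h.1 _ (h1 i) _ (h1 j)]
  simp only [LinearMap.map_smulₛₗ, LinearMap.smul_apply, smul_eq_mul, RingHom.id_apply,
    mul_eq_zero, map_eq_zero, h2, false_or]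

theorem US.not_seven (h : US D Q 4) {x : Fin 9 → G} (h1 : ∀ i, x i ∈ D)
    (h2 : ∀ i j, Commute (x i) (x j) ↔ i = j ∨ (i < 3 ∨ j < 3) ∧ i.1 + j ≠ 2) : False := by
  have xi : Function.Injective x := fun i j e => by
    have : ∀ i j : Fin 9, (∀ k : Fin 9, (i = k ∨ (i < 3 ∨ k < 3) ∧ i.1 + k ≠ 2) ↔
      j = k ∨ (j < 3 ∨ k < 3) ∧ j.1 + k ≠ 2) → i = j := by decide
    exact this i j fun k => by rw [← h2, ← h2, e]
  have col : ∀ i j : Fin 9, i ≠ j → (i < 3 ∨ j < 3) ∧ i.1 + j.1 ≠ 2 → Col D (x i) (x j) := fun i j a1 a2 =>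
    ⟨h1 i, h1 j, fun e => a1 (xi e), (h2 i j).2 (Or.inr a2)⟩
  have k1 := col 0 1 (by decide) (by decide)
  have k2 : ∀ i, 3 ≤ i → Col D (x 0) (x i) ∧ Col D (x 1) (x i) ∧ x i ∉ UU Q (x 0) (x 1) := fun i hi => by
    obtain ⟨j, a1, a2⟩ : ∃ j : Fin 9, 3 ≤ j ∧ i ≠ j := by revert i; decide
    refine ⟨col _ _ (by omega) (by omega), col _ _ (by omega) (by omega), fun hU => ?_⟩
    have := (h2 i j).1 (mem_C.1 (h.cent_of_comm k1 (h1 j) (col 0 j (by omega) (by omega)).comm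
      (col 1 j (by omega) (by omega)).comm) _ hU)
    omega
  have := pack₂ (P := x '' {i | 3 ≤ i}) (W := fun d => WW Q (x 0) (x 1) ⊔ WW Q (x 0) d)
    (Z := WW Q (x 0) (x 1)) (K := WW Q (x 0) (x 1)) (M := Q (x 0) ⊓ C[WW Q (x 0) (x 1)]) (n := 24)
    (by
      rintro _ ⟨i, hi, rfl⟩
      obtain ⟨a1, a2, a3⟩ := k2 i hi
      exact sup_le (le_inf (h.WW_le k1) (h.ea_WW k1).le_C) (le_inf (h.WW_le a1) (h.pl_comm k1 a1 a2 a3)))
    (by
      rintro _ ⟨i, hi, rfl⟩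
      obtain ⟨a1, a2, a3⟩ := k2 i hi
      rw [h.pl_card k1 a1 a2 a3, h.card_WW k1]) (fun _ _ => inf_eq_right.2 le_sup_left) (by
      rintro _ ⟨i, hi, rfl⟩ _ ⟨j, hj, rfl⟩ ne
      obtain ⟨a1, a2, a3⟩ := k2 i hi
      obtain ⟨b1, b2, b3⟩ := k2 j hj
      refine le_antisymm (fun y hy => ?_) (le_inf le_sup_left le_sup_left)
      obtain ⟨u, u1, s, s1, rfl⟩ := (mem_sup_of_norm ((h.WW_le a1).trans (h.norm_WW k1))).1 hy.1
      have s2 : s ∈ C[WW Q (x 0) (x j)] := (sup_le (cents_symm (h.pl_comm k1 b1 b2 b3)) (h.ea_WW b1).le_C)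
        ((mul_mem_cancel_left (mem_sup_left u1)).1 hy.2)
      refine mul_mem u1 (zpowers_le.2 (left_mem_WW _ _) ((h.opp1 a1 b1 fun e => ?_).le ⟨s1, s2⟩))
      have := (h2 i j).1 e
      have : i ≠ j := fun e => ne (e ▸ rfl)
      simp only [Set.mem_ofPred_eq] at hi hj
      omega) (le_inf (h.WW_le k1) (h.ea_WW k1).le_C)
  have c1 := h.card_A k1
  rw [Set.ncard_image_of_injective _ xi, h.cent_WW k1, h.card_WW k1,
    show ({i | 3 ≤ i} : Set (Fin 9)).ncard = 6 by rw [Set.ncard_eq_toFinset_card']; decide] at this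
  omega

theorem US.six [IsSimpleGroup G] (h : US D Q 4) (k : Col D z b) :
    Nonempty (G ≃* Cfsg.PSU 6 H0.F4 2) := by
  have hO := h.noOdd k.l
  obtain ⟨z', hz', nz⟩ := h.exists_nc k k.l
  have T : H0.TT D := ⟨fun d hd => h.sq hd, fun d hd e he => or_iff_not_imp_left.2 fun n =>
    h.cj_nc hO k hd he n, h.conj, h.trans, h.closure_eq_top k.l⟩
  have hZ : center G = ⊥ := (Normal.eq_bot_or_eq_top inferInstance).resolve_right fun e =>
    h.not_center k.l (e ▸ trivial)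
  have hcm : commutator G = ⊤ := (Normal.eq_bot_or_eq_top inferInstance).resolve_left fun e =>
    nz (commutatorElement_eq_one_iff_mul_comm.1 (mem_bot.1 (e ▸ commutator_mem_commutator trivial trivial)))
  have P : H0.PTT D := T.ptt_of_simple (hcm ▸ topEquiv.symm.isSimpleGroup_congr.1 inferInstance) (by
    rw [hcm]
    exact ⟨⟨z, trivial⟩, ⟨z', trivial⟩, fun e => nz (congrArg Subtype.val e)⟩)
  have ln : ∀ i ∈ Q z ⊓ Q b, i ≠ 1 → z * b * i ∈ H0.Ln D z b := fun i hi i1 =>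
    ⟨h.third_mem k hi i1, fun x hx c1 c2 => (mem_C.1 (h.cent_of_comm k hx c1.symm c2.symm) _
      ((h.mem_ln k).2 (.inr (.inr ⟨i, hi, i1, rfl⟩))).2).symm⟩
  obtain ⟨i, hi1, i1⟩ := h.exists_I k
  obtain ⟨j, hj1, j1, ji⟩ := four_ex (K := Q z ⊓ Q b) (by rw [(h.tu k).card]; omega) (h.eaI k i hi1)
  have Po : H0.Pol D := ⟨P, _, k.l, _, ⟨k.r, k.ne.symm, k.comm⟩, _, ln i hi1 i1, h.third_ne k hi1,
    h.third_ne' k hi1⟩
  rcases Po.model hZ with ⟨m, -, φ, M⟩ | ⟨n, n4, φ, M⟩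
  · exact absurd (mul_left_cancel (sp_line₅ P M k.l k.r k.ne k.comm (ln j hj1 j1) (ln i hi1 i1)
      (h.third_ne k hj1) (h.third_ne' k hj1) (h.third_ne k hi1) (h.third_ne' k hi1))) ji
  obtain ⟨e⟩ := M.iso_su Po hZ n4
  have c1 := card_sup (show Q b ⊓ C{z} ≤ N[Q z] from inf_le_right.trans (h.norm k.l))
  have c2 := h.card_A k.symm
  rw [← inf_assoc, inf_eq_left.2 (inf_le_left.trans (h.le k.l)), (h.tu k).card, h.card z k.l] at c1
  have c3 := card_subgroup_dvd_card (Q z ⊔ Q b ⊓ C{z})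
  rw [show Nat.card ↥(Q z ⊔ Q b ⊓ C{z}) = 2 ^ 14 by omega, Nat.card_congr e.toEquiv] at c3
  have h1 := H7.card_psu H0.F4.card n (by omega)
  rcases (by omega : n = 4 ∨ n = 5 ∨ n = 6 ∨ 7 ≤ n) with rfl | rfl | rfl | n7
  · simp [Finset.prod_range_succ, Nat.even_iff] at h1
    omega
  · simp [Finset.prod_range_succ, Nat.even_iff] at h1
    omega
  · exact ⟨e⟩
  · obtain ⟨x, x1, x2⟩ := su_seven n7 M
    exact (h.not_seven x1 x2).elim

end XS
end H6
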