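import Mathlib
import Cfsg.Agent.H16.K3T0
import Cfsg.Agent.H4.K3TH
import Cfsg.Agent.H8.K3G
import Cfsg.Agent.H13.K3L
import Cfsg.Agent.H28.K3L
import Cfsg.Agent.H7.K3Q

/-!
# Thin groups with three primes: the case `L / Q ≅ L₂(7)`
-/

set_option autoImplicit false
set_option linter.unusedSectionVars false

open Cfsg H24 H26 H26.Gold Subgroup H18.K3 H16.K3T

namespace H6.K3

universe u

theorem case7 {G : Type u} [Group G] [Finite G] {a b : ℕ} (h : KT G 7 a b) (th : H16.K3T.Thin G)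
    {Q L : Subgroup G} {F : Type} [Field F] [Fintype F] (hF : Fintype.card F = 7)
    {φ : L →* Matrix.ProjectiveSpecialLinearGroup (Fin 2) F} (fm : Fm Q L φ) :
    H8.K3.Concl G := by
  have := h.simple
  have kn : H8.K3.K3N (Nat.card G) := ⟨7, a, b, h.prime, h.card⟩
  have t := H4.K3.th_of h th
  have c7 : Nat.card (Matrix.ProjectiveSpecialLinearGroup (Fin 2) F) = 168 := by
    have := H8.K3.card_l2 (F := F) (x := 6) hF
    norm_num at this
    omega
  obtain ⟨V, hV, cV, h2, hA, cN, hO⟩ := H13.K3.l32 h t.rk fm.nmlQ fm.two fm.ne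
    (by rw [fm.card, c7]) (fm.core ▸ fm.nml.pcore_le _)
  by_cases hC : C[V] = V
  · obtain ⟨z, hz, hQ, hw⟩ := H28.K3L.main h (H4.K3.mx_of_thin th) hV cV hC.le cN
    exact H8.K3.of_sympl h.na kn hz hQ hw
  · obtain ⟨S, hS⟩ := H7.K3.qv t hV cV rfl hA h2 hO hC cN
    exact H8.K3.of_sca h.na kn S (fun e => by rw [e, card_bot] at cV; omega) hV.1 hS

end H6.K3
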