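import Mathlib
import Cfsg.Agent.S1760
import Cfsg.Agent.S0280
import Cfsg.Agent.H7.SL
import Cfsg.Agent.H10.MGrp

/-! An involution with a large extraspecial group and Sylow order `2 ^ 46` is not weakly closed. -/

set_option autoImplicit false
set_option linter.all false

namespace H6.MZ

open Subgroup

variable {G : Type*} [Group G] [Finite G]

local notation "C" y => centralizer ({y} : Set _)

theorem not_psu {m : ℕ} (hm : 4 ≤ m) (d1 : 2 ^ 46 ∣ Nat.card (Cfsg.PSU m H0.F4 2))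
    (d2 : ¬ 2 ^ 47 ∣ Nat.card (Cfsg.PSU m H0.F4 2)) : False := by
  have h := Cfsg.Agent.S0280.result (F := H0.F4) (q := 2) H0.F4.card m (by omega)
  have o1 : Nat.Coprime 2 (∏ i ∈ Finset.range m, (if Even i then 2 ^ (i + 1) + 1 else 2 ^ (i + 1) - 1)) :=
    Nat.Coprime.prod_right fun i _ => by
      have : 0 < 2 ^ i := Nat.two_pow_pos i
      rw [Nat.coprime_two_left, Nat.odd_iff, pow_succ]
      split_ifs <;> omega
  have o2 : Nat.Coprime 2 (Nat.gcd m (2 + 1)) :=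
    Nat.Coprime.coprime_dvd_right (Nat.gcd_dvd_right _ _) (by norm_num)
  have a1 : 2 ^ 46 ∣ 2 ^ (m * (m - 1) / 2) := (o1.pow_left 46).dvd_of_dvd_mul_right
    (h ▸ (d1.mul_left _).mul_left _)
  have a2 : 2 ^ (m * (m - 1) / 2) ∣ Nat.card (Cfsg.PSU m H0.F4 2) :=
    ((show Nat.Coprime 2 (2 + 1) by norm_num).pow_left _).dvd_of_dvd_mul_left
      ((o2.pow_left _).dvd_of_dvd_mul_left (h ▸ dvd_mul_right _ _))
  have b1 := (Nat.pow_dvd_pow_iff_le_right (by norm_num)).1 a1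
  have b2 : m * (m - 1) / 2 < 47 := not_le.1 fun k => d2 ((pow_dvd_pow 2 k).trans a2)
  rcases le_or_gt m 10 with k | k
  · have : m * (m - 1) ≤ 10 * 9 := Nat.mul_le_mul k (by omega)
    omega
  · have : 11 * 10 ≤ m * (m - 1) := Nat.mul_le_mul k (by omega)
    omega

theorem nwc [IsSimpleGroup G] {K : Type*} [Group K] [Finite K] [IsSimpleGroup K] {y : G}
    {Q : Subgroup G} (xs : H3.XS 2 y Q) (hc : ∀ g, (∀ x ∈ Q, g * x = x * g) → g ∈ Q)
    (κ : centralizer ({y} : Set G) →* K) (hk : ∀ g, κ g = 1 → g.1 ∈ Q) {a : ℕ}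
    (c1 : Nat.card (centralizer ({y} : Set G)) = a * Nat.card K) (c2 : Nat.card Q ≤ a) (c3 : 32 ≤ a)
    (hK : 3 ∣ Nat.card K) (d1 : 2 ^ 46 ∣ Nat.card G) (d2 : ¬ 2 ^ 47 ∣ Nat.card G) :
    ∃ g, g * y * g⁻¹ ≠ y ∧ g * y * g⁻¹ ∈ Q := by
  have := Fact.mk Nat.prime_two
  have hQ : Q ≤ (C y) := fun x hx => mem_centralizer_singleton_iff.2 (xs.central x hx).symm
  have k1 : κ.ker ≤ Q.subgroupOf (C y) := fun g hg => hk g hg
  have k2 : Nat.card (Q.subgroupOf (C y)) = Nat.card Q := Nat.card_congr (subgroupOfEquivOfLe hQ).toEquiv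
  have k3 := κ.ker.card_mul_index
  rw [index_ker, c1] at k3
  have k4 := card_le_of_le k1
  have k5 : Nat.card κ.range ≤ Nat.card K := card_le_card_group _
  have p1 : 0 < Nat.card K := Nat.card_pos
  have k6 : a ≤ Nat.card κ.ker := Nat.le_of_mul_le_mul_right (k3 ▸ Nat.mul_le_mul_left _ k5) p1
  have k7 : κ.ker = Q.subgroupOf (C y) := eq_of_le_of_card_ge k1 (by omega)
  have k8 : κ.range = ⊤ := eq_top_of_le_card _ (Nat.le_of_mul_le_mul_left
    (k3 ▸ Nat.mul_le_mul_right _ (by omega)) (show 0 < a by omega))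
  have hs := MonoidHom.range_eq_top.1 k8
  have pg : IsPGroup 2 (Q.subgroupOf (C y)) := xs.isPGroup.of_equiv (subgroupOfEquivOfLe hQ).symm
  have q1 : Cfsg.pCore 2 (C y) = Q.subgroupOf (C y) := by
    refine le_antisymm ?_ (H2.le_pCore (k7 ▸ κ.normal_ker) pg)
    rw [← k7, ← Subgroup.map_eq_bot_iff]
    refine ((Cfsg.pCore_normal 2 (C y)).map κ hs).eq_bot_or_eq_top.resolve_right fun t => ?_
    have := (H2.pCore_isPGroup 2 (C y)).map κ
    rw [t] at this
    obtain ⟨n, hn⟩ := IsPGroup.iff_card.1 this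
    rw [card_top] at hn
    exact absurd (Nat.Prime.dvd_of_dvd_pow Nat.prime_three (hn ▸ hK)) (by norm_num)
  have q2 : Cfsg.generalizedFittingSubgroup (C y) = Q.subgroupOf (C y) := by
    rw [← q1, H23.fstar_eq_pCore_iff, q1]
    exact fun g hg => hc g fun x hx =>
      (congrArg Subtype.val (mem_centralizer_iff.1 hg ⟨x, hQ hx⟩ hx)).symm
  let y0 : (C y) := ⟨y, hQ xs.mem⟩
  have z0 : ∀ x : (C y), x.1 ∈ zpowers y → x ∈ zpowers y0 := fun x ⟨n, hn⟩ => ⟨n, Subtype.ext hn⟩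
  have x0 : H3.XS 2 y0 (Q.subgroupOf (C y)) :=
    ⟨(orderOf_coe y0).symm.trans xs.ord, xs.mem, fun x hx => Subtype.ext (xs.central x hx),
      fun x hx w hw => z0 _ (xs.comm x hx w hw), fun x hx => z0 _ (xs.pow x hx),
      fun x hx h => z0 _ (xs.center_le x hx fun w hw => congrArg Subtype.val (h ⟨w, hQ hw⟩ hw))⟩
  have hE : Cfsg.IsExtraspecial 2 (Q.subgroupOf (C y)) := H10.Mon.xs_extra x0 fun e => by
    have := Nat.card_zpowers y0
    rw [e, x0.ord, ← k7] at this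
    omega
  have hO : Cfsg.oddCore G = ⊥ :=
    (Cfsg.pPrimeCore_normal 2 G).eq_bot_or_eq_top.resolve_right fun t => by
      have := H2.pPrimeCore_coprime 2 G
      rw [t, card_top] at this
      exact absurd (Nat.Coprime.coprime_dvd_left ((dvd_pow_self 2 (by norm_num)).trans d1) this) (by norm_num)
  have y1 : y ≠ 1 := fun e => by have := xs.ord; rw [e, orderOf_one] at this; omega
  have h1 : y ∉ center G := fun h => by
    have t : zpowers y = ⊤ := (show (zpowers y).Normal from ⟨fun n hn g => by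
      rw [mem_center_iff.1 (zpowers_le.2 h hn) g, mul_inv_cancel_right]; exact hn⟩).eq_bot_or_eq_top.resolve_left
      (zpowers_ne_bot.2 y1)
    have := Nat.card_zpowers y
    rw [t, card_top, xs.ord] at this
    rw [this] at d1
    norm_num at d1
  by_contra h2
  obtain ⟨e, h⟩ := H6.XS.s1760 (fun a b t c d e f g => Cfsg.Agent.S1675.result a b t c d e f g)
    hO xs.ord (q2 ▸ hE) (by rw [q2, ← k7]; omega) h1 (fun ⟨g, g1, g2⟩ => h2 ⟨g, g1, by
      rw [q2] at g2
      obtain ⟨x, hx, e⟩ := g2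
      exact e ▸ hx⟩)
  have t : Cfsg.generalizedFittingSubgroup G = ⊤ := e ▸ (normalClosure_normal (s := {y})).eq_bot_or_eq_top.resolve_left
    fun b => y1 (mem_bot.1 (b ▸ subset_normalClosure rfl))
  have ct : Nat.card G = Nat.card (Cfsg.generalizedFittingSubgroup G) := by rw [t, card_top]
  rw [ct] at d1 d2
  rcases h with ⟨m, hm, ⟨f⟩⟩ | ⟨⟨f⟩⟩ | ⟨⟨f⟩⟩ <;> rw [Nat.card_congr f.toEquiv] at d1 d2
  · exact not_psu hm d1 d2
  · have := d1.trans (card_dvd_of_le (show Cfsg.Spor.Co2 ≤ Cfsg.Co0 from inf_le_left))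
    rw [H10.card_G0] at this
    norm_num at this
  · have := H7.card_psl (F := ZMod 3) (q := 3) (ZMod.card 3) 4 (by omega)
    have k := (d1.mul_left (3 - 1)).mul_left (Nat.gcd 4 (3 - 1))
    rw [this] at k
    revert k
    decide

end H6.MZ
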