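import Mathlib
import Cfsg.Agent.H6.Transfer2
import Cfsg.Agent.H6.BrauerFowler

/-!
# Counting conjugates of an isolated involution
-/

set_option autoImplicit false

namespace H6

open Subgroup H22

variable {G : Type*} [Group G]

theorem isolated_eq_of_commute {z : G} (hz : Cfsg.IsIsolatedInvolution z) {v : G}
    (h : IsConj z v) (hc : Commute z v) : v = z := by
  obtain ⟨g, rfl⟩ := isConj_iff.1 h
  exact hz.2 g hc

theorem isolated_of_isConj {z : G} (hz : Cfsg.IsIsolatedInvolution z) {v : G}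
    (h : IsConj z v) : Cfsg.IsIsolatedInvolution v := by
  obtain ⟨g, rfl⟩ := isConj_iff.1 h
  exact isolated_conj hz g

theorem isolated_odd_mul [Finite G] {z : G} (hz : Cfsg.IsIsolatedInvolution z) {x y : G}
    (hx : IsConj z x) (hy : IsConj z y) : Odd (orderOf (x * y)) := by
  obtain ⟨g, rfl⟩ := isConj_iff.1 hx
  obtain ⟨h, rfl⟩ := isConj_iff.1 hy
  exact isolated_odd' hz g h

theorem isConj_mul_of_inverted [Finite G] {z k : G} (hz : z * z = 1) (hk : Odd (orderOf k))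
    (h : z * k * z⁻¹ = k⁻¹) : IsConj z (k * z) := by
  have h1 : (k * z) * (k * z) = 1 := by
    calc (k * z) * (k * z) = k * (z * k * z⁻¹) * (z * z) := by group
      _ = 1 := by rw [h, hz]; group
  refine isConj_of_odd hz h1 ?_
  rw [← mul_assoc, ← inv_eq_of_mul_self hz, inv_eq_of_mul_self hz]
  nth_rewrite 2 [← inv_eq_of_mul_self hz]
  rw [h, orderOf_inv]; exact hk

theorem card_inverted_commute [Finite G] {z : G} (hz : Cfsg.IsIsolatedInvolution z) {a : G}
    (ha : Commute z a) :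
    Nat.card {k : G // Odd (orderOf k) ∧ z * k * z⁻¹ = k⁻¹ ∧ Commute k a} =
      Nat.card {x : G // IsConj z x ∧ Commute x a} := by
  have hz2 := isolated_mul_self hz
  refine Nat.card_congr (Equiv.subtypeEquiv (Equiv.mulRight z) fun k => ?_)
  show _ ↔ IsConj z (k * z) ∧ Commute (k * z) a
  constructor
  · rintro ⟨h1, h2, h3⟩
    exact ⟨isConj_mul_of_inverted hz2 h1 h2, h3.mul_left ha⟩
  · rintro ⟨h1, h2⟩
    have e : k = (k * z) * z := by rw [mul_assoc, hz2, mul_one]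
    refine ⟨by rw [e]; exact isolated_odd_mul hz h1 (IsConj.refl z), ?_, ?_⟩
    · rw [e]
      exact conj_mul_right (isolated_mul_self (isolated_of_isConj hz h1)) hz2
    · rw [e]; exact h2.mul_left ha

theorem isolated_existsUnique_fibre [Finite G] {z : G} (hz : Cfsg.IsIsolatedInvolution z)
    {s : G} (hs : s * s = 1) {x : G} (hx : IsConj z x) :
    ∃! y : G, (IsConj z y ∧ Commute y s) ∧ Commute x (s * y) := by
  have hx' := isolated_of_isConj hz hx
  have hx2 := isolated_mul_self hx'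
  have key : ∀ y : G, (IsConj z y ∧ Commute y s) ∧ Commute x (s * y) →
      ∃ m : ℕ, Odd m ∧ (x * s) ^ m = s * y ∧ (s * y) * (s * y) = 1 := by
    rintro y ⟨⟨h1, h2⟩, h3⟩
    have hy2 := isolated_mul_self (isolated_of_isConj hz h1)
    have h4 : (s * y) * (s * y) = 1 := by
      calc (s * y) * (s * y) = s * (y * s) * y := by group
        _ = (s * s) * (y * y) := by rw [h2.eq]; group
        _ = 1 := by rw [hs, hy2, one_mul]
    obtain ⟨m, hm⟩ := isolated_odd_mul hz hx h1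
    refine ⟨2 * m + 1, ⟨m, rfl⟩, ?_, h4⟩
    have e : x * s = (x * y) * (s * y) := by
      rw [← h2.eq, mul_assoc, ← mul_assoc y, hy2, one_mul]
    have hc : Commute (x * y) (s * y) := h3.mul_left (h2.mul_right (Commute.refl y))
    rw [e, hc.mul_pow, ← hm, pow_orderOf_eq_one, one_mul, hm, pow_succ, pow_mul, sq, h4, one_pow,
      one_mul]
  have hodd : ∀ (w : G) (m : ℕ), w * w = 1 → Odd m → w ^ m = w := by
    rintro w _ hw ⟨m, rfl⟩
    rw [pow_succ, pow_mul, sq, hw, one_pow, one_mul]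
  have hex : ∃ y : G, (IsConj z y ∧ Commute y s) ∧ Commute x (s * y) := by
    rcases Nat.even_or_odd (orderOf (x * s)) with he | ho
    · obtain ⟨hw, hwx, hws⟩ := central_involution hx2 hs he
      rcases zpow_mul_conj hx2 hs ((orderOf (x * s) / 2 : ℕ) : ℤ) with ⟨-, j, hj⟩ | ⟨-, j, hj⟩
      · rw [zpow_natCast] at hj
        have := isolated_eq_of_commute hx' (isConj_iff.2 ⟨_, hj⟩)
          (hwx.symm.mul_right (Commute.refl x))
        exact absurd (mul_eq_right.1 this) (ne_one_of_orderOf_two hw)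
      · rw [zpow_natCast] at hj
        set w := (x * s) ^ (orderOf (x * s) / 2) with hwdef
        have hw2 := mul_self_of_orderOf_two hw
        refine ⟨s * w, ⟨hx.trans (isConj_iff.2 ⟨((x * s) ^ j)⁻¹, ?_⟩),
          (Commute.refl s).mul_left hws⟩, by rw [← mul_assoc, hs, one_mul]; exact hwx.symm⟩
        have hc : Commute ((x * s) ^ j) w := ((Commute.refl (x * s)).pow_right _).zpow_left _
        have e : x = w * ((x * s) ^ j * s * ((x * s) ^ j)⁻¹) := by
          rw [hj, ← mul_assoc, hw2, one_mul]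
        calc ((x * s) ^ j)⁻¹ * x * ((x * s) ^ j)⁻¹⁻¹
            = ((x * s) ^ j)⁻¹ * (w * ((x * s) ^ j * s * ((x * s) ^ j)⁻¹)) * (x * s) ^ j := by
              rw [← e, inv_inv]
          _ = ((x * s) ^ j)⁻¹ * (w * (x * s) ^ j) * s := by group
          _ = s * w := by rw [← hc.eq, inv_mul_cancel_left, hws.eq]
    · exact ⟨s, ⟨hx.trans (isConj_of_odd hx2 hs ho), Commute.refl s⟩, by
        rw [hs]; exact Commute.one_right x⟩
  obtain ⟨y, hy⟩ := hex
  refine ⟨y, hy, fun y' hy' => ?_⟩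
  obtain ⟨m, hm, e, h⟩ := key y hy
  obtain ⟨m', hm', e', h'⟩ := key y' hy'
  have : s * y' = s * y := by
    rw [← hodd _ m h' hm, ← hodd _ m' h hm', ← e, ← e', ← pow_mul, ← pow_mul, mul_comm]
  exact mul_left_cancel this

theorem card_isConj_of_isolated [Finite G] {z : G} (hz : Cfsg.IsIsolatedInvolution z)
    {s : G} (hs : s * s = 1) (hsz : Commute s z) :
    Nat.card {x : G // IsConj z x} = Nat.card {x : G // IsConj z x ∧ Commute x (s * z)} *
      Nat.card {x : G // IsConj z x ∧ Commute x s} := by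
  have hc : ∀ y : {x : G // IsConj z x ∧ Commute x s}, ∃ c : G, Commute c s ∧ c * z * c⁻¹ = y := by
    rintro ⟨y, h1, h2⟩
    obtain ⟨g, rfl⟩ := isConj_iff.1 h1
    obtain ⟨c, hc, e⟩ := isolated_conj_in_subgroup hz (centralizer ({s} : Set G))
      (mem_centralizer_singleton.2 hsz.symm) g (mem_centralizer_singleton.2 h2)
    exact ⟨c, mem_centralizer_singleton.1 hc, e⟩
  choose c hc1 hc2 using hc
  have key : ∀ (y : {x : G // IsConj z x ∧ Commute x s}) (x : G),
      Commute (c y * x * (c y)⁻¹) (s * y) ↔ Commute x (s * z) := by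
    intro y x
    have : s * y = c y * (s * z) * (c y)⁻¹ := by
      rw [← hc2 y, ← mul_assoc (c y), (hc1 y).eq]; group
    rw [this]
    exact commute_map_iff (f := MulAut.conj (c y)) (MulAut.conj (c y)).injective
  rw [← Nat.card_prod]
  symm
  refine Nat.card_congr (Equiv.ofBijective (fun p => ⟨c p.2 * p.1 * (c p.2)⁻¹,
    p.1.2.1.trans (isConj_iff.2 ⟨_, rfl⟩)⟩) ⟨?_, ?_⟩)
  · rintro ⟨x, y⟩ ⟨x', y'⟩ e
    have e' : c y * x * (c y)⁻¹ = c y' * x' * (c y')⁻¹ := congrArg Subtype.val e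
    have h1 := (isolated_existsUnique_fibre hz hs
      (x.2.1.trans (isConj_iff.2 ⟨c y, rfl⟩))).unique ⟨y.2, (key y x).2 x.2.2⟩
      ⟨y'.2, e' ▸ (key y' x').2 x'.2.2⟩
    obtain rfl : y = y' := Subtype.ext h1
    rw [mul_left_inj, mul_right_inj] at e'
    rw [Subtype.ext e']
  · rintro ⟨x, hx⟩
    obtain ⟨y, ⟨hy, hxy⟩, -⟩ := isolated_existsUnique_fibre hz hs hx
    have e : x = c ⟨y, hy⟩ * ((c ⟨y, hy⟩)⁻¹ * x * c ⟨y, hy⟩) * (c ⟨y, hy⟩)⁻¹ := by group
    refine ⟨(⟨(c ⟨y, hy⟩)⁻¹ * x * c ⟨y, hy⟩, hx.trans (isConj_iff.2 ⟨(c ⟨y, hy⟩)⁻¹, by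
      rw [inv_inv]⟩), (key ⟨y, hy⟩ _).1 (e ▸ hxy)⟩, ⟨y, hy⟩), Subtype.ext e.symm⟩

theorem card_eq_of_isolated [Finite G] (z : G) (hz : Cfsg.IsIsolatedInvolution z) (s : G)
    (hs : orderOf s = 2) (hsz : Commute s z) :
    Nat.card G = Nat.card (Subgroup.centralizer ({z} : Set G)) *
      Nat.card {k : G // Odd (orderOf k) ∧ z * k * z⁻¹ = k⁻¹ ∧ Commute k (s * z)} *
      Nat.card {k : G // Odd (orderOf k) ∧ z * k * z⁻¹ = k⁻¹ ∧ Commute k s} := by
  rw [card_inverted_commute hz hsz.symm, card_inverted_commute hz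
    (hsz.symm.mul_right (Commute.refl z)), mul_assoc,
    ← card_isConj_of_isolated hz (mul_self_of_orderOf_two hs) hsz,
    card_centralizer_mul_card_isConj]

theorem card_isConj_mem_dvd [Finite G] {z : G} (hz : Cfsg.IsIsolatedInvolution z)
    {H : Subgroup G} (hzH : z ∈ H) : Nat.card {x : G // IsConj z x ∧ x ∈ H} ∣ Nat.card H := by
  rw [← card_centralizer_mul_card_isConj (⟨z, hzH⟩ : H)]
  apply Dvd.dvd.mul_left
  apply dvd_of_eq
  symm
  refine Nat.card_congr (Equiv.ofBijective (fun x => ⟨x.1, H.subtype.map_isConj x.2, x.1.2⟩)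
    ⟨fun x y e => Subtype.ext (Subtype.ext
      (congrArg (fun t : {x : G // IsConj z x ∧ x ∈ H} => t.1) e)), ?_⟩)
  rintro ⟨x, h1, h2⟩
  obtain ⟨g, rfl⟩ := isConj_iff.1 h1
  obtain ⟨h, hh, e⟩ := isolated_conj_in_subgroup hz H hzH g h2
  exact ⟨⟨⟨_, h2⟩, isConj_iff.2 ⟨⟨h, hh⟩, Subtype.ext e⟩⟩, rfl⟩

theorem exists_sq_eq_of_odd {k : G} (hk : Odd (orderOf k)) : ∃ m : ℕ, k ^ m * k ^ m = k := by
  obtain ⟨m, hm⟩ := hk
  refine ⟨m + 1, ?_⟩
  rw [← pow_add, show m + 1 + (m + 1) = (2 * m + 1) + 1 by ring, pow_succ, ← hm,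
    pow_orderOf_eq_one, one_mul]

/-- `|P : C_P(z)|` is the number of elements of the odd order group `P` inverted by `z` -/
theorem relIndex_centralizer_eq_card_inverted [Finite G] {z : G} (hz : z * z = 1)
    {P : Subgroup G} (hP : ∀ x ∈ P, Odd (orderOf x)) (hzP : z ∈ normalizer (P : Set G)) :
    (P ⊓ centralizer ({z} : Set G)).relIndex P =
      Nat.card {x : G // x ∈ P ∧ z * x * z⁻¹ = x⁻¹} := by
  let f : P → {x : G // x ∈ P ∧ z * x * z⁻¹ = x⁻¹} := fun x =>
    ⟨x * (z * (x : G)⁻¹ * z⁻¹), mul_mem x.2 (conj_mem_of_mem_normalizer hzP (inv_mem x.2)), by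
      calc z * (x * (z * (x : G)⁻¹ * z⁻¹)) * z⁻¹
          = z * x * z⁻¹ * (z * z) * (x : G)⁻¹ * (z * z)⁻¹ := by group
        _ = _ := by rw [hz]; group⟩
  have hf : ∀ x y : P, f x = f y ↔
      x⁻¹ * y ∈ (P ⊓ centralizer ({z} : Set G)).subgroupOf P := by
    intro x y
    rw [mem_subgroupOf, mem_inf, mem_centralizer_singleton, Subtype.ext_iff]
    simp only [f, coe_mul, coe_inv]
    constructor
    · intro h
      refine ⟨mul_mem (inv_mem x.2) y.2, ?_⟩
      calc (x : G)⁻¹ * y * z = (x : G)⁻¹ * (y * (z * (y : G)⁻¹ * z⁻¹)) * z * y := by group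
        _ = _ := by rw [← h]; group
    · rintro ⟨-, h⟩
      calc (x : G) * (z * (x : G)⁻¹ * z⁻¹) = x * (z * ((x : G)⁻¹ * y)) * (y : G)⁻¹ * z⁻¹ := by group
        _ = _ := by rw [← h]; group
  refine Nat.card_congr (Equiv.ofBijective (Quotient.lift f fun x y h =>
    (hf x y).2 (QuotientGroup.leftRel_apply.1 h)) ⟨?_, ?_⟩)
  · intro a b
    induction a using Quotient.inductionOn
    induction b using Quotient.inductionOn
    intro h
    exact Quotient.sound (QuotientGroup.leftRel_apply.2 ((hf _ _).1 h))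
  · rintro ⟨k, hk, hzk⟩
    obtain ⟨m, hm⟩ := exists_sq_eq_of_odd (hP k hk)
    refine ⟨Quotient.mk _ ⟨k ^ m, pow_mem hk m⟩, Subtype.ext ?_⟩
    show k ^ m * (z * (k ^ m)⁻¹ * z⁻¹) = k
    rw [← conj_inv, conj_pow_of_inverts hzk, inv_inv, hm]

end H6
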