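import Mathlib
import Cfsg.Agent.H6.IsoCount
import Cfsg.Agent.H1.CoprimeAbelian

/-!
# Sylow subgroups normalized by an isolated involution
-/

set_option autoImplicit false

namespace H6

open Subgroup H22

universe u

/-- the Brauer–Suzuki theorem, as a hypothesis -/
def BSHyp : Prop := ∀ (G : Type u) [Group G] [Finite G], Even (Nat.card G) →
  (∀ E : Subgroup G, ¬ IsKleinFour E) → ∃ z : G, orderOf z = 2 ∧ ∃ N : Subgroup G, N.Normal ∧
    Odd (Nat.card N) ∧ ∀ g : G, z * g * z⁻¹ * g⁻¹ ∈ N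

/-- the `Z*`-theorem, as a hypothesis -/
def ZStarHyp : Prop := ∀ (G : Type u) [Group G] [Finite G] (P : Sylow 2 G) (u : G),
  orderOf u = 2 → u ∈ P → (∀ g : G, g * u * g⁻¹ ∈ P → g * u * g⁻¹ = u) →
    ∃ N : Subgroup G, N.Normal ∧ Odd (Nat.card N) ∧ ∀ g : G, (u * g * u⁻¹ * g⁻¹) ∈ N

theorem odd_orderOf_of_mem_isPGroup {G : Type*} [Group G] {p : ℕ} [hp : Fact p.Prime]
    (hp2 : p ≠ 2) {P : Subgroup G} (hP : IsPGroup p P) {x : G} (hx : x ∈ P) : Odd (orderOf x) := by
  obtain ⟨k, hk⟩ := isPGroup_iff_forall_mem.1 hP x hx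
  exact ((hp.out.odd_of_ne_two hp2).pow (n := k)).of_dvd_nat (orderOf_dvd_of_pow_eq_one hk)

theorem exists_sylow_of_quotient {G : Type*} [Group G] [Finite G] {p : ℕ} [Fact p.Prime]
    (N : Subgroup G) [N.Normal] {z : G} (R : Sylow p (G ⧸ N))
    (hR : (z : G ⧸ N) ∈ normalizer ((R : Subgroup (G ⧸ N)) : Set (G ⧸ N))) :
    ∃ P : Sylow p G, ∀ y ∈ (P : Subgroup G), ∃ y' ∈ (P : Subgroup G), ∃ n ∈ N,
      y' * n = z * y * z⁻¹ := by
  obtain ⟨P, rfl⟩ := Sylow.mapSurjective_surjective (QuotientGroup.mk'_surjective N) p R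
  refine ⟨P, fun y hy => ?_⟩
  obtain ⟨y', hy', e⟩ := conj_mem_of_mem_normalizer hR (a := (y : G ⧸ N)) ⟨y, hy, rfl⟩
  obtain ⟨n, hn, e'⟩ := (QuotientGroup.mk'_eq_mk' N (x := y') (y := z * y * z⁻¹)).1 e
  exact ⟨y', hy', n, hn, e'⟩

theorem exists_involution_ne_of_kleinFour {G : Type*} [Group G] {E : Subgroup G}
    (hE : IsKleinFour E) (z : G) : ∃ s ∈ E, orderOf s = 2 ∧ s ≠ z := by
  by_contra hcon
  push Not at hcon
  have h4 := hE.card_four
  have : Finite E := Nat.finite_of_card_ne_zero (by omega)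
  have h1 : (Set.univ : Set E) ⊆ (fun x : E => (x : G)) ⁻¹' {1, z} := by
    intro x _
    by_cases hx : (x : G) = 1
    · exact Or.inl hx
    · refine Or.inr (hcon x x.2 (orderOf_eq_two_of ?_ hx))
      exact congrArg Subtype.val (IsKleinFour.mul_self x)
  have h2 : (Set.univ : Set E).ncard ≤ ({1, z} : Set G).ncard :=
    Set.ncard_le_ncard_of_injOn (fun x : E => (x : G)) h1
      (Subtype.val_injective.injOn) (Set.toFinite _)
  rw [Set.ncard_univ, h4] at h2
  have := Set.ncard_insert_le (1 : G) {z}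
  rw [Set.ncard_singleton] at this
  omega

theorem exists_invariant_sylow_aux (hBS : BSHyp.{u}) {p : ℕ} [hp : Fact p.Prime] (hp2 : p ≠ 2)
    (n : ℕ) : ∀ (G : Type u) [Group G] [Finite G], Nat.card G = n → ∀ z : G,
      Cfsg.IsIsolatedInvolution z →
        ∃ P : Sylow p G, z ∈ normalizer ((P : Subgroup G) : Set G) := by
  induction n using Nat.strong_induction_on with
  | _ n ih =>
  intro G _ _ hn z hz
  have hsub : ∀ H : Subgroup G, H ≠ ⊤ → z ∈ H →
      ∃ Q : Subgroup G, SylIn p Q H ∧ z ∈ normalizer (Q : Set G) := by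
    intro H hH hzH
    obtain ⟨P, hP⟩ := ih _ (hn ▸ H2.card_lt_of_ne_top hH) H rfl ⟨z, hzH⟩
      (isolated_subgroup hz H hzH)
    exact ⟨_, sylIn_map_subtype P, le_normalizer_map _ ⟨_, hP, rfl⟩⟩
  have hquo : ∀ (N : Subgroup G) [N.Normal], N ≠ ⊥ → z ∉ N →
      ∃ P : Sylow p G, ∀ y ∈ (P : Subgroup G), ∃ y' ∈ (P : Subgroup G), ∃ n ∈ N,
        y' * n = z * y * z⁻¹ := by
    intro N _ hN hzN
    obtain ⟨R, hR⟩ := ih _ (hn ▸ H2.card_quotient_lt hN) (G ⧸ N) rfl z
      (isolated_quotient hz N hzN).2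
    exact exists_sylow_of_quotient N R hR
  have hstep : ∀ Q : Subgroup G, IsPGroup p Q → Q ≠ ⊥ → z ∈ normalizer (Q : Set G) →
      ∃ P : Sylow p G, z ∈ normalizer ((P : Subgroup G) : Set G) := by
    intro Q₀ h1 h2 h3
    let S : Set (Subgroup G) := {Q | IsPGroup p Q ∧ Q ≠ ⊥ ∧ z ∈ normalizer (Q : Set G)}
    obtain ⟨Q, hQ⟩ := (Set.toFinite S).exists_maximal ⟨Q₀, h1, h2, h3⟩
    obtain ⟨hQp, hQ1, hQz⟩ := hQ.prop
    by_cases hN : normalizer (Q : Set G) = ⊤
    · have := normalizer_eq_top_iff.1 hN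
      obtain ⟨P, hP⟩ := hquo Q hQ1 (fun h => by
        have := odd_orderOf_of_mem_isPGroup hp2 hQp h
        rw [hz.1] at this
        exact absurd this (by decide))
      refine ⟨P, mem_normalizer_of_conj_mem fun y hy => ?_⟩
      obtain ⟨y', hy', n, hn, e⟩ := hP y hy
      rw [← e]
      exact mul_mem hy' (hQp.le_sylow_of_normal P hn)
    · obtain ⟨R, hR, hzR⟩ := hsub _ hN hQz
      have hQR : Q ≤ R := by
        have := hR.2.2 (R ⊔ Q) (sup_le hR.le le_normalizer)
          (isPGroup_sup_of_le_normalizer hR.isPGroup hQp hR.le) le_sup_left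
        rw [← this]; exact le_sup_right
      have hRQ : R = Q := le_antisymm (hQ.le_of_ge ⟨hR.isPGroup,
        fun e => hQ1 (le_bot_iff.1 (e ▸ hQR)), hzR⟩ hQR) hQR
      subst hRQ
      obtain ⟨P, hP⟩ := exists_sylow_eq_of_normalizer_le hR le_rfl
      exact ⟨P, hP ▸ hzR⟩
  have hsyl : ∀ H Q : Subgroup G, SylIn p Q H → p ∣ Nat.card H → Q ≠ ⊥ := by
    rintro H Q hQ hd rfl
    apply hQ.not_dvd
    rwa [relIndex_bot_left]
  have hsub' : ∀ H : Subgroup G, H ≠ ⊤ → z ∈ H → p ∣ Nat.card H →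
      ∃ P : Sylow p G, z ∈ normalizer ((P : Subgroup G) : Set G) := by
    intro H hH hzH hd
    obtain ⟨Q, hQ, hzQ⟩ := hsub H hH hzH
    exact hstep Q hQ.isPGroup (hsyl H Q hQ hd) hzQ
  by_cases hG : p ∣ Nat.card G
  swap
  · obtain ⟨P⟩ : Nonempty (Sylow p G) := inferInstance
    refine ⟨P, ?_⟩
    have : (P : Subgroup G) = ⊥ := H2.IsPGroup.eq_bot_of_coprime P.isPGroup'
      (((Nat.Prime.coprime_iff_not_dvd hp.out).2 hG).symm.coprime_dvd_left
        (card_subgroup_dvd_card _))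
    rw [this, normalizer_eq_top]
    exact mem_top z
  rw [← card_centralizer_mul_card_isConj z, hp.out.dvd_mul] at hG
  rcases hG with hG | hG
  · obtain ⟨Q, hQ, -⟩ := exists_sylIn (p := p) (R := ⊥) (H := centralizer ({z} : Set G)) bot_le
      IsPGroup.of_bot
    refine hstep Q hQ.isPGroup (hsyl _ Q hQ hG) (centralizer_le_normalizer _ fun q hq => ?_)
    exact mem_centralizer_singleton.1 (hQ.le hq)
  by_cases hs : ∃ s : G, orderOf s = 2 ∧ Commute s z ∧ s ≠ z
  · have : ∃ a : G, orderOf a = 2 ∧ Commute a z ∧ a ≠ z ∧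
        p ∣ Nat.card {x : G // IsConj z x ∧ Commute x a} := by
      obtain ⟨s, hs, hsz, hne⟩ := hs
      have hs2 := mul_self_of_orderOf_two hs
      have hz2 := isolated_mul_self hz
      rw [card_isConj_of_isolated hz hs2 hsz, hp.out.dvd_mul] at hG
      rcases hG with hG | hG
      · refine ⟨s * z, orderOf_eq_two_of ?_ ?_, hsz.mul_left (Commute.refl z), ?_, hG⟩
        · calc s * z * (s * z) = s * (z * s) * z := by group
            _ = (s * s) * (z * z) := by rw [← hsz.eq]; group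
            _ = 1 := by rw [hs2, hz2, one_mul]
        · intro e
          rw [mul_eq_one_iff_eq_inv, inv_eq_of_mul_self hz2] at e
          exact hne e
        · intro e
          exact ne_one_of_orderOf_two hs (mul_eq_right.1 e)
      · exact ⟨s, hs, hsz, hne, hG⟩
    obtain ⟨a, ha, haz, hne, hd⟩ := this
    have hzH : z ∈ centralizer ({a} : Set G) := mem_centralizer_singleton.2 haz.symm
    by_cases hH : centralizer ({a} : Set G) = ⊤
    · have hcen : ∀ g : G, g * a = a * g := fun g =>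
        mem_centralizer_singleton.1 (hH ▸ mem_top g)
      have := normal_zpowers_of_mem_center (mem_center_iff.2 hcen)
      obtain ⟨P, hP⟩ := hquo (zpowers a) (by
        rw [Ne, zpowers_eq_bot]; exact ne_one_of_orderOf_two ha) (fun h => by
          rcases (mem_zpowers_of_orderOf_two ha).1 h with e | e
          · exact ne_one_of_orderOf_two hz.1 e
          · exact hne e.symm)
      refine ⟨P, mem_normalizer_of_conj_mem fun y hy => ?_⟩
      obtain ⟨y', hy', n, hn, e⟩ := hP y hy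
      rcases (mem_zpowers_of_orderOf_two ha).1 hn with rfl | rfl
      · rw [← e, mul_one]; exact hy'
      · refine H3.mem_of_pow_mem_of_coprime (m := 2) ?_ (Nat.coprime_two_right.2 (by
          rw [orderOf_conj]; exact odd_orderOf_of_mem_isPGroup hp2 P.isPGroup' hy))
        rw [← e, (show Commute y' n from hcen y').mul_pow, sq n, mul_self_of_orderOf_two ha, mul_one]
        exact pow_mem hy' 2
    · refine hsub' _ hH hzH (dvd_trans ?_ (card_isConj_mem_dvd hz hzH))
      simp only [mem_centralizer_singleton]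
      exact hd
  · push Not at hs
    obtain ⟨P, hP⟩ := (isPGroup_zpowers_of_orderOf_two hz.1).exists_le_sylow
    have hPC := sylow_le_centralizer_of_isolated hz P.isPGroup' (hP (mem_zpowers z))
    have hconj : ∀ s : G, orderOf s = 2 → ∀ g : G, g * s * g⁻¹ ∈ P → g * s * g⁻¹ = z :=
      fun s hs2 g hg => hs _ (by rw [orderOf_conj, hs2]) (mem_centralizer_singleton.1 (hPC hg))
    obtain ⟨z', hz', N, hN, hNo, hNz⟩ := hBS G (even_card_of_orderOf_two hz.1) (fun E hE => by
      obtain ⟨g, hg⟩ := exists_conj_le_sylow P (Q := E)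
        (IsPGroup.of_card (n := 2) (by rw [hE.card_four]; rfl))
      obtain ⟨s, hsE, hs2, hne⟩ := exists_involution_ne_of_kleinFour hE (g⁻¹ * z * g)
      exact hne (by rw [← hconj s hs2 g (hg s hsE)]; group))
    obtain ⟨g, hg⟩ := exists_conj_le_sylow P (isPGroup_zpowers_of_orderOf_two hz')
    have e := hconj z' hz' g (hg z' (mem_zpowers z'))
    have hzN : z ∈ normalizer (N : Set G) := by rw [normalizer_eq_top]; exact mem_top z
    have hall : ∀ x : G, IsConj z x → x ∈ zpowers z ⊔ N := by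
      intro x hx
      obtain ⟨k, rfl⟩ := isConj_iff.1 hx
      have h1 := hN.conj_mem _ (hNz (g⁻¹ * k * g)) g
      have h2 : k * z * k⁻¹ = (g * (z' * (g⁻¹ * k * g) * z'⁻¹ * (g⁻¹ * k * g)⁻¹) * g⁻¹)⁻¹ * z := by
        rw [← e]; group
      rw [h2]
      exact mul_mem (mem_sup_right (inv_mem h1)) (mem_sup_left (mem_zpowers z))
    have hd : p ∣ Nat.card N := by
      have h1 := card_isConj_mem_dvd hz (H := zpowers z ⊔ N) (mem_sup_left (mem_zpowers z))
      rw [Nat.card_congr (Equiv.subtypeEquivRight (q := fun x => IsConj z x)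
        fun x => ⟨fun h => h.1, fun h => ⟨h, hall x h⟩⟩)] at h1
      have h2 := (hG.trans h1).trans (H2.card_sup_dvd (zpowers z) N)
      rw [Nat.card_zpowers, hz.1] at h2
      exact ((Nat.coprime_primes hp.out Nat.prime_two).2 hp2).dvd_of_dvd_mul_left h2
    obtain ⟨Q, hQ⟩ := H1.exists_invariant_sylow (zpowers z) N (zpowers_le.2 hzN)
      (by rw [Nat.card_zpowers, hz.1]; exact Nat.coprime_two_left.2 hNo)
      (Or.inl (H1.solvable_of_isPGroup (isPGroup_zpowers_of_orderOf_two hz.1))) p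
    exact hstep _ (sylIn_map_subtype Q).isPGroup (hsyl N _ (sylIn_map_subtype Q) hd)
      (hQ (mem_zpowers z))

variable {G : Type u} [Group G] [Finite G]

theorem exists_invariant_sylow_of_isolated (hBS : BSHyp.{u}) (p : ℕ) [Fact p.Prime] {z : G}
    (hz : Cfsg.IsIsolatedInvolution z) :
    ∃ P : Sylow p G, z ∈ normalizer ((P : Subgroup G) : Set G) := by
  by_cases hp2 : p = 2
  · subst hp2
    obtain ⟨P, hP⟩ := (isPGroup_zpowers_of_orderOf_two hz.1).exists_le_sylow
    exact ⟨P, le_normalizer (hP (mem_zpowers z))⟩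
  · exact exists_invariant_sylow_aux hBS hp2 _ G rfl z hz

theorem sylow_of_maximal_invariant (hBS : BSHyp.{u}) (z : G) (hz : Cfsg.IsIsolatedInvolution z)
    {p : ℕ} [Fact p.Prime] (Q : Subgroup G) (hQ : IsPGroup p Q)
    (hzQ : z ∈ Subgroup.normalizer (Q : Set G))
    (hmax : ∀ R : Subgroup G, IsPGroup p R → z ∈ Subgroup.normalizer (R : Set G) → Q ≤ R → R = Q) :
    ∃ P : Sylow p G, (P : Subgroup G) = Q := by
  obtain ⟨P, hP⟩ := exists_invariant_sylow_of_isolated hBS p (isolated_subgroup hz _ hzQ)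
  have hR := sylIn_map_subtype P
  have hQR : Q ≤ (P : Subgroup _).map (normalizer (Q : Set G)).subtype := by
    have := hR.2.2 (_ ⊔ Q) (sup_le hR.le le_normalizer)
      (isPGroup_sup_of_le_normalizer hR.isPGroup hQ hR.le) le_sup_left
    rw [← this]; exact le_sup_right
  rw [hmax _ hR.isPGroup (le_normalizer_map _ ⟨_, hP, rfl⟩) hQR] at hR
  exact exists_sylow_eq_of_normalizer_le hR le_rfl

theorem exists_invariant_sylow_le (hBS : BSHyp.{u}) {z : G} (hz : Cfsg.IsIsolatedInvolution z)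
    {p : ℕ} [Fact p.Prime] {R : Subgroup G} (hR : IsPGroup p R)
    (hzR : z ∈ Subgroup.normalizer (R : Set G)) :
    ∃ P : Sylow p G, R ≤ P ∧ z ∈ normalizer ((P : Subgroup G) : Set G) := by
  let S : Set (Subgroup G) := {Q | IsPGroup p Q ∧ R ≤ Q ∧ z ∈ normalizer (Q : Set G)}
  obtain ⟨Q, hQ⟩ := (Set.toFinite S).exists_maximal ⟨R, hR, le_rfl, hzR⟩
  obtain ⟨P, rfl⟩ := sylow_of_maximal_invariant hBS z hz Q hQ.prop.1 hQ.prop.2.2
    (fun T h1 h2 h3 => le_antisymm (hQ.le_of_ge ⟨h1, hQ.prop.2.1.trans h3, h2⟩ h3) h3)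
  exact ⟨P, hQ.prop.2⟩

theorem sylIn_inf_centralizer_of_isolated (hBS : BSHyp.{u}) {z : G}
    (hz : Cfsg.IsIsolatedInvolution z) {p : ℕ} [Fact p.Prime] (P : Sylow p G)
    (hzP : z ∈ Subgroup.normalizer ((P : Subgroup G) : Set G)) :
    SylIn p ((P : Subgroup G) ⊓ centralizer ({z} : Set G)) (centralizer ({z} : Set G)) := by
  obtain ⟨R, hR, -⟩ := exists_sylIn (p := p) (R := ⊥) (H := centralizer ({z} : Set G)) bot_le
    IsPGroup.of_bot
  obtain ⟨P₁, hRP, hz1⟩ := exists_invariant_sylow_le hBS hz hR.isPGroup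
    (centralizer_le_normalizer _ fun q hq => mem_centralizer_singleton.1 (hR.le hq))
  obtain ⟨g, rfl⟩ := MulAction.exists_smul_eq G P P₁
  rw [coe_smul_sylow, ← cj_normalizer, mem_cj] at hz1
  obtain ⟨n, hn, e⟩ := isolated_conj_in_subgroup hz _ hzP g⁻¹ (by rwa [inv_inv])
  have hc : g * n ∈ centralizer ({z} : Set G) := by
    rw [mem_centralizer_singleton]
    calc g * n * z = g * (n * z * n⁻¹) * n := by group
      _ = _ := by rw [e]; group
  refine hR.of_card_ge inf_le_right P.isPGroup'.to_inf_left ?_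
  rw [← card_cj (g * n) ((P : Subgroup G) ⊓ _), cj_inf, cj_eq_of_mem hc, cj_mul, cj_eq_iff.2 hn]
  exact card_le_of_le (le_inf hRP hR.le)

theorem le_centralizer_of_stronglyClosed_aux (hZ : ZStarHyp.{u}) {A H T : Subgroup G}
    (hT : SylIn 2 T (A ⊔ H)) (hA : Cfsg.IsStronglyClosed A T)
    (hAH : A ≤ Subgroup.normalizer (H : Set G)) (hO : Cfsg.oddCore ↥H = ⊥) (hdisj : A ⊓ H = ⊥)
    {a : G} (ha : a ∈ A) (ha2 : a ^ 2 ∈ centralizer (H : Set G)) :
    a ∈ centralizer (H : Set G) := by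
  have hn : zpowers a ≤ normalizer (H : Set G) := zpowers_le.2 (hAH ha)
  let X := zpowers a ⊔ H
  have haX : a ∈ X := mem_sup_left (mem_zpowers a)
  have hXn : X ≤ normalizer (H : Set G) := sup_le hn le_normalizer
  have hcomm : ∀ x ∈ X, x * a * x⁻¹ * a⁻¹ ∈ H := by
    intro x hx
    obtain ⟨_, ⟨k, rfl⟩, h, hh, rfl⟩ := (mem_sup_of_le_normalizer hn).1 hx
    have := conj_mem_of_mem_normalizer (hn (zpow_mem (mem_zpowers a) k))
      (mul_mem hh (conj_mem_of_mem_normalizer (hAH ha) (inv_mem hh)))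
    convert this using 1
    group
  have hcen : ∀ x : X, x * (⟨a, haX⟩ : X) ^ 2 = (⟨a, haX⟩ : X) ^ 2 * x := by
    rintro ⟨x, hx⟩
    obtain ⟨_, ⟨k, rfl⟩, h, hh, rfl⟩ := (mem_sup_of_le_normalizer hn).1 hx
    apply Subtype.ext
    show a ^ k * h * a ^ 2 = a ^ 2 * (a ^ k * h)
    rw [mul_assoc, ha2 h hh]; group
  let Z := zpowers ((⟨a, haX⟩ : X) ^ 2)
  have hZn : Z.Normal := normal_zpowers_of_mem_center (mem_center_iff.2 hcen)
  have hZA : ∀ x : X, x ∈ Z → (x : G) ∈ zpowers (a ^ 2) := by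
    rintro _ ⟨k, rfl⟩
    exact ⟨k, rfl⟩
  by_cases h1 : (⟨a, haX⟩ : X) ∈ Z
  · exact zpowers_le.2 ha2 (hZA _ h1)
  have hu : orderOf (QuotientGroup.mk (⟨a, haX⟩ : X) : X ⧸ Z) = 2 := orderOf_eq_two_of (by
    rw [← QuotientGroup.mk_mul, QuotientGroup.eq_one_iff, ← sq]; exact mem_zpowers _)
    (by rwa [Ne, QuotientGroup.eq_one_iff])
  obtain ⟨P, hP⟩ := (isPGroup_zpowers_of_orderOf_two hu).exists_le_sylow
  have hAp : IsPGroup 2 A := hT.isPGroup.to_le hA.1
  obtain ⟨N, hN, hNo, hNu⟩ := hZ (X ⧸ Z) P _ hu (hP (mem_zpowers _)) (fun g hg => by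
    obtain ⟨x, rfl⟩ := QuotientGroup.mk_surjective g
    have hR : IsPGroup 2 (((P : Subgroup (X ⧸ Z)).comap (QuotientGroup.mk' Z)).map X.subtype) := by
      refine (P.isPGroup'.comap_of_ker_isPGroup _ ?_).map _
      rw [QuotientGroup.ker_mk']
      obtain ⟨k, hk⟩ := isPGroup_iff_forall_mem.1 hAp _ (pow_mem ha 2)
      exact isPGroup_zpowers (k := k) (Subtype.ext hk)
    obtain ⟨h, hh, hle⟩ := hT.exists_cj_le ((map_subtype_le _).trans
      (sup_le_sup_right (zpowers_le.2 ha) H)) hR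
    have h2 := hA.2 a ha h (hle (conj_mem_cj ⟨⟨a, haX⟩, hP (mem_zpowers _), rfl⟩))
    have h3 := hA.2 a ha (h * x) (by
      have := hle (conj_mem_cj (a := x * a * (x : G)⁻¹) ⟨x * ⟨a, haX⟩ * x⁻¹, hg, rfl⟩)
      convert this using 1
      group)
    have h4 : h * (x * a * (x : G)⁻¹ * a⁻¹) * h⁻¹ ∈ A ⊓ H := by
      refine mem_inf.2 ⟨?_, conj_mem_of_mem_normalizer (sup_le hAH le_normalizer hh)
        (hcomm x x.2)⟩
      convert mul_mem h3 (inv_mem h2) using 1
      group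
    rw [hdisj, mem_bot, conj_eq_one_iff, mul_inv_eq_one] at h4
    rw [← QuotientGroup.mk_mul, ← QuotientGroup.mk_inv, ← QuotientGroup.mk_mul]
    congr 1
    exact Subtype.ext h4)
  let φ : H →* X ⧸ Z := (QuotientGroup.mk' Z).comp (inclusion le_sup_right)
  have hφ : Function.Injective φ := by
    rw [injective_iff_map_eq_one]
    intro h hh
    have h2 : (h : G) ∈ A ⊓ H := ⟨zpowers_le.2 (pow_mem ha 2)
      (hZA _ ((QuotientGroup.eq_one_iff _).1 hh)), h.2⟩
    rw [hdisj, mem_bot] at h2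
    exact Subtype.ext h2
  have hN' : N.comap φ ≤ Cfsg.oddCore H := H2.le_pPrimeCore (hN.comap φ)
    ((Nat.coprime_two_right.2 hNo).coprime_dvd_left (card_comap_dvd_of_injective N φ hφ))
  intro h hh
  have h2 : (⟨_, hcomm h (mem_sup_right hh)⟩ : H) ∈ N.comap φ := by
    have := inv_mem (hNu (QuotientGroup.mk (⟨h, mem_sup_right hh⟩ : X)))
    rw [mem_comap]
    convert this using 1
    rw [← QuotientGroup.mk_mul, ← QuotientGroup.mk_inv, ← QuotientGroup.mk_mul,
      ← QuotientGroup.mk_inv, ← QuotientGroup.mk_mul, ← QuotientGroup.mk_inv]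
    apply congrArg (QuotientGroup.mk' Z)
    apply Subtype.ext
    simp [mul_assoc]
  have h3 := hN' h2
  rw [hO, mem_bot] at h3
  have h4 : h * a * h⁻¹ * a⁻¹ = 1 := congrArg Subtype.val h3
  calc h * a = (h * a * h⁻¹ * a⁻¹) * (a * h) := by group
    _ = a * h := by rw [h4, one_mul]

theorem le_centralizer_of_stronglyClosed (hZ : ZStarHyp.{u}) (S : Sylow 2 G) (A : Subgroup G)
    (hA : Cfsg.IsStronglyClosed A (S : Subgroup G)) (H : Subgroup G)
    (hAH : A ≤ Subgroup.normalizer (H : Set G)) (hO : Cfsg.oddCore ↥H = ⊥) (hdisj : A ⊓ H = ⊥) :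
    A ≤ Subgroup.centralizer (H : Set G) := by
  have hAp : IsPGroup 2 A := S.isPGroup'.to_le hA.1
  obtain ⟨T, hT, hAT⟩ := exists_sylIn (H := A ⊔ H) le_sup_left hAp
  have hA' := isStronglyClosed_of_le S hT.isPGroup hAT hA
  intro a ha
  obtain ⟨k, hk⟩ := isPGroup_iff_forall_mem.1 hAp a ha
  induction k generalizing a with
  | zero => rw [pow_zero, pow_one] at hk; rw [hk]; exact one_mem _
  | succ k ih =>
    exact le_centralizer_of_stronglyClosed_aux hZ hT hA' hAH hO hdisj ha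
      (ih (pow_mem ha 2) (by rw [← pow_mul, ← pow_succ', hk]))

/-- Fischer: a class of `p`-odd transpositions generates a group with nilpotent derived subgroup -/
theorem isNilpotent_commutator_of_odd_transpositions (hBS : BSHyp.{u}) (p : ℕ) (hp : p.Prime)
    (hodd : p ≠ 2) {D : Set G} (hinv : ∀ d ∈ D, orderOf d = 2)
    (hconj : ∃ d ∈ D, D = conjugatesOf d) (hgen : Subgroup.closure D = ⊤)
    (hprod : ∀ x ∈ D, ∀ y ∈ D, x ≠ y → ∃ k : ℕ, orderOf (x * y) = p ^ k) :
    Group.IsNilpotent ↥(commutator G) := by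
  have := Fact.mk hp
  obtain ⟨d, hd, rfl⟩ := hconj
  have hd2 := hinv d hd
  have hdd := mul_self_of_orderOf_two hd2
  have hpow : ∀ x : G, IsConj d x → ∃ k : ℕ, (x * d) ^ p ^ k = 1 := by
    intro x hx
    by_cases e : x = d
    · exact ⟨0, by rw [e, hdd, one_pow]⟩
    · obtain ⟨k, hk⟩ := hprod x hx d hd e
      exact ⟨k, hk ▸ pow_orderOf_eq_one _⟩
  have hz : Cfsg.IsIsolatedInvolution d := by
    refine ⟨hd2, fun g hc => ?_⟩
    obtain ⟨k, hk⟩ := hpow _ (isConj_iff.2 ⟨g, rfl⟩)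
    have h2 : (g * d * g⁻¹ * d) ^ 2 = 1 := by
      rw [hc.symm.mul_pow, sq, sq, conj_mul_self hdd, hdd, one_mul]
    have := H3.eq_one_of_pow_eq_one_of_coprime hk h2
      (((Nat.coprime_primes hp Nat.prime_two).2 hodd).pow_left k)
    rwa [mul_eq_one_iff_eq_inv, inv_eq_of_mul_self hdd] at this
  have hidx : ∀ q : ℕ, q.Prime → q ∣ (centralizer ({d} : Set G)).index → q = p := by
    intro q hq hqd
    by_contra hqp
    have := Fact.mk hq
    by_cases hq2 : q = 2
    · subst hq2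
      exact (Nat.not_even_iff_odd.2 (odd_index_centralizer_of_isolated hz)) (even_iff_two_dvd.2 hqd)
    obtain ⟨Q, hQ⟩ := exists_invariant_sylow_of_isolated hBS q hz
    refine Q.not_dvd_index (hqd.trans (index_dvd_of_le fun x hx => ?_))
    obtain ⟨k, hk⟩ := hpow _ (isConj_iff.2 ⟨x, rfl⟩)
    have h1 : x * d * x⁻¹ * d ∈ (Q : Subgroup G) := by
      have := mul_mem hx (conj_mem_of_mem_normalizer hQ (inv_mem hx))
      rw [inv_eq_of_mul_self hdd] at this
      simpa only [mul_assoc] using this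
    obtain ⟨j, hj⟩ := isPGroup_iff_forall_mem.1 Q.isPGroup' _ h1
    have := H3.eq_one_of_pow_eq_one_of_coprime hk hj
      (((Nat.coprime_primes hp hq).2 (Ne.symm hqp)).pow k j)
    rw [mul_eq_one_iff_eq_inv, inv_eq_of_mul_self hdd] at this
    rw [mem_centralizer_singleton]
    nth_rewrite 2 [← this]
    group
  obtain ⟨P, hP⟩ := exists_invariant_sylow_of_isolated hBS p hz
  have hcop : (centralizer ({d} : Set G)).index.Coprime (P : Subgroup G).index := by
    apply Nat.coprime_of_dvd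
    intro q hq h1 h2
    rw [hidx q hq h1] at h2
    exact P.not_dvd_index h2
  have hprodset : ∀ g : G, ∃ a ∈ (P : Subgroup G), ∃ c ∈ centralizer ({d} : Set G), g = a * c := by
    intro g
    obtain ⟨a, ha, c, hc, e⟩ := H1.exists_mul_of_coprime_index _ _ hcop.symm g
    exact ⟨a, ha, c, hc, e⟩
  have htop : zpowers d ⊔ (P : Subgroup G) = ⊤ := by
    rw [eq_top_iff, ← hgen, closure_le]
    intro x hx
    obtain ⟨g, rfl⟩ := isConj_iff.1 hx
    obtain ⟨a, ha, c, hc, rfl⟩ := hprodset g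
    have : a * c * d * (a * c)⁻¹ = a * d * a⁻¹ := by
      rw [mul_assoc a, mem_centralizer_singleton.1 hc]; group
    rw [this]
    exact mul_mem (mul_mem (mem_sup_right ha) (mem_sup_left (mem_zpowers d)))
      (mem_sup_right (inv_mem ha))
  have hPn : (P : Subgroup G).Normal := by
    rw [← normalizer_eq_top_iff, eq_top_iff, ← htop]
    exact sup_le (zpowers_le.2 hP) le_normalizer
  have hle : commutator G ≤ P := by
    rw [← Normal.quotient_commutative_iff_commutator_le]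
    have : IsCyclic (G ⧸ (P : Subgroup G)) := by
      refine ⟨⟨(d : G ⧸ (P : Subgroup G)), fun x => ?_⟩⟩
      obtain ⟨x, rfl⟩ := QuotientGroup.mk_surjective x
      obtain ⟨_, ⟨k, rfl⟩, a, ha, rfl⟩ := (mem_sup_of_le_normalizer (zpowers_le.2 hP)).1
        (htop ▸ mem_top x)
      exact ⟨k, by simp [(QuotientGroup.eq_one_iff a).2 ha]⟩
    infer_instance
  exact (P.isPGroup'.to_le hle).isNilpotent

end H6
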