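import Mathlib
import Cfsg.Agent.H6.TI2
import Cfsg.Agent.H23.Rel

/-!
# Bender's lemma on self-centralizing subnormal subgroups of `F*(A)`, `A` maximal
-/

set_option autoImplicit false

namespace H6

open Subgroup H22 Cfsg
open scoped commutatorElement

variable {G : Type*} [Group G]

theorem mem_of_pow_pow_mem {C : Subgroup G} {g : G} {m n : ℕ} (hmn : m.Coprime n)
    (hm : g ^ m ∈ C) (hn : g ^ n ∈ C) : g ∈ C := by
  have h := Nat.gcd_eq_gcd_ab m n
  rw [hmn.gcd_eq_one] at h
  have : g = (g ^ m) ^ (Nat.gcdA m n) * (g ^ n) ^ (Nat.gcdB m n) := by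
    rw [← zpow_natCast, ← zpow_natCast, ← zpow_mul, ← zpow_mul, ← zpow_add, ← h]; simp
  rw [this]
  exact mul_mem (zpow_mem hm _) (zpow_mem hn _)

/-- an element lies in `C` if its `p`-part and its `p'`-part do -/
theorem mem_of_parts [Finite G] (p : ℕ) [Fact p.Prime] {C : Subgroup G} {g : G}
    (h1 : ∀ n : ℕ, IsPGroup p (zpowers (g ^ n)) → g ^ n ∈ C)
    (h2 : ∀ n : ℕ, (orderOf (g ^ n)).Coprime p → g ^ n ∈ C) : g ∈ C := by
  obtain ⟨k, hk⟩ := H23.exists_pow_orderOf_coprime p g
  refine mem_of_pow_pow_mem (hk.pow_right k) (h1 _ (isPGroup_zpowers (k := k) ?_)) (h2 _ hk)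
  rw [← pow_mul, mul_comm, pow_mul, pow_orderOf_eq_one]

section Local

variable [Finite G] {S : Subgroup G} (hS : S.IsSubnormal)
  (hSF : S ≤ generalizedFittingSubgroup G)
  (hSC : generalizedFittingSubgroup G ⊓ centralizer (S : Set G) ≤ S)
include hS hSF hSC

omit [Finite G] hSF in
theorem bl_layer_le : layer G ≤ S := H23.layer_le fun _ hL =>
  (H23.IsComponent.le_or_comm hL hS).elim id fun h =>
    (le_inf ((H23.le_layer hL).trans (H23.layer_le_fstar G))
      (H23.le_centralizer_of_comm_bot h)).trans hSC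

theorem bl_centralizer_le (r : ℕ) [Fact r.Prime] :
    pCore r G ⊓ centralizer ((S ⊓ pCore r G : Subgroup G) : Set G) ≤ S ⊓ pCore r G := by
  intro x hx
  refine ⟨hSC ⟨H23.fitting_le_fstar G (H2.pCore_le_fitting r hx.1), ?_⟩, hx.1⟩
  have : S ≤ centralizer ({x} : Set G) := by
    refine (H23.le_layer_sup_of_le_fstar hS hSF).trans (sup_le ?_ ?_)
    · intro y hy
      exact mem_centralizer_singleton.2 (H23.comm_bot_iff.1 (H23.layer_comm_pCore r G) y
        (H23.map_subtype_layer_le hS hy) x hx.1)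
    · intro y hy
      refine mem_of_parts r (fun n hn => ?_) fun n hn => ?_
      · exact mem_centralizer_singleton.2 (hx.2 _ ⟨pow_mem hy.2 n, H2.le_pCore_of_le_fitting hn
          (zpowers_le.2 (pow_mem hy.1 n)) (mem_zpowers _)⟩)
      · exact mem_centralizer_singleton.2 (H2.pPrimeCore_le_centralizer_pCore r
          (H2.le_pPrimeCore_of_le_fitting (by rwa [Nat.card_zpowers])
            (zpowers_le.2 (pow_mem hy.1 n)) (mem_zpowers _)) x hx.1).symm
  intro s hs
  exact mem_centralizer_singleton.1 (this hs)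

theorem bl_centralizes_pCore (r : ℕ) [Fact r.Prime] {D : Subgroup G}
    (hD : (Nat.card D).Coprime r) (hc : S ⊓ pCore r G ≤ centralizer (D : Set G)) :
    D ≤ centralizer (pCore r G : Set G) :=
  H1.p_times_q r (S ⊓ pCore r G) D (pCore r G) ((H2.pCore_isPGroup r G).to_le inf_le_right) hD
    (H2.pCore_isPGroup r G) hc (by rw [normalizer_eq_top]; exact le_top)
    (by rw [normalizer_eq_top]; exact le_top) ((bl_centralizer_le hS hSF hSC r).trans hc)

omit hS hSF hSC in
theorem bl_inf_le_centralizer (r : ℕ) [Fact r.Prime] {D : Subgroup G}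
    (hD : (Nat.card D).Coprime r) (hn : S ≤ normalizer (D : Set G)) :
    S ⊓ pCore r G ≤ centralizer (D : Set G) := by
  intro s hs d hd
  have h1 : d * s * d⁻¹ * s⁻¹ ∈ pCore r G ⊓ D := by
    refine ⟨mul_mem ((inferInstance : (pCore r G).Normal).conj_mem s hs.2 d) ((pCore r G).inv_mem hs.2), ?_⟩
    have : d * s * d⁻¹ * s⁻¹ = d * (s * d⁻¹ * s⁻¹) := by group
    rw [this]
    exact mul_mem hd (conj_mem_of_mem_normalizer (hn hs.1) (inv_mem hd))
  rw [H23.inf_eq_bot_of_isPGroup_of_cop (H2.pCore_isPGroup r G) hD, mem_bot] at h1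
  calc d * s = d * s * d⁻¹ * s⁻¹ * (s * d) := by group
    _ = _ := by rw [h1, one_mul]

theorem bl_eq_bot {q : ℕ} [hq : Fact q.Prime] (hqF : ¬ q ∣ Nat.card (fittingSubgroup G))
    {D : Subgroup G} (hD : IsPGroup q D) (hn : S ≤ normalizer (D : Set G)) : D = ⊥ := by
  have h1 : ⁅D, layer G⁆ = ⊥ := H23.comm_bot_symm (H23.layer_comm_of_solvable
    (H23.solv_of_isPGroup hD) ((bl_layer_le hS hSC).trans hn))
  have hcop : (Nat.card (fittingSubgroup G)).Coprime q := H23.cop_iff_not_dvd.2 hqF
  have h2 : ⁅D, fittingSubgroup G⁆ = ⊥ := by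
    apply H23.comm_bot_symm
    apply H23.comm_bot_of_le_centralizer
    rw [H2.fitting_eq_iSup_pCore]
    refine iSup_le fun r => ?_
    have := Fact.mk r.2
    by_cases e : q = r
    · rw [H2.IsPGroup.eq_bot_of_coprime (H2.pCore_isPGroup r G)
        (H23.cop_of_le (e ▸ hcop) (H2.pCore_le_fitting r))]
      exact bot_le
    · have hc := H2.IsPGroup.card_coprime_of_ne hD e
      exact le_centralizer_iff.1 (bl_centralizes_pCore hS hSF hSC r hc
        (bl_inf_le_centralizer r hc hn))
  exact H2.IsPGroup.eq_bot_of_coprime hD (H23.cop_of_le hcop (H23.le_fitting_of_comm h1 h2))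

end Local

theorem normalizer_eq_of_isCoatom [IsSimpleGroup G] (hna : ¬ IsMulCommutative G)
    {A Z : Subgroup G} (hA : IsCoatom A) (hZ : Z ≠ ⊥) (hZa : ∀ a ∈ Z, ∀ b ∈ Z, a * b = b * a)
    (hn : A ≤ normalizer (Z : Set G)) : normalizer (Z : Set G) = A := by
  by_contra hne
  have h1 := hA.2 _ (lt_of_le_of_ne hn (Ne.symm hne))
  rcases (normalizer_eq_top_iff.1 h1).eq_bot_or_eq_top with h | h
  · exact hZ h
  · exact hna ⟨⟨fun a b => hZa a (h ▸ mem_top a) b (h ▸ mem_top b)⟩⟩

theorem subgroupOf_le_normalizer {A S D : Subgroup G} (h : S ≤ normalizer (D : Set G)) :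
    S.subgroupOf A ≤ normalizer ((D.subgroupOf A : Subgroup A) : Set A) :=
  H23.comap_le_normalizer_comap h A.subtype

theorem exists_center_ne_bot [Finite G] {p : ℕ} [Fact p.Prime] {P : Subgroup G}
    (hP : IsPGroup p P) (h : P ≠ ⊥) : P ⊓ centralizer (P : Set G) ≠ ⊥ := by
  have : Nontrivial P := (nontrivial_iff_ne_bot P).2 h
  have h1 := hP.center_nontrivial
  rw [← H23.map_subtype_center]
  intro e
  rw [map_eq_bot_iff_of_injective _ P.subtype_injective] at e
  exact (nontrivial_iff_ne_bot _).1 h1 e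

theorem bender_lemma [Finite G] [IsSimpleGroup G] (hna : ¬ IsMulCommutative G) (A : Subgroup G)
    (hA : IsCoatom A) (S : Subgroup G)
    (hSF : S ≤ (generalizedFittingSubgroup ↥A).map A.subtype)
    (hSsn : (S.subgroupOf ((generalizedFittingSubgroup ↥A).map A.subtype)).IsSubnormal)
    (hSC : (generalizedFittingSubgroup ↥A).map A.subtype ⊓ centralizer (S : Set G) ≤ S)
    (B : Subgroup G) (hSB : S ≤ B) :
    (∀ q : ℕ, q.Prime → ¬ q ∣ Nat.card (fittingSubgroup ↥A) →
      (pCore q ↥B).map B.subtype ⊓ A = ⊥) ∧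
    (∀ p : ℕ, p.Prime → p ∣ Nat.card (fittingSubgroup ↥A) → ∀ x ∈ (pCore p ↥B).map B.subtype,
      ∀ y ∈ (pResidual p ↥(generalizedFittingSubgroup ↥A)).map
        ((generalizedFittingSubgroup ↥A).subtype), x * (A.subtype y) = (A.subtype y) * x) := by
  set F := generalizedFittingSubgroup ↥A with hF
  have hSA : S ≤ A := hSF.trans (map_subtype_le _)
  have hSF' : S.subgroupOf A ≤ F := fun x hx => by
    obtain ⟨y, hy, e⟩ := hSF hx
    exact (Subtype.ext e : y = x) ▸ hy
  have hS' : (S.subgroupOf A).IsSubnormal := by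
    refine IsSubnormal.trans hSF' ?_ (Normal.isSubnormal inferInstance)
    exact hSsn.comap ((F.equivMapOfInjective A.subtype A.subtype_injective).toMonoidHom)
  have hSC' : F ⊓ centralizer ((S.subgroupOf A : Subgroup A) : Set A) ≤ S.subgroupOf A := by
    intro x hx
    refine hSC ⟨⟨x, hx.1, rfl⟩, fun s hs => ?_⟩
    exact congrArg Subtype.val (hx.2 ⟨s, hSA hs⟩ hs)
  have hBn : ∀ p, B ≤ normalizer (H23.op p B : Set G) := fun p =>
    H23.le_normalizer_op p le_normalizer
  constructor
  · intro q hq hqF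
    have := Fact.mk hq
    have h1 := bl_eq_bot hS' hSF' hSC' hqF
      (D := (H23.op q B).subgroupOf A) ((H23.op_isPGroup q B).comap_of_injective _
        A.subtype_injective) (subgroupOf_le_normalizer (hSB.trans (hBn q)))
    rwa [subgroupOf_eq_bot, disjoint_iff] at h1
  intro p hp hpF
  have := Fact.mk hp
  -- the centres of the `O_r(A)`
  have hZ : ∀ r : ℕ, ∀ _ : Fact r.Prime, pCore r A ≠ ⊥ → ∃ Z : Subgroup G, Z ≤ S ∧
      Z ≤ H23.op r A ∧ H23.op r A ≤ centralizer (Z : Set G) ∧ normalizer (Z : Set G) = A := by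
    intro r _ hr
    have hne : H23.op r A ≠ ⊥ := fun e =>
      hr ((map_eq_bot_iff_of_injective _ A.subtype_injective).1 e)
    refine ⟨H23.op r A ⊓ centralizer (H23.op r A : Set G), ?_, inf_le_left,
      le_centralizer_iff.1 inf_le_right, ?_⟩
    · rintro _ ⟨⟨z, hz, rfl⟩, hc⟩
      exact (bl_centralizer_le hS' hSF' hSC' r ⟨hz, fun s hs =>
        Subtype.ext (hc _ ⟨s, hs.2, rfl⟩)⟩).1
    · exact normalizer_eq_of_isCoatom hna hA (exists_center_ne_bot (H23.op_isPGroup r A) hne)
        (fun a ha b hb => hb.2 a ha.1)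
        (H23.le_normalizer_inf (H23.le_normalizer_op r le_normalizer)
          (H23.le_normalizer_centralizer (H23.le_normalizer_op r le_normalizer)))
  have hp0 : pCore p A ≠ ⊥ := fun e => by
    have h1 := H2.fitting_le_pCore_sup_pPrimeCore (G := A) p
    rw [e, bot_sup_eq] at h1
    exact H2.not_dvd_card_pPrimeCore p A (hpF.trans (card_dvd_of_le h1))
  obtain ⟨Z, hZS, hZp, hZc, hZn⟩ := hZ p this hp0
  set P := H23.op p B with hP
  have hPp : IsPGroup p P := H23.op_isPGroup p B
  set P₀ := P ⊓ centralizer (Z : Set G) with hP₀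
  have hP₀A : P₀ ≤ A := hZn ▸ inf_le_right.trans (centralizer_le_normalizer _)
  have hP₀n : S ≤ normalizer (P₀ : Set G) := H23.le_normalizer_inf (hSB.trans (hBn p))
    (H23.le_normalizer_centralizer (hZn ▸ hSA))
  have hP₀p : IsPGroup p (P₀.subgroupOf A) :=
    (hPp.to_le inf_le_left).comap_of_injective _ A.subtype_injective
  -- `p'`-subgroups of `S` centralizing `Z` and `P₀` centralize `P`
  have hpq : ∀ Q : Subgroup A, Q ≤ S.subgroupOf A → (Nat.card Q).Coprime p →
      ⁅Q, pCore p A⁆ = ⊥ → Q ≤ centralizer ((P₀.subgroupOf A : Subgroup A) : Set A) →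
      Q.map A.subtype ≤ centralizer (P : Set G) := by
    intro Q hQS hQ hQc hQP
    have hQS' : Q.map A.subtype ≤ S := by rintro _ ⟨x, hx, rfl⟩; exact hQS hx
    refine H1.p_times_q p Z _ P ((H23.op_isPGroup p A).to_le hZp) (H23.cop_map hQ _) hPp ?_
      (hZS.trans (hSB.trans (hBn p))) (hQS'.trans (hSB.trans (hBn p))) ?_
    · rintro z hz _ ⟨x, hx, rfl⟩
      obtain ⟨z', hz', rfl⟩ := hZp hz
      exact congrArg Subtype.val (H23.comm_bot_iff.1 hQc x hx z' hz')
    · rintro z hz _ ⟨x, hx, rfl⟩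
      exact (congrArg Subtype.val (hQP hx ⟨z, hP₀A hz⟩ hz)).symm
  have hE : ∀ e ∈ layer A, (orderOf e).Coprime p → (e : G) ∈ centralizer (P : Set G) := by
    intro e he hc
    refine hpq (zpowers e) (zpowers_le.2 (bl_layer_le hS' hSC' he)) (by rwa [Nat.card_zpowers])
      (H23.comm_bot_mono (H23.layer_comm_pCore p A) (zpowers_le.2 he) le_rfl)
      ((zpowers_le.2 he).trans (H23.le_centralizer_of_comm_bot (H23.layer_comm_of_solvable
        (H23.solv_of_isPGroup hP₀p) ((bl_layer_le hS' hSC').trans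
          (subgroupOf_le_normalizer hP₀n))))) ⟨e, mem_zpowers e, rfl⟩
  have hO : ∀ r : ℕ, ∀ _ : Fact r.Prime, r ≠ p → H23.op r A ≤ centralizer (P : Set G) := by
    intro r _ hrp
    by_cases hr0 : pCore r A = ⊥
    · simp [H23.op, hr0]
    have h1 := hpq (S.subgroupOf A ⊓ pCore r A) inf_le_left
      (H2.IsPGroup.card_coprime_of_ne ((H2.pCore_isPGroup r A).to_le inf_le_right) hrp)
      (H23.comm_bot_of_le_centralizer (inf_le_right.trans ((H2.pCore_le_pPrimeCore hrp).trans
        (H2.pPrimeCore_le_centralizer_pCore p))))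
      (bl_inf_le_centralizer r (H2.IsPGroup.card_coprime_of_ne hP₀p hrp.symm)
        (subgroupOf_le_normalizer hP₀n))
    obtain ⟨Y, hYS, hYr, -, hYn⟩ := hZ r inferInstance hr0
    have hPA : P ≤ A := by
      rw [← hYn]
      refine le_trans ?_ (centralizer_le_normalizer _)
      rw [le_centralizer_iff]
      refine le_trans ?_ h1
      intro y hy
      obtain ⟨y', hy', rfl⟩ := hYr hy
      exact ⟨y', ⟨hYS hy, hy'⟩, rfl⟩
    have h2 := bl_centralizes_pCore hS' hSF' hSC' r (D := P.subgroupOf A)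
      (H2.IsPGroup.card_coprime_of_ne (hPp.comap_of_injective _ A.subtype_injective) hrp.symm)
      (fun s hs x hx => Subtype.ext (h1 ⟨s, hs, rfl⟩ x hx))
    rintro _ ⟨y, hy, rfl⟩ x hx
    exact (congrArg Subtype.val (h2 (show (⟨x, hPA hx⟩ : A) ∈ P.subgroupOf A from hx) y hy)).symm
  have hFp : ∀ f ∈ fittingSubgroup A, (orderOf f).Coprime p →
      (f : G) ∈ centralizer (P : Set G) := by
    intro f hf hc
    have : zpowers f ≤ (centralizer (P : Set G)).subgroupOf A := by
      apply H2.le_of_forall_sylow_le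
      intro r _
      obtain ⟨R⟩ : Nonempty (Sylow r (zpowers f)) := inferInstance
      refine ⟨R, ?_⟩
      have hR : IsPGroup r ((R : Subgroup (zpowers f)).map (zpowers f).subtype) := R.2.map _
      by_cases e : r = p
      · subst e
        rw [H2.IsPGroup.eq_bot_of_coprime hR (H23.cop_of_le (by rwa [Nat.card_zpowers])
          (map_subtype_le _))]
        exact bot_le
      · intro x hx
        exact hO r inferInstance e ⟨x, H2.le_pCore_of_le_fitting hR
          ((map_subtype_le _).trans (zpowers_le.2 hf)) hx, rfl⟩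
    exact this (mem_zpowers f)
  intro x hx y hy
  have key : (pResidual p F).map F.subtype ≤ (centralizer (P : Set G)).subgroupOf A := by
    rw [map_le_iff_le_comap, pResidual, closure_le]
    intro y hy
    change ((y : A) : G) ∈ centralizer (P : Set G)
    have hy' : (orderOf (y : A)).Coprime p := by rwa [Subgroup.orderOf_coe]
    have hyF : (y : A) ∈ fittingSubgroup A ⊔ layer A := by rw [sup_comm]; exact y.2
    obtain ⟨f, hf, e, he, hfe⟩ := H23.mem_sup_of_le_normalizer_right
      (by rw [normalizer_eq_top]; exact le_top) hyF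
    have hc : Commute f e := (H23.comm_bot_iff.1 (H23.layer_comm_fitting A) e he f hf).symm
    obtain ⟨k, hk⟩ := H23.exists_pow_orderOf_coprime p f
    obtain ⟨l, hl⟩ := H23.exists_pow_orderOf_coprime p e
    have : (y : A) ∈ (centralizer (P : Set G)).subgroupOf A := by
      refine H23.mem_of_pow_mem_of_coprime (n := p ^ (k + l)) (hy'.pow_right _) ?_
      rw [← hfe, hc.mul_pow]
      refine mul_mem ?_ ?_
      · rw [pow_add, pow_mul]
        exact pow_mem (hFp _ (pow_mem hf _) hk) _
      · rw [pow_add, mul_comm, pow_mul]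
        exact pow_mem (hE _ (pow_mem he _) hl) _
    exact this
  exact key hy x hx

end H6
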