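import Mathlib
import Cfsg.Prelude.Def_Balance
import Cfsg.Agent.H6.BenderMax
import Cfsg.Agent.H23.PComp

/-!
# 2-components in centralizers and the B-property
-/

set_option autoImplicit false

namespace H6

open Subgroup H22 Cfsg
open scoped commutatorElement

variable {G : Type*} [Group G]

theorem IsPCompOf.map_of_cop_ker [Finite G] {G' : Type*} [Group G'] {p : ℕ} [Fact p.Prime]
    {K H : Subgroup G} (h : H23.IsPCompOf p K H) {f : G →* G'}
    (hk : (Nat.card f.ker).Coprime p) : H23.IsPCompOf p (K.map f) (H.map f) := by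
  refine ⟨map_mono h.1, ?_⟩
  have h1 := H23.IsPComponent.map_of_cop_ker (f := f.subgroupMap H)
    (f.subgroupMap_surjective H) (by
      rw [← H2.card_map_subtype]
      refine H23.cop_of_le hk ?_
      rintro _ ⟨x, hx, rfl⟩
      exact congrArg Subtype.val hx) h.2
  convert h1 using 1
  ext ⟨y, hy⟩
  constructor
  · rintro ⟨x, hx, e⟩
    exact ⟨⟨x, h.1 hx⟩, hx, Subtype.ext e⟩
  · rintro ⟨x, hx, e⟩
    exact ⟨x, hx, congrArg Subtype.val e⟩

theorem isCompOf_of_hasBProperty [Finite G] (hB : HasBProperty G) (hO : oddCore G = ⊥) {x : G}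
    (hx : orderOf x = 2) {J : Subgroup G} (hJ : H23.IsPCompOf 2 J (centralizer {x})) :
    H23.IsCompOf J (centralizer {x}) := by
  refine ⟨hJ.1, H23.IsPComponent.isComponent_of_quasisimple hJ.2
    ((H23.IsPComponent.quasisimple_iff hJ.2).2 ?_)⟩
  have h1 := hB x hx
  rw [hO, le_bot_iff, map_eq_bot_iff_of_injective _ (subtype_injective _)] at h1
  refine H23.comm_bot_mono h1 (H23.le_pLayer hJ.2) ?_
  rw [H23.IsPComponent.opp_eq hJ.2]
  exact inf_le_left

theorem centralizer_ne_top_of_fstar_simple [Finite G]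
    (hF : IsSimpleGroup ↥(generalizedFittingSubgroup G))
    (hF' : ¬ IsMulCommutative ↥(generalizedFittingSubgroup G)) {y : G} (hy : y ≠ 1) :
    centralizer ({y} : Set G) ≠ ⊤ := by
  intro e
  have hc : y ∈ center G := mem_center_iff.2 fun g =>
    mem_centralizer_singleton.1 (e ▸ mem_top g)
  have hyF : y ∈ generalizedFittingSubgroup G := H23.fitting_le_fstar G (H2.center_le_fitting G hc)
  rcases (inferInstance : (center ↥(generalizedFittingSubgroup G)).Normal).eq_bot_or_eq_top
    with h | h
  · have : (⟨y, hyF⟩ : generalizedFittingSubgroup G) ∈ center _ :=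
      mem_center_iff.2 fun g => Subtype.ext (mem_center_iff.1 hc g)
    rw [h, mem_bot] at this
    exact hy (congrArg Subtype.val this)
  · exact hF' ⟨⟨fun a b => (mem_center_iff.1 (h ▸ mem_top b) a)⟩⟩

theorem bprop_component [Finite G] {x y : G} (hB : HasBProperty (↥(centralizer ({y} : Set G)) ⧸
      oddCore ↥(centralizer ({y} : Set G))))
    (hx : orderOf x = 2) (hxy : x * y = y * x)
    (J : Subgroup ↥((pLayer 2 ↥(centralizer ({x} : Set G))).map
      (centralizer ({x} : Set G)).subtype ⊓ centralizer ({y} : Set G)))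
    (hJ : IsPComponent 2 J) :
    IsComponent
        ((((J.map (Subgroup.subtype _)).subgroupOf (centralizer ({y} : Set G))).map
          (QuotientGroup.mk' (oddCore ↥(centralizer ({y} : Set G))))).subgroupOf
          (centralizer ({(QuotientGroup.mk' (oddCore ↥(centralizer ({y} : Set G)))
            ⟨x, mem_centralizer_singleton_iff.mpr hxy⟩ : ↥(centralizer ({y} : Set G)) ⧸
              oddCore ↥(centralizer ({y} : Set G)))} : Set _))) ∧
      ∀ E : Subgroup G, E ≤ centralizer ({x} : Set G) ⊓ centralizer ({y} : Set G) →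
        Odd (Nat.card ↥E) → (∀ j ∈ J.map (Subgroup.subtype _), ∀ e ∈ E, j * e * j⁻¹ ∈ E) →
          ⁅J.map (Subgroup.subtype _), E⁆ ≤ (oddCore ↥(centralizer ({y} : Set G))).map
            (centralizer ({y} : Set G)).subtype := by
  let C := centralizer ({y} : Set G)
  let D := H23.play 2 (centralizer ({x} : Set G)) ⊓ C
  let J₁ : Subgroup G := J.map D.subtype
  let x' : C := ⟨x, mem_centralizer_singleton_iff.mpr hxy⟩
  have hx'2 : orderOf x' = 2 := by rw [← hx, ← Subgroup.orderOf_coe]
  have h1 : H23.IsPCompOf 2 J₁ D := ⟨map_subtype_le _, (H23.comap_map_subtype J).symm ▸ hJ⟩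
  have hDle : D ≤ centralizer ({x} : Set G) ⊓ C := inf_le_inf_right _ (H23.play_le _ _)
  have h2 : H23.IsPCompOf 2 J₁ (centralizer ({x} : Set G) ⊓ C) := h1.trans hDle
    (H23.isSubnormal_subgroupOf_of_le_normalizer (H23.le_normalizer_inf
      (inf_le_left.trans (le_normalizer.trans (H23.normalizer_le_normalizer_play _)))
      (inf_le_right.trans le_normalizer)))
  have hcx : centralizer ({x'} : Set C) = (centralizer ({x} : Set G) ⊓ C).subgroupOf C := by
    rw [inf_subgroupOf_right]
    exact (H23.comap_centralizer_singleton_of_injective C.subtype_injective x').symm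
  have h3 : H23.IsPCompOf 2 (J₁.subgroupOf C) (centralizer ({x'} : Set C)) := by
    rw [hcx]
    refine ⟨comap_mono h2.1, ?_⟩
    have := h2.2
    rw [H23.subgroupOf_subgroupOf_eq (inf_le_right : centralizer ({x} : Set G) ⊓ C ≤ C)] at this
    exact H23.IsPComponent.of_map_injective (MulEquiv.injective _) this
  have h4 := IsPCompOf.map_of_cop_ker h3 (H23.cop_ker_piO 2 C)
  rw [H23.map_centralizer_singleton_of_cop_ker (H23.piO_surj 2 C) (H23.cop_ker_piO 2 C)
    (H23.isPGroup_zpowers_of_orderOf hx'2)] at h4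
  have h5 := isCompOf_of_hasBProperty hB (H2.pPrimeCore_quotient_pPrimeCore 2 C)
    (H23.orderOf_map_of_cop_ker (H23.cop_ker_piO 2 C) hx'2) h4
  refine ⟨h5.2, fun E hE hEo hJE => ?_⟩
  have hEC : E ≤ C := hE.trans inf_le_right
  have hJC : J₁ ≤ C := h2.1.trans inf_le_right
  have hn : J₁ ≤ normalizer (E : Set G) := fun j hj => mem_normalizer_of_conj_mem (hJE j hj)
  have hEc : (Nat.card ((E.subgroupOf C).map (H23.piO 2 C))).Coprime 2 :=
    H23.cop_map (H23.cop_subgroupOf (H23.cop_two_iff_odd.2 hEo) C) _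
  have h6 := h5.le_or_comm (X := (E.subgroupOf C).map (H23.piO 2 C)) (by
      rw [← H23.map_centralizer_singleton_of_cop_ker (H23.piO_surj 2 C) (H23.cop_ker_piO 2 C)
        (H23.isPGroup_zpowers_of_orderOf hx'2), hcx]
      exact map_mono (comap_mono hE))
    (H23.map_le_normalizer_map (subgroupOf_le_normalizer hn) _)
  rcases h6 with h6 | h6
  · exact absurd (h4.dvd_card.trans (card_dvd_of_le h6)) (H23.cop_iff_not_dvd.1 hEc)
  · rw [← H23.comm_le_ker_iff, H23.ker_piO] at h6
    have := map_mono (f := C.subtype) h6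
    rw [map_commutator, subgroupOf_map_subtype, subgroupOf_map_subtype, inf_of_le_left hJC,
      inf_of_le_left hEC] at this
    exact this

end H6
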