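import Mathlib
import Cfsg.Agent.H3.Z0

/-! Lower bounds for the order of a matrix group from orbits on vectors. -/

set_option autoImplicit false
set_option linter.all false

namespace H6.M81

open H29 H19 H3.Z0 Matrix

variable {G : Type*} [Group G]

/-- A letter lies in a list. -/
noncomputable def inL (L : List ℕ) (c : ℕ) : Bool :=
  List.rec (motive := fun _ => Bool) false (fun a _ ih => Bool.rec ih true (Nat.beq a c)) L

theorem inL_true {L : List ℕ} {c : ℕ} (h : inL L c = true) : c ∈ L := by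
  induction L with
  | nil => exact absurd h (by simp [inL])
  | cons a L ih =>
    have e : inL (a :: L) c = Bool.rec (inL L c) true (Nat.beq a c) := rfl
    cases k : Nat.beq a c
    · rw [e, k] at h; exact List.mem_cons_of_mem _ (ih h)
    · rw [Nat.eq_of_beq_eq_true k]; exact List.mem_cons_self

/-- A word in the letters of `L` and their inverses. -/
noncomputable def okW (iv : ℕ → ℕ) (L w : List ℕ) : Bool :=
  allL w fun c => Bool.rec (inL L (iv c)) true (inL L c)

theorem ev_mem {e : ℕ → G} {H : Subgroup G} : ∀ {w : List ℕ}, (∀ c ∈ w, e c ∈ H) → ev e w ∈ H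
  | [], _ => by rw [ev_nil]; exact H.one_mem
  | c :: w, h => by
    rw [ev_cons]
    exact H.mul_mem (h c List.mem_cons_self) (ev_mem fun d hd => h d (List.mem_cons_of_mem _ hd))

theorem okW_mem {e : ℕ → G} {iv : ℕ → ℕ} (hiv : IvOK e iv) {L w : List ℕ} (h : okW iv L w = true) :
    ev e w ∈ gen e L := ev_mem fun c hc => by
  have := allL_true.1 h c hc
  cases k : inL L c
  · rw [k] at this
    have := mem_gen (e := e) (inL_true this)
    rwa [hiv, inv_mem_iff] at this
  · exact mem_gen (inL_true k)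

/-- The values of `f` increase along a list. -/
noncomputable def incr (f : List ℕ → ℕ) (ws : List (List ℕ)) : ℕ → Bool :=
  List.rec (motive := fun _ => ℕ → Bool) (fun _ => true)
    (fun w _ ih p => seqN (f w) fun y => and2 (Nat.ble (Nat.succ p) y) (ih y)) ws

theorem incr_spec {f : List ℕ → ℕ} : ∀ {ws : List (List ℕ)} {p : ℕ}, incr f ws p = true →
    (∀ w ∈ ws, p < f w) ∧ ws.Pairwise fun a b => f a < f b
  | [], _, _ => ⟨by simp, List.Pairwise.nil⟩
  | w :: ws, p, h => by
    have e : incr f (w :: ws) p = seqN (f w) fun y => and2 (Nat.ble (Nat.succ p) y) (incr f ws y) := rfl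
    rw [e, seqN_eq, and2_true] at h
    have h1 : p < f w := Nat.le_of_ble_eq_true h.1
    obtain ⟨h2, h3⟩ := incr_spec h.2
    refine ⟨fun x hx => ?_, List.Pairwise.cons h2 h3⟩
    rcases List.mem_cons.1 hx with rfl | hx
    · exact h1
    · exact h1.trans (h2 x hx)

variable {P : PM} {I : Type} [Fintype I] [DecidableEq I] {ε : I ≃ Fin P.n}

/-- The test of one step of a chain of stabilizers. -/
noncomputable def chkStep (P : PM) (lc iv : ℕ → ℕ) (L : List ℕ) (X : ℕ) (D : List (ℕ × List ℕ))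
    (ws : List (List ℕ)) : Bool :=
  and2 (and2 (P.chkRed 2 X) (allL D fun d => and2 (okW iv L d.2)
    (and2 (Nat.beq (evC P.mul P.one lc d.2) (lc d.1)) (Nat.beq (P.mul (lc d.1) X) X))))
    (and2 (allL ws (okW iv L)) (incr (fun w => P.mul (evC P.mul P.one lc w) X) ws 0))

theorem stepV (h : P.OK) [Finite (GL I (ZMod P.p))] {σ : ℕ → GL I (ZMod P.p)} {lc iv : ℕ → ℕ}
    (hσ : ∀ c, P.Rep ε (σ c) (lc c)) (hiv : IvOK σ iv) {L : List ℕ} {X : ℕ}
    {D : List (ℕ × List ℕ)} {ws : List (List ℕ)} (hc : chkStep P lc iv L X D ws = true) :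
    ws.length * Nat.card (gen σ (D.map Prod.fst)) ≤ Nat.card (gen σ L) := by
  simp only [chkStep, and2_true, allL_true, H29.beq_true] at hc
  obtain ⟨⟨h1, h2⟩, h3, h4⟩ := hc
  have hX := h.red_of_chk h1
  have hr : ∀ w, P.Rep ε (ev σ w) (evC P.mul P.one lc w) := (h.codes ε 2).rep_evC hσ
  let π : GL I (ZMod P.p) → Matrix I I (ZMod P.p) := fun g => g.val * P.dec ε X
  have hK : ∀ k ∈ gen σ (D.map Prod.fst), k.val * P.dec ε X = P.dec ε X := fun k hk => by
    induction hk using Subgroup.closure_induction with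
    | mem x hx =>
      obtain ⟨c, hc, rfl⟩ := hx
      obtain ⟨d, hd, rfl⟩ := List.mem_map.1 hc
      rw [(hσ _).2, ← h.dec_mul (hσ _).1 hX, (h2 d hd).2.2]
    | one => simp
    | mul x y _ _ hx hy => rw [Units.val_mul, mul_assoc, hy, hx]
    | inv x _ hx =>
      calc _ = (x⁻¹).val * (x.val * P.dec ε X) := by rw [hx]
        _ = _ := by simp [← mul_assoc]
  have hπ : ∀ w, π (ev σ w) = P.dec ε (P.mul (evC P.mul P.one lc w) X) := fun w => by
    rw [h.dec_mul (hr w).1 hX, ← (hr w).2]
  refine card_step (gen_le.2 fun c hc => ?_) π (fun g k hk => ?_)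
    (fun i : Fin ws.length => ev σ ws[i]) (fun i => okW_mem hiv (h3 _ (List.getElem_mem _))) fun i j e => ?_
  · obtain ⟨d, hd, rfl⟩ := List.mem_map.1 hc
    have : σ d.1 = ev σ d.2 := PM.Rep.eq (hσ _) ((h2 d hd).2.1 ▸ hr d.2)
    rw [this]
    exact okW_mem hiv (h2 d hd).1
  · change (g * k).val * _ = g.val * _
    rw [Units.val_mul, mul_assoc, hK k hk]
  · have e1 : P.mul (evC P.mul P.one lc ws[i]) X = P.mul (evC P.mul P.one lc ws[j]) X :=
      h.dec_inj (ε := ε) (h.red_mul (hr _).1 hX) (h.red_mul (hr _).1 hX)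
        ((hπ _).symm.trans (e.trans (hπ _)))
    have h5 := List.pairwise_iff_getElem.1 (incr_spec h4).2
    rcases lt_trichotomy i j with k | k | k
    · exact absurd e1 (h5 i j i.2 j.2 k).ne
    · exact k
    · exact absurd e1 (h5 j i j.2 i.2 k).ne'

/-- The word of a product of commutators. -/
noncomputable def cw (iv : ℕ → ℕ) (l : List (List ℕ × List ℕ)) : List ℕ :=
  List.rec (motive := fun _ => List ℕ) [] (fun a _ ih => a.1 ++ a.2 ++ invW iv a.1 ++ invW iv a.2 ++ ih) l

theorem cw_mem {e : ℕ → G} {iv : ℕ → ℕ} (hiv : IvOK e iv) {O : Subgroup G} {L : List ℕ}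
    (hO : gen e L ≤ O) : ∀ {l : List (List ℕ × List ℕ)},
    (allL l fun a => and2 (okW iv L a.1) (okW iv L a.2)) = true → ev e (cw iv l) ∈ ⁅O, O⁆
  | [], _ => (⁅O, O⁆).one_mem
  | a :: l, h => by
    have h' := allL_true.1 h
    have h1 := and2_true.1 (h' a List.mem_cons_self)
    have e1 : cw iv (a :: l) = a.1 ++ a.2 ++ invW iv a.1 ++ invW iv a.2 ++ cw iv l := rfl
    rw [e1, ev_append, ev_append, ev_append, ev_append, ev_invW hiv, ev_invW hiv]
    exact Subgroup.mul_mem _ (Subgroup.commutator_mem_commutator (hO (okW_mem hiv h1.1))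
      (hO (okW_mem hiv h1.2))) (cw_mem hiv hO (allL_true.2 fun b hb => h' b (List.mem_cons_of_mem _ hb)))

theorem card_le_map {K : Type*} [Group K] [Finite G] (f : G →* K) (A : Subgroup G) :
    Nat.card A ≤ Nat.card f.ker * Nat.card (A.map f) := by
  have h1 := (f.comp A.subtype).ker.card_mul_index
  rw [Subgroup.index_ker, MonoidHom.range_comp, Subgroup.range_subtype] at h1
  rw [← h1]
  refine Nat.mul_le_mul_right _ (Nat.card_le_card_of_injective
    (fun x => (⟨x.1.1, x.2⟩ : f.ker)) fun x y e => ?_)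
  have e1 : (x.1.1 : G) = y.1.1 := congrArg (fun u : f.ker => (u : G)) e
  exact Subtype.ext (Subtype.ext e1)

theorem map_gen {K : Type*} [Group K] (f : G →* K) (e : ℕ → G) (L : List ℕ) :
    (gen e L).map f = gen (fun c => f (e c)) L := by
  rw [gen, gen, MonoidHom.map_closure, Set.image_image]

theorem gen_congr {e e' : ℕ → G} {L : List ℕ} (h : ∀ c ∈ L, e c = e' c) : gen e L = gen e' L := by
  have : e '' {c | c ∈ L} = e' '' {c | c ∈ L} := Set.image_congr fun c hc => h c hc
  rw [gen, gen, this]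

end H6.M81
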